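import Mathlib
import Cfsg.Prelude.Def_Characters
import Cfsg.Agent.Lib.Helper81.CliffCorr
import Cfsg.Agent.Lib.CT.ClassMult
import Cfsg.Agent.Lib.CT.Ops
import Cfsg.Agent.Lib.Helper76.GaloisAvg
import Cfsg.Agent.S4574

set_option autoImplicit false

namespace Cfsg.Agent.Lib.Helper81.CosetAvg

open Cfsg
open Cfsg.Agent.Lib.Helper81.Irr Cfsg.Agent.Lib.Helper81.Basic Cfsg.Agent.Lib.Helper81.Expand
  Cfsg.Agent.Lib.Helper81.Mult Cfsg.Agent.Lib.Helper81.Cliff Cfsg.Agent.Lib.Helper81.CliffCorr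

universe u

variable {G : Type u} [Group G] (N : Subgroup G)

/-- The sum of a function over the coset `x N`. -/
noncomputable def cosetSum [Fintype ↥N] (η : G → ℂ) (x : G) : ℂ := ∑ n : ↥N, η (x * n)

theorem cosetSum_def [Fintype ↥N] (η : G → ℂ) (x : G) :
    cosetSum N η x = ∑ n : ↥N, η (x * n) := rfl

theorem cosetSum_mul_right [Fintype ↥N] (η : G → ℂ) (x : G) (n' : ↥N) :
    cosetSum N η (x * n') = cosetSum N η x := by
  rw [cosetSum_def, cosetSum_def, ← Equiv.sum_comp (Equiv.mulLeft n') (fun n : ↥N => η (x * n))]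
  apply Finset.sum_congr rfl
  intro n _
  rw [Equiv.coe_mulLeft, Subgroup.coe_mul, mul_assoc]

theorem cosetSum_one [Fintype ↥N] (η : G → ℂ) : cosetSum N η 1 = ∑ n : ↥N, η n := by
  rw [cosetSum_def]
  apply Finset.sum_congr rfl
  intro n _
  rw [one_mul]

variable [N.Normal]

/-- The coset sums of an irreducible character are proportional to the character. -/
theorem cosetSum_irr [Fintype G] [Fintype ↥N] (η : IrrCharacter G) (x : G) :
    cosetSum N η.1 x = η.1 x * (cosetSum N η.1 1 / η.1 1) := by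
  have hG : (Nat.card G : ℂ) ≠ 0 := card_ne_zero
  have h1 : ∑ n : ↥N, ∑ g : G, η.1 (x * (g * (n : G) * g⁻¹)) =
      ∑ n : ↥N, (Nat.card G : ℂ) * η.1 x * η.1 (n : G) / η.1 1 :=
    Finset.sum_congr rfl (fun n _ => Cfsg.Agent.Lib.CT.ClassMult.irr_schur_average η.2 x n)
  rw [Finset.sum_comm] at h1
  have h2 : ∀ g : G, ∑ n : ↥N, η.1 (x * (g * (n : G) * g⁻¹)) = cosetSum N η.1 x := by
    intro g
    rw [cosetSum_def,
      ← Equiv.sum_comp (MulAut.conjNormal g : ↥N ≃* ↥N).toEquiv (fun n : ↥N => η.1 (x * n))]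
    apply Finset.sum_congr rfl
    intro n _
    simp only [MulEquiv.toEquiv_eq_coe, EquivLike.coe_coe]
    rw [MulAut.conjNormal_apply]
  rw [Finset.sum_congr rfl (fun g _ => h2 g), Finset.sum_const, Finset.card_univ, nsmul_eq_mul,
    ← Nat.card_eq_fintype_card] at h1
  rw [cosetSum_one]
  have h4 : ∑ n : ↥N, (Nat.card G : ℂ) * η.1 x * η.1 (n : G) / η.1 1 =
      (Nat.card G : ℂ) * (η.1 x * ((∑ n : ↥N, η.1 (n : G)) / η.1 1)) := by
    simp only [Finset.sum_div, Finset.mul_sum]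
    apply Finset.sum_congr rfl
    intro n _
    ring
  rw [h4] at h1
  exact mul_left_cancel₀ hG h1

/-- The proportionality constant is `0` or `|N|`. -/
theorem cosetSum_irr_cases [Fintype G] [Fintype ↥N] (η : IrrCharacter G) :
    cosetSum N η.1 1 / η.1 1 = 0 ∨ cosetSum N η.1 1 / η.1 1 = (Nat.card ↥N : ℂ) := by
  set c := cosetSum N η.1 1 / η.1 1 with hc
  have hdeg : η.1 1 ≠ 0 := by
    rw [deg_cast]
    exact_mod_cast (deg_pos η).ne'
  have hS1 : cosetSum N η.1 1 = η.1 1 * c := by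
    rw [hc]
    field_simp
  have h1 : ∑ n' : ↥N, cosetSum N η.1 (1 * n') = (Nat.card ↥N : ℂ) * cosetSum N η.1 1 := by
    rw [Finset.sum_congr rfl (fun (n' : ↥N) _ => cosetSum_mul_right N η.1 1 n'), Finset.sum_const,
      Finset.card_univ, nsmul_eq_mul, ← Nat.card_eq_fintype_card]
  have h2 : ∑ n' : ↥N, cosetSum N η.1 (1 * n') = cosetSum N η.1 1 * c := by
    rw [Finset.sum_congr rfl (fun (n' : ↥N) _ => cosetSum_irr N η (1 * (n' : G))), ← Finset.sum_mul,
      ← cosetSum_def]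
  rw [h1, hS1] at h2
  have h3 : η.1 1 * (c * (c - (Nat.card ↥N : ℂ))) = 0 := by
    linear_combination -h2
  rcases mul_eq_zero.1 h3 with h | h
  · exact absurd h hdeg
  · rcases mul_eq_zero.1 h with h | h
    · exact Or.inl h
    · exact Or.inr (sub_eq_zero.1 h)

theorem exists_eps [Fintype G] [Fintype ↥N] (η : IrrCharacter G) :
    ∃ ε : ℕ, ∀ x : G, (Nat.card ↥N : ℂ)⁻¹ * cosetSum N η.1 x = (ε : ℂ) * η.1 x := by
  have hN : (Nat.card ↥N : ℂ) ≠ 0 := card_ne_zero
  rcases cosetSum_irr_cases N η with h | h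
  · refine ⟨0, fun x => ?_⟩
    rw [cosetSum_irr, h]
    simp
  · refine ⟨1, fun x => ?_⟩
    rw [cosetSum_irr, h]
    field_simp
    simp

/-- Averaging a character over the cosets of a normal subgroup gives a character (the character
of the fixed points of the normal subgroup). -/
theorem isCharacter_cosetAvg [Fintype G] [Fintype ↥N] {ψ : G → ℂ} (hψ : IsCharacter G ψ) :
    IsCharacter G (fun x => (Nat.card ↥N : ℂ)⁻¹ * ∑ n : ↥N, ψ (x * n)) := by
  classical
  have : Finite (IrrCharacter G) := finite_irr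
  let _ : Fintype (IrrCharacter G) := Fintype.ofFinite _
  choose ε hε using fun η : IrrCharacter G => exists_eps N η
  have h1 : (fun x => (Nat.card ↥N : ℂ)⁻¹ * ∑ n : ↥N, ψ (x * n)) =
      fun x => ∑ η ∈ (Finset.univ : Finset (IrrCharacter G)),
        ((mult ψ η * ε η : ℕ) : ℂ) * η.1 x := by
    funext x
    have h2 : ∀ n : ↥N, ψ (x * n) = ∑ η : IrrCharacter G, (mult ψ η : ℂ) * η.1 (x * n) :=
      fun n => char_expand hψ _
    rw [Finset.sum_congr rfl (fun n _ => h2 n), Finset.sum_comm, Finset.mul_sum]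
    apply Finset.sum_congr rfl
    intro η _
    rw [← Finset.mul_sum, ← cosetSum_def, mul_left_comm, hε]
    push_cast
    ring
  rw [h1]
  exact Cfsg.Agent.Lib.CT.Ops.isCharacter_sum' Finset.univ
    (fun (η : IrrCharacter G) x => ((mult ψ η * ε η : ℕ) : ℂ) * η.1 x)
    (fun η _ => Cfsg.Agent.Lib.CT.Ops.isCharacter_natCast_mul (irr_isCharacter η) _)

omit [N.Normal] in
/-- Galois averaging for a character with nonnegative real values: if `Ψ x ≠ 0`, then the sum of
the values at the Galois conjugates of `x` is at least the number of conjugates. -/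
theorem totient_le_sum_re [Finite G] [NeZero (Nat.card G)] {Ψ : G → ℂ} (hΨ : IsCharacter G Ψ)
    (A : G → ℝ) (hA : ∀ g, Ψ g = (A g : ℂ)) (hA0 : ∀ g, 0 ≤ A g) (x : G) (hx : A x ≠ 0) :
    (Nat.totient (Nat.card G) : ℝ) ≤
      ∑ k : (ZMod (Nat.card G))ˣ, A (x ^ (k : ZMod (Nat.card G)).val) := by
  obtain ⟨n, ρ, hρ⟩ := hΨ
  obtain ⟨m, μ, hμ, hpow⟩ := Cfsg.Agent.S4574.exists_eigenvalues ρ x
  have hval : ∀ k : ℕ, ∑ i, μ i ^ k = (A (x ^ k) : ℂ) := by
    intro k
    rw [← hpow, hρ, hA]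
  have h1 : ∑ i, μ i ≠ 0 := by
    have := hval 1
    simp only [pow_one] at this
    rw [this]
    exact_mod_cast hx
  obtain ⟨z, hz0, hz⟩ := Cfsg.Agent.Lib.Helper76.GaloisAvg.exists_int_prod (Nat.card G) m μ hμ h1
  simp only [hval] at hz
  have hz' : ∏ k : (ZMod (Nat.card G))ˣ, A (x ^ (k : ZMod (Nat.card G)).val) = (z : ℝ) := by
    have : ((∏ k : (ZMod (Nat.card G))ˣ, A (x ^ (k : ZMod (Nat.card G)).val) : ℝ) : ℂ) =
        ((z : ℝ) : ℂ) := by
      push_cast
      exact hz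
    exact_mod_cast this
  have hnn : (0 : ℝ) ≤ ∏ k : (ZMod (Nat.card G))ˣ, A (x ^ (k : ZMod (Nat.card G)).val) :=
    Finset.prod_nonneg (fun k _ => hA0 _)
  have hz1 : (1 : ℝ) ≤ ∏ k : (ZMod (Nat.card G))ˣ, A (x ^ (k : ZMod (Nat.card G)).val) := by
    rw [hz'] at hnn ⊢
    have h2 : (0 : ℤ) ≤ z := by exact_mod_cast hnn
    have h3 : (1 : ℤ) ≤ z := by omega
    exact_mod_cast h3
  have := Cfsg.Agent.Lib.Helper76.GaloisAvg.card_le_sum_of_one_le_prod Finset.univ
    (fun k : (ZMod (Nat.card G))ˣ => A (x ^ (k : ZMod (Nat.card G)).val)) (fun k _ => hA0 _) hz1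
  rwa [Finset.card_univ, ZMod.card_units_eq_totient] at this

end Cfsg.Agent.Lib.Helper81.CosetAvg
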