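import Mathlib

set_option autoImplicit false

namespace Cfsg.Agent.Lib.Helper81.GlaubArith

open Finset

open scoped ComplexConjugate

/-- The Fourier coefficient of a sequence at `j`. -/
noncomputable def fc (p : ℕ) (ζ : ℂ) (a : ℕ → ℕ) (j : ℕ) : ℂ :=
  ∑ i ∈ range p, (a i : ℂ) * ζ ^ (i * j)

/-- The Lagrange defect of a sequence. -/
def lag (p : ℕ) (a : ℕ → ℕ) : ℤ :=
  (p : ℤ) * ∑ i ∈ range p, (a i : ℤ) ^ 2 - (∑ i ∈ range p, (a i : ℤ)) ^ 2

theorem geom_sum_root (p : ℕ) (hp : 0 < p) (ζ : ℂ) (hζ : IsPrimitiveRoot ζ p) (i i' : ℕ)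
    (hi : i < p) (hi' : i' < p) :
    ∑ j ∈ range p, (ζ ^ i * (conj ζ) ^ i') ^ j = if i = i' then (p : ℂ) else 0 := by
  have hnorm : ζ * conj ζ = 1 := by
    rw [Complex.mul_conj]
    have h1 : ‖ζ‖ = 1 := Complex.norm_eq_one_of_pow_eq_one hζ.pow_eq_one hp.ne'
    rw [Complex.normSq_eq_norm_sq, h1]
    simp
  split_ifs with h
  · subst h
    rw [← mul_pow, hnorm, one_pow]
    simp
  · set w := ζ ^ i * (conj ζ) ^ i' with hw
    have hwp : w ^ p = 1 := by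
      rw [hw, mul_pow, ← pow_mul, ← pow_mul, mul_comm i p, mul_comm i' p, pow_mul, pow_mul,
        hζ.pow_eq_one, ← map_pow, hζ.pow_eq_one]
      simp
    have hw1 : w ≠ 1 := by
      intro h1
      apply h
      apply hζ.pow_inj hi hi'
      have h2 : ζ ^ i * (conj ζ) ^ i' * ζ ^ i' = ζ ^ i' := by
        rw [← hw, h1, one_mul]
      rw [mul_assoc, ← mul_pow, mul_comm (conj ζ) ζ, hnorm, one_pow, mul_one] at h2
      exact h2
    have h3 := mul_geom_sum w p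
    rw [hwp, sub_self] at h3
    rcases mul_eq_zero.1 h3 with h4 | h4
    · exact absurd (sub_eq_zero.1 h4) hw1
    · exact h4

/-- Parseval on `ℤ/p`. -/
theorem parseval_zmod (p : ℕ) (hp : 0 < p) (ζ : ℂ) (hζ : IsPrimitiveRoot ζ p) (a : ℕ → ℕ) :
    ∑ j ∈ range p, fc p ζ a j * conj (fc p ζ a j) =
      (p : ℂ) * ∑ i ∈ range p, (a i : ℂ) ^ 2 := by
  have h1 : ∀ j : ℕ, fc p ζ a j * conj (fc p ζ a j) =
      ∑ i ∈ range p, ∑ i' ∈ range p, (a i : ℂ) * (a i' : ℂ) * (ζ ^ i * (conj ζ) ^ i') ^ j := by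
    intro j
    unfold fc
    rw [map_sum, Finset.sum_mul_sum]
    apply Finset.sum_congr rfl
    intro i _
    apply Finset.sum_congr rfl
    intro i' _
    rw [map_mul, map_pow, Complex.conj_natCast, mul_pow, pow_mul, pow_mul]
    ring
  rw [Finset.sum_congr rfl (fun j _ => h1 j), Finset.sum_comm, Finset.mul_sum]
  apply Finset.sum_congr rfl
  intro i hi
  rw [Finset.sum_comm]
  have h2 : ∀ i' ∈ range p, ∑ j ∈ range p, (a i : ℂ) * (a i' : ℂ) * (ζ ^ i * (conj ζ) ^ i') ^ j =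
      if i = i' then (a i : ℂ) * (a i' : ℂ) * (p : ℂ) else 0 := by
    intro i' hi'
    rw [← Finset.mul_sum, geom_sum_root p hp ζ hζ i i' (Finset.mem_range.1 hi)
      (Finset.mem_range.1 hi')]
    split_ifs <;> simp
  rw [Finset.sum_congr rfl h2, Finset.sum_ite_eq, if_pos hi]
  ring

theorem fc_zero (p : ℕ) (ζ : ℂ) (a : ℕ → ℕ) : fc p ζ a 0 = ((∑ i ∈ range p, a i : ℕ) : ℂ) := by
  unfold fc
  push_cast
  apply Finset.sum_congr rfl
  intro i _
  simp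

/-- The sum of the squared absolute values of the nontrivial Fourier coefficients is the Lagrange
defect. -/
theorem sum_normSq_eq_lag (p : ℕ) (hp : 0 < p) (ζ : ℂ) (hζ : IsPrimitiveRoot ζ p) (a : ℕ → ℕ) :
    ∑ j ∈ Ico 1 p, Complex.normSq (fc p ζ a j) = (lag p a : ℝ) := by
  have h1 := parseval_zmod p hp ζ hζ a
  have h2 : ∑ j ∈ range p, Complex.normSq (fc p ζ a j) =
      (p : ℝ) * ∑ i ∈ range p, (a i : ℝ) ^ 2 := by
    have : ((∑ j ∈ range p, Complex.normSq (fc p ζ a j) : ℝ) : ℂ) =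
        (((p : ℝ) * ∑ i ∈ range p, (a i : ℝ) ^ 2 : ℝ) : ℂ) := by
      push_cast
      rw [← h1]
      apply Finset.sum_congr rfl
      intro j _
      rw [Complex.mul_conj]
    exact_mod_cast this
  rw [Finset.range_eq_Ico, Finset.sum_eq_sum_Ico_succ_bot hp, zero_add, fc_zero] at h2
  have h3 : Complex.normSq ((∑ i ∈ range p, a i : ℕ) : ℂ) = ((∑ i ∈ range p, a i : ℕ) : ℝ) ^ 2 := by
    rw [Complex.normSq_natCast]
    ring
  rw [h3] at h2
  unfold lag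
  push_cast at h2 ⊢
  rw [← Finset.range_eq_Ico] at h2
  linarith

theorem lag_nonneg (p : ℕ) (hp : 0 < p) (ζ : ℂ) (hζ : IsPrimitiveRoot ζ p) (a : ℕ → ℕ) :
    0 ≤ lag p a := by
  have h := sum_normSq_eq_lag p hp ζ hζ a
  have h2 : (0 : ℝ) ≤ ∑ j ∈ Ico 1 p, Complex.normSq (fc p ζ a j) :=
    Finset.sum_nonneg (fun j _ => Complex.normSq_nonneg _)
  rw [h] at h2
  exact_mod_cast h2

theorem lag_double (p : ℕ) (a : ℕ → ℕ) :
    2 * lag p a = ∑ i ∈ range p, ∑ i' ∈ range p, ((a i : ℤ) - (a i' : ℤ)) ^ 2 := by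
  have h1 : ∀ i ∈ range p, ∑ i' ∈ range p, ((a i : ℤ) - (a i' : ℤ)) ^ 2 =
      (p : ℤ) * (a i : ℤ) ^ 2 - 2 * (a i : ℤ) * (∑ i' ∈ range p, (a i' : ℤ)) +
        ∑ i' ∈ range p, (a i' : ℤ) ^ 2 := by
    intro i _
    have h2 : ∀ i' ∈ range p, ((a i : ℤ) - (a i' : ℤ)) ^ 2 =
        (a i : ℤ) ^ 2 - 2 * (a i : ℤ) * (a i' : ℤ) + (a i' : ℤ) ^ 2 := fun i' _ => by ring
    rw [Finset.sum_congr rfl h2, Finset.sum_add_distrib, Finset.sum_sub_distrib, Finset.sum_const,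
      Finset.card_range, ← Finset.mul_sum]
    simp
  rw [Finset.sum_congr rfl h1, Finset.sum_add_distrib, Finset.sum_sub_distrib, ← Finset.mul_sum,
    ← Finset.sum_mul, Finset.sum_const, Finset.card_range, ← Finset.mul_sum]
  unfold lag
  simp only [nsmul_eq_mul]
  ring

/-- If the Lagrange defect is nonzero, it is at least `p - 1`. -/
theorem lag_ge (p : ℕ) (hp : 0 < p) (a : ℕ → ℕ) (h : lag p a ≠ 0) : (p : ℤ) - 1 ≤ lag p a := by
  classical
  -- some value differs from `a 0`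
  have hex : ∃ i₁ ∈ range p, a i₁ ≠ a 0 := by
    by_contra hcon
    push Not at hcon
    apply h
    unfold lag
    have h1 : ∀ i ∈ range p, (a i : ℤ) ^ 2 = (a 0 : ℤ) ^ 2 := fun i hi => by rw [hcon i hi]
    have h2 : ∀ i ∈ range p, (a i : ℤ) = (a 0 : ℤ) := fun i hi => by rw [hcon i hi]
    rw [Finset.sum_congr rfl h1, Finset.sum_congr rfl h2, Finset.sum_const, Finset.sum_const,
      Finset.card_range]
    simp only [nsmul_eq_mul]
    ring
  obtain ⟨i₁, hi₁, hne⟩ := hex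
  set S := (range p).filter (fun i => a i = a 0) with hS
  set T := (range p).filter (fun i => ¬ a i = a 0) with hT
  have hcard : S.card + T.card = p := by
    rw [hS, hT, Finset.card_filter_add_card_filter_not, Finset.card_range]
  have hSpos : 1 ≤ S.card := by
    apply Finset.card_pos.2
    exact ⟨0, Finset.mem_filter.2 ⟨Finset.mem_range.2 hp, rfl⟩⟩
  have hTpos : 1 ≤ T.card := by
    apply Finset.card_pos.2
    exact ⟨i₁, Finset.mem_filter.2 ⟨hi₁, hne⟩⟩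
  have hsplit : ∀ f : ℕ → ℤ, ∑ i ∈ range p, f i = ∑ i ∈ S, f i + ∑ i ∈ T, f i := by
    intro f
    rw [hS, hT, Finset.sum_filter_add_sum_filter_not]
  have hd : ∀ i i' : ℕ, (0 : ℤ) ≤ ((a i : ℤ) - (a i' : ℤ)) ^ 2 := fun i i' => sq_nonneg _
  have h2 := lag_double p a
  rw [hsplit] at h2
  have hST : ∀ i ∈ S, (T.card : ℤ) ≤ ∑ i' ∈ range p, ((a i : ℤ) - (a i' : ℤ)) ^ 2 := by
    intro i hi
    rw [hsplit]
    have h3 : (0 : ℤ) ≤ ∑ i' ∈ S, ((a i : ℤ) - (a i' : ℤ)) ^ 2 :=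
      Finset.sum_nonneg (fun i' _ => hd i i')
    have h4 : (T.card : ℤ) ≤ ∑ i' ∈ T, ((a i : ℤ) - (a i' : ℤ)) ^ 2 := by
      have h5 : ∀ i' ∈ T, (1 : ℤ) ≤ ((a i : ℤ) - (a i' : ℤ)) ^ 2 := by
        intro i' hi'
        have h6 : a i = a 0 := (Finset.mem_filter.1 hi).2
        have h7 : ¬ a i' = a 0 := (Finset.mem_filter.1 hi').2
        have h8 : (a i : ℤ) - (a i' : ℤ) ≠ 0 := by
          intro h9
          apply h7
          have : (a i : ℤ) = (a i' : ℤ) := by linarith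
          have h10 : a i = a i' := by exact_mod_cast this
          rw [← h10, h6]
        have h11 : 0 < ((a i : ℤ) - (a i' : ℤ)) ^ 2 := by positivity
        linarith
      calc (T.card : ℤ) = ∑ i' ∈ T, (1 : ℤ) := by simp
        _ ≤ _ := Finset.sum_le_sum h5
    linarith
  have hTS : ∀ i ∈ T, (S.card : ℤ) ≤ ∑ i' ∈ range p, ((a i : ℤ) - (a i' : ℤ)) ^ 2 := by
    intro i hi
    rw [hsplit]
    have h3 : (0 : ℤ) ≤ ∑ i' ∈ T, ((a i : ℤ) - (a i' : ℤ)) ^ 2 :=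
      Finset.sum_nonneg (fun i' _ => hd i i')
    have h4 : (S.card : ℤ) ≤ ∑ i' ∈ S, ((a i : ℤ) - (a i' : ℤ)) ^ 2 := by
      have h5 : ∀ i' ∈ S, (1 : ℤ) ≤ ((a i : ℤ) - (a i' : ℤ)) ^ 2 := by
        intro i' hi'
        have h6 : a i' = a 0 := (Finset.mem_filter.1 hi').2
        have h7 : ¬ a i = a 0 := (Finset.mem_filter.1 hi).2
        have h8 : (a i : ℤ) - (a i' : ℤ) ≠ 0 := by
          intro h9
          apply h7
          have : (a i : ℤ) = (a i' : ℤ) := by linarith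
          have h10 : a i = a i' := by exact_mod_cast this
          rw [h10, h6]
        have h11 : 0 < ((a i : ℤ) - (a i' : ℤ)) ^ 2 := by positivity
        linarith
      calc (S.card : ℤ) = ∑ i' ∈ S, (1 : ℤ) := by simp
        _ ≤ _ := Finset.sum_le_sum h5
    linarith
  have h5 : (S.card : ℤ) * T.card ≤ ∑ i ∈ S, ∑ i' ∈ range p, ((a i : ℤ) - (a i' : ℤ)) ^ 2 := by
    calc (S.card : ℤ) * T.card = ∑ i ∈ S, (T.card : ℤ) := by simp
      _ ≤ _ := Finset.sum_le_sum hST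
  have h6 : (T.card : ℤ) * S.card ≤ ∑ i ∈ T, ∑ i' ∈ range p, ((a i : ℤ) - (a i' : ℤ)) ^ 2 := by
    calc (T.card : ℤ) * S.card = ∑ i ∈ T, (S.card : ℤ) := by simp
      _ ≤ _ := Finset.sum_le_sum hTS
  have hs1 : (1 : ℤ) ≤ S.card := by exact_mod_cast hSpos
  have ht1 : (1 : ℤ) ≤ T.card := by exact_mod_cast hTpos
  have hc : (S.card : ℤ) + T.card = p := by exact_mod_cast hcard
  nlinarith

/-- The arithmetic heart of the Glauberman correspondence for an automorphism of prime order. -/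
theorem fourier_arith (p : ℕ) [Fact p.Prime] (ζ : ℂ) (hζ : IsPrimitiveRoot ζ p) {Φ : Type*}
    [Fintype Φ] (a : Φ → ℕ → ℕ)
    (hnorm : ∀ j, 0 < j → j < p → ∑ φ, Complex.normSq (fc p ζ (a φ) j) = 1) :
    ∃ φ₀ : Φ, (∀ φ, φ ≠ φ₀ → ∀ j, 0 < j → j < p → fc p ζ (a φ) j = 0) ∧
      (∀ φ, φ ≠ φ₀ → p ∣ ∑ i ∈ range p, a φ i) ∧
      (((∑ i ∈ range p, a φ₀ i : ℕ) : ℤ) ≡ 1 [ZMOD p] ∨
        ((∑ i ∈ range p, a φ₀ i : ℕ) : ℤ) ≡ -1 [ZMOD p]) ∧
      (∀ j, 0 < j → j < p → Complex.normSq (fc p ζ (a φ₀) j) = 1) := by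
  classical
  have hp : p.Prime := Fact.out
  have hp0 : 0 < p := hp.pos
  -- total of the defects
  have htot : ∑ φ, lag p (a φ) = (p : ℤ) - 1 := by
    have h1 : ((∑ φ, lag p (a φ) : ℤ) : ℝ) = (p : ℝ) - 1 := by
      push_cast
      rw [Finset.sum_congr rfl (fun φ _ => (sum_normSq_eq_lag p hp0 ζ hζ (a φ)).symm),
        Finset.sum_comm]
      rw [Finset.sum_congr rfl (fun j hj => hnorm j (by
        have := (Finset.mem_Ico.1 hj).1
        omega) (Finset.mem_Ico.1 hj).2)]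
      simp only [Finset.sum_const, Nat.card_Ico, nsmul_eq_mul, mul_one]
      rw [Nat.cast_sub hp0]
      simp
    exact_mod_cast h1
  have hnn : ∀ φ, 0 ≤ lag p (a φ) := fun φ => lag_nonneg p hp0 ζ hζ (a φ)
  have hex : ∃ φ₀, lag p (a φ₀) ≠ 0 := by
    by_contra hcon
    push Not at hcon
    rw [Finset.sum_congr rfl (fun φ _ => hcon φ), Finset.sum_const_zero] at htot
    have := hp.two_le
    have h2 : (2 : ℤ) ≤ p := by exact_mod_cast this
    linarith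
  obtain ⟨φ₀, hφ₀⟩ := hex
  have hge := lag_ge p hp0 (a φ₀) hφ₀
  have hsplit := Finset.add_sum_erase Finset.univ (fun φ => lag p (a φ)) (Finset.mem_univ φ₀)
  rw [htot] at hsplit
  have hrest_nn : 0 ≤ ∑ φ ∈ Finset.univ.erase φ₀, lag p (a φ) :=
    Finset.sum_nonneg (fun φ _ => hnn φ)
  have hrest : ∑ φ ∈ Finset.univ.erase φ₀, lag p (a φ) = 0 := by linarith
  have hφ₀eq : lag p (a φ₀) = (p : ℤ) - 1 := by linarith
  have hother : ∀ φ, φ ≠ φ₀ → lag p (a φ) = 0 := by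
    intro φ hφ
    exact (Finset.sum_eq_zero_iff_of_nonneg (fun φ _ => hnn φ)).1 hrest φ
      (Finset.mem_erase.2 ⟨hφ, Finset.mem_univ _⟩)
  have hzero : ∀ φ, φ ≠ φ₀ → ∀ j, 0 < j → j < p → fc p ζ (a φ) j = 0 := by
    intro φ hφ j hj0 hjp
    have h1 := sum_normSq_eq_lag p hp0 ζ hζ (a φ)
    rw [hother φ hφ] at h1
    have h2 := (Finset.sum_eq_zero_iff_of_nonneg
      (fun j _ => Complex.normSq_nonneg (fc p ζ (a φ) j))).1 (by exact_mod_cast h1) j
      (Finset.mem_Ico.2 ⟨hj0, hjp⟩)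
    exact Complex.normSq_eq_zero.1 h2
  refine ⟨φ₀, hzero, ?_, ?_, ?_⟩
  · intro φ hφ
    have h1 := hother φ hφ
    unfold lag at h1
    have h2 : (p : ℤ) ∣ (∑ i ∈ range p, (a φ i : ℤ)) ^ 2 := by
      refine ⟨∑ i ∈ range p, (a φ i : ℤ) ^ 2, ?_⟩
      linarith
    have h3 : (p : ℤ) ∣ ∑ i ∈ range p, (a φ i : ℤ) :=
      Int.Prime.dvd_pow' hp h2
    have h4 : (p : ℤ) ∣ ((∑ i ∈ range p, a φ i : ℕ) : ℤ) := by
      push_cast
      exact h3
    exact_mod_cast h4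
  · unfold lag at hφ₀eq
    set m : ℤ := ∑ i ∈ range p, (a φ₀ i : ℤ) with hm
    have h2 : (p : ℤ) ∣ (m - 1) * (m + 1) := by
      refine ⟨∑ i ∈ range p, (a φ₀ i : ℤ) ^ 2 - 1, ?_⟩
      linarith
    have hcast : ((∑ i ∈ range p, a φ₀ i : ℕ) : ℤ) = m := by
      rw [hm]
      push_cast
      rfl
    rw [hcast]
    rcases Int.Prime.dvd_mul' hp h2 with h3 | h3
    · left
      exact (Int.modEq_iff_dvd.2 h3).symm
    · right
      apply Int.ModEq.symm
      rw [Int.modEq_iff_dvd]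
      have : m - (-1) = m + 1 := by ring
      rw [this]
      exact h3
  · intro j hj0 hjp
    have h1 := hnorm j hj0 hjp
    rw [← Finset.add_sum_erase Finset.univ _ (Finset.mem_univ φ₀)] at h1
    have h2 : ∑ φ ∈ Finset.univ.erase φ₀, Complex.normSq (fc p ζ (a φ) j) = 0 := by
      apply Finset.sum_eq_zero
      intro φ hφ
      rw [hzero φ (Finset.ne_of_mem_erase hφ) j hj0 hjp]
      simp
    rw [h2, add_zero] at h1
    exact h1

end Cfsg.Agent.Lib.Helper81.GlaubArith
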