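import Mathlib
import Cfsg.Prelude.Def_Characters
import Cfsg.Agent.Lib.Helper81.GlaubArith
import Cfsg.Agent.Lib.Helper81.GlaubCount
import Cfsg.Agent.Lib.Helper81.CosetAvg
import Cfsg.Agent.Lib.Helper81.Mult
import Cfsg.Agent.Lib.CT.LinChar
import Cfsg.Agent.Lib.CT.Ops
import Cfsg.Agent.Lib.CT.Wedderburn
import Cfsg.Agent.S0886

set_option autoImplicit false

namespace Cfsg.Agent.Lib.Helper81.GlaubCore

open Cfsg
open Cfsg.Agent.Lib.Helper81.Irr Cfsg.Agent.Lib.Helper81.Basic Cfsg.Agent.Lib.Helper81.Expand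
  Cfsg.Agent.Lib.Helper81.Mult Cfsg.Agent.Lib.Helper81.CosetAvg
  Cfsg.Agent.Lib.Helper81.GlaubArith Cfsg.Agent.Lib.Helper81.GlaubFusion
  Cfsg.Agent.Lib.Helper81.GlaubCount

universe u

/-- A character of degree zero vanishes. -/
theorem isCharacter_eq_zero {G : Type u} [Group G] {Ψ : G → ℂ} (hΨ : IsCharacter G Ψ)
    (h1 : Ψ 1 = 0) (g : G) : Ψ g = 0 := by
  obtain ⟨n, ρ, rfl⟩ := hΨ
  have hn : n = 0 := by
    have := Representation.char_one ρ
    rw [h1] at this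
    have h2 : (Module.finrank ℂ (Fin n → ℂ) : ℂ) = 0 := this.symm
    simpa using h2
  subst hn
  have : ρ g = 0 := LinearMap.ext fun v => Subsingleton.elim _ _
  simp [Representation.character, this]

section coset

variable {Γ : Type u} [Group Γ] [Fintype Γ] (K : Subgroup Γ) [K.Normal] [Fintype ↥K]

/-- The coset average of `η * conj η'` is a character. -/
theorem isCharacter_cosetPair {η η' : Γ → ℂ} (hη : IsCharacter Γ η) (hη' : IsCharacter Γ η') :
    IsCharacter Γ (fun g => (Nat.card ↥K : ℂ)⁻¹ * ∑ k : ↥K, η (g * k) * η' (g * k)⁻¹) := by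
  have h := isCharacter_cosetAvg K
    (Cfsg.Agent.Lib.CT.Ops.isCharacter_mul hη (Cfsg.Agent.Lib.CT.Ops.isCharacter_inv_arg hη'))
  exact h

/-- If `η` restricts irreducibly to the normal subgroup `K`, then the squared norms of `η` on
every coset of `K` sum up to `|K|`. -/
theorem coset_norm {η : Γ → ℂ} (hη : IsCharacter Γ η)
    (hirr : IsIrrCharacter ↥K (fun k : ↥K => η k)) (g : Γ) :
    ∑ k : ↥K, η (g * k) * η (g * k)⁻¹ = (Nat.card ↥K : ℂ) := by
  have hΨ := isCharacter_cosetPair K hη hη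
  have hK0 : (Nat.card ↥K : ℂ) ≠ 0 := card_ne_zero
  have h1 : (fun g => (Nat.card ↥K : ℂ)⁻¹ * ∑ k : ↥K, η (g * k) * η (g * k)⁻¹) 1 = 1 := by
    have := irr_orth (⟨_, hirr⟩ : IrrCharacter ↥K) ⟨_, hirr⟩
    simp only [if_true] at this
    simp only [one_mul]
    have h2 : ∑ k : ↥K, η k * η (k : Γ)⁻¹ = (Nat.card ↥K : ℂ) := this
    rw [h2, inv_mul_cancel₀ hK0]
  have hnorm := Cfsg.Agent.Lib.CT.LinChar.linear_norm hΨ h1 g
  -- the value is a nonnegative real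
  have hreal : (Nat.card ↥K : ℂ)⁻¹ * ∑ k : ↥K, η (g * k) * η (g * k)⁻¹ =
      (((Nat.card ↥K : ℝ)⁻¹ * ∑ k : ↥K, Complex.normSq (η (g * k)) : ℝ) : ℂ) := by
    push_cast
    congr 1
    apply Finset.sum_congr rfl
    intro k _
    rw [Cfsg.Agent.Lib.CT.Wedderburn.char_apply_inv hη, Complex.mul_conj]
  have hnn : 0 ≤ (Nat.card ↥K : ℝ)⁻¹ * ∑ k : ↥K, Complex.normSq (η (g * k)) := by
    apply mul_nonneg
    · positivity
    · exact Finset.sum_nonneg fun k _ => Complex.normSq_nonneg _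
  have hval : (Nat.card ↥K : ℂ)⁻¹ * ∑ k : ↥K, η (g * k) * η (g * k)⁻¹ = 1 := by
    rw [hreal]
    have h3 : ‖(((Nat.card ↥K : ℝ)⁻¹ * ∑ k : ↥K, Complex.normSq (η (g * k)) : ℝ) : ℂ)‖ = 1 := by
      rw [← hreal]
      exact hnorm
    rw [Complex.norm_real, Real.norm_of_nonneg hnn] at h3
    rw [h3]
    simp
  have h4 : ∑ k : ↥K, η (g * k) * η (g * k)⁻¹ =
      (Nat.card ↥K : ℂ) * ((Nat.card ↥K : ℂ)⁻¹ * ∑ k : ↥K, η (g * k) * η (g * k)⁻¹) := by
    rw [← mul_assoc, mul_inv_cancel₀ hK0, one_mul]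
  rw [h4, hval, mul_one]

/-- If `η`, `η'` restrict to different irreducible characters of the normal subgroup `K`, then
they are orthogonal on every coset of `K`. -/
theorem coset_orth {η η' : Γ → ℂ} (hη : IsCharacter Γ η) (hη' : IsCharacter Γ η')
    (hirr : IsIrrCharacter ↥K (fun k : ↥K => η k))
    (hirr' : IsIrrCharacter ↥K (fun k : ↥K => η' k))
    (hne : (fun k : ↥K => η k) ≠ (fun k : ↥K => η' k)) (g : Γ) :
    ∑ k : ↥K, η (g * k) * η' (g * k)⁻¹ = 0 := by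
  have hΨ := isCharacter_cosetPair K hη hη'
  have hK0 : (Nat.card ↥K : ℂ) ≠ 0 := card_ne_zero
  have h1 : (fun g => (Nat.card ↥K : ℂ)⁻¹ * ∑ k : ↥K, η (g * k) * η' (g * k)⁻¹) 1 = 0 := by
    have := irr_orth (⟨_, hirr⟩ : IrrCharacter ↥K) ⟨_, hirr'⟩
    rw [if_neg (fun h => hne (congrArg Subtype.val h))] at this
    simp only [one_mul]
    have h2 : ∑ k : ↥K, η k * η' (k : Γ)⁻¹ = 0 := this
    rw [h2, mul_zero]
  have h0 := isCharacter_eq_zero hΨ h1 g
  have h4 : ∑ k : ↥K, η (g * k) * η' (g * k)⁻¹ =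
      (Nat.card ↥K : ℂ) * ((Nat.card ↥K : ℂ)⁻¹ * ∑ k : ↥K, η (g * k) * η' (g * k)⁻¹) := by
    rw [← mul_assoc, mul_inv_cancel₀ hK0, one_mul]
  rw [h4, h0, mul_zero]

end coset

section fourier

variable {Γ : Type u} [Group Γ] [Fintype Γ] (x : Γ) {C₀ : Type u} [Group C₀] [Fintype C₀]
  (ι' : C₀ →* Γ) (p : ℕ) [Fact p.Prime]

/-- The `i`-th Fourier component of a character of `Γ` on `⟨x⟩ × C₀` is a character of `C₀`. -/
theorem isCharacter_fourier (hx : orderOf x = p) (hcomm : ∀ c, Commute (ι' c) x) (ζ : ℂ)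
    (hζ : IsPrimitiveRoot ζ p) {η : Γ → ℂ} (hη : IsCharacter Γ η) (i : ℕ) :
    IsCharacter C₀ (fun c => (p : ℂ)⁻¹ *
      ∑ j ∈ Finset.range p, η (x ^ j * ι' c) * (starRingEnd ℂ ζ) ^ (j * i)) := by
  classical
  have hp : p.Prime := Fact.out
  have hζ0 : ζ ≠ 0 := hζ.ne_zero hp.ne_zero
  have hζn : ‖ζ‖ = 1 := hζ.norm'_eq_one hp.ne_zero
  have hζc : starRingEnd ℂ ζ = ζ⁻¹ := (Complex.inv_eq_conj hζn).symm
  let A := C₀ × ↥(Subgroup.zpowers x)
  have hcomm' : ∀ (c : C₀) (y : ↥(Subgroup.zpowers x)),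
      Commute (ι' c) ((Subgroup.zpowers x).subtype y) := by
    rintro c ⟨y, k, rfl⟩
    exact (hcomm c).zpow_right k
  let m : A →* Γ := MonoidHom.noncommCoprod ι' (Subgroup.zpowers x).subtype hcomm'
  let ζu : ℂˣ := Units.mk0 ζ hζ0
  let xz : ↥(Subgroup.zpowers x) := ⟨x, Subgroup.mem_zpowers x⟩
  have hgen : ∀ y : ↥(Subgroup.zpowers x), y ∈ Subgroup.zpowers xz := by
    rintro ⟨y, k, rfl⟩
    exact ⟨k, Subtype.ext (by simp [xz])⟩
  have hord : orderOf ζu ∣ orderOf xz := by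
    rw [Subgroup.orderOf_mk, hx]
    apply orderOf_dvd_of_pow_eq_one
    apply Units.ext
    simp [ζu, hζ.pow_eq_one]
  let lam : ↥(Subgroup.zpowers x) →* ℂˣ := monoidHomOfForallMemZpowers hgen hord
  have hlam : lam xz = ζu := monoidHomOfForallMemZpowers_apply_gen hgen hord
  let Lam : A →* ℂˣ := lam.comp (MonoidHom.snd C₀ ↥(Subgroup.zpowers x))
  let L : A →* ℂˣ := (Lam⁻¹) ^ i
  let ψ : A → ℂ := (fun a => η (m a)) * (fun a => ((L a : ℂˣ) : ℂ))
  have hψ : IsCharacter A ψ :=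
    Cfsg.Agent.Lib.CT.Ops.isCharacter_mul (Cfsg.Agent.Lib.CT.Ops.isCharacter_comp_hom m hη)
      (Cfsg.Agent.Lib.CT.LinChar.isCharacter_of_hom L)
  let N : Subgroup A := (MonoidHom.fst C₀ ↥(Subgroup.zpowers x)).ker
  let _ : Fintype ↥N := Fintype.ofFinite _
  have hav := isCharacter_cosetAvg N hψ
  have hav2 := Cfsg.Agent.Lib.CT.Ops.isCharacter_comp_hom
    (MonoidHom.inl C₀ ↥(Subgroup.zpowers x)) hav
  -- the equivalence of `N` with the cyclic group
  let e : ↥(Subgroup.zpowers x) ≃ ↥N :=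
    { toFun := fun y => ⟨(1, y), MonoidHom.mem_ker.2 rfl⟩
      invFun := fun n => n.1.2
      left_inv := fun y => rfl
      right_inv := fun n => by
        apply Subtype.ext
        have h1 : n.1.1 = 1 := MonoidHom.mem_ker.1 n.2
        exact Prod.ext h1.symm rfl }
  have hfo : IsOfFinOrder x := isOfFinOrder_of_finite x
  have hcardN : Nat.card ↥N = p := by
    rw [← Nat.card_congr e, Nat.card_zpowers, hx]
  have hval : ∀ (c : C₀) (j : ℕ),
      ψ (MonoidHom.inl C₀ ↥(Subgroup.zpowers x) c * (e (xz ^ j) : A)) =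
        η (x ^ j * ι' c) * (starRingEnd ℂ ζ) ^ (j * i) := by
    intro c j
    have h1 : (MonoidHom.inl C₀ ↥(Subgroup.zpowers x) c * (e (xz ^ j) : A)) = (c, xz ^ j) := by
      show ((c, (1 : ↥(Subgroup.zpowers x))) * ((1 : C₀), xz ^ j)) = (c, xz ^ j)
      rw [Prod.mk_mul_mk, mul_one, one_mul]
    rw [h1]
    have h2 : m (c, xz ^ j) = x ^ j * ι' c := by
      have h3 : ((Subgroup.zpowers x).subtype (xz ^ j) : Γ) = x ^ j := by simp [xz]
      show ι' c * (Subgroup.zpowers x).subtype (xz ^ j) = x ^ j * ι' c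
      rw [h3]
      exact ((hcomm c).pow_right j).eq
    have h4 : ((L (c, xz ^ j) : ℂˣ) : ℂ) = (starRingEnd ℂ ζ) ^ (j * i) := by
      have h5 : L (c, xz ^ j) = ((lam (xz ^ j))⁻¹) ^ i := rfl
      rw [h5, map_pow, hlam, hζc]
      simp only [ζu, Units.val_pow_eq_pow_val, Units.val_inv_eq_inv_val, Units.val_mk0]
      rw [← inv_pow, ← pow_mul]
    show η (m (c, xz ^ j)) * ((L (c, xz ^ j) : ℂˣ) : ℂ) = _
    rw [h2, h4]
  have hfun : (fun c => (p : ℂ)⁻¹ *
      ∑ j ∈ Finset.range p, η (x ^ j * ι' c) * (starRingEnd ℂ ζ) ^ (j * i)) =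
      fun c => (Nat.card ↥N : ℂ)⁻¹ *
        ∑ n : ↥N, ψ (MonoidHom.inl C₀ ↥(Subgroup.zpowers x) c * (n : A)) := by
    funext c
    rw [hcardN]
    congr 1
    rw [← Equiv.sum_comp e, ← Equiv.sum_comp (finEquivZPowers hfo)]
    have h5 : ∀ k : Fin (orderOf x), ψ (MonoidHom.inl C₀ ↥(Subgroup.zpowers x) c *
        (e (finEquivZPowers hfo k) : A)) =
        η (x ^ (k : ℕ) * ι' c) * (starRingEnd ℂ ζ) ^ ((k : ℕ) * i) := by
      intro k
      rw [← hval c k]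
      congr 3
    rw [Finset.sum_congr rfl (fun k _ => h5 k),
      Fin.sum_univ_eq_sum_range (fun j => η (x ^ j * ι' c) * (starRingEnd ℂ ζ) ^ (j * i))
        (orderOf x), hx]
  rw [hfun]
  exact hav2

end fourier

/-- Fourier inversion on `ℤ/p`. -/
theorem fourier_inv (p : ℕ) (hp : 0 < p) (ζ : ℂ) (hζ : IsPrimitiveRoot ζ p) (B : ℕ → ℂ) (j₀ : ℕ)
    (hj₀ : j₀ < p) :
    ∑ i ∈ Finset.range p, ζ ^ (i * j₀) *
      ((p : ℂ)⁻¹ * ∑ j ∈ Finset.range p, B j * (starRingEnd ℂ ζ) ^ (j * i)) = B j₀ := by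
  have hp0 : (p : ℂ) ≠ 0 := Nat.cast_ne_zero.2 hp.ne'
  have h1 : ∀ i ∈ Finset.range p, ζ ^ (i * j₀) *
      ((p : ℂ)⁻¹ * ∑ j ∈ Finset.range p, B j * (starRingEnd ℂ ζ) ^ (j * i)) =
      ∑ j ∈ Finset.range p, (p : ℂ)⁻¹ * B j * (ζ ^ j₀ * (starRingEnd ℂ ζ) ^ j) ^ i := by
    intro i _
    rw [Finset.mul_sum, Finset.mul_sum]
    apply Finset.sum_congr rfl
    intro j _
    rw [mul_pow, ← pow_mul, ← pow_mul, mul_comm i j₀]
    ring
  rw [Finset.sum_congr rfl h1, Finset.sum_comm]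
  have h2 : ∀ j ∈ Finset.range p,
      ∑ i ∈ Finset.range p, (p : ℂ)⁻¹ * B j * (ζ ^ j₀ * (starRingEnd ℂ ζ) ^ j) ^ i =
        if j₀ = j then B j else 0 := by
    intro j hj
    rw [← Finset.mul_sum, geom_sum_root p hp ζ hζ j₀ j hj₀ (Finset.mem_range.1 hj)]
    split_ifs
    · field_simp
    · simp
  rw [Finset.sum_congr rfl h2, Finset.sum_ite_eq]
  simp [hj₀]

theorem not_dvd_of_modEq {p : ℕ} (hp : p.Prime) (m : ℕ)
    (h : (m : ℤ) ≡ 1 [ZMOD p] ∨ (m : ℤ) ≡ -1 [ZMOD p]) : ¬ p ∣ m := by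
  intro hd
  have hd' : (p : ℤ) ∣ (m : ℤ) := Int.natCast_dvd_natCast.2 hd
  have h1 : (p : ℤ) ∣ 1 := by
    rcases h with h | h
    · have := (Int.modEq_iff_dvd.1 h)
      have h2 := dvd_add this hd'
      simpa using h2
    · have := (Int.modEq_iff_dvd.1 h)
      have h2 := dvd_add this hd'
      have h3 : (-1 - (m : ℤ) + m) = -1 := by ring
      rw [h3] at h2
      exact (dvd_neg.1 h2)
  have h2 : p ∣ 1 := by exact_mod_cast h1
  exact hp.one_lt.ne' (Nat.dvd_one.1 h2)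

section core

variable {Γ : Type u} [Group Γ] [Fintype Γ] (K : Subgroup Γ) [K.Normal] [Fintype ↥K] (x : Γ)
  {C₀ : Type u} [Group C₀] [Fintype C₀] (ι' : C₀ →* Γ) (p : ℕ) [Fact p.Prime]

/-- The heart of the Glauberman correspondence: an irreducible character `η` of `Γ = K⟨x⟩`
with irreducible restriction to `K` is, on each coset `x ^ j * C_K(x)`, a multiple of one
irreducible character `φ₀` of `C_K(x)` by a constant of absolute value one. -/
theorem core_exists [Fintype (IrrCharacter C₀)] (hidx : K.index = p) (hpK : ¬ p ∣ Nat.card K)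
    (hx : orderOf x = p) (hι : Function.Injective ι')
    (hrange : ι'.range = K ⊓ Subgroup.centralizer {x}) {η : Γ → ℂ} (hη : IsCharacter Γ η)
    (hirr : IsIrrCharacter ↥K (fun k : ↥K => η k)) :
    ∃ (φ₀ : IrrCharacter C₀) (b : ℕ → ℂ),
      (((mult (fun c => η (ι' c)) φ₀ : ℕ) : ℤ) ≡ 1 [ZMOD p] ∨
        ((mult (fun c => η (ι' c)) φ₀ : ℕ) : ℤ) ≡ -1 [ZMOD p]) ∧
      (∀ φ, φ ≠ φ₀ → p ∣ mult (fun c => η (ι' c)) φ) ∧
      (∀ j, 0 < j → j < p → Complex.normSq (b j) = 1 ∧ ∀ c, η (x ^ j * ι' c) = b j * φ₀.1 c) := by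
  classical
  have hp : p.Prime := Fact.out
  have hp0 : 0 < p := hp.pos
  obtain ⟨ζ, hζ⟩ : ∃ ζ : ℂ, IsPrimitiveRoot ζ p := ⟨_, Complex.isPrimitiveRoot_exp p hp.ne_zero⟩
  have hcomm : ∀ c, Commute (ι' c) x := commute_x K x ι' hrange
  let B : ℕ → C₀ → ℂ := fun j c => η (x ^ j * ι' c)
  let Ψ : ℕ → C₀ → ℂ := fun i c => (p : ℂ)⁻¹ *
      ∑ j ∈ Finset.range p, η (x ^ j * ι' c) * (starRingEnd ℂ ζ) ^ (j * i)
  have hΨ : ∀ i, IsCharacter C₀ (Ψ i) := fun i => isCharacter_fourier x ι' p hx hcomm ζ hζ hη i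
  let a : IrrCharacter C₀ → ℕ → ℕ := fun φ i => mult (Ψ i) φ
  -- the class function property
  have hBcl : ∀ j (c d : C₀), B j (d * c * d⁻¹) = B j c := by
    intro j c d
    show η (x ^ j * ι' (d * c * d⁻¹)) = η (x ^ j * ι' c)
    have h1 : x ^ j * ι' (d * c * d⁻¹) = ι' d * (x ^ j * ι' c) * (ι' d)⁻¹ := by
      rw [map_mul, map_mul, map_inv]
      have h2 := ((hcomm d).pow_right j).eq
      calc x ^ j * (ι' d * ι' c * (ι' d)⁻¹) = (x ^ j * ι' d) * ι' c * (ι' d)⁻¹ := by group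
        _ = (ι' d * x ^ j) * ι' c * (ι' d)⁻¹ := by rw [h2]
        _ = ι' d * (x ^ j * ι' c) * (ι' d)⁻¹ := by group
    rw [h1, char_conj hη]
  -- the multiplicities of the twisted restrictions
  have hB : ∀ j₀, j₀ < p → ∀ φ, multC (B j₀) φ = fc p ζ (a φ) j₀ := by
    intro j₀ hj₀ φ
    have h1 : B j₀ = fun c => ∑ i ∈ Finset.range p, (ζ ^ (i * j₀) • Ψ i) c := by
      funext c
      have := fourier_inv p hp0 ζ hζ (fun j => η (x ^ j * ι' c)) j₀ hj₀
      exact this.symm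
    rw [h1, multC_sum]
    unfold fc
    apply Finset.sum_congr rfl
    intro i _
    rw [multC_smul, ← mult_cast (hΨ i), mul_comm]
  -- the norm condition
  have hnorm : ∀ j, 0 < j → j < p → ∑ φ, Complex.normSq (fc p ζ (a φ) j) = 1 := by
    intro j hj0 hjp
    have hjnd : ¬ p ∣ j := Nat.not_dvd_of_pos_of_lt hj0 hjp
    have hpar := parseval (B j) (fun c => starRingEnd ℂ (B j c⁻¹)) (fun c d => hBcl j c d)
    have hconj : ∀ φ : IrrCharacter C₀,
        multC (fun c => starRingEnd ℂ (B j c⁻¹)) φ = starRingEnd ℂ (multC (B j) φ) := by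
      intro φ
      rw [multC_def, multC_def, map_mul, map_inv₀, Complex.conj_natCast, map_sum]
      congr 1
      rw [← Equiv.sum_comp (Equiv.inv C₀)]
      apply Finset.sum_congr rfl
      intro c _
      simp only [Equiv.inv_apply, inv_inv, map_mul]
      rw [Cfsg.Agent.Lib.CT.Wedderburn.char_apply_inv (Cfsg.Agent.Lib.CT.Wedderburn.isCharacter_of_irr φ.2) c, Complex.conj_conj]
    have hsum : ∑ φ : IrrCharacter C₀, multC (B j) φ * multC (fun c => starRingEnd ℂ (B j c⁻¹)) φ =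
        ((∑ φ, Complex.normSq (fc p ζ (a φ) j) : ℝ) : ℂ) := by
      push_cast
      apply Finset.sum_congr rfl
      intro φ _
      rw [hconj, hB j hjp, Complex.mul_conj]
    rw [hsum] at hpar
    -- the left hand side
    let F : Γ → ℂ := fun g => η g * η g⁻¹
    have hF : ∀ g h : Γ, F (h * g * h⁻¹) = F g := by
      intro g h
      show η (h * g * h⁻¹) * η (h * g * h⁻¹)⁻¹ = η g * η g⁻¹
      have h1 : (h * g * h⁻¹)⁻¹ = h * g⁻¹ * h⁻¹ := by group
      rw [h1, char_conj hη, char_conj hη]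
    have hfus := fusion_sum K x ι' p hidx hpK hx hι hrange F hF j hjnd
    have hcn := coset_norm K hη hirr (x ^ j)
    have hF2 : ∑ k : ↥K, F (x ^ j * k) = (Nat.card ↥K : ℂ) := hcn
    rw [hF2] at hfus
    have hK0 : (Nat.card ↥K : ℂ) ≠ 0 := card_ne_zero
    have hC0 : (Nat.card C₀ : ℂ) ≠ 0 := card_ne_zero
    have hF3 : ∑ c : C₀, F (x ^ j * ι' c) = (Nat.card C₀ : ℂ) := by
      have h2 : (Nat.card ↥K : ℂ) * ∑ c : C₀, F (x ^ j * ι' c) =
          (Nat.card ↥K : ℂ) * (Nat.card C₀ : ℂ) := by rw [← hfus, mul_comm]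
      exact mul_left_cancel₀ hK0 h2
    have hlhs : ∑ c : C₀, B j c * (fun c => starRingEnd ℂ (B j c⁻¹)) c⁻¹ = (Nat.card C₀ : ℂ) := by
      rw [← hF3]
      apply Finset.sum_congr rfl
      intro c _
      show η (x ^ j * ι' c) * starRingEnd ℂ (η (x ^ j * ι' c⁻¹⁻¹)) = η (x ^ j * ι' c) * η (x ^ j * ι' c)⁻¹
      rw [inv_inv, Cfsg.Agent.Lib.CT.Wedderburn.char_apply_inv hη]
    rw [hlhs, inv_mul_cancel₀ hC0] at hpar
    exact_mod_cast hpar.symm
  obtain ⟨φ₀, h1, h2, h3, h4⟩ := fourier_arith p ζ hζ a hnorm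
  -- the multiplicities of the plain restriction
  have hmult : ∀ φ, mult (fun c => η (ι' c)) φ = ∑ i ∈ Finset.range p, a φ i := by
    intro φ
    have hch : IsCharacter C₀ (fun c => η (ι' c)) :=
      Cfsg.Agent.Lib.CT.Ops.isCharacter_comp_hom ι' hη
    have h5 := hB 0 hp0 φ
    rw [fc_zero] at h5
    have h6 : B 0 = fun c => η (ι' c) := by
      funext c
      show η (x ^ 0 * ι' c) = η (ι' c)
      rw [pow_zero, one_mul]
    rw [h6, ← mult_cast hch] at h5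
    exact_mod_cast h5
  refine ⟨φ₀, fun j => fc p ζ (a φ₀) j, ?_, ?_, ?_⟩
  · rw [hmult]
    exact h3
  · intro φ hφ
    rw [hmult]
    exact h2 φ hφ
  · intro j hj0 hjp
    refine ⟨h4 j hj0 hjp, fun c => ?_⟩
    have h5 := classFn_expand (B j) (fun c d => hBcl j c d) c
    have h6 : ∑ φ : IrrCharacter C₀, multC (B j) φ * φ.1 c = multC (B j) φ₀ * φ₀.1 c := by
      apply Finset.sum_eq_single φ₀
      · intro φ _ hφ
        rw [hB j hjp, h1 φ hφ j hj0 hjp, zero_mul]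
      · intro h
        exact absurd (Finset.mem_univ _) h
    rw [h6, hB j hjp] at h5
    exact h5

end core

/-- The Glauberman property of a family `Inv` of irreducible characters of `G` relative to a
homomorphism `ι : C →* G`: every character of the family has a unique constituent on `C` of
multiplicity prime to `p`, the multiplicity is `±1` modulo `p`, and this gives a bijection from
the family onto the irreducible characters of `C`. -/
def Glaub (p : ℕ) {G C : Type u} [Group G] [Group C] [Fintype C] (ι : C →* G)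
    (Inv : IrrCharacter G → Prop) : Prop :=
  (∀ χ, Inv χ → ∃ β : IrrCharacter C,
      (((mult (fun c => χ.1 (ι c)) β : ℕ) : ℤ) ≡ 1 [ZMOD p] ∨
        ((mult (fun c => χ.1 (ι c)) β : ℕ) : ℤ) ≡ -1 [ZMOD p]) ∧
      ∀ γ, γ ≠ β → p ∣ mult (fun c => χ.1 (ι c)) γ) ∧
  (∀ χ χ', Inv χ → Inv χ' → ∀ β : IrrCharacter C, ¬ p ∣ mult (fun c => χ.1 (ι c)) β →
      ¬ p ∣ mult (fun c => χ'.1 (ι c)) β → χ = χ') ∧
  (∀ β : IrrCharacter C, ∃ χ, Inv χ ∧ ¬ p ∣ mult (fun c => χ.1 (ι c)) β)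

section main

variable {Γ : Type u} [Group Γ] [Fintype Γ] (K : Subgroup Γ) [K.Normal] [Fintype ↥K] (x : Γ)
  {C₀ : Type u} [Group C₀] [Fintype C₀] (p : ℕ) [Fact p.Prime]

/-- The Glauberman correspondence for `Γ = K⟨x⟩`, `x` of prime order `p` not dividing `|K|`. -/
theorem glaub_core (hidx : K.index = p) (hpK : ¬ p ∣ Nat.card K) (hx : orderOf x = p)
    (ι : C₀ →* ↥K) (hι : Function.Injective ι)
    (hrange : (K.subtype.comp ι).range = K ⊓ Subgroup.centralizer {x}) :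
    Glaub p ι (fun θ : IrrCharacter ↥K => ∀ k : ↥K, θ.1 (MulAut.conjNormal x k) = θ.1 k) := by
  classical
  have hp : p.Prime := Fact.out
  have : Finite (IrrCharacter C₀) := finite_irr
  let _ : Fintype (IrrCharacter C₀) := Fintype.ofFinite _
  have : Finite (IrrCharacter ↥K) := finite_irr
  let _ : Fintype (IrrCharacter ↥K) := Fintype.ofFinite _
  let ι' : C₀ →* Γ := K.subtype.comp ι
  have hι' : Function.Injective ι' := K.subtype_injective.comp hι
  -- extension of invariant characters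
  have hext : ∀ θ : IrrCharacter ↥K, (∀ k : ↥K, θ.1 (MulAut.conjNormal x k) = θ.1 k) →
      ∃ η : Γ → ℂ, IsIrrCharacter Γ η ∧ ∀ k : ↥K, η k = θ.1 k := by
    intro θ hθ
    have hcyc : IsCyclic (Γ ⧸ K) := isCyclic_of_prime_card (p := p) hidx
    have hpow : ∀ (j : ℕ) (y : ↥K), θ.1 (MulAut.conjNormal (x ^ j) y) = θ.1 y := by
      intro j
      induction j with
      | zero => intro y; simp
      | succ j ih =>
        intro y
        rw [pow_succ, map_mul, MulAut.mul_apply, ih, hθ]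
    refine Cfsg.Agent.S0886.result K hcyc θ.1 θ.2 ?_
    intro g n
    obtain ⟨j, k, hk, rfl⟩ := exists_decomp K p x hidx hpK hx g
    have h1 : ∀ h, (⟨x ^ j * k * n * (x ^ j * k)⁻¹, h⟩ : ↥K) =
        MulAut.conjNormal (x ^ j) (⟨k, hk⟩ * n * ⟨k, hk⟩⁻¹) := by
      intro h
      apply Subtype.ext
      simp only [MulAut.conjNormal_apply, Subgroup.coe_mul, Subgroup.coe_inv]
      group
    rw [h1, hpow, char_conj (Cfsg.Agent.Lib.CT.Wedderburn.isCharacter_of_irr θ.2)]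
  -- the data for each invariant character
  have hdata : ∀ θ : IrrCharacter ↥K, (∀ k : ↥K, θ.1 (MulAut.conjNormal x k) = θ.1 k) →
      ∃ (η : Γ → ℂ) (φ₀ : IrrCharacter C₀) (b : ℕ → ℂ), IsCharacter Γ η ∧
        (∀ k : ↥K, η k = θ.1 k) ∧
        (((mult (fun c => θ.1 (ι c)) φ₀ : ℕ) : ℤ) ≡ 1 [ZMOD p] ∨
          ((mult (fun c => θ.1 (ι c)) φ₀ : ℕ) : ℤ) ≡ -1 [ZMOD p]) ∧
        (∀ φ, φ ≠ φ₀ → p ∣ mult (fun c => θ.1 (ι c)) φ) ∧
        (∀ j, 0 < j → j < p →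
          Complex.normSq (b j) = 1 ∧ ∀ c, η (x ^ j * ι' c) = b j * φ₀.1 c) := by
    intro θ hθ
    obtain ⟨η, hηirr, hηθ⟩ := hext θ hθ
    have hη : IsCharacter Γ η := Cfsg.Agent.Lib.CT.Wedderburn.isCharacter_of_irr hηirr
    have hres : (fun k : ↥K => η k) = θ.1 := funext hηθ
    have hirr : IsIrrCharacter ↥K (fun k : ↥K => η k) := by rw [hres]; exact θ.2
    obtain ⟨φ₀, b, h1, h2, h3⟩ := core_exists K x ι' p hidx hpK hx hι' hrange hη hirr
    have hfun : (fun c => η (ι' c)) = fun c => θ.1 (ι c) := by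
      funext c
      exact hηθ (ι c)
    rw [hfun] at h1 h2
    exact ⟨η, φ₀, b, hη, hηθ, h1, h2, h3⟩
  have hinj : ∀ θ θ' : IrrCharacter ↥K, (∀ k : ↥K, θ.1 (MulAut.conjNormal x k) = θ.1 k) →
      (∀ k : ↥K, θ'.1 (MulAut.conjNormal x k) = θ'.1 k) → ∀ β : IrrCharacter C₀,
      ¬ p ∣ mult (fun c => θ.1 (ι c)) β → ¬ p ∣ mult (fun c => θ'.1 (ι c)) β → θ = θ' := by
    intro θ θ' hθ hθ' β hβ hβ'
    obtain ⟨η, φ₀, b, hη, hηθ, h1, h2, h3⟩ := hdata θ hθ
    obtain ⟨η', φ₀', b', hη', hηθ', h1', h2', h3'⟩ := hdata θ' hθ'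
    have e1 : β = φ₀ := by
      by_contra h
      exact hβ (h2 β h)
    have e2 : β = φ₀' := by
      by_contra h
      exact hβ' (h2' β h)
    subst e1
    subst e2
    by_contra hne
    have hres : (fun k : ↥K => η k) = θ.1 := funext hηθ
    have hres' : (fun k : ↥K => η' k) = θ'.1 := funext hηθ'
    have hco := coset_orth K hη hη' (by rw [hres]; exact θ.2) (by rw [hres']; exact θ'.2)
      (by rw [hres, hres']; exact fun h => hne (Subtype.ext h)) (x ^ 1)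
    let F : Γ → ℂ := fun g => η g * η' g⁻¹
    have hF : ∀ g h : Γ, F (h * g * h⁻¹) = F g := by
      intro g h
      show η (h * g * h⁻¹) * η' (h * g * h⁻¹)⁻¹ = η g * η' g⁻¹
      have h1 : (h * g * h⁻¹)⁻¹ = h * g⁻¹ * h⁻¹ := by group
      rw [h1, char_conj hη, char_conj hη']
    have hj1 : ¬ p ∣ 1 := fun h => hp.one_lt.ne' (Nat.dvd_one.1 h)
    have hfus := fusion_sum K x ι' p hidx hpK hx hι' hrange F hF 1 hj1
    have hF2 : ∑ k : ↥K, F (x ^ 1 * k) = 0 := hco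
    rw [hF2, mul_zero] at hfus
    obtain ⟨hb, hbc⟩ := h3 1 Nat.one_pos hp.one_lt
    obtain ⟨hb', hbc'⟩ := h3' 1 Nat.one_pos hp.one_lt
    have hF3 : ∑ c : C₀, F (x ^ 1 * ι' c) = b 1 * starRingEnd ℂ (b' 1) * (Nat.card C₀ : ℂ) := by
      have := irr_orth β β
      rw [if_pos rfl] at this
      rw [← this, Finset.mul_sum]
      apply Finset.sum_congr rfl
      intro c _
      show η (x ^ 1 * ι' c) * η' (x ^ 1 * ι' c)⁻¹ = _
      rw [Cfsg.Agent.Lib.CT.Wedderburn.char_apply_inv hη', hbc, hbc', map_mul,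
        Cfsg.Agent.Lib.CT.Wedderburn.char_apply_inv
          (Cfsg.Agent.Lib.CT.Wedderburn.isCharacter_of_irr β.2) c]
      ring
    rw [hF3] at hfus
    have hb0 : b 1 ≠ 0 := by
      intro h
      rw [h] at hb
      simp at hb
    have hb0' : starRingEnd ℂ (b' 1) ≠ 0 := by
      intro h
      rw [map_eq_zero] at h
      rw [h] at hb'
      simp at hb'
    have hK0 : (Nat.card ↥K : ℂ) ≠ 0 := card_ne_zero
    have hC0 : (Nat.card C₀ : ℂ) ≠ 0 := card_ne_zero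
    exact (mul_ne_zero hK0 (mul_ne_zero (mul_ne_zero hb0 hb0') hC0)) hfus.symm
  refine ⟨fun θ hθ => ?_, hinj, ?_⟩
  · obtain ⟨η, φ₀, b, hη, hηθ, h1, h2, h3⟩ := hdata θ hθ
    exact ⟨φ₀, h1, h2⟩
  · have hcard := card_invariant K x ι' p hidx hpK hx hι' hrange
    have hex : ∀ θ : {θ : IrrCharacter ↥K // ∀ k : ↥K, θ.1 (MulAut.conjNormal x k) = θ.1 k},
        ∃ β : IrrCharacter C₀, ¬ p ∣ mult (fun c => θ.1.1 (ι c)) β := by
      intro θ
      obtain ⟨η, φ₀, b, hη, hηθ, h1, h2, h3⟩ := hdata θ.1 θ.2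
      exact ⟨φ₀, not_dvd_of_modEq hp _ h1⟩
    choose f hf using hex
    have hfinj : Function.Injective f := by
      intro θ θ' h
      apply Subtype.ext
      exact hinj θ.1 θ'.1 θ.2 θ'.2 (f θ) (hf θ) (by rw [h]; exact hf θ')
    have hbij : Function.Bijective f := hfinj.bijective_of_nat_card_le (le_of_eq hcard.symm)
    intro β
    obtain ⟨θ, rfl⟩ := hbij.2 β
    exact ⟨θ.1, θ.2, hf θ⟩

end main

end Cfsg.Agent.Lib.Helper81.GlaubCore
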