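import Mathlib
import Cfsg.Prelude.Def_Characters
import Cfsg.Agent.Lib.Helper81.GlaubCore

set_option autoImplicit false

namespace Cfsg.Agent.Lib.Helper81.Glaub

open Cfsg
open Cfsg.Agent.Lib.Helper81.Irr Cfsg.Agent.Lib.Helper81.Basic Cfsg.Agent.Lib.Helper81.Expand
  Cfsg.Agent.Lib.Helper81.Mult Cfsg.Agent.Lib.Helper81.GlaubCore

universe u

section general

variable {G H : Type u} [Group G] [Group H]

/-- Composition of an irreducible character with an isomorphism. -/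
noncomputable def irrComp (e : H ≃* G) (χ : IrrCharacter G) : IrrCharacter H :=
  ⟨fun h => χ.1 (e h), isIrrCharacter_comp χ.2 e.toMonoidHom e.surjective⟩

theorem irrComp_apply (e : H ≃* G) (χ : IrrCharacter G) (h : H) :
    (irrComp e χ).1 h = χ.1 (e h) := rfl

theorem irrComp_symm (e : H ≃* G) (χ : IrrCharacter G) : irrComp e.symm (irrComp e χ) = χ := by
  apply Subtype.ext
  funext g
  simp [irrComp]

theorem irrComp_symm' (e : H ≃* G) (χ : IrrCharacter H) : irrComp e (irrComp e.symm χ) = χ := by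
  apply Subtype.ext
  funext g
  simp [irrComp]

theorem irrComp_injective (e : H ≃* G) : Function.Injective (irrComp e) := by
  intro χ χ' h
  have := congrArg (irrComp e.symm) h
  rwa [irrComp_symm, irrComp_symm] at this

theorem mult_irr [Fintype G] (χ ψ : IrrCharacter G) : mult χ.1 ψ = if χ = ψ then 1 else 0 := by
  have h1 := mult_cast (Cfsg.Agent.Lib.CT.Wedderburn.isCharacter_of_irr χ.2) ψ
  rw [multC_irr] at h1
  split_ifs with h
  · rw [if_pos h] at h1
    exact_mod_cast h1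
  · rw [if_neg h] at h1
    exact_mod_cast h1

theorem multC_comp_equiv [Fintype G] (σ : G ≃* G) (F : G → ℂ) (ψ : IrrCharacter G) :
    multC (fun d => F (σ d)) (irrComp σ ψ) = multC F ψ := by
  rw [multC_def, multC_def]
  congr 1
  rw [← Equiv.sum_comp σ.toEquiv (fun d => F d * ψ.1 d⁻¹)]
  apply Finset.sum_congr rfl
  intro d _
  simp [irrComp]

theorem mult_comp_equiv [Fintype G] (σ : G ≃* G) (F : G → ℂ) (ψ : IrrCharacter G) :
    mult (fun d => F (σ d)) (irrComp σ ψ) = mult F ψ := by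
  unfold mult
  rw [multC_comp_equiv]

end general

section glaub

variable {G : Type u} [Group G] {C : Type u} [Group C] [Fintype C] (p : ℕ)

theorem glaub_congr {ι : C →* G} {Inv Inv' : IrrCharacter G → Prop} (h : ∀ χ, Inv χ ↔ Inv' χ)
    (hg : Glaub p ι Inv) : Glaub p ι Inv' := by
  have : Inv = Inv' := funext fun χ => propext (h χ)
  rw [← this]
  exact hg

theorem glaub_transfer {G' : Type u} [Group G'] (e : G' ≃* G) {ι : C →* G}
    {Inv : IrrCharacter G → Prop} (hg : Glaub p ι Inv) :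
    Glaub p (e.symm.toMonoidHom.comp ι) (fun χ' : IrrCharacter G' => Inv (irrComp e.symm χ')) := by
  have hfun : ∀ χ' : IrrCharacter G', (fun c => χ'.1 ((e.symm.toMonoidHom.comp ι) c)) =
      fun c => (irrComp e.symm χ').1 (ι c) := fun χ' => rfl
  refine ⟨fun χ' h => ?_, fun χ' χ'' h h' β hβ hβ' => ?_, fun β => ?_⟩
  · rw [hfun]
    exact hg.1 (irrComp e.symm χ') h
  · rw [hfun] at hβ hβ'
    exact irrComp_injective e.symm (hg.2.1 _ _ h h' β hβ hβ')
  · obtain ⟨χ, hχ, hm⟩ := hg.2.2 β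
    refine ⟨irrComp e χ, ?_, ?_⟩
    · show Inv (irrComp e.symm (irrComp e χ))
      rw [irrComp_symm]
      exact hχ
    · have h1 : (fun c => (irrComp e χ).1 ((e.symm.toMonoidHom.comp ι) c)) = fun c => χ.1 (ι c) := by
        funext c
        simp [irrComp]
      rw [h1]
      exact hm

theorem glaub_of_bijective [Fintype G] (hp : 1 < p) (ι : C →* G) (hι : Function.Bijective ι) :
    Glaub p ι (fun _ => True) := by
  let e : C ≃* G := MulEquiv.ofBijective ι hι
  have hm : ∀ (χ : IrrCharacter G) (γ : IrrCharacter C),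
      mult (fun c => χ.1 (ι c)) γ = if irrComp e χ = γ then 1 else 0 := fun χ γ =>
    mult_irr (irrComp e χ) γ
  have hnd : ¬ p ∣ 1 := fun h => hp.ne' (Nat.dvd_one.1 h)
  refine ⟨fun χ _ => ⟨irrComp e χ, ?_, fun γ hγ => ?_⟩, fun χ χ' _ _ β hβ hβ' => ?_, fun β => ?_⟩
  · left
    rw [hm, if_pos rfl]
    rfl
  · rw [hm, if_neg (fun h => hγ h.symm)]
    exact dvd_zero p
  · rw [hm] at hβ hβ'
    have h1 : irrComp e χ = β := by
      by_contra h
      rw [if_neg h] at hβ
      exact hβ (dvd_zero p)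
    have h2 : irrComp e χ' = β := by
      by_contra h
      rw [if_neg h] at hβ'
      exact hβ' (dvd_zero p)
    exact irrComp_injective e (h1.trans h2.symm)
  · refine ⟨irrComp e.symm β, trivial, ?_⟩
    rw [hm, if_pos (irrComp_symm' e β)]
    exact hnd

end glaub

section comp

variable {D C : Type u} [Group D] [Fintype D] [Group C] [Fintype C]

theorem mult_comp [Fintype (IrrCharacter D)] (ι₂ : C →* D) {Ψ : D → ℂ} (hΨ : IsCharacter D Ψ)
    (γ : IrrCharacter C) :
    mult (fun c => Ψ (ι₂ c)) γ =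
      ∑ ψ : IrrCharacter D, mult Ψ ψ * mult (fun c => ψ.1 (ι₂ c)) γ := by
  have hch : IsCharacter C (fun c => Ψ (ι₂ c)) := Cfsg.Agent.Lib.CT.Ops.isCharacter_comp_hom ι₂ hΨ
  have h1 : (fun c => Ψ (ι₂ c)) =
      fun c => ∑ ψ : IrrCharacter D, ((mult Ψ ψ : ℂ) • fun c => ψ.1 (ι₂ c)) c := by
    funext c
    exact char_expand hΨ (ι₂ c)
  have h2 : (mult (fun c => Ψ (ι₂ c)) γ : ℂ) =
      ∑ ψ : IrrCharacter D, (mult Ψ ψ : ℂ) * (mult (fun c => ψ.1 (ι₂ c)) γ : ℂ) := by
    rw [mult_cast hch, h1, multC_sum]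
    apply Finset.sum_congr rfl
    intro ψ _
    rw [multC_smul, mult_cast (Cfsg.Agent.Lib.CT.Ops.isCharacter_comp_hom ι₂
      (Cfsg.Agent.Lib.CT.Wedderburn.isCharacter_of_irr ψ.2))]
  exact_mod_cast h2

theorem mult_comp_modEq (p : ℕ) [Fintype (IrrCharacter D)] (ι₂ : C →* D) {Ψ : D → ℂ}
    (hΨ : IsCharacter D Ψ) (ψ₀ : IrrCharacter D) (h : ∀ ψ, ψ ≠ ψ₀ → p ∣ mult Ψ ψ)
    (γ : IrrCharacter C) :
    (mult (fun c => Ψ (ι₂ c)) γ : ℤ) ≡
      (mult Ψ ψ₀ : ℤ) * (mult (fun c => ψ₀.1 (ι₂ c)) γ : ℤ) [ZMOD p] := by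
  classical
  rw [mult_comp ι₂ hΨ γ]
  push_cast
  rw [Int.modEq_iff_dvd, ← Finset.add_sum_erase Finset.univ _ (Finset.mem_univ ψ₀)]
  have h1 : (p : ℤ) ∣ ∑ ψ ∈ Finset.univ.erase ψ₀,
      (mult Ψ ψ : ℤ) * (mult (fun c => ψ.1 (ι₂ c)) γ : ℤ) := by
    apply Finset.dvd_sum
    intro ψ hψ
    exact Dvd.dvd.mul_right (Int.natCast_dvd_natCast.2 (h ψ (Finset.ne_of_mem_erase hψ))) _
  have h2 : ((mult Ψ ψ₀ : ℤ) * (mult (fun c => ψ₀.1 (ι₂ c)) γ : ℤ) -
      ((mult Ψ ψ₀ : ℤ) * (mult (fun c => ψ₀.1 (ι₂ c)) γ : ℤ) + ∑ ψ ∈ Finset.univ.erase ψ₀,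
      (mult Ψ ψ : ℤ) * (mult (fun c => ψ.1 (ι₂ c)) γ : ℤ))) = -∑ ψ ∈ Finset.univ.erase ψ₀,
      (mult Ψ ψ : ℤ) * (mult (fun c => ψ.1 (ι₂ c)) γ : ℤ) := by ring
  rw [h2]
  exact (dvd_neg.2 h1)

theorem pm_mul {p : ℕ} {a b : ℤ} (ha : a ≡ 1 [ZMOD p] ∨ a ≡ -1 [ZMOD p])
    (hb : b ≡ 1 [ZMOD p] ∨ b ≡ -1 [ZMOD p]) : a * b ≡ 1 [ZMOD p] ∨ a * b ≡ -1 [ZMOD p] := by
  rcases ha with ha | ha <;> rcases hb with hb | hb
  · left; simpa using ha.mul hb
  · right; simpa using ha.mul hb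
  · right; simpa using ha.mul hb
  · left; simpa using ha.mul hb

theorem dvd_iff_of_modEq {p : ℕ} (a m₁ m₂ : ℕ) (h : (a : ℤ) ≡ (m₁ : ℤ) * (m₂ : ℤ) [ZMOD p]) :
    p ∣ a ↔ p ∣ m₁ * m₂ := by
  constructor
  · intro h1
    have h2 : (a : ℤ) ≡ 0 [ZMOD p] := Int.modEq_zero_iff_dvd.2 (Int.natCast_dvd_natCast.2 h1)
    have h3 := Int.modEq_zero_iff_dvd.1 (h.symm.trans h2)
    exact_mod_cast h3
  · intro h1
    have h2 : ((m₁ : ℤ) * (m₂ : ℤ)) ≡ 0 [ZMOD p] :=
      Int.modEq_zero_iff_dvd.2 (by exact_mod_cast h1)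
    have h3 := Int.modEq_zero_iff_dvd.1 (h.trans h2)
    exact_mod_cast h3

/-- Composition of Glauberman correspondences. -/
theorem glaub_comp {G : Type u} [Group G] (p : ℕ) [Fact p.Prime] (ι₁ : D →* G) (ι₂ : C →* D)
    (Inv₁ Inv : IrrCharacter G → Prop) (Inv₂ : IrrCharacter D → Prop)
    (H1 : Glaub p ι₁ Inv₁) (H2 : Glaub p ι₂ Inv₂)
    (c1 : ∀ χ, Inv χ → Inv₁ χ)
    (c2 : ∀ χ, Inv χ → ∀ ψ : IrrCharacter D, ¬ p ∣ mult (fun d => χ.1 (ι₁ d)) ψ → Inv₂ ψ)
    (c3 : ∀ χ, Inv₁ χ → ∀ ψ : IrrCharacter D, ¬ p ∣ mult (fun d => χ.1 (ι₁ d)) ψ → Inv₂ ψ →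
      Inv χ) :
    Glaub p (ι₁.comp ι₂) Inv := by
  classical
  have hp : p.Prime := Fact.out
  have : Finite (IrrCharacter D) := finite_irr
  let _ : Fintype (IrrCharacter D) := Fintype.ofFinite _
  have hch : ∀ χ : IrrCharacter G, IsCharacter D (fun d => χ.1 (ι₁ d)) := fun χ =>
    Cfsg.Agent.Lib.CT.Ops.isCharacter_comp_hom ι₁
      (Cfsg.Agent.Lib.CT.Wedderburn.isCharacter_of_irr χ.2)
  have key : ∀ (χ : IrrCharacter G) (ψ₀ : IrrCharacter D),
      (∀ ψ, ψ ≠ ψ₀ → p ∣ mult (fun d => χ.1 (ι₁ d)) ψ) → ∀ γ : IrrCharacter C,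
      (mult (fun c => χ.1 ((ι₁.comp ι₂) c)) γ : ℤ) ≡
        (mult (fun d => χ.1 (ι₁ d)) ψ₀ : ℤ) * (mult (fun c => ψ₀.1 (ι₂ c)) γ : ℤ) [ZMOD p] :=
    fun χ ψ₀ h γ => mult_comp_modEq p ι₂ (hch χ) ψ₀ h γ
  refine ⟨fun χ hχ => ?_, fun χ χ' hχ hχ' β hβ hβ' => ?_, fun β => ?_⟩
  · obtain ⟨ψ₀, hψ₀, hψ₀'⟩ := H1.1 χ (c1 χ hχ)
    have hnd := not_dvd_of_modEq hp _ hψ₀
    obtain ⟨β, hβ, hβ'⟩ := H2.1 ψ₀ (c2 χ hχ ψ₀ hnd)
    refine ⟨β, ?_, fun γ hγ => ?_⟩
    · rcases pm_mul hψ₀ hβ with h | h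
      · left; exact (key χ ψ₀ hψ₀' β).trans h
      · right; exact (key χ ψ₀ hψ₀' β).trans h
    · rw [dvd_iff_of_modEq _ _ _ (key χ ψ₀ hψ₀' γ)]
      exact Dvd.dvd.mul_left (hβ' γ hγ) _
  · obtain ⟨ψ₀, hψ₀, hψ₀'⟩ := H1.1 χ (c1 χ hχ)
    have hnd := not_dvd_of_modEq hp _ hψ₀
    obtain ⟨ψ₁, hψ₁, hψ₁'⟩ := H1.1 χ' (c1 χ' hχ')
    have hnd' := not_dvd_of_modEq hp _ hψ₁
    rw [dvd_iff_of_modEq _ _ _ (key χ ψ₀ hψ₀' β)] at hβ
    rw [dvd_iff_of_modEq _ _ _ (key χ' ψ₁ hψ₁' β)] at hβ'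
    have h1 : ¬ p ∣ mult (fun c => ψ₀.1 (ι₂ c)) β := fun h => hβ (Dvd.dvd.mul_left h _)
    have h2 : ¬ p ∣ mult (fun c => ψ₁.1 (ι₂ c)) β := fun h => hβ' (Dvd.dvd.mul_left h _)
    have h3 : ψ₀ = ψ₁ := H2.2.1 ψ₀ ψ₁ (c2 χ hχ ψ₀ hnd) (c2 χ' hχ' ψ₁ hnd') β h1 h2
    rw [← h3] at hnd'
    exact H1.2.1 χ χ' (c1 χ hχ) (c1 χ' hχ') ψ₀ hnd hnd'
  · obtain ⟨ψ, hψ, hm⟩ := H2.2.2 β
    obtain ⟨χ, hχ₁, hm₁⟩ := H1.2.2 ψ
    have hχ : Inv χ := c3 χ hχ₁ ψ hm₁ hψ
    obtain ⟨ψ₀, hψ₀, hψ₀'⟩ := H1.1 χ hχ₁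
    have he : ψ = ψ₀ := by
      by_contra h
      exact hm₁ (hψ₀' ψ h)
    subst he
    refine ⟨χ, hχ, ?_⟩
    rw [dvd_iff_of_modEq _ _ _ (key χ ψ hψ₀' β)]
    intro h
    rcases hp.dvd_mul.1 h with h | h
    · exact hm₁ h
    · exact hm h

end comp

section primeOrder

variable {G : Type u} [Group G] [Fintype G] {C₀ : Type u} [Group C₀] [Fintype C₀] (p : ℕ)
  [Fact p.Prime]

/-- The Glauberman correspondence for an automorphism of order dividing `p`. -/
theorem glaub_aut (a : MulAut G) (ha : a ^ p = 1) (hpG : ¬ p ∣ Nat.card G) (ι : C₀ →* G)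
    (hι : Function.Injective ι) (hrange : ∀ g, g ∈ ι.range ↔ a g = g) :
    Glaub p ι (fun χ : IrrCharacter G => ∀ g, χ.1 (a g) = χ.1 g) := by
  classical
  have hp : p.Prime := Fact.out
  by_cases h1 : a = 1
  · subst h1
    have hbij : Function.Bijective ι := ⟨hι, fun g => (hrange g).2 rfl⟩
    exact glaub_congr p (fun χ => ⟨fun _ g => rfl, fun _ => trivial⟩)
      (glaub_of_bijective p hp.one_lt ι hbij)
  · have hord : orderOf a = p := orderOf_eq_prime ha h1
    let Z : Subgroup (MulAut G) := Subgroup.zpowers a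
    let φ : ↥Z →* MulAut G := Z.subtype
    let Γ := G ⋊[φ] ↥Z
    have hZcard : Nat.card ↥Z = p := by rw [Nat.card_zpowers, hord]
    have : Finite ↥Z := Nat.finite_of_card_ne_zero (by rw [hZcard]; exact hp.ne_zero)
    have : Finite Γ := Finite.of_equiv _ SemidirectProduct.equivProd.symm
    let _ : Fintype Γ := Fintype.ofFinite _
    let K : Subgroup Γ := (SemidirectProduct.inl : G →* Γ).range
    have hKker : K = (SemidirectProduct.rightHom : Γ →* ↥Z).ker :=
      SemidirectProduct.range_inl_eq_ker_rightHom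
    have : K.Normal := by rw [hKker]; infer_instance
    let _ : Fintype ↥K := Fintype.ofFinite _
    let e : G ≃* ↥K := MonoidHom.ofInjective SemidirectProduct.inl_injective
    have he : ∀ g, (e g : Γ) = SemidirectProduct.inl g := fun g => rfl
    let x : Γ := SemidirectProduct.inr ⟨a, Subgroup.mem_zpowers a⟩
    have hx : orderOf x = p := by
      rw [orderOf_injective (SemidirectProduct.inr : ↥Z →* Γ) SemidirectProduct.inr_injective,
        Subgroup.orderOf_mk, hord]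
    have hidx : K.index = p := by
      rw [hKker, Subgroup.index_ker,
        MonoidHom.range_eq_top.2 SemidirectProduct.rightHom_surjective, Subgroup.card_top, hZcard]
    have hpK : ¬ p ∣ Nat.card K := by
      rw [← Nat.card_congr e.toEquiv]
      exact hpG
    have hconj : ∀ g : G, x * SemidirectProduct.inl g * x⁻¹ = SemidirectProduct.inl (a g) := by
      intro g
      have := SemidirectProduct.inl_aut (φ := φ) ⟨a, Subgroup.mem_zpowers a⟩ g
      rw [map_inv] at this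
      exact this.symm
    let ιK : C₀ →* ↥K := e.toMonoidHom.comp ι
    have hιK : Function.Injective ιK := e.injective.comp hι
    have hrangeK : (K.subtype.comp ιK).range = K ⊓ Subgroup.centralizer {x} := by
      ext y
      constructor
      · rintro ⟨c, rfl⟩
        refine Subgroup.mem_inf.2 ⟨(ιK c).2, ?_⟩
        rw [Subgroup.mem_centralizer_iff]
        intro h hh
        rw [Set.mem_singleton_iff] at hh
        subst hh
        have h2 : ((K.subtype.comp ιK) c : Γ) = SemidirectProduct.inl (ι c) := rfl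
        rw [h2]
        have h3 := hconj (ι c)
        rw [(hrange (ι c)).1 ⟨c, rfl⟩] at h3
        calc x * SemidirectProduct.inl (ι c) = x * SemidirectProduct.inl (ι c) * x⁻¹ * x := by
              rw [inv_mul_cancel_right]
          _ = SemidirectProduct.inl (ι c) * x := by rw [h3]
      · intro hy
        obtain ⟨hyK, hyc⟩ := Subgroup.mem_inf.1 hy
        obtain ⟨g, rfl⟩ := hyK
        have h2 := Subgroup.mem_centralizer_iff.1 hyc x (Set.mem_singleton x)
        have h3 : SemidirectProduct.inl (a g) = (SemidirectProduct.inl g : Γ) := by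
          rw [← hconj g, h2, mul_inv_cancel_right]
        have h4 : a g = g := SemidirectProduct.inl_injective h3
        obtain ⟨c, hc⟩ := (hrange g).2 h4
        exact ⟨c, by rw [← hc]; rfl⟩
    have hcore := glaub_core K x p hidx hpK hx ιK hιK hrangeK
    have htr := glaub_transfer p e hcore
    have hcomp : e.symm.toMonoidHom.comp ιK = ι := MonoidHom.ext fun c => by simp [ιK]
    rw [hcomp] at htr
    have hek : ∀ g : G, MulAut.conjNormal x (e g) = e (a g) := fun g =>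
      Subtype.ext (by rw [MulAut.conjNormal_apply, he, he, hconj])
    refine glaub_congr p (fun χ => ⟨fun h g => ?_, fun h k => ?_⟩) htr
    · have h5 := h (e g)
      rw [hek] at h5
      simpa [irrComp] using h5
    · obtain ⟨g, rfl⟩ := e.surjective k
      rw [hek]
      simpa [irrComp] using h g

end primeOrder

section pGroup

/-- The subgroup of fixed points of an automorphism. -/
def fixSub {G : Type u} [Group G] (a : MulAut G) : Subgroup G where
  carrier := {g | a g = g}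
  mul_mem' := fun {x y} hx hy => by
    show a (x * y) = x * y
    rw [map_mul, show a x = x from hx, show a y = y from hy]
  one_mem' := map_one a
  inv_mem' := fun {x} hx => by
    show a x⁻¹ = x⁻¹
    rw [map_inv, show a x = x from hx]

theorem mem_fixSub {G : Type u} [Group G] (a : MulAut G) (g : G) : g ∈ fixSub a ↔ a g = g :=
  Iff.rfl

/-- Restriction of a group of automorphisms to an invariant subgroup. -/
def restrictAut {G : Type u} [Group G] (S : Subgroup (MulAut G)) (D : Subgroup G)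
    (hD : ∀ s ∈ S, ∀ d ∈ D, s d ∈ D) : ↥S →* MulAut ↥D where
  toFun s :=
    { toFun := fun d => ⟨s.1 d, hD s.1 s.2 d d.2⟩
      invFun := fun d => ⟨s.1⁻¹ d, hD s.1⁻¹ (S.inv_mem s.2) d d.2⟩
      left_inv := fun d => Subtype.ext (by simp)
      right_inv := fun d => Subtype.ext (by simp)
      map_mul' := fun d d' => Subtype.ext (by simp) }
  map_one' := by
    apply MulEquiv.ext
    intro d
    apply Subtype.ext
    rfl
  map_mul' := fun s t => by
    apply MulEquiv.ext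
    intro d
    apply Subtype.ext
    rfl

theorem restrictAut_apply {G : Type u} [Group G] (S : Subgroup (MulAut G)) (D : Subgroup G)
    (hD : ∀ s ∈ S, ∀ d ∈ D, s d ∈ D) (s : ↥S) (d : ↥D) :
    ((restrictAut S D hD s) d : G) = s.1 d := rfl

/-- The Glauberman correspondence for a `p`-group of automorphisms of a group of order prime to
`p`. -/
theorem glaub_pgroup_aux (p : ℕ) [Fact p.Prime] : ∀ (n : ℕ) (G : Type u) [Group G] [Fintype G]
    (S : Subgroup (MulAut G)) (C₀ : Type u) [Group C₀] [Fintype C₀] (ι : C₀ →* G),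
    Nat.card S = n → IsPGroup p S → ¬ p ∣ Nat.card G → Function.Injective ι →
    (∀ g, g ∈ ι.range ↔ ∀ s ∈ S, s g = g) →
    Glaub p ι (fun χ : IrrCharacter G => ∀ s ∈ S, ∀ g, χ.1 (s g) = χ.1 g) := by
  intro n
  induction n using Nat.strong_induction_on with
  | _ n ih =>
  intro G _ _ S C₀ _ _ ι hn hS hpG hι hrange
  classical
  have hp : p.Prime := Fact.out
  by_cases hbot : S = ⊥
  · have hbij : Function.Bijective ι := ⟨hι, fun g => (hrange g).2 (fun s hs => by
      rw [hbot, Subgroup.mem_bot] at hs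
      rw [hs]
      rfl)⟩
    refine glaub_congr p (fun χ => ⟨fun _ s hs g => ?_, fun _ => trivial⟩)
      (glaub_of_bijective p hp.one_lt ι hbij)
    rw [hbot, Subgroup.mem_bot] at hs
    rw [hs]
    rfl
  · have hnt : Nontrivial ↥S := (Subgroup.nontrivial_iff_ne_bot S).2 hbot
    have hcnt : Nontrivial (Subgroup.center ↥S) := hS.center_nontrivial
    have hcp : IsPGroup p (Subgroup.center ↥S) := hS.to_subgroup _
    have hdvd : p ∣ Nat.card (Subgroup.center ↥S) := by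
      obtain ⟨k, hk⟩ := IsPGroup.iff_card.1 hcp
      have h1 : 1 < Nat.card (Subgroup.center ↥S) := Finite.one_lt_card
      rw [hk] at h1 ⊢
      cases k with
      | zero => simp at h1
      | succ k => exact dvd_pow_self p (Nat.succ_ne_zero k)
    obtain ⟨z₀, hz₀⟩ := exists_prime_orderOf_dvd_card' p hdvd
    let z : MulAut G := ((z₀ : ↥S) : MulAut G)
    have hzS : z ∈ S := (z₀ : ↥S).2
    have hzord : orderOf z = p := by
      show orderOf ((z₀ : ↥S) : MulAut G) = p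
      rw [Subgroup.orderOf_coe, Subgroup.orderOf_coe]
      exact hz₀
    have hzc : ∀ s ∈ S, s * z = z * s := by
      intro s hs
      have := Subgroup.mem_center_iff.1 z₀.2 ⟨s, hs⟩
      exact congrArg Subtype.val this
    let D : Subgroup G := fixSub z
    let _ : Fintype ↥D := Fintype.ofFinite _
    have hDS : ∀ s ∈ S, ∀ d ∈ D, s d ∈ D := by
      intro s hs d hd
      show z (s d) = s d
      have h1 : z (s d) = (z * s) d := rfl
      rw [h1, ← hzc s hs]
      show s (z d) = s d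
      rw [show z d = d from hd]
    have H1 : Glaub p D.subtype (fun χ : IrrCharacter G => ∀ g, χ.1 (z g) = χ.1 g) := by
      refine glaub_aut p z ?_ hpG D.subtype D.subtype_injective ?_
      · rw [← hzord]
        exact pow_orderOf_eq_one z
      · intro g
        constructor
        · rintro ⟨d, rfl⟩
          exact d.2
        · intro h
          exact ⟨⟨g, h⟩, rfl⟩
    let r : ↥S →* MulAut ↥D := restrictAut S D hDS
    let S' : Subgroup (MulAut ↥D) := r.range
    have hS' : IsPGroup p S' := IsPGroup.of_surjective hS r.rangeRestrict r.rangeRestrict_surjective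
    have hr1 : r ⟨z, hzS⟩ = 1 := by
      apply MulEquiv.ext
      intro d
      apply Subtype.ext
      exact d.2
    have hz1 : (⟨z, hzS⟩ : ↥S) ≠ 1 := by
      intro h
      have h2 : z = 1 := congrArg Subtype.val h
      rw [h2, orderOf_one] at hzord
      exact hp.one_lt.ne hzord
    have hninj : ¬ Function.Injective r.rangeRestrict := by
      intro h
      apply hz1
      apply h
      apply Subtype.ext
      rw [map_one]
      exact hr1
    have hcard' : Nat.card S' < n := by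
      rw [← hn]
      let _ : Fintype ↥S := Fintype.ofFinite _
      let _ : Fintype ↥S' := Fintype.ofFinite _
      rw [Nat.card_eq_fintype_card, Nat.card_eq_fintype_card]
      exact Fintype.card_lt_of_surjective_not_injective r.rangeRestrict
        r.rangeRestrict_surjective hninj
    have hpD : ¬ p ∣ Nat.card ↥D := fun h => hpG (h.trans (Subgroup.card_subgroup_dvd_card D))
    have hιD : ∀ c, ι c ∈ D := fun c => (hrange (ι c)).1 ⟨c, rfl⟩ z hzS
    let ι₂ : C₀ →* ↥D := ι.codRestrict D hιD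
    have hι₂ : Function.Injective ι₂ := fun c c' h => hι (congrArg Subtype.val h)
    have hrange₂ : ∀ d, d ∈ ι₂.range ↔ ∀ s' ∈ S', s' d = d := by
      intro d
      constructor
      · rintro ⟨c, rfl⟩ s' ⟨s, rfl⟩
        apply Subtype.ext
        exact (hrange (ι c)).1 ⟨c, rfl⟩ s.1 s.2
      · intro h
        have h1 : ∀ s ∈ S, s d.1 = d.1 := fun s hs =>
          congrArg Subtype.val (h (r ⟨s, hs⟩) ⟨⟨s, hs⟩, rfl⟩)
        obtain ⟨c, hc⟩ := (hrange d.1).2 h1
        exact ⟨c, Subtype.ext hc⟩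
    have H2 := ih (Nat.card S') hcard' ↥D S' C₀ ι₂ rfl hS' hpD hι₂ hrange₂
    have hcomp : D.subtype.comp ι₂ = ι := MonoidHom.ext fun c => rfl
    rw [← hcomp]
    refine glaub_comp p D.subtype ι₂ _ _ _ H1 H2 ?_ ?_ ?_
    · intro χ hχ g
      exact hχ z hzS g
    · intro χ hχ ψ hψ s' hs' d
      obtain ⟨s, rfl⟩ := hs'
      obtain ⟨ψ₀, -, hψ₀⟩ := H1.1 χ (fun g => hχ z hzS g)
      have h1 : ψ = ψ₀ := by
        by_contra h
        exact hψ (hψ₀ ψ h)
      have h2 : irrComp (r s) ψ = ψ₀ := by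
        by_contra h
        apply hψ
        have h3 := mult_comp_equiv (r s) (fun d => χ.1 (D.subtype d)) ψ
        have hfun : (fun d : ↥D => χ.1 (D.subtype ((r s) d))) = fun d => χ.1 (D.subtype d) := by
          funext d
          exact hχ s.1 s.2 d.1
        rw [hfun] at h3
        rw [← h3]
        exact hψ₀ _ h
      have h3 : irrComp (r s) ψ = ψ := h2.trans h1.symm
      exact congrFun (congrArg Subtype.val h3) d
    · intro χ hχ ψ hψ hψinv s hs g
      have hχ' : ∀ g, (irrComp s χ).1 (z g) = (irrComp s χ).1 g := by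
        intro g
        show χ.1 (s (z g)) = χ.1 (s g)
        have h1 : s (z g) = z (s g) := by
          have := hzc s hs
          exact congrArg (fun f : MulAut G => f g) this
        rw [h1, hχ]
      have hm : mult (fun d => (irrComp s χ).1 (D.subtype d)) ψ =
          mult (fun d => χ.1 (D.subtype d)) ψ := by
        have h3 := mult_comp_equiv (r ⟨s, hs⟩) (fun d => χ.1 (D.subtype d)) ψ
        have hψ' : irrComp (r ⟨s, hs⟩) ψ = ψ := by
          apply Subtype.ext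
          funext d
          exact hψinv (r ⟨s, hs⟩) ⟨⟨s, hs⟩, rfl⟩ d
        rw [hψ'] at h3
        exact h3
      have h2 := H1.2.1 (irrComp s χ) χ hχ' hχ ψ (by rw [hm]; exact hψ) hψ
      exact congrFun (congrArg Subtype.val h2) g

/-- The Glauberman correspondence for a `p`-group of automorphisms of a group of order prime to
`p`. -/
theorem glaub_pgroup (p : ℕ) [Fact p.Prime] {G : Type u} [Group G] [Fintype G]
    (S : Subgroup (MulAut G)) {C₀ : Type u} [Group C₀] [Fintype C₀] (ι : C₀ →* G)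
    (hS : IsPGroup p S) (hpG : ¬ p ∣ Nat.card G) (hι : Function.Injective ι)
    (hrange : ∀ g, g ∈ ι.range ↔ ∀ s ∈ S, s g = g) :
    Glaub p ι (fun χ : IrrCharacter G => ∀ s ∈ S, ∀ g, χ.1 (s g) = χ.1 g) :=
  glaub_pgroup_aux p _ G S C₀ ι rfl hS hpG hι hrange

end pGroup

section statement

theorem classInner_eq_mult {C : Type u} [Group C] [Fintype C] {φ : C → ℂ} (hφ : IsCharacter C φ)
    (β : IrrCharacter C) : classInner φ β.1 = (mult φ β : ℂ) := by
  rw [mult_cast hφ, multC_def]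
  unfold classInner
  congr 1
  apply Finset.sum_congr rfl
  intro c _
  rw [Cfsg.Agent.Lib.CT.Wedderburn.char_apply_inv
    (Cfsg.Agent.Lib.CT.Wedderburn.isCharacter_of_irr β.2)]

/-- The Glauberman property, spelled out with `classInner`. -/
theorem glaub_statement {G C : Type u} [Group G] [Group C] [Fintype C] (p : ℕ) (hp : p.Prime)
    (ι : C →* G) (Inv : IrrCharacter G → Prop) (hg : Glaub p ι Inv) :
    (∀ χ : IrrCharacter G, Inv χ → ∃! β : IrrCharacter C, ∃ m : ℕ,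
        classInner (fun c => χ.1 (ι c)) β.1 = (m : ℂ) ∧ ¬ p ∣ m) ∧
    (∀ χ : IrrCharacter G, Inv χ → ∀ β : IrrCharacter C, ∀ m : ℕ,
        classInner (fun c => χ.1 (ι c)) β.1 = (m : ℂ) → ¬ p ∣ m →
        ((m : ℤ) ≡ 1 [ZMOD p] ∨ (m : ℤ) ≡ -1 [ZMOD p])) ∧
    (∀ χ χ' : IrrCharacter G, Inv χ → Inv χ' → ∀ β : IrrCharacter C, ∀ m m' : ℕ,
        classInner (fun c => χ.1 (ι c)) β.1 = (m : ℂ) → ¬ p ∣ m →
        classInner (fun c => χ'.1 (ι c)) β.1 = (m' : ℂ) → ¬ p ∣ m' → χ = χ') ∧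
    (∀ β : IrrCharacter C, ∃ χ : IrrCharacter G, Inv χ ∧ ∃ m : ℕ,
        classInner (fun c => χ.1 (ι c)) β.1 = (m : ℂ) ∧ ¬ p ∣ m) := by
  have hch : ∀ χ : IrrCharacter G, IsCharacter C (fun c => χ.1 (ι c)) := fun χ =>
    Cfsg.Agent.Lib.CT.Ops.isCharacter_comp_hom ι
      (Cfsg.Agent.Lib.CT.Wedderburn.isCharacter_of_irr χ.2)
  have hci : ∀ (χ : IrrCharacter G) (β : IrrCharacter C) (m : ℕ),
      classInner (fun c => χ.1 (ι c)) β.1 = (m : ℂ) ↔ mult (fun c => χ.1 (ι c)) β = m := by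
    intro χ β m
    rw [classInner_eq_mult (hch χ) β]
    exact Nat.cast_inj
  refine ⟨fun χ hχ => ?_, fun χ hχ β m hm hnd => ?_, fun χ χ' hχ hχ' β m m' hm hnd hm' hnd' => ?_,
    fun β => ?_⟩
  · obtain ⟨β, hβ, hβ'⟩ := hg.1 χ hχ
    refine ⟨β, ⟨_, (hci χ β _).2 rfl, not_dvd_of_modEq hp _ hβ⟩, ?_⟩
    rintro γ ⟨m, hm, hnd⟩
    by_contra h
    rw [hci] at hm
    rw [← hm] at hnd
    exact hnd (hβ' γ h)
  · obtain ⟨β₀, hβ₀, hβ₀'⟩ := hg.1 χ hχ
    rw [hci] at hm
    have h1 : β = β₀ := by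
      by_contra h
      rw [← hm] at hnd
      exact hnd (hβ₀' β h)
    rw [← hm, h1]
    exact hβ₀
  · rw [hci] at hm hm'
    rw [← hm] at hnd
    rw [← hm'] at hnd'
    exact hg.2.1 χ χ' hχ hχ' β hnd hnd'
  · obtain ⟨χ, hχ, hm⟩ := hg.2.2 β
    exact ⟨χ, hχ, _, (hci χ β _).2 rfl, hm⟩

end statement

end Cfsg.Agent.Lib.Helper81.Glaub
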