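import Mathlib
import Cfsg.Agent.Lib.Helper4.SchDefs
import Cfsg.Agent.Lib.Helper23.Cores
import Cfsg.Prelude.Def_Solvable

/-!
helper81: piece S4394/B2 for helper4 — a stability group of the chain `1 ≤ Z' ≤ O_p(G)`
lies in `O_p(G)` when `C_G(O_p(G)) ≤ O_p(G)`.
-/

set_option autoImplicit false

namespace Cfsg.Agent.Lib.Helper81.SchB2

open Cfsg.Agent.Lib.Helper4.SchDefs

theorem conj_pow_aux {G : Type*} [Group G] (h k u : G) (hu : h * k * h⁻¹ * k⁻¹ = u)
    (hcomm : h * u = u * h) (j : ℕ) : h ^ j * k * (h ^ j)⁻¹ = u ^ j * k := by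
  have hk : h * k * h⁻¹ = u * k := by
    rw [← hu]; group
  induction j with
  | zero => simp
  | succ j ih =>
    have hcj : h * u ^ j = u ^ j * h := by
      exact (Commute.pow_right (show Commute h u from hcomm) j).eq
    calc h ^ (j + 1) * k * (h ^ (j + 1))⁻¹
        = h * (h ^ j * k * (h ^ j)⁻¹) * h⁻¹ := by
          rw [pow_succ']; group
      _ = h * (u ^ j * k) * h⁻¹ := by rw [ih]
      _ = (h * u ^ j) * k * h⁻¹ := by group
      _ = u ^ j * (h * k * h⁻¹) := by rw [hcj]; group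
      _ = u ^ j * (u * k) := by rw [hk]
      _ = u ^ (j + 1) * k := by rw [pow_succ]; group

theorem eq_one_of_coprime_pow {G : Type*} [Group G] (x : G) (a b : ℕ) (hab : Nat.Coprime a b)
    (ha : x ^ a = 1) (hb : x ^ b = 1) : x = 1 := by
  have h1 : orderOf x ∣ a := orderOf_dvd_of_pow_eq_one ha
  have h2 : orderOf x ∣ b := orderOf_dvd_of_pow_eq_one hb
  have h3 : orderOf x ∣ Nat.gcd a b := Nat.dvd_gcd h1 h2
  rw [hab] at h3
  exact orderOf_eq_one_iff.mp (Nat.dvd_one.mp h3)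

theorem le_pCore_of_stab {G : Type*} [Group G] [Finite G] (p : ℕ) [Fact p.Prime]
    (hc : Subgroup.centralizer (Cfsg.pCore p G : Set G) ≤ Cfsg.pCore p G)
    (Z' S : Subgroup G) (hZn : Z'.Normal) (hZp : IsPGroup p Z')
    (h1 : ∀ s ∈ S, ∀ z ∈ Z', s * z = z * s)
    (h2 : ∀ s ∈ S, ∀ k ∈ Cfsg.pCore p G, s * k * s⁻¹ * k⁻¹ ∈ Z') : S ≤ Cfsg.pCore p G := by
  have hp : p.Prime := Fact.out
  have hKn : (Cfsg.pCore p G).Normal := by
    unfold Cfsg.pCore
    exact Subgroup.sSup_normal _ (fun H hH => hH.1)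
  have hKp : IsPGroup p (Cfsg.pCore p G) := Cfsg.Agent.Lib.Helper23.Cores.pCore_isPGroup p
  -- the stability group D
  let D : Subgroup G :=
    { carrier := {g | (∀ z ∈ Z', g * z = z * g) ∧ ∀ k ∈ Cfsg.pCore p G, g * k * g⁻¹ * k⁻¹ ∈ Z'}
      one_mem' := by
        refine ⟨fun z _ => by simp, fun k _ => ?_⟩
        have : (1 : G) * k * (1 : G)⁻¹ * k⁻¹ = 1 := by group
        rw [this]; exact Z'.one_mem
      mul_mem' := by
        rintro g h ⟨hg1, hg2⟩ ⟨hh1, hh2⟩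
        refine ⟨fun z hz => ?_, fun k hk => ?_⟩
        · calc g * h * z = g * (h * z) := by group
            _ = g * (z * h) := by rw [hh1 z hz]
            _ = (g * z) * h := by group
            _ = (z * g) * h := by rw [hg1 z hz]
            _ = z * (g * h) := by group
        · have e : g * h * k * (g * h)⁻¹ * k⁻¹
              = (g * (h * k * h⁻¹ * k⁻¹) * g⁻¹) * (g * k * g⁻¹ * k⁻¹) := by group
          rw [e]
          exact Z'.mul_mem (hZn.conj_mem _ (hh2 k hk) g) (hg2 k hk)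
      inv_mem' := by
        rintro g ⟨hg1, hg2⟩
        refine ⟨fun z hz => ?_, fun k hk => ?_⟩
        · have := hg1 z hz
          calc g⁻¹ * z = g⁻¹ * (z * g) * g⁻¹ := by group
            _ = g⁻¹ * (g * z) * g⁻¹ := by rw [this]
            _ = z * g⁻¹ := by group
        · have e : g⁻¹ * k * g⁻¹⁻¹ * k⁻¹ = g⁻¹ * (g * k * g⁻¹ * k⁻¹)⁻¹ * g⁻¹⁻¹ := by group
          rw [e]
          exact hZn.conj_mem _ (Z'.inv_mem (hg2 k hk)) g⁻¹ }
  have hDmem : ∀ g : G, g ∈ D ↔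
      ((∀ z ∈ Z', g * z = z * g) ∧ ∀ k ∈ Cfsg.pCore p G, g * k * g⁻¹ * k⁻¹ ∈ Z') := fun g => Iff.rfl
  have hDn : D.Normal := by
    refine ⟨fun g hg x => ?_⟩
    rw [hDmem] at hg ⊢
    obtain ⟨hg1, hg2⟩ := hg
    refine ⟨fun z hz => ?_, fun k hk => ?_⟩
    · have hz' : x⁻¹ * z * x⁻¹⁻¹ ∈ Z' := hZn.conj_mem z hz x⁻¹
      have := hg1 _ hz'
      calc x * g * x⁻¹ * z = x * (g * (x⁻¹ * z * x⁻¹⁻¹)) * x⁻¹ := by group
        _ = x * ((x⁻¹ * z * x⁻¹⁻¹) * g) * x⁻¹ := by rw [this]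
        _ = z * (x * g * x⁻¹) := by group
    · have hk' : x⁻¹ * k * x⁻¹⁻¹ ∈ Cfsg.pCore p G := hKn.conj_mem k hk x⁻¹
      have := hg2 _ hk'
      have e : x * g * x⁻¹ * k * (x * g * x⁻¹)⁻¹ * k⁻¹
          = x * (g * (x⁻¹ * k * x⁻¹⁻¹) * g⁻¹ * (x⁻¹ * k * x⁻¹⁻¹)⁻¹) * x⁻¹ := by group
      rw [e]
      exact hZn.conj_mem _ this x
  have hDp : IsPGroup p D := by
    rintro ⟨g, hg⟩
    have hpos : 0 < orderOf g := orderOf_pos g
    obtain ⟨a, m, hpm, hom⟩ := Nat.exists_eq_pow_mul_and_not_dvd hpos.ne' p hp.ne_one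
    refine ⟨a, ?_⟩
    have hh : g ^ p ^ a ∈ D := D.pow_mem hg _
    have hhm : (g ^ p ^ a) ^ m = 1 := by
      rw [← pow_mul, ← hom]; exact pow_orderOf_eq_one g
    have hcop : ∀ b : ℕ, Nat.Coprime m (p ^ b) := fun b =>
      Nat.Coprime.pow_right b ((Nat.Prime.coprime_iff_not_dvd hp).mpr hpm).symm
    have hcent : g ^ p ^ a ∈ Subgroup.centralizer (Cfsg.pCore p G : Set G) := by
      rw [Subgroup.mem_centralizer_iff]
      intro k hk
      have hk' : k ∈ Cfsg.pCore p G := hk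
      obtain ⟨hh1, hh2⟩ := (hDmem _).mp hh
      have hu := hh2 k hk'
      set h := g ^ p ^ a with hh_def
      set u := h * k * h⁻¹ * k⁻¹ with hu_def
      have hcomm : h * u = u * h := hh1 u hu
      have hj := conj_pow_aux h k u rfl hcomm m
      rw [hhm] at hj
      have hum : u ^ m = 1 := by
        have : k = u ^ m * k := by simpa using hj
        have h3 : u ^ m * k = 1 * k := by rw [one_mul]; exact this.symm
        exact mul_right_cancel h3
      obtain ⟨b, hb⟩ := hZp ⟨u, hu⟩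
      have hb' : u ^ p ^ b = 1 := by
        have := congrArg Subtype.val hb
        simpa using this
      have hu1 : u = 1 := eq_one_of_coprime_pow u m (p ^ b) (hcop b) hum hb'
      have : h * k * h⁻¹ * k⁻¹ = 1 := hu1
      calc k * h = (h * k * h⁻¹ * k⁻¹)⁻¹ * (h * k) := by group
        _ = h * k := by rw [this]; group
    have hK := hc hcent
    obtain ⟨c, hcc⟩ := hKp ⟨g ^ p ^ a, hK⟩
    have hc' : (g ^ p ^ a) ^ p ^ c = 1 := by
      have := congrArg Subtype.val hcc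
      simpa using this
    have h1' : g ^ p ^ a = 1 := eq_one_of_coprime_pow _ m (p ^ c) (hcop c) hhm hc'
    apply Subtype.ext
    simpa using h1'
  have hDle : D ≤ Cfsg.pCore p G := Cfsg.Agent.Lib.Helper23.Cores.le_pCore p D hDn hDp
  intro s hs
  exact hDle ((hDmem s).mpr ⟨h1 s hs, h2 s hs⟩)

end Cfsg.Agent.Lib.Helper81.SchB2
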