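import Mathlib
import Cfsg.Prelude.Def_Characters
import Cfsg.Agent.Lib.Helper81.Glaub
import Cfsg.Agent.Lib.Helper3.Card
import Cfsg.Agent.S0019
import Cfsg.Agent.S0160

set_option autoImplicit false

namespace Cfsg.Agent.Lib.Helper81.GlaubClass

open Cfsg
open Cfsg.Agent.Lib.Helper81.Irr Cfsg.Agent.Lib.Helper81.Basic Cfsg.Agent.Lib.Helper81.Expand
  Cfsg.Agent.Lib.Helper81.Mult Cfsg.Agent.Lib.Helper81.GlaubCore Cfsg.Agent.Lib.Helper81.Glaub

universe u

section fixed

variable {G : Type u} [Group G]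

/-- The subgroup of fixed points of a group of automorphisms. -/
def fixS (S : Subgroup (MulAut G)) : Subgroup G where
  carrier := {g | ∀ s ∈ S, s g = g}
  mul_mem' := fun {x y} hx hy s hs => by
    rw [map_mul, hx s hs, hy s hs]
  one_mem' := fun s _ => map_one s
  inv_mem' := fun {x} hx s hs => by
    rw [map_inv, hx s hs]

theorem mem_fixS (S : Subgroup (MulAut G)) (g : G) : g ∈ fixS S ↔ ∀ s ∈ S, s g = g := Iff.rfl

theorem isConj_inv {a b : G} (h : IsConj a b) : IsConj a⁻¹ b⁻¹ := by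
  obtain ⟨c, hc⟩ := isConj_iff.1 h
  refine isConj_iff.2 ⟨c, ?_⟩
  rw [← hc]
  group

theorem isConj_aut (s : MulAut G) {a b : G} (h : IsConj a b) : IsConj (s a) (s b) := by
  obtain ⟨c, hc⟩ := isConj_iff.1 h
  refine isConj_iff.2 ⟨s c, ?_⟩
  rw [← hc, map_mul, map_mul, map_inv]

theorem card_isConj_dvd [Finite G] (g : G) : Nat.card {y : G // IsConj g y} ∣ Nat.card G := by
  classical
  have := Fintype.ofFinite G
  have h1 : {y : G | IsConj g y} = MulAction.orbit (ConjAct G) g := by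
    ext y
    rw [ConjAct.mem_orbit_conjAct]
    exact ⟨fun h => h.symm, fun h => h.symm⟩
  have h2 : Nat.card {y : G // IsConj g y} = Nat.card (MulAction.orbit (ConjAct G) g) := by
    have : {y : G // IsConj g y} = ↥{y : G | IsConj g y} := rfl
    rw [this, h1]
  rw [h2]
  have h3 := MulAction.card_orbit_mul_card_stabilizer_eq_card_group (ConjAct G) g
  have h4 : Nat.card (ConjAct G) = Nat.card G := rfl
  rw [← h4, Nat.card_eq_fintype_card, Nat.card_eq_fintype_card, ← h3]
  exact Dvd.intro _ rfl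

/-- The map from classes of the fixed-point subgroup to classes of the group. -/
def classMap (S : Subgroup (MulAut G)) : ConjClasses ↥(fixS S) → ConjClasses G :=
  ConjClasses.map (fixS S).subtype

theorem classMap_mk (S : Subgroup (MulAut G)) (d : ↥(fixS S)) :
    classMap S (ConjClasses.mk d) = ConjClasses.mk d.1 := rfl

variable (p : ℕ) [Fact p.Prime] [Finite G] (S : Subgroup (MulAut G))

/-- An invariant conjugacy class contains a fixed point. -/
theorem exists_fixed_isConj (hS : IsPGroup p S) (hpG : ¬ p ∣ Nat.card G) (g : G)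
    (hg : ∀ s ∈ S, IsConj (s g) g) : ∃ d ∈ fixS S, IsConj g d := by
  classical
  let X := {y : G // IsConj g y}
  let _ : MulAction ↥S X :=
    { smul := fun s y => ⟨s.1 y.1, (hg s.1 s.2).symm.trans (isConj_aut s.1 y.2)⟩
      one_smul := fun y => Subtype.ext rfl
      mul_smul := fun s t y => Subtype.ext rfl }
  have hpX : ¬ p ∣ Nat.card X := fun h => hpG (h.trans (card_isConj_dvd g))
  obtain ⟨y, hy⟩ := hS.nonempty_fixed_point_of_prime_not_dvd_card X hpX
  refine ⟨y.1, fun s hs => ?_, y.2⟩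
  have := hy ⟨s, hs⟩
  exact congrArg Subtype.val this

omit [Finite G] in
/-- Fixed points conjugate in the group are conjugate by a fixed point. -/
theorem conj_in_fixed (hS : IsPGroup p S) (hpG : ¬ p ∣ Nat.card G) (d d' : G) (hd : d ∈ fixS S)
    (hd' : d' ∈ fixS S) (h : IsConj d d') : ∃ c ∈ fixS S, c * d * c⁻¹ = d' := by
  classical
  obtain ⟨g₀, hg₀⟩ := isConj_iff.1 h
  let X := {g : G // g * d * g⁻¹ = d'}
  let _ : MulAction ↥S X :=
    { smul := fun s y => ⟨s.1 y.1, by
        have h1 := congrArg s.1 y.2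
        rw [map_mul, map_mul, map_inv, hd s.1 s.2, hd' s.1 s.2] at h1
        exact h1⟩
      one_smul := fun y => Subtype.ext rfl
      mul_smul := fun s t y => Subtype.ext rfl }
  let f : ↥(Subgroup.centralizer ({d} : Set G)) → X := fun c => ⟨g₀ * c.1, by
    have hc : d * c.1 = c.1 * d := Subgroup.mem_centralizer_iff.1 c.2 d (Set.mem_singleton d)
    rw [← hg₀]
    calc g₀ * c.1 * d * (g₀ * c.1)⁻¹ = g₀ * (c.1 * d) * c.1⁻¹ * g₀⁻¹ := by group
      _ = g₀ * (d * c.1) * c.1⁻¹ * g₀⁻¹ := by rw [hc]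
      _ = g₀ * d * g₀⁻¹ := by group⟩
  have hf : Function.Bijective f := by
    constructor
    · intro c c' hcc
      have h1 : g₀ * c.1 = g₀ * c'.1 := congrArg Subtype.val hcc
      exact Subtype.ext (mul_left_cancel h1)
    · intro y
      refine ⟨⟨g₀⁻¹ * y.1, ?_⟩, Subtype.ext ?_⟩
      · rw [Subgroup.mem_centralizer_iff]
        intro z hz
        rw [Set.mem_singleton_iff] at hz
        subst hz
        have h1 : y.1 * z * y.1⁻¹ = g₀ * z * g₀⁻¹ := by rw [y.2, hg₀]
        calc z * (g₀⁻¹ * y.1) = g₀⁻¹ * (g₀ * z * g₀⁻¹) * y.1 := by group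
          _ = g₀⁻¹ * (y.1 * z * y.1⁻¹) * y.1 := by rw [h1]
          _ = g₀⁻¹ * y.1 * z := by group
      · show g₀ * (g₀⁻¹ * y.1) = y.1
        group
  have hcard : Nat.card X = Nat.card ↥(Subgroup.centralizer ({d} : Set G)) :=
    (Nat.card_congr (Equiv.ofBijective f hf)).symm
  have hpX : ¬ p ∣ Nat.card X := by
    rw [hcard]
    exact fun h => hpG (h.trans (Subgroup.card_subgroup_dvd_card _))
  obtain ⟨y, hy⟩ := hS.nonempty_fixed_point_of_prime_not_dvd_card X hpX
  refine ⟨y.1, fun s hs => ?_, y.2⟩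
  have := hy ⟨s, hs⟩
  exact congrArg Subtype.val this

omit [Finite G] in
theorem classMap_injective (hS : IsPGroup p S) (hpG : ¬ p ∣ Nat.card G) :
    Function.Injective (classMap S) := by
  intro L L' h
  obtain ⟨d, rfl⟩ := ConjClasses.exists_rep L
  obtain ⟨d', rfl⟩ := ConjClasses.exists_rep L'
  rw [classMap_mk, classMap_mk, ConjClasses.mk_eq_mk_iff_isConj] at h
  obtain ⟨c, hc, hcd⟩ := conj_in_fixed p S hS hpG d.1 d'.1 d.2 d'.2 h
  rw [ConjClasses.mk_eq_mk_iff_isConj]
  exact isConj_iff.2 ⟨⟨c, hc⟩, Subtype.ext hcd⟩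

theorem classMap_range (hS : IsPGroup p S) (hpG : ¬ p ∣ Nat.card G) (K : ConjClasses G) :
    (∀ g, ConjClasses.mk g = K → ∀ s ∈ S, ConjClasses.mk (s g) = K) ↔
      ∃ L, classMap S L = K := by
  constructor
  · intro h
    obtain ⟨g, rfl⟩ := ConjClasses.exists_rep K
    have h1 : ∀ s ∈ S, IsConj (s g) g := fun s hs =>
      ConjClasses.mk_eq_mk_iff_isConj.1 (h g rfl s hs)
    obtain ⟨d, hd, hgd⟩ := exists_fixed_isConj p S hS hpG g h1
    exact ⟨ConjClasses.mk ⟨d, hd⟩, (ConjClasses.mk_eq_mk_iff_isConj.2 hgd).symm⟩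
  · rintro ⟨L, rfl⟩ g hg s hs
    obtain ⟨d, rfl⟩ := ConjClasses.exists_rep L
    rw [classMap_mk] at hg ⊢
    rw [ConjClasses.mk_eq_mk_iff_isConj] at hg ⊢
    have h1 := isConj_aut s hg
    rw [d.2 s hs] at h1
    exact h1

end fixed

section counting

/-- Counting along an injective map with a described image. -/
theorem card_subtype_of_injective {A B : Type*} (F : A → B) (hF : Function.Injective F)
    (Q : B → Prop) (hQ : ∀ b, Q b ↔ ∃ a, F a = b) (RA : A → Prop) (RB : B → Prop)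
    (hR : ∀ a, RA a ↔ RB (F a)) : Nat.card {a // RA a} = Nat.card {b // Q b ∧ RB b} := by
  let f : {a // RA a} → {b // Q b ∧ RB b} := fun a =>
    ⟨F a.1, (hQ _).2 ⟨a.1, rfl⟩, (hR a.1).1 a.2⟩
  have hf : Function.Bijective f := by
    constructor
    · intro a a' h
      exact Subtype.ext (hF (congrArg Subtype.val h))
    · rintro ⟨b, hb, hb'⟩
      obtain ⟨a, rfl⟩ := (hQ b).1 hb
      exact ⟨⟨a, (hR a).2 hb'⟩, rfl⟩
  exact Nat.card_congr (Equiv.ofBijective f hf)

/-- Counting along a Glauberman correspondence. -/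
theorem glaub_card {G C : Type u} [Group G] [Group C] [Fintype C] (p : ℕ) (hp : p.Prime)
    (ι : C →* G) (Inv : IrrCharacter G → Prop) (hg : Glaub p ι Inv)
    (RA : IrrCharacter G → Prop) (RB : IrrCharacter C → Prop)
    (hR : ∀ χ, Inv χ → ∀ β, ¬ p ∣ mult (fun c => χ.1 (ι c)) β → (RA χ ↔ RB β)) :
    Nat.card {χ : IrrCharacter G // Inv χ ∧ RA χ} = Nat.card {β : IrrCharacter C // RB β} := by
  have hex : ∀ χ : {χ : IrrCharacter G // Inv χ ∧ RA χ},
      ∃ β : IrrCharacter C, ¬ p ∣ mult (fun c => χ.1.1 (ι c)) β := by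
    intro χ
    obtain ⟨β, hβ, -⟩ := hg.1 χ.1 χ.2.1
    exact ⟨β, not_dvd_of_modEq hp _ hβ⟩
  choose f hf using hex
  let F : {χ : IrrCharacter G // Inv χ ∧ RA χ} → {β : IrrCharacter C // RB β} := fun χ =>
    ⟨f χ, (hR χ.1 χ.2.1 (f χ) (hf χ)).1 χ.2.2⟩
  have hF : Function.Bijective F := by
    constructor
    · intro χ χ' h
      have h1 : f χ = f χ' := congrArg Subtype.val h
      apply Subtype.ext
      exact hg.2.1 χ.1 χ'.1 χ.2.1 χ'.2.1 (f χ) (hf χ) (by rw [h1]; exact hf χ')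
    · rintro ⟨β, hβ⟩
      obtain ⟨χ, hχ, hm⟩ := hg.2.2 β
      have hRA : RA χ := (hR χ hχ β hm).2 hβ
      refine ⟨⟨χ, hχ, hRA⟩, Subtype.ext ?_⟩
      show f ⟨χ, hχ, hRA⟩ = β
      obtain ⟨β₀, -, hβ₀⟩ := hg.1 χ hχ
      have e1 : f ⟨χ, hχ, hRA⟩ = β₀ := by
        by_contra h
        exact hf ⟨χ, hχ, hRA⟩ (hβ₀ _ h)
      have e2 : β = β₀ := by
        by_contra h
        exact hm (hβ₀ _ h)
      rw [e1, e2]
  exact Nat.card_congr (Equiv.ofBijective F hF)

end counting

section equivariant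

variable {G : Type u} [Group G]

theorem fixS_invariant (S P : Subgroup (MulAut G))
    (hnorm : ∀ s ∈ S, ∀ a ∈ P, s * a * s⁻¹ ∈ P) : ∀ s ∈ S, ∀ d ∈ fixS P, s d ∈ fixS P := by
  intro s hs d hd a ha
  have h1 : s⁻¹ * a * s ∈ P := by simpa using hnorm s⁻¹ (S.inv_mem hs) a ha
  have h2 : (s⁻¹ * a * s) d = d := hd _ h1
  have h3 : (s⁻¹ * a * s) d = s⁻¹ (a (s d)) := rfl
  rw [h3] at h2
  have h4 := congrArg s h2
  rw [MulAut.apply_inv_self] at h4
  exact h4

variable [Fintype G] (p : ℕ) [Fact p.Prime]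

theorem glaub_fixS (P : Subgroup (MulAut G)) [Fintype ↥(fixS P)] (hP : IsPGroup p P)
    (hpG : ¬ p ∣ Nat.card G) :
    Glaub p (fixS P).subtype (fun χ : IrrCharacter G => ∀ a ∈ P, ∀ g, χ.1 (a g) = χ.1 g) := by
  refine glaub_pgroup p P (fixS P).subtype hP hpG (fixS P).subtype_injective ?_
  intro g
  constructor
  · rintro ⟨d, rfl⟩
    exact d.2
  · intro h
    exact ⟨⟨g, h⟩, rfl⟩

/-- Character side of the induction step for a normal `p`-subgroup `P` of `S`. -/
theorem card_chars_step (S P : Subgroup (MulAut G)) (hPS : P ≤ S)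
    (hnorm : ∀ s ∈ S, ∀ a ∈ P, s * a * s⁻¹ ∈ P) (hP : IsPGroup p P) (hpG : ¬ p ∣ Nat.card G)
    (hDS : ∀ s ∈ S, ∀ d ∈ fixS P, s d ∈ fixS P) :
    Nat.card {χ : IrrCharacter G // ∀ s ∈ S, ∀ g, χ.1 (s g) = χ.1 g} =
      Nat.card {ψ : IrrCharacter ↥(fixS P) //
        ∀ s' ∈ (restrictAut S (fixS P) hDS).range, ∀ d, ψ.1 (s' d) = ψ.1 d} := by
  classical
  have hp : p.Prime := Fact.out
  let _ : Fintype ↥(fixS P) := Fintype.ofFinite _
  have hg := glaub_fixS p P hP hpG
  have h1 : Nat.card {χ : IrrCharacter G // ∀ s ∈ S, ∀ g, χ.1 (s g) = χ.1 g} =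
      Nat.card {χ : IrrCharacter G // (∀ a ∈ P, ∀ g, χ.1 (a g) = χ.1 g) ∧
        ∀ s ∈ S, ∀ g, χ.1 (s g) = χ.1 g} :=
    Nat.card_congr (Equiv.subtypeEquivRight (fun χ =>
      ⟨fun h => ⟨fun a ha => h a (hPS ha), h⟩, fun h => h.2⟩))
  rw [h1]
  let r := restrictAut S (fixS P) hDS
  refine glaub_card p hp (fixS P).subtype _ hg _ _ ?_
  intro χ hχ ψ hψ
  constructor
  · rintro hχS s' ⟨s, rfl⟩ d
    obtain ⟨ψ₀, -, hψ₀⟩ := hg.1 χ hχ
    have e1 : ψ = ψ₀ := by
      by_contra h
      exact hψ (hψ₀ ψ h)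
    have e2 : irrComp (r s) ψ = ψ₀ := by
      by_contra h
      apply hψ
      have h3 := mult_comp_equiv (r s) (fun d => χ.1 ((fixS P).subtype d)) ψ
      have hfun : (fun d : ↥(fixS P) => χ.1 ((fixS P).subtype ((r s) d))) =
          fun d => χ.1 ((fixS P).subtype d) := by
        funext d
        exact hχS s.1 s.2 d.1
      rw [hfun] at h3
      rw [← h3]
      exact hψ₀ _ h
    have e3 : irrComp (r s) ψ = ψ := e2.trans e1.symm
    exact congrFun (congrArg Subtype.val e3) d
  · intro hψS s hs g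
    have hχ' : ∀ a ∈ P, ∀ g, (irrComp s χ).1 (a g) = (irrComp s χ).1 g := by
      intro a ha g
      show χ.1 (s (a g)) = χ.1 (s g)
      have h2 : s (a g) = (s * a * s⁻¹) (s g) := by
        show s (a g) = s (a (s⁻¹ (s g)))
        rw [MulAut.inv_apply_self]
      rw [h2, hχ _ (hnorm s hs a ha)]
    have hm : mult (fun d => (irrComp s χ).1 ((fixS P).subtype d)) ψ =
        mult (fun d => χ.1 ((fixS P).subtype d)) ψ := by
      have h3 := mult_comp_equiv (r ⟨s, hs⟩) (fun d => χ.1 ((fixS P).subtype d)) ψ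
      have hψ' : irrComp (r ⟨s, hs⟩) ψ = ψ := by
        apply Subtype.ext
        funext d
        exact hψS (r ⟨s, hs⟩) ⟨⟨s, hs⟩, rfl⟩ d
      rw [hψ'] at h3
      exact h3
    have h2 := hg.2.1 (irrComp s χ) χ hχ' hχ ψ (by rw [hm]; exact hψ) hψ
    exact congrFun (congrArg Subtype.val h2) g

/-- Class side of the induction step for a normal `p`-subgroup `P` of `S`. -/
theorem card_classes_step (S P : Subgroup (MulAut G)) (hPS : P ≤ S) (hP : IsPGroup p P)
    (hpG : ¬ p ∣ Nat.card G) (hDS : ∀ s ∈ S, ∀ d ∈ fixS P, s d ∈ fixS P) :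
    Nat.card {L : ConjClasses ↥(fixS P) // ∀ d, ConjClasses.mk d = L →
        ∀ s' ∈ (restrictAut S (fixS P) hDS).range, ConjClasses.mk (s' d) = L} =
      Nat.card {K : ConjClasses G // ∀ g, ConjClasses.mk g = K →
        ∀ s ∈ S, ConjClasses.mk (s g) = K} := by
  classical
  let r := restrictAut S (fixS P) hDS
  have h1 := card_subtype_of_injective (classMap P) (classMap_injective p P hP hpG)
    (fun K : ConjClasses G => ∀ g, ConjClasses.mk g = K → ∀ a ∈ P, ConjClasses.mk (a g) = K)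
    (classMap_range p P hP hpG)
    (fun L : ConjClasses ↥(fixS P) => ∀ d, ConjClasses.mk d = L →
        ∀ s' ∈ (restrictAut S (fixS P) hDS).range, ConjClasses.mk (s' d) = L)
    (fun K : ConjClasses G => ∀ g, ConjClasses.mk g = K → ∀ s ∈ S, ConjClasses.mk (s g) = K)
    (by
      intro L
      obtain ⟨d, rfl⟩ := ConjClasses.exists_rep L
      constructor
      · intro h g hg s hs
        rw [classMap_mk] at hg ⊢
        rw [ConjClasses.mk_eq_mk_iff_isConj] at hg ⊢
        have h2 := isConj_aut s hg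
        have h3 := h d rfl (r ⟨s, hs⟩) ⟨⟨s, hs⟩, rfl⟩
        rw [ConjClasses.mk_eq_mk_iff_isConj] at h3
        have h4 : IsConj (s d.1) d.1 := by
          obtain ⟨c, hc⟩ := isConj_iff.1 h3
          exact isConj_iff.2 ⟨c.1, congrArg Subtype.val hc⟩
        exact h2.trans h4
      · rintro h d₁ hd₁ s' ⟨s, rfl⟩
        rw [ConjClasses.mk_eq_mk_iff_isConj] at hd₁ ⊢
        have h2 : IsConj d₁.1 d.1 := by
          obtain ⟨c, hc⟩ := isConj_iff.1 hd₁
          exact isConj_iff.2 ⟨c.1, congrArg Subtype.val hc⟩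
        have h3 := h d₁.1 (by rw [classMap_mk]; exact ConjClasses.mk_eq_mk_iff_isConj.2 h2)
          s.1 s.2
        rw [classMap_mk, ConjClasses.mk_eq_mk_iff_isConj] at h3
        obtain ⟨c, hc, hcd⟩ := conj_in_fixed p P hP hpG (s.1 d₁.1) d.1 ((r s) d₁).2 d.2 h3
        exact isConj_iff.2 ⟨⟨c, hc⟩, Subtype.ext hcd⟩)
  rw [h1]
  exact Nat.card_congr (Equiv.subtypeEquivRight (fun K =>
    ⟨fun h => h.2, fun h => ⟨fun g hg a ha => h g hg a (hPS ha), h⟩⟩))

end equivariant

section solvable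

/-- A solvable group of automorphisms of coprime order fixes as many irreducible characters as
conjugacy classes. -/
theorem card_inv_chars_eq_classes_aux : ∀ (n : ℕ) (G : Type u) [Group G] [Fintype G]
    (S : Subgroup (MulAut G)), Nat.card S = n → Group.IsSolvable S →
    (Nat.card G).Coprime (Nat.card S) →
    Nat.card {χ : IrrCharacter G // ∀ s ∈ S, ∀ g, χ.1 (s g) = χ.1 g} =
      Nat.card {K : ConjClasses G // ∀ g, ConjClasses.mk g = K →
        ∀ s ∈ S, ConjClasses.mk (s g) = K} := by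
  intro n
  induction n using Nat.strong_induction_on with
  | _ n ih =>
  intro G _ _ S hn hsolv hcop
  classical
  by_cases hbot : S = ⊥
  · have h1 : Nat.card {χ : IrrCharacter G // ∀ s ∈ S, ∀ g, χ.1 (s g) = χ.1 g} =
        Nat.card (IrrCharacter G) :=
      Nat.card_congr (Equiv.subtypeUnivEquiv (fun χ s hs g => by
        rw [hbot, Subgroup.mem_bot] at hs
        rw [hs]
        rfl))
    have h2 : Nat.card {K : ConjClasses G // ∀ g, ConjClasses.mk g = K →
        ∀ s ∈ S, ConjClasses.mk (s g) = K} = Nat.card (ConjClasses G) :=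
      Nat.card_congr (Equiv.subtypeUnivEquiv (fun K g hg s hs => by
        rw [hbot, Subgroup.mem_bot] at hs
        rw [hs]
        exact hg))
    rw [h1, h2]
    exact Cfsg.Agent.Lib.Helper3.Card.card_irrCharacter
  · have hnt : Nontrivial ↥S := (Subgroup.nontrivial_iff_ne_bot S).2 hbot
    have hsolv2 : Group.IsSolvable ↥S := hsolv
    obtain ⟨p, hp, N, hNn, hNp, hNbot⟩ := Cfsg.Agent.S0019.exists_normal_pgroup ↥S
    have : Fact p.Prime := ⟨hp⟩
    let P : Subgroup (MulAut G) := N.map S.subtype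
    have hPS : P ≤ S := Subgroup.map_subtype_le N
    have hnorm : ∀ s ∈ S, ∀ a ∈ P, s * a * s⁻¹ ∈ P := by
      rintro s hs a ⟨n, hn, rfl⟩
      exact ⟨⟨s, hs⟩ * n * ⟨s, hs⟩⁻¹, hNn.conj_mem n hn ⟨s, hs⟩, rfl⟩
    have hP : IsPGroup p P := hNp.map S.subtype
    obtain ⟨n₀, hn₀N, hn₀1⟩ : ∃ n₀ ∈ N, n₀ ≠ 1 := by
      by_contra h
      push Not at h
      exact hNbot ((Subgroup.eq_bot_iff_forall N).2 h)
    let a₀ : MulAut G := n₀.1
    have ha₀P : a₀ ∈ P := ⟨n₀, hn₀N, rfl⟩
    have ha₀1 : a₀ ≠ 1 := fun h => hn₀1 (Subtype.ext h)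
    have hpS : p ∣ Nat.card S := by
      have h1 : p ∣ orderOf a₀ := by
        obtain ⟨k, hk⟩ := (IsPGroup.iff_orderOf.1 hP) ⟨a₀, ha₀P⟩
        rw [Subgroup.orderOf_mk] at hk
        rw [hk]
        cases k with
        | zero =>
          exfalso
          rw [pow_zero, orderOf_eq_one_iff] at hk
          exact ha₀1 hk
        | succ k => exact dvd_pow_self p (Nat.succ_ne_zero k)
      have h2 : orderOf a₀ ∣ Nat.card S := by
        have := orderOf_dvd_natCard (⟨a₀, hPS ha₀P⟩ : ↥S)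
        rwa [Subgroup.orderOf_mk] at this
      exact h1.trans h2
    have hpG : ¬ p ∣ Nat.card G := by
      intro h
      have h2 := Nat.dvd_gcd h hpS
      rw [hcop] at h2
      exact hp.one_lt.ne' (Nat.dvd_one.1 h2)
    have hDS := fixS_invariant S P hnorm
    let _ : Fintype ↥(fixS P) := Fintype.ofFinite _
    let r : ↥S →* MulAut ↥(fixS P) := restrictAut S (fixS P) hDS
    have hr1 : r ⟨a₀, hPS ha₀P⟩ = 1 := by
      apply MulEquiv.ext
      intro d
      apply Subtype.ext
      exact d.2 a₀ ha₀P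
    have hninj : ¬ Function.Injective r.rangeRestrict := by
      intro h
      have h1 : (⟨a₀, hPS ha₀P⟩ : ↥S) = 1 := by
        apply h
        apply Subtype.ext
        rw [map_one]
        exact hr1
      exact ha₀1 (congrArg Subtype.val h1)
    have hcard' : Nat.card r.range < n := by
      rw [← hn]
      let _ : Fintype ↥S := Fintype.ofFinite _
      let _ : Fintype ↥r.range := Fintype.ofFinite _
      rw [Nat.card_eq_fintype_card, Nat.card_eq_fintype_card]
      exact Fintype.card_lt_of_surjective_not_injective r.rangeRestrict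
        r.rangeRestrict_surjective hninj
    have hsolv' : Group.IsSolvable ↥r.range := Group.isSolvable_of_surjective r.rangeRestrict_surjective
    have hcop' : (Nat.card ↥(fixS P)).Coprime (Nat.card r.range) :=
      (hcop.coprime_dvd_left (Subgroup.card_subgroup_dvd_card _)).coprime_dvd_right
        (Subgroup.card_range_dvd r)
    have hIH := ih (Nat.card r.range) hcard' ↥(fixS P) r.range rfl hsolv' hcop'
    rw [card_chars_step p S P hPS hnorm hP hpG hDS, hIH,
      card_classes_step p S P hPS hP hpG hDS]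

/-- A solvable group of automorphisms of coprime order fixes as many irreducible characters as
conjugacy classes. -/
theorem card_inv_chars_eq_classes {G : Type u} [Group G] [Fintype G] (S : Subgroup (MulAut G))
    (hsolv : Group.IsSolvable S) (hcop : (Nat.card G).Coprime (Nat.card S)) :
    Nat.card {χ : IrrCharacter G // ∀ s ∈ S, ∀ g, χ.1 (s g) = χ.1 g} =
      Nat.card {K : ConjClasses G // ∀ g, ConjClasses.mk g = K →
        ∀ s ∈ S, ConjClasses.mk (s g) = K} :=
  card_inv_chars_eq_classes_aux _ G S rfl hsolv hcop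

end solvable

end Cfsg.Agent.Lib.Helper81.GlaubClass
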