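import Mathlib
import Cfsg.Prelude.Def_Characters
import Cfsg.Agent.Lib.Helper81.GlaubClass

set_option autoImplicit false

namespace Cfsg.Agent.Lib.Helper81.GlaubReal

open Cfsg
open Cfsg.Agent.Lib.Helper81.Irr Cfsg.Agent.Lib.Helper81.Basic Cfsg.Agent.Lib.Helper81.Expand
  Cfsg.Agent.Lib.Helper81.Mult Cfsg.Agent.Lib.Helper81.GlaubCore Cfsg.Agent.Lib.Helper81.Glaub
  Cfsg.Agent.Lib.Helper81.GlaubClass

universe u

/-- The complex conjugate of an irreducible character. -/
noncomputable def irrConj {G : Type u} [Group G] (χ : IrrCharacter G) : IrrCharacter G :=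
  ⟨fun g => χ.1 g⁻¹, Cfsg.Agent.Lib.CT.Ops.isIrrCharacter_inv_arg χ.2⟩

theorem real_iff_irrConj {G : Type u} [Group G] [Finite G] (χ : IrrCharacter G) :
    (∀ g, (χ.1 g).im = 0) ↔ irrConj χ = χ := by
  constructor
  · intro h
    apply Subtype.ext
    funext g
    show χ.1 g⁻¹ = χ.1 g
    rw [Cfsg.Agent.Lib.CT.Wedderburn.char_apply_inv
      (Cfsg.Agent.Lib.CT.Wedderburn.isCharacter_of_irr χ.2)]
    exact Complex.conj_eq_iff_im.2 (h g)
  · intro h g
    have h1 : χ.1 g⁻¹ = χ.1 g := congrFun (congrArg Subtype.val h) g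
    rw [Cfsg.Agent.Lib.CT.Wedderburn.char_apply_inv
      (Cfsg.Agent.Lib.CT.Wedderburn.isCharacter_of_irr χ.2)] at h1
    exact Complex.conj_eq_iff_im.1 h1

theorem mult_irrConj {G C : Type u} [Group G] [Group C] [Fintype C] (ι : C →* G)
    (χ : IrrCharacter G) (β : IrrCharacter C) :
    mult (fun c => (irrConj χ).1 (ι c)) (irrConj β) = mult (fun c => χ.1 (ι c)) β := by
  have h : multC (fun c => (irrConj χ).1 (ι c)) (irrConj β) = multC (fun c => χ.1 (ι c)) β := by
    rw [multC_def, multC_def]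
    congr 1
    rw [← Equiv.sum_comp (Equiv.inv C) (fun c => χ.1 (ι c) * β.1 c⁻¹)]
    apply Finset.sum_congr rfl
    intro c _
    show χ.1 (ι c)⁻¹ * β.1 (c⁻¹)⁻¹ = χ.1 (ι c⁻¹) * β.1 (c⁻¹)⁻¹
    rw [map_inv]
  unfold mult
  rw [h]

/-- A Glauberman correspondence preserves real-valuedness. -/
theorem glaub_card_real {G C : Type u} [Group G] [Finite G] [Group C] [Fintype C] (p : ℕ)
    (hp : p.Prime) (ι : C →* G) (Inv : IrrCharacter G → Prop) (hg : Glaub p ι Inv)
    (hInv : ∀ χ, Inv χ → Inv (irrConj χ)) :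
    Nat.card {χ : IrrCharacter G // Inv χ ∧ ∀ g, (χ.1 g).im = 0} =
      Nat.card {β : IrrCharacter C // ∀ c, (β.1 c).im = 0} := by
  refine glaub_card p hp ι Inv hg _ _ ?_
  intro χ hχ β hβ
  rw [real_iff_irrConj, real_iff_irrConj]
  obtain ⟨β₀, -, hβ₀⟩ := hg.1 χ hχ
  have e1 : β = β₀ := by
    by_contra h
    exact hβ (hβ₀ β h)
  constructor
  · intro h
    have h1 := mult_irrConj ι χ β
    rw [h] at h1
    have e2 : irrConj β = β₀ := by
      by_contra h2
      apply hβ
      rw [← h1]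
      exact hβ₀ _ h2
    rw [e2, e1]
  · intro h
    have h1 := mult_irrConj ι χ β
    rw [h] at h1
    exact hg.2.1 (irrConj χ) χ (hInv χ hχ) hχ β (by rw [h1]; exact hβ) hβ

/-- Real classes of the fixed-point subgroup correspond to real invariant classes. -/
theorem card_real_classes {G : Type u} [Group G] [Finite G] (p : ℕ) [Fact p.Prime]
    (S : Subgroup (MulAut G)) (hS : IsPGroup p S) (hpG : ¬ p ∣ Nat.card G) :
    Nat.card {L : ConjClasses ↥(fixS S) // ∀ d, ConjClasses.mk d = L → IsConj d d⁻¹} =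
      Nat.card {K : ConjClasses G // (∀ g, ConjClasses.mk g = K →
        ∀ s ∈ S, ConjClasses.mk (s g) = K) ∧ ∀ g, ConjClasses.mk g = K → IsConj g g⁻¹} := by
  refine card_subtype_of_injective (classMap S) (classMap_injective p S hS hpG) _
    (classMap_range p S hS hpG) _ _ ?_
  intro L
  obtain ⟨d, rfl⟩ := ConjClasses.exists_rep L
  constructor
  · intro h g hg
    rw [classMap_mk, ConjClasses.mk_eq_mk_iff_isConj] at hg
    have h1 := h d rfl
    have h2 : IsConj d.1 d.1⁻¹ := by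
      obtain ⟨c, hc⟩ := isConj_iff.1 h1
      exact isConj_iff.2 ⟨c.1, congrArg Subtype.val hc⟩
    exact (hg.trans h2).trans (isConj_inv hg).symm
  · intro h d₁ hd₁
    rw [ConjClasses.mk_eq_mk_iff_isConj] at hd₁
    have h1 := h d.1 (classMap_mk S d).symm
    obtain ⟨c, hc, hcd⟩ := conj_in_fixed p S hS hpG d.1 d.1⁻¹ d.2 ((fixS S).inv_mem d.2) h1
    have h2 : IsConj d d⁻¹ := isConj_iff.2 ⟨⟨c, hc⟩, Subtype.ext hcd⟩
    exact (hd₁.trans h2).trans (isConj_inv hd₁).symm

/-- A `p`-group of automorphisms of a group of order prime to `p` fixes as many real-valued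
irreducible characters as real classes. -/
theorem card_real_inv {G : Type u} [Group G] [Fintype G] (p : ℕ) [Fact p.Prime]
    (S : Subgroup (MulAut G)) (hS : IsPGroup p S) (hpG : ¬ p ∣ Nat.card G) :
    Nat.card {χ : IrrCharacter G // (∀ s ∈ S, ∀ g, χ.1 (s g) = χ.1 g) ∧ ∀ g, (χ.1 g).im = 0} =
      Nat.card {K : ConjClasses G // (∀ g, ConjClasses.mk g = K →
        ∀ s ∈ S, ConjClasses.mk (s g) = K) ∧ ∀ g, ConjClasses.mk g = K → IsConj g g⁻¹} := by
  classical
  have hp : p.Prime := Fact.out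
  let _ : Fintype ↥(fixS S) := Fintype.ofFinite _
  have hg := glaub_fixS p S hS hpG
  rw [glaub_card_real p hp (fixS S).subtype _ hg ?_, ← card_real_classes p S hS hpG]
  · exact Cfsg.Agent.S0160.result
  · intro χ hχ s hs g
    show χ.1 (s g)⁻¹ = χ.1 g⁻¹
    rw [← map_inv, hχ s hs]

end Cfsg.Agent.Lib.Helper81.GlaubReal
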