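import Mathlib
import Cfsg.Prelude.Def_Characters
import Cfsg.Agent.Lib.Helper81.GlaubClass
import Cfsg.Agent.Lib.Helper81.CliffCorr
import Cfsg.Agent.S0887

set_option autoImplicit false

namespace Cfsg.Agent.Lib.Helper81.GlaubNormal

open Cfsg
open Cfsg.Agent.Lib.Helper81.Irr Cfsg.Agent.Lib.Helper81.Basic Cfsg.Agent.Lib.Helper81.Expand
  Cfsg.Agent.Lib.Helper81.Mult Cfsg.Agent.Lib.Helper81.GlaubCore Cfsg.Agent.Lib.Helper81.Glaub
  Cfsg.Agent.Lib.Helper81.GlaubClass

universe u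

section sums

/-- A sum of an invariant function over a set acted on by a `p`-group is congruent modulo `p` to
the sum over the fixed points. -/
theorem sum_fixed_modEq {X : Type*} [Fintype X] (p : ℕ) [Fact p.Prime]
    (Q : Subgroup (Equiv.Perm X)) (hQ : IsPGroup p Q) (F : X → ℕ)
    (hF : ∀ σ ∈ Q, ∀ x, F (σ x) = F x) [DecidablePred fun x : X => ∀ σ ∈ Q, σ x = x] :
    (∑ x, F x) ≡ ∑ x ∈ Finset.univ.filter (fun x : X => ∀ σ ∈ Q, σ x = x), F x [MOD p] := by
  let Y := {q : X × ℕ // q.2 < F q.1}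
  let e : Y ≃ Σ x : X, Fin (F x) :=
    { toFun := fun q => ⟨q.1.1, ⟨q.1.2, q.2⟩⟩
      invFun := fun s => ⟨(s.1, s.2.1), s.2.2⟩
      left_inv := fun q => rfl
      right_inv := fun s => rfl }
  have : Finite Y := Finite.of_equiv _ e.symm
  let _ : MulAction ↥Q Y :=
    { smul := fun σ q => ⟨(σ.1 q.1.1, q.1.2), by rw [hF σ.1 σ.2]; exact q.2⟩
      one_smul := fun q => rfl
      mul_smul := fun σ τ q => rfl }
  have h1 := hQ.card_modEq_card_fixedPoints Y
  have h2 : Nat.card Y = ∑ x, F x := by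
    rw [Nat.card_congr e, Nat.card_sigma]
    simp
  let T : Finset X := Finset.univ.filter (fun x : X => ∀ σ ∈ Q, σ x = x)
  let e' : MulAction.fixedPoints ↥Q Y ≃ Σ x : ↥T, Fin (F x.1) :=
    { toFun := fun q => ⟨⟨q.1.1.1, Finset.mem_filter.2 ⟨Finset.mem_univ _, fun σ hσ => by
          have := q.2 ⟨σ, hσ⟩
          exact congrArg (fun y : Y => y.1.1) this⟩⟩, ⟨q.1.1.2, q.1.2⟩⟩
      invFun := fun s => ⟨⟨(s.1.1, s.2.1), s.2.2⟩, fun σ =>
        Subtype.ext (Prod.ext ((Finset.mem_filter.1 s.1.2).2 σ.1 σ.2) rfl)⟩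
      left_inv := fun q => rfl
      right_inv := fun s => rfl }
  have h3 : Nat.card (MulAction.fixedPoints ↥Q Y) = ∑ x ∈ T, F x := by
    rw [Nat.card_congr e', Nat.card_sigma, ← Finset.sum_coe_sort T F]
    simp
  rw [h2, h3] at h1
  exact h1

end sums

section perm

/-- The permutation of the irreducible characters induced by an automorphism. -/
noncomputable def irrPerm {N : Type u} [Group N] : MulAut N →* Equiv.Perm (IrrCharacter N) where
  toFun a :=
    { toFun := irrComp a⁻¹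
      invFun := irrComp a
      left_inv := fun θ => by
        apply Subtype.ext
        funext n
        show θ.1 (a⁻¹ (a n)) = θ.1 n
        rw [MulAut.inv_apply_self]
      right_inv := fun θ => by
        apply Subtype.ext
        funext n
        show θ.1 (a (a⁻¹ n)) = θ.1 n
        rw [MulAut.apply_inv_self] }
  map_one' := by
    apply Equiv.ext
    intro θ
    apply Subtype.ext
    funext n
    show θ.1 ((1 : MulAut N)⁻¹ n) = θ.1 n
    simp
  map_mul' a b := by
    apply Equiv.ext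
    intro θ
    apply Subtype.ext
    funext n
    show θ.1 ((a * b)⁻¹ n) = θ.1 (b⁻¹ (a⁻¹ n))
    rw [mul_inv_rev]
    rfl

theorem irrPerm_apply {N : Type u} [Group N] (a : MulAut N) (θ : IrrCharacter N) :
    irrPerm a θ = irrComp a⁻¹ θ := rfl

end perm

section equivariance

variable {G C : Type u} [Group G] [Group C] [Fintype C] (p : ℕ) (ι : C →* G)
  (Inv : IrrCharacter G → Prop) (hg : Glaub p ι Inv) (σG : G ≃* G) (σC : C ≃* C)
  (hσ : ∀ c, ι (σC c) = σG (ι c))

include hg hσ in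
/-- The correspondent of a character fixed by an automorphism is fixed. -/
theorem corr_fixed (χ : IrrCharacter G) (hχ : Inv χ) (hχσ : ∀ g, χ.1 (σG g) = χ.1 g)
    (ψ : IrrCharacter C) (hψ : ¬ p ∣ mult (fun c => χ.1 (ι c)) ψ) : irrComp σC ψ = ψ := by
  obtain ⟨ψ₀, -, hψ₀⟩ := hg.1 χ hχ
  have e1 : ψ = ψ₀ := by
    by_contra h
    exact hψ (hψ₀ ψ h)
  have e2 : irrComp σC ψ = ψ₀ := by
    by_contra h
    apply hψ
    have h3 := mult_comp_equiv σC (fun c => χ.1 (ι c)) ψ
    have hfun : (fun c : C => χ.1 (ι (σC c))) = fun c => χ.1 (ι c) := by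
      funext c
      rw [hσ, hχσ]
    rw [hfun] at h3
    rw [← h3]
    exact hψ₀ _ h
  exact e2.trans e1.symm

include hg hσ in
/-- A character whose correspondent is fixed by an automorphism is fixed. -/
theorem fixed_of_corr_fixed (χ : IrrCharacter G) (hχ : Inv χ) (hχ' : Inv (irrComp σG χ))
    (ψ : IrrCharacter C) (hψ : ¬ p ∣ mult (fun c => χ.1 (ι c)) ψ) (hψσ : irrComp σC ψ = ψ) :
    irrComp σG χ = χ := by
  have h3 := mult_comp_equiv σC (fun c => χ.1 (ι c)) ψ
  rw [hψσ] at h3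
  have hfun : (fun c : C => χ.1 (ι (σC c))) = fun c => (irrComp σG χ).1 (ι c) := by
    funext c
    rw [hσ]
    rfl
  rw [hfun] at h3
  exact hg.2.1 (irrComp σG χ) χ hχ' hχ ψ (by rw [h3]; exact hψ) hψ

end equivariance

section congruence

variable {G N D E : Type u} [Group G] [Group N] [Fintype N] [Group D] [Fintype D] [Group E]
  [Fintype E]

/-- Restriction to a normal subgroup commutes with the Glauberman correspondence, modulo `p`. -/
theorem corr_congr (p : ℕ) [Fact p.Prime] (jN : N →* G) (jD : D →* G) (kN : E →* N) (kD : E →* D)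
    (hsq : ∀ e, jN (kN e) = jD (kD e)) (InvG : IrrCharacter G → Prop) (hG : Glaub p jD InvG)
    (PN : Subgroup (MulAut N)) (hPN : IsPGroup p PN)
    (hN : Glaub p kN (fun θ : IrrCharacter N => ∀ a ∈ PN, ∀ n, θ.1 (a n) = θ.1 n))
    (hfix : ∀ a ∈ PN, ∀ e, a (kN e) = kN e)
    (χ : IrrCharacter G) (hχ : InvG χ) (hχN : ∀ a ∈ PN, ∀ n, χ.1 (jN (a n)) = χ.1 (jN n))
    (ψ : IrrCharacter D) (hψ : ¬ p ∣ mult (fun d => χ.1 (jD d)) ψ)
    (θ : IrrCharacter N) (hθ : ∀ a ∈ PN, ∀ n, θ.1 (a n) = θ.1 n)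
    (γ : IrrCharacter E) (hγ : ¬ p ∣ mult (fun e => θ.1 (kN e)) γ) :
    p ∣ mult (fun e => ψ.1 (kD e)) γ ↔ p ∣ mult (fun n => χ.1 (jN n)) θ := by
  classical
  have hp : p.Prime := Fact.out
  have : Finite (IrrCharacter D) := finite_irr
  let _ : Fintype (IrrCharacter D) := Fintype.ofFinite _
  have : Finite (IrrCharacter N) := finite_irr
  let _ : Fintype (IrrCharacter N) := Fintype.ofFinite _
  have hchD : IsCharacter D (fun d => χ.1 (jD d)) :=
    Cfsg.Agent.Lib.CT.Ops.isCharacter_comp_hom jD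
      (Cfsg.Agent.Lib.CT.Wedderburn.isCharacter_of_irr χ.2)
  have hchN : IsCharacter N (fun n => χ.1 (jN n)) :=
    Cfsg.Agent.Lib.CT.Ops.isCharacter_comp_hom jN
      (Cfsg.Agent.Lib.CT.Wedderburn.isCharacter_of_irr χ.2)
  -- first computation
  have hothers : ∀ ψ', ψ' ≠ ψ → p ∣ mult (fun d => χ.1 (jD d)) ψ' := by
    obtain ⟨ψ₀, -, hψ₀⟩ := hG.1 χ hχ
    have e1 : ψ = ψ₀ := by
      by_contra h
      exact hψ (hψ₀ ψ h)
    rw [e1]
    exact hψ₀
  have h1 := mult_comp_modEq p kD hchD ψ hothers γ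
  have h1' : mult (fun e => χ.1 (jD (kD e))) γ ≡
      mult (fun d => χ.1 (jD d)) ψ * mult (fun e => ψ.1 (kD e)) γ [MOD p] := by
    exact_mod_cast h1
  -- second computation
  have hfun : (fun e => χ.1 (jD (kD e))) = fun e => χ.1 (jN (kN e)) := by
    funext e
    rw [hsq]
  have h2 := mult_comp kN hchN γ
  let F : IrrCharacter N → ℕ := fun θ' =>
    mult (fun n => χ.1 (jN n)) θ' * mult (fun e => θ'.1 (kN e)) γ
  let Q : Subgroup (Equiv.Perm (IrrCharacter N)) := PN.map irrPerm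
  have hQ : IsPGroup p Q := hPN.map irrPerm
  have hFinv : ∀ σ ∈ Q, ∀ θ', F (σ θ') = F θ' := by
    rintro σ ⟨a, ha, rfl⟩ θ'
    have ha' : a⁻¹ ∈ PN := PN.inv_mem ha
    rw [irrPerm_apply]
    show mult (fun n => χ.1 (jN n)) (irrComp a⁻¹ θ') *
      mult (fun e => (irrComp a⁻¹ θ').1 (kN e)) γ = _
    have e1 : mult (fun n => χ.1 (jN n)) (irrComp a⁻¹ θ') = mult (fun n => χ.1 (jN n)) θ' := by
      have h3 := mult_comp_equiv a⁻¹ (fun n => χ.1 (jN n)) θ'
      have hf : (fun n : N => χ.1 (jN (a⁻¹ n))) = fun n => χ.1 (jN n) := by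
        funext n
        exact hχN a⁻¹ ha' n
      rw [hf] at h3
      exact h3
    have e2 : (fun e => (irrComp a⁻¹ θ').1 (kN e)) = fun e => θ'.1 (kN e) := by
      funext e
      show θ'.1 (a⁻¹ (kN e)) = θ'.1 (kN e)
      rw [hfix a⁻¹ ha']
    rw [e1, e2]
  have h3 := sum_fixed_modEq p Q hQ F hFinv
  -- the fixed points
  have hfixed : ∀ θ' : IrrCharacter N, (∀ σ ∈ Q, σ θ' = θ') →
      ∀ a ∈ PN, ∀ n, θ'.1 (a n) = θ'.1 n := by
    intro θ' h a ha n
    have h4 := h (irrPerm a⁻¹) ⟨a⁻¹, PN.inv_mem ha, rfl⟩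
    rw [irrPerm_apply, inv_inv] at h4
    exact congrFun (congrArg Subtype.val h4) n
  have hθfix : ∀ σ ∈ Q, σ θ = θ := by
    rintro σ ⟨a, ha, rfl⟩
    rw [irrPerm_apply]
    apply Subtype.ext
    funext n
    exact hθ a⁻¹ (PN.inv_mem ha) n
  have h4 : (∑ x ∈ Finset.univ.filter (fun x : IrrCharacter N => ∀ σ ∈ Q, σ x = x), F x) ≡
      F θ [MOD p] := by
    rw [← Finset.add_sum_erase _ _ (Finset.mem_filter.2 ⟨Finset.mem_univ θ, hθfix⟩)]
    have h5 : p ∣ ∑ x ∈ (Finset.univ.filter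
        (fun x : IrrCharacter N => ∀ σ ∈ Q, σ x = x)).erase θ, F x := by
      apply Finset.dvd_sum
      intro x hx
      have hne : x ≠ θ := Finset.ne_of_mem_erase hx
      have hxfix := (Finset.mem_filter.1 (Finset.mem_of_mem_erase hx)).2
      have h6 : p ∣ mult (fun e => x.1 (kN e)) γ := by
        by_contra h
        exact hne (hN.2.1 x θ (hfixed x hxfix) hθ γ h hγ)
      exact Dvd.dvd.mul_left h6 _
    have h6 : (F θ + ∑ x ∈ (Finset.univ.filter
        (fun x : IrrCharacter N => ∀ σ ∈ Q, σ x = x)).erase θ, F x) ≡ F θ + 0 [MOD p] :=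
      Nat.ModEq.add_left _ ((Nat.modEq_zero_iff_dvd).2 h5)
    simpa using h6
  have h5 : mult (fun d => χ.1 (jD d)) ψ * mult (fun e => ψ.1 (kD e)) γ ≡
      mult (fun n => χ.1 (jN n)) θ * mult (fun e => θ.1 (kN e)) γ [MOD p] := by
    have h2' : mult (fun e => χ.1 (jN (kN e))) γ = ∑ θ', F θ' := h2
    have h6 : mult (fun e => χ.1 (jD (kD e))) γ ≡ F θ [MOD p] := by
      rw [hfun, h2']
      exact h3.trans h4
    exact h1'.symm.trans h6
  have h6 := Nat.ModEq.dvd_iff h5 (dvd_refl p)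
  constructor
  · intro h
    rcases hp.dvd_mul.1 (h6.1 (Dvd.dvd.mul_left h _)) with h7 | h7
    · exact h7
    · exact absurd h7 hγ
  · intro h
    rcases hp.dvd_mul.1 (h6.2 (Dvd.dvd.mul_right h _)) with h7 | h7
    · exact absurd h7 hψ
    · exact h7

end congruence

section goingUp

variable {G : Type u} [Group G] [Fintype G]

/-- Every irreducible character of a subgroup lies under an irreducible character. -/
theorem exists_over (H : Subgroup G) [Fintype ↥H] (θ : IrrCharacter ↥H) :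
    ∃ χ : IrrCharacter G, mult (fun x : ↥H => χ.1 x) θ ≠ 0 := by
  classical
  have : Finite (IrrCharacter G) := finite_irr
  let _ : Fintype (IrrCharacter G) := Fintype.ofFinite _
  have hθ : IsCharacter ↥H θ.1 := Cfsg.Agent.Lib.CT.Wedderburn.isCharacter_of_irr θ.2
  have hΨ : IsCharacter G (indFun H θ.1) :=
    Cfsg.Agent.Lib.CT.IndChar.isCharacter_indFun H θ.1 hθ
  have hne : charDegree (indFun H θ.1) ≠ 0 := by
    intro h0
    have h1 := Cfsg.Agent.Lib.Helper80.Integrality.apply_one_eq_charDegree hΨ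
    rw [h0, Cfsg.Agent.Lib.CT.FrobRec.indFun_one,
      Cfsg.Agent.Lib.Helper81.CliffCorr.deg_cast θ] at h1
    have h2 : (H.index : ℂ) ≠ 0 := Nat.cast_ne_zero.2 Subgroup.index_ne_zero_of_finite
    have h3 : ((charDegree θ.1 : ℕ) : ℂ) ≠ 0 :=
      Nat.cast_ne_zero.2 (Cfsg.Agent.Lib.Helper81.CliffCorr.deg_pos θ).ne'
    exact mul_ne_zero h2 h3 (by simpa using h1)
  obtain ⟨χ, hχ⟩ := Cfsg.Agent.Lib.Helper81.CliffCorr.exists_constituent hΨ hne
  refine ⟨χ, ?_⟩
  have hres : IsCharacter ↥H (fun x : ↥H => χ.1 x) :=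
    Cfsg.Agent.Lib.CT.Ops.isCharacter_restrict H
      (Cfsg.Agent.Lib.CT.Wedderburn.isCharacter_of_irr χ.2)
  have h1 : (mult (fun x : ↥H => χ.1 x) θ : ℂ) = (mult (indFun H θ.1) χ : ℂ) := by
    rw [mult_cast hres, mult_cast hΨ]
    exact (Cfsg.Agent.Lib.Helper81.CliffCorr.multC_indFun' H θ χ).symm
  intro h0
  rw [h0] at h1
  exact hχ (by exact_mod_cast h1.symm)

/-- The multiplicity of an irreducible character of a normal subgroup in an irreducible
character is prime to every prime not dividing the group order. -/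
theorem mult_not_dvd (N : Subgroup G) [N.Normal] [Fintype ↥N] (p : ℕ) (hpG : ¬ p ∣ Nat.card G)
    (χ : IrrCharacter G) (φ : IrrCharacter ↥N) (h : mult (fun x : ↥N => χ.1 x) φ ≠ 0) :
    ¬ p ∣ mult (fun x : ↥N => χ.1 x) φ := by
  classical
  have : Finite (IrrCharacter G) := finite_irr
  let _ : Fintype (IrrCharacter G) := Fintype.ofFinite _
  have : Finite (IrrCharacter ↥N) := finite_irr
  let _ : Fintype (IrrCharacter ↥N) := Fintype.ofFinite _
  have h1 := Cfsg.Agent.Lib.Helper81.CliffCorr.degree_over N χ φ h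
  have hd : 0 < charDegree φ.1 := Cfsg.Agent.Lib.Helper81.CliffCorr.deg_pos φ
  have hres : IsCharacter ↥N (fun x : ↥N => χ.1 x) :=
    Cfsg.Agent.Lib.CT.Ops.isCharacter_restrict N
      (Cfsg.Agent.Lib.CT.Wedderburn.isCharacter_of_irr χ.2)
  have hcon : classInner (fun n : ↥N => χ.1 n) φ.1 ≠ 0 := by
    rw [classInner_eq_mult hres φ]
    exact_mod_cast h
  have h2 := (Cfsg.Agent.S0887.result N χ.1 χ.2 φ.1 φ.2 hcon (charDegree χ.1) (charDegree φ.1)
    (Cfsg.Agent.Lib.Helper81.CliffCorr.deg_cast χ)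
    (Cfsg.Agent.Lib.Helper81.CliffCorr.deg_cast φ)).2
  have h3 : charDegree χ.1 / charDegree φ.1 =
      mult (fun x : ↥N => χ.1 x) φ * (Cfsg.Agent.Lib.Helper81.CliffCorr.orb N φ).card := by
    have h4 : charDegree χ.1 = mult (fun x : ↥N => χ.1 x) φ *
        (Cfsg.Agent.Lib.Helper81.CliffCorr.orb N φ).card * charDegree φ.1 := by
      rw [mul_assoc]
      exact h1
    rw [h4, Nat.mul_div_cancel _ hd]
  rw [h3] at h2
  intro hdiv
  exact hpG (((hdiv.trans (Dvd.intro _ rfl)).trans h2).trans (Subgroup.index_dvd_card N))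

end goingUp

section main

/-- Going up for invariant characters under a coprime solvable group of automorphisms. -/
theorem exists_inv_over_aux : ∀ (n : ℕ) (G : Type u) [Group G] [Fintype G]
    (S : Subgroup (MulAut G)), Nat.card S = n → Group.IsSolvable S →
    (Nat.card G).Coprime (Nat.card S) →
    ∀ (N : Subgroup G) [N.Normal] [Fintype ↥N] (hNS : ∀ s ∈ S, ∀ x ∈ N, s x ∈ N)
      (θ : IrrCharacter ↥N),
      (∀ s (hs : s ∈ S) (x : ↥N), θ.1 ⟨s x.1, hNS s hs x.1 x.2⟩ = θ.1 x) →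
      ∃ χ : IrrCharacter G, (∀ s ∈ S, ∀ g, χ.1 (s g) = χ.1 g) ∧
        mult (fun x : ↥N => χ.1 x) θ ≠ 0 := by
  intro n
  induction n using Nat.strong_induction_on with
  | _ n ih =>
  intro G _ _ S hn hsolv hcop N _ _ hNS θ hθ
  classical
  by_cases hbot : S = ⊥
  · obtain ⟨χ, hχ⟩ := exists_over N θ
    refine ⟨χ, fun s hs g => ?_, hχ⟩
    rw [hbot, Subgroup.mem_bot] at hs
    rw [hs]
    rfl
  · have hnt : Nontrivial ↥S := (Subgroup.nontrivial_iff_ne_bot S).2 hbot
    have hsolv2 : Group.IsSolvable ↥S := hsolv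
    obtain ⟨p, hp, N₀, hNn, hNp, hNbot⟩ := Cfsg.Agent.S0019.exists_normal_pgroup ↥S
    have : Fact p.Prime := ⟨hp⟩
    let P : Subgroup (MulAut G) := N₀.map S.subtype
    have hPS : P ≤ S := Subgroup.map_subtype_le N₀
    have hnorm : ∀ s ∈ S, ∀ a ∈ P, s * a * s⁻¹ ∈ P := by
      rintro s hs a ⟨n, hn, rfl⟩
      exact ⟨⟨s, hs⟩ * n * ⟨s, hs⟩⁻¹, hNn.conj_mem n hn ⟨s, hs⟩, rfl⟩
    have hP : IsPGroup p P := hNp.map S.subtype
    obtain ⟨n₀, hn₀N, hn₀1⟩ : ∃ n₀ ∈ N₀, n₀ ≠ 1 := by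
      by_contra h
      push Not at h
      exact hNbot ((Subgroup.eq_bot_iff_forall N₀).2 h)
    let a₀ : MulAut G := n₀.1
    have ha₀P : a₀ ∈ P := ⟨n₀, hn₀N, rfl⟩
    have ha₀1 : a₀ ≠ 1 := fun h => hn₀1 (Subtype.ext h)
    have hpS : p ∣ Nat.card S := by
      have h1 : p ∣ orderOf a₀ := by
        obtain ⟨k, hk⟩ := (IsPGroup.iff_orderOf.1 hP) ⟨a₀, ha₀P⟩
        rw [Subgroup.orderOf_mk] at hk
        rw [hk]
        cases k with
        | zero =>
          exfalso
          rw [pow_zero, orderOf_eq_one_iff] at hk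
          exact ha₀1 hk
        | succ k => exact dvd_pow_self p (Nat.succ_ne_zero k)
      have h2 : orderOf a₀ ∣ Nat.card S := by
        have := orderOf_dvd_natCard (⟨a₀, hPS ha₀P⟩ : ↥S)
        rwa [Subgroup.orderOf_mk] at this
      exact h1.trans h2
    have hpG : ¬ p ∣ Nat.card G := by
      intro h
      have h2 := Nat.dvd_gcd h hpS
      rw [hcop] at h2
      exact hp.one_lt.ne' (Nat.dvd_one.1 h2)
    have hDS := fixS_invariant S P hnorm
    let _ : Fintype ↥(fixS P) := Fintype.ofFinite _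
    let r : ↥S →* MulAut ↥(fixS P) := restrictAut S (fixS P) hDS
    have hr1 : r ⟨a₀, hPS ha₀P⟩ = 1 := by
      apply MulEquiv.ext
      intro d
      apply Subtype.ext
      exact d.2 a₀ ha₀P
    have hninj : ¬ Function.Injective r.rangeRestrict := by
      intro h
      have h1 : (⟨a₀, hPS ha₀P⟩ : ↥S) = 1 := by
        apply h
        apply Subtype.ext
        rw [map_one]
        exact hr1
      exact ha₀1 (congrArg Subtype.val h1)
    have hcard' : Nat.card r.range < n := by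
      rw [← hn]
      let _ : Fintype ↥S := Fintype.ofFinite _
      let _ : Fintype ↥r.range := Fintype.ofFinite _
      rw [Nat.card_eq_fintype_card, Nat.card_eq_fintype_card]
      exact Fintype.card_lt_of_surjective_not_injective r.rangeRestrict
        r.rangeRestrict_surjective hninj
    have hsolv' : Group.IsSolvable ↥r.range :=
      Group.isSolvable_of_surjective r.rangeRestrict_surjective
    have hcop' : (Nat.card ↥(fixS P)).Coprime (Nat.card r.range) :=
      (hcop.coprime_dvd_left (Subgroup.card_subgroup_dvd_card _)).coprime_dvd_right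
        (Subgroup.card_range_dvd r)
    have hpD : ¬ p ∣ Nat.card ↥(fixS P) :=
      fun h => hpG (h.trans (Subgroup.card_subgroup_dvd_card _))
    -- the correspondence on `G`
    have hgG := glaub_fixS p P hP hpG
    -- the action on `N`
    have hNP : ∀ a ∈ P, ∀ x ∈ N, a x ∈ N := fun a ha => hNS a (hPS ha)
    let rN : ↥S →* MulAut ↥N := restrictAut S N hNS
    let rPN : ↥P →* MulAut ↥N := restrictAut P N hNP
    have hPN : IsPGroup p rPN.range :=
      IsPGroup.of_surjective hP rPN.rangeRestrict rPN.rangeRestrict_surjective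
    let _ : Fintype ↥(N.subgroupOf (fixS P)) := Fintype.ofFinite _
    let ι : ↥(N.subgroupOf (fixS P)) →* ↥N :=
      { toFun := fun x => ⟨x.1.1, Subgroup.mem_subgroupOf.1 x.2⟩
        map_one' := rfl
        map_mul' := fun _ _ => rfl }
    have hι : Function.Injective ι := fun x y h =>
      Subtype.ext (Subtype.ext (congrArg (fun z : ↥N => z.1) h))
    have hpN : ¬ p ∣ Nat.card ↥N := fun h => hpG (h.trans (Subgroup.card_subgroup_dvd_card N))
    have hrange : ∀ x : ↥N, x ∈ ι.range ↔ ∀ a' ∈ rPN.range, a' x = x := by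
      intro x
      constructor
      · rintro ⟨y, rfl⟩ a' ⟨a, rfl⟩
        apply Subtype.ext
        exact y.1.2 a.1 a.2
      · intro h
        have h1 : x.1 ∈ fixS P := fun a ha =>
          congrArg Subtype.val (h (rPN ⟨a, ha⟩) ⟨⟨a, ha⟩, rfl⟩)
        exact ⟨⟨⟨x.1, h1⟩, Subgroup.mem_subgroupOf.2 x.2⟩, rfl⟩
    have hgN := glaub_pgroup p rPN.range ι hPN hpN hι hrange
    have hθP : ∀ a' ∈ rPN.range, ∀ x, θ.1 (a' x) = θ.1 x := by
      rintro a' ⟨a, rfl⟩ x
      exact hθ a.1 (hPS a.2) x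
    obtain ⟨γ, hγ, hγ'⟩ := hgN.1 θ hθP
    have hγnd := not_dvd_of_modEq hp _ hγ
    have hN'S' : ∀ s' ∈ r.range, ∀ d ∈ N.subgroupOf (fixS P), s' d ∈ N.subgroupOf (fixS P) := by
      rintro s' ⟨s, rfl⟩ d hd
      exact Subgroup.mem_subgroupOf.2 (hNS s.1 s.2 d.1 (Subgroup.mem_subgroupOf.1 hd))
    have hγinv : ∀ s' (hs' : s' ∈ r.range) (x : ↥(N.subgroupOf (fixS P))),
        γ.1 ⟨s' x.1, hN'S' s' hs' x.1 x.2⟩ = γ.1 x := by
      rintro s' ⟨s, rfl⟩ x
      have h1 : irrComp (restrictAut r.range (N.subgroupOf (fixS P)) hN'S' ⟨r s, ⟨s, rfl⟩⟩) γ = γ :=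
        corr_fixed p ι _ hgN (rN s)
          (restrictAut r.range (N.subgroupOf (fixS P)) hN'S' ⟨r s, ⟨s, rfl⟩⟩)
          (fun c => rfl) θ hθP (fun x => hθ s.1 s.2 x) γ hγnd
      exact congrFun (congrArg Subtype.val h1) x
    -- induction
    obtain ⟨ψ, hψinv, hψγ⟩ := ih (Nat.card r.range) hcard' ↥(fixS P) r.range rfl hsolv' hcop'
      (N.subgroupOf (fixS P)) hN'S' γ hγinv
    -- pull back
    obtain ⟨χ, hχP, hχψ⟩ := hgG.2.2 ψ
    have hχS : ∀ s ∈ S, ∀ g, χ.1 (s g) = χ.1 g := by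
      intro s hs g
      have hχ' : ∀ a ∈ P, ∀ g, (irrComp s χ).1 (a g) = (irrComp s χ).1 g := by
        intro a ha g
        show χ.1 (s (a g)) = χ.1 (s g)
        have h2 : s (a g) = (s * a * s⁻¹) (s g) := by
          show s (a g) = s (a (s⁻¹ (s g)))
          rw [MulAut.inv_apply_self]
        rw [h2, hχP _ (hnorm s hs a ha)]
      have hψσ : irrComp (r ⟨s, hs⟩) ψ = ψ := by
        apply Subtype.ext
        funext d
        exact hψinv (r ⟨s, hs⟩) ⟨⟨s, hs⟩, rfl⟩ d
      have h1 := fixed_of_corr_fixed p (fixS P).subtype _ hgG s (r ⟨s, hs⟩) (fun c => rfl) χ hχP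
        hχ' ψ hχψ hψσ
      exact congrFun (congrArg Subtype.val h1) g
    refine ⟨χ, hχS, ?_⟩
    have hnd : ¬ p ∣ mult (fun x : ↥(N.subgroupOf (fixS P)) => ψ.1 x) γ :=
      mult_not_dvd (N.subgroupOf (fixS P)) p hpD ψ γ hψγ
    have hcong := corr_congr p N.subtype (fixS P).subtype ι (N.subgroupOf (fixS P)).subtype
      (fun e => rfl) _ hgG rPN.range hPN hgN
      (fun a ha e => (hrange (ι e)).1 ⟨e, rfl⟩ a ha) χ hχP
      (by
        rintro a' ⟨a, rfl⟩ x
        exact hχP a.1 a.2 x.1) ψ hχψ θ hθP γ hγnd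
    intro h0
    apply hnd
    have h0' : mult (fun x : ↥N => χ.1 (N.subtype x)) θ = 0 := h0
    exact hcong.2 (by rw [h0']; exact dvd_zero p)

/-- Going up for invariant characters under a coprime solvable group of automorphisms: every
invariant irreducible character of an invariant normal subgroup lies under an invariant
irreducible character. -/
theorem exists_inv_over {G : Type u} [Group G] [Fintype G] (S : Subgroup (MulAut G))
    (hsolv : Group.IsSolvable S) (hcop : (Nat.card G).Coprime (Nat.card S)) (N : Subgroup G)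
    [N.Normal] [Fintype ↥N] (hNS : ∀ s ∈ S, ∀ x ∈ N, s x ∈ N) (θ : IrrCharacter ↥N)
    (hθ : ∀ s (hs : s ∈ S) (x : ↥N), θ.1 ⟨s x.1, hNS s hs x.1 x.2⟩ = θ.1 x) :
    ∃ χ : IrrCharacter G, (∀ s ∈ S, ∀ g, χ.1 (s g) = χ.1 g) ∧
      mult (fun x : ↥N => χ.1 x) θ ≠ 0 :=
  exists_inv_over_aux _ G S rfl hsolv hcop N hNS θ hθ

end main

end Cfsg.Agent.Lib.Helper81.GlaubNormal
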