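import Mathlib
import Cfsg.Prelude.Def_Characters
import Cfsg.Agent.Lib.Helper81.GlaubNormal
import Cfsg.Agent.Lib.Helper4.GlauOrth
import Cfsg.Agent.Lib.Helper3.Complete
import Cfsg.Agent.Lib.CT.NormOne

set_option autoImplicit false
set_option linter.style.haveILetI false
set_option linter.unusedSectionVars false

/-!
# Tools for the correspondence over a normal Sylow subgroup

Sums along surjective homomorphisms, Gallagher's correspondence in a homomorphism form, induced
automorphisms of a quotient, fixed points in an invariant coset.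
-/

namespace Cfsg.Agent.Lib.Helper81.NSylA

open Cfsg
open Cfsg.Agent.Lib.Helper81.Irr Cfsg.Agent.Lib.Helper81.Basic Cfsg.Agent.Lib.Helper81.Expand
  Cfsg.Agent.Lib.Helper81.Mult Cfsg.Agent.Lib.Helper81.GlaubCore Cfsg.Agent.Lib.Helper81.Glaub
open scoped ComplexConjugate

universe u

section surj

variable {N M : Type u} [Group N] [Fintype N] [Group M] [Fintype M]

/-- Summing along a surjective homomorphism. -/
theorem sum_comp_surj (f : N →* M) (hf : Function.Surjective f) (F : M → ℂ) :
    ∑ n : N, F (f n) = (Nat.card f.ker : ℂ) * ∑ m : M, F m := by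
  classical
  rw [← Finset.sum_fiberwise (Finset.univ : Finset N) (fun n => f n) (fun n => F (f n)),
    Finset.mul_sum]
  apply Finset.sum_congr rfl
  intro m _
  have h1 : ∀ n ∈ Finset.univ.filter (fun n : N => f n = m), F (f n) = F m := by
    intro n hn
    rw [(Finset.mem_filter.mp hn).2]
  rw [Finset.sum_congr rfl h1, Finset.sum_const, nsmul_eq_mul]
  congr 2
  obtain ⟨n₀, rfl⟩ := hf m
  rw [← Fintype.card_subtype, ← Nat.card_eq_fintype_card]
  apply Nat.card_congr
  exact
    { toFun := fun n => ⟨n₀⁻¹ * n.1, by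
        rw [MonoidHom.mem_ker, map_mul, map_inv, n.2, inv_mul_cancel]⟩
      invFun := fun k => ⟨n₀ * k.1, by
        have hk : f k.1 = 1 := MonoidHom.mem_ker.1 k.2
        rw [map_mul, hk, mul_one]⟩
      left_inv := fun n => Subtype.ext (by simp)
      right_inv := fun k => Subtype.ext (by simp) }

theorem card_eq_ker_mul (f : N →* M) (hf : Function.Surjective f) :
    (Nat.card N : ℂ) = (Nat.card f.ker : ℂ) * (Nat.card M : ℂ) := by
  have h := sum_comp_surj f hf (fun _ => (1 : ℂ))
  simp only [Finset.sum_const, Finset.card_univ, nsmul_eq_mul, mul_one] at h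
  rw [Nat.card_eq_fintype_card, Nat.card_eq_fintype_card (α := M)]
  exact h

theorem ker_card_ne_zero (f : N →* M) : (Nat.card f.ker : ℂ) ≠ 0 :=
  Nat.cast_ne_zero.2 Nat.card_pos.ne'

/-- Inner products are unchanged by inflation along a surjective homomorphism. -/
theorem inner_comp_surj (f : N →* M) (hf : Function.Surjective f) (a b : M → ℂ) :
    classInner (fun n => a (f n)) (fun n => b (f n)) = classInner a b := by
  unfold classInner
  rw [sum_comp_surj f hf (fun m => a m * conj (b m)), card_eq_ker_mul f hf]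
  have h1 := ker_card_ne_zero f
  have h2 : (Nat.card M : ℂ) ≠ 0 := card_ne_zero
  field_simp

/-- Inflation of an irreducible character along a surjective homomorphism. -/
noncomputable def infl (f : N →* M) (hf : Function.Surjective f) (β : IrrCharacter M) :
    IrrCharacter N :=
  ⟨fun n => β.1 (f n), Cfsg.Agent.Lib.CT.Ops.isIrrCharacter_comp_surjective f hf β.2⟩

theorem infl_apply (f : N →* M) (hf : Function.Surjective f) (β : IrrCharacter M) (n : N) :
    (infl f hf β).1 n = β.1 (f n) := rfl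

theorem multC_infl (f : N →* M) (hf : Function.Surjective f) (a : M → ℂ) (β : IrrCharacter M) :
    multC (fun n => a (f n)) (infl f hf β) = multC a β := by
  rw [multC_def, multC_def]
  have h0 : ∀ n : N, a (f n) * (infl f hf β).1 n⁻¹ = (fun m => a m * β.1 m⁻¹) (f n) := by
    intro n
    show a (f n) * β.1 (f n⁻¹) = a (f n) * β.1 (f n)⁻¹
    rw [map_inv]
  rw [Finset.sum_congr rfl (fun n _ => h0 n), sum_comp_surj f hf (fun m => a m * β.1 m⁻¹),
    card_eq_ker_mul f hf]
  have h1 := ker_card_ne_zero f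
  have h2 : (Nat.card M : ℂ) ≠ 0 := card_ne_zero
  field_simp

theorem mult_infl (f : N →* M) (hf : Function.Surjective f) (a : M → ℂ) (β : IrrCharacter M) :
    mult (fun n => a (f n)) (infl f hf β) = mult a β := by
  unfold mult
  rw [multC_infl]

/-- A character whose inflation is irreducible is irreducible. -/
theorem irr_of_comp_surj (f : N →* M) (hf : Function.Surjective f) {φ : M → ℂ}
    (hφ : IsCharacter M φ) (h : IsIrrCharacter N (fun n => φ (f n))) : IsIrrCharacter M φ := by
  apply Cfsg.Agent.Lib.CT.NormOne.irr_of_inner_self_eq_one hφ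
  rw [← inner_comp_surj f hf]
  exact Cfsg.Agent.Lib.CT.NormOne.inner_self_eq_one_of_irr h

end surj

section twist

variable {D : Type u} [Group D] [Fintype D]

/-- Gallagher's inner product formula: multiplying by a character whose restriction to `M` is
irreducible preserves inner products of `M`-invariant functions. -/
theorem twist_inner (M : Subgroup D) [Fintype ↥M] {Φ : D → ℂ} (hΦ : IsCharacter D Φ)
    (hres : IsIrrCharacter ↥M (fun m : ↥M => Φ m)) (a b : D → ℂ)
    (ha : ∀ m ∈ M, ∀ d, a (m * d) = a d) (hb : ∀ m ∈ M, ∀ d, b (m * d) = b d) :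
    classInner (fun d => Φ d * a d) (fun d => Φ d * b d) = classInner a b := by
  unfold classInner
  congr 1
  have hM : (Nat.card ↥M : ℂ) ≠ 0 := card_ne_zero
  apply mul_left_cancel₀ hM
  have h1 : (Nat.card ↥M : ℂ) * ∑ d : D, Φ d * a d * conj (Φ d * b d) =
      ∑ m : ↥M, ∑ d : D, Φ ((m : D) * d) * a ((m : D) * d) *
        conj (Φ ((m : D) * d) * b ((m : D) * d)) := by
    have h2 : ∀ m : ↥M, ∑ d : D, Φ ((m : D) * d) * a ((m : D) * d) *
        conj (Φ ((m : D) * d) * b ((m : D) * d)) = ∑ d : D, Φ d * a d * conj (Φ d * b d) :=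
      fun m => Equiv.sum_comp (Equiv.mulLeft (m : D))
        (fun d => Φ d * a d * conj (Φ d * b d))
    rw [Finset.sum_congr rfl (fun m _ => h2 m), Finset.sum_const, Finset.card_univ,
      nsmul_eq_mul, Nat.card_eq_fintype_card]
  rw [h1, Finset.sum_comm, Finset.mul_sum]
  apply Finset.sum_congr rfl
  intro d _
  have h3 := Cfsg.Agent.Lib.Helper4.GlauOrth.coset_orth_self M hΦ hres d
  have h4 : ∀ m : ↥M, Φ ((m : D) * d) * a ((m : D) * d) *
      conj (Φ ((m : D) * d) * b ((m : D) * d)) =
      (Φ ((m : D) * d) * Φ (((m : D) * d)⁻¹)) * (a d * conj (b d)) := by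
    intro m
    rw [ha m m.2, hb m m.2, Cfsg.Agent.Lib.CT.Wedderburn.char_apply_inv hΦ, map_mul]
    ring
  rw [Finset.sum_congr rfl (fun m _ => h4 m), ← Finset.sum_mul, h3]

end twist

section gallagher

variable {Y Yb N : Type u} [Group Y] [Fintype Y] [Group Yb] [Fintype Yb] [Group N] [Fintype N]
  (π : Y →* Yb) (hπ : Function.Surjective π) (j : N →* Y)
  (hker : ∀ y, π y = 1 ↔ y ∈ j.range) (Θ : Y → ℂ) (hΘ : IsCharacter Y Θ)
  (θ : IrrCharacter N) (hΘj : ∀ n, Θ (j n) = θ.1 n)

include hΘ hΘj in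
theorem res_irr [Fintype ↥j.range] : IsIrrCharacter ↥j.range (fun m : ↥j.range => Θ m) := by
  apply irr_of_comp_surj j.rangeRestrict j.rangeRestrict_surjective
    (Cfsg.Agent.Lib.CT.Ops.isCharacter_restrict j.range hΘ)
  have h1 : (fun n => (fun m : ↥j.range => Θ m) (j.rangeRestrict n)) = θ.1 := by
    funext n
    exact hΘj n
  rw [h1]
  exact θ.2

include hker in
theorem pi_range_mul (m : Y) (hm : m ∈ j.range) (y : Y) : π (m * y) = π y := by
  rw [map_mul, (hker m).2 hm, one_mul]

include hπ hker hΘ hΘj in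
/-- Gallagher: the product of the extension with an inflated irreducible character is
irreducible. -/
theorem gal_irr (η : IrrCharacter Yb) : IsIrrCharacter Y (fun y => Θ y * η.1 (π y)) := by
  classical
  have hch : IsCharacter Y (fun y => Θ y * η.1 (π y)) :=
    Cfsg.Agent.Lib.CT.Ops.isCharacter_mul hΘ
      (Cfsg.Agent.Lib.CT.Ops.isCharacter_comp_hom π
        (Cfsg.Agent.Lib.CT.Wedderburn.isCharacter_of_irr η.2))
  apply Cfsg.Agent.Lib.CT.NormOne.irr_of_inner_self_eq_one hch
  rw [twist_inner j.range hΘ (res_irr j Θ hΘ θ hΘj) (fun y => η.1 (π y)) (fun y => η.1 (π y))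
    (fun m hm y => by rw [pi_range_mul π j hker m hm]) (fun m hm y => by
      rw [pi_range_mul π j hker m hm]),
    inner_comp_surj π hπ]
  exact Cfsg.Agent.Lib.CT.NormOne.inner_self_eq_one_of_irr η.2

/-- The Gallagher character attached to an irreducible character of the quotient. -/
noncomputable def gal (η : IrrCharacter Yb) : IrrCharacter Y :=
  ⟨fun y => Θ y * η.1 (π y), gal_irr π hπ j hker Θ hΘ θ hΘj η⟩

theorem gal_apply (η : IrrCharacter Yb) (y : Y) :
    (gal π hπ j hker Θ hΘ θ hΘj η).1 y = Θ y * η.1 (π y) := rfl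

theorem gal_inner (η η' : IrrCharacter Yb) :
    classInner (gal π hπ j hker Θ hΘ θ hΘj η).1 (gal π hπ j hker Θ hΘ θ hΘj η').1 =
      classInner η.1 η'.1 := by
  classical
  show classInner (fun y => Θ y * η.1 (π y)) (fun y => Θ y * η'.1 (π y)) = _
  rw [twist_inner j.range hΘ (res_irr j Θ hΘ θ hΘj) (fun y => η.1 (π y)) (fun y => η'.1 (π y))
    (fun m hm y => by rw [pi_range_mul π j hker m hm]) (fun m hm y => by
      rw [pi_range_mul π j hker m hm]),
    inner_comp_surj π hπ]

theorem gal_injective (η η' : IrrCharacter Yb)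
    (h : gal π hπ j hker Θ hΘ θ hΘj η = gal π hπ j hker Θ hΘ θ hΘj η') : η = η' := by
  have h1 := gal_inner π hπ j hker Θ hΘ θ hΘj η η'
  rw [h, Cfsg.Agent.Lib.Helper3.Irr.irr_orthonormal, if_pos rfl,
    Cfsg.Agent.Lib.Helper3.Irr.irr_orthonormal] at h1
  by_contra hne
  rw [if_neg hne] at h1
  exact one_ne_zero h1

/-- The Gallagher character lies over `θ`. -/
theorem gal_over (η : IrrCharacter Yb) :
    mult (fun n => (gal π hπ j hker Θ hΘ θ hΘj η).1 (j n)) θ ≠ 0 := by
  have h1 : (fun n => (gal π hπ j hker Θ hΘ θ hΘj η).1 (j n)) =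
      ((charDegree η.1 : ℕ) : ℂ) • θ.1 := by
    funext n
    rw [gal_apply, hΘj, (hker (j n)).2 ⟨n, rfl⟩, Cfsg.Agent.Lib.Helper81.CliffCorr.deg_cast]
    show θ.1 n * _ = _ * θ.1 n
    ring
  have hch : IsCharacter N (fun n => (gal π hπ j hker Θ hΘ θ hΘj η).1 (j n)) :=
    Cfsg.Agent.Lib.CT.Ops.isCharacter_comp_hom j
      (Cfsg.Agent.Lib.CT.Wedderburn.isCharacter_of_irr (gal π hπ j hker Θ hΘ θ hΘj η).2)
  have h2 : (mult (fun n => (gal π hπ j hker Θ hΘ θ hΘj η).1 (j n)) θ : ℂ) =
      ((charDegree η.1 : ℕ) : ℂ) := by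
    rw [mult_cast hch, h1, multC_smul, multC_irr, if_pos rfl, mul_one]
  intro h0
  rw [h0] at h2
  have := Cfsg.Agent.Lib.Helper81.CliffCorr.deg_pos η
  have h3 : (charDegree η.1 : ℂ) = 0 := by rw [← h2]; simp
  exact this.ne' (by exact_mod_cast h3)

/-- Gallagher: every irreducible character lying over `θ` is a Gallagher character. -/
theorem gal_surj (ψ : IrrCharacter Y) (h : mult (fun n => ψ.1 (j n)) θ ≠ 0) :
    ∃ η : IrrCharacter Yb, ψ = gal π hπ j hker Θ hΘ θ hΘj η := by
  classical
  by_contra hne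
  push Not at hne
  have hψ : IsCharacter Y ψ.1 := Cfsg.Agent.Lib.CT.Wedderburn.isCharacter_of_irr ψ.2
  have hMker : j.range = π.ker := by
    ext y
    rw [MonoidHom.mem_ker, hker]
  have hnorm : j.range.Normal := hMker ▸ MonoidHom.normal_ker π
  let F : Y → ℂ := fun y => ψ.1 y * conj (Θ y)
  have hF : ∀ y x : Y, F (x * y * x⁻¹) = F y := by
    intro y x
    show ψ.1 (x * y * x⁻¹) * conj (Θ (x * y * x⁻¹)) = ψ.1 y * conj (Θ y)
    rw [irr_conj, char_conj hΘ]
  let a : Y → ℂ := fun y => ∑ m : ↥j.range, F ((m : Y) * y)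
  have ha_inv : ∀ m ∈ j.range, ∀ y, a (m * y) = a y := by
    intro m hm y
    show ∑ m' : ↥j.range, F ((m' : Y) * (m * y)) = ∑ m' : ↥j.range, F ((m' : Y) * y)
    rw [← Equiv.sum_comp (Equiv.mulRight (⟨m, hm⟩ : ↥j.range))
      (fun m' : ↥j.range => F ((m' : Y) * y))]
    apply Finset.sum_congr rfl
    intro m' _
    show F ((m' : Y) * (m * y)) = F (((m' * ⟨m, hm⟩ : ↥j.range) : Y) * y)
    rw [Subgroup.coe_mul, mul_assoc]
  have ha_class : ∀ y x : Y, a (x * y * x⁻¹) = a y := by
    intro y x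
    show ∑ m : ↥j.range, F ((m : Y) * (x * y * x⁻¹)) = ∑ m : ↥j.range, F ((m : Y) * y)
    rw [← Equiv.sum_comp (MulAut.conjNormal x⁻¹ : ↥j.range ≃* ↥j.range).toEquiv
      (fun m : ↥j.range => F ((m : Y) * y))]
    apply Finset.sum_congr rfl
    intro m _
    show F ((m : Y) * (x * y * x⁻¹)) =
      F (((MulAut.conjNormal x⁻¹ : ↥j.range ≃* ↥j.range) m : Y) * y)
    rw [MulAut.conjNormal_apply, inv_inv, ← hF (x⁻¹ * (m : Y) * x * y) x]
    congr 1
    group
  let ab : Yb → ℂ := fun z => a (Function.surjInv hπ z)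
  have hab : ∀ y, ab (π y) = a y := by
    intro y
    have h1 : π (Function.surjInv hπ (π y)) = π y := Function.surjInv_eq hπ (π y)
    have h2 : Function.surjInv hπ (π y) * y⁻¹ ∈ j.range := by
      rw [← hker, map_mul, h1, map_inv, mul_inv_cancel]
    have h3 := ha_inv _ h2 y
    rw [inv_mul_cancel_right] at h3
    exact h3
  have habc : IsClassFunction Yb ab := by
    intro g x
    obtain ⟨y, rfl⟩ := hπ g
    obtain ⟨z, rfl⟩ := hπ x
    rw [← map_inv, ← map_mul, ← map_mul, hab, hab, ha_class]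
  have hzero : ∀ η : IrrCharacter Yb, classInner ab η.1 = 0 := by
    intro η
    rw [← inner_comp_surj π hπ]
    have h1 : (fun y => ab (π y)) = a := funext hab
    rw [h1]
    unfold classInner
    have h2 : ∑ y : Y, a y * conj (η.1 (π y)) =
        ∑ m : ↥j.range, ∑ y : Y, ψ.1 y * conj ((gal π hπ j hker Θ hΘ θ hΘj η).1 y) := by
      have h3 : ∀ y : Y, a y * conj (η.1 (π y)) =
          ∑ m : ↥j.range, F ((m : Y) * y) * conj (η.1 (π ((m : Y) * y))) := by
        intro y
        show (∑ m : ↥j.range, F ((m : Y) * y)) * _ = _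
        rw [Finset.sum_mul]
        apply Finset.sum_congr rfl
        intro m _
        rw [pi_range_mul π j hker m m.2]
      rw [Finset.sum_congr rfl (fun y _ => h3 y), Finset.sum_comm]
      apply Finset.sum_congr rfl
      intro m _
      refine (Equiv.sum_comp (Equiv.mulLeft (m : Y)) (fun y => F y * conj (η.1 (π y)))).trans ?_
      apply Finset.sum_congr rfl
      intro y _
      show ψ.1 y * conj (Θ y) * conj (η.1 (π y)) = ψ.1 y * conj (Θ y * η.1 (π y))
      rw [map_mul]
      ring
    rw [h2]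
    have h4 : ∑ y : Y, ψ.1 y * conj ((gal π hπ j hker Θ hΘ θ hΘj η).1 y) = 0 := by
      have h5 := Cfsg.Agent.Lib.Helper3.Irr.irr_orthonormal ψ (gal π hπ j hker Θ hΘ θ hΘj η)
      rw [if_neg (hne η)] at h5
      unfold classInner at h5
      rcases mul_eq_zero.1 h5 with h6 | h6
      · exact absurd (inv_eq_zero.1 h6) card_ne_zero
      · exact h6
    rw [Finset.sum_congr rfl (fun m _ => h4), Finset.sum_const_zero, mul_zero]
  have hab0 : ab = 0 :=
    Cfsg.Agent.Lib.Helper3.Complete.classFunction_eq_zero_of_inner_irr ab habc hzero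
  have ha1 : a 1 = 0 := by
    have h1 := hab 1
    rw [map_one, hab0] at h1
    exact h1.symm
  -- but `a 1` is the inner product of the restrictions
  apply h
  have hch : IsCharacter N (fun n => ψ.1 (j n)) :=
    Cfsg.Agent.Lib.CT.Ops.isCharacter_comp_hom j hψ
  have h1 : classInner (fun n => ψ.1 (j n)) θ.1 = 0 := by
    have h2 : θ.1 = fun n => Θ (j n) := funext fun n => (hΘj n).symm
    rw [h2]
    have h3 := inner_comp_surj j.rangeRestrict j.rangeRestrict_surjective
      (fun m : ↥j.range => ψ.1 m) (fun m : ↥j.range => Θ m)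
    have h4 : classInner (fun n => ψ.1 (j n)) (fun n => Θ (j n)) =
        classInner (fun n => (fun m : ↥j.range => ψ.1 m) (j.rangeRestrict n))
          (fun n => (fun m : ↥j.range => Θ m) (j.rangeRestrict n)) := rfl
    rw [h4, h3]
    unfold classInner
    have h5 : ∑ m : ↥j.range, ψ.1 m * conj (Θ m) = a 1 := by
      show _ = ∑ m : ↥j.range, F ((m : Y) * 1)
      apply Finset.sum_congr rfl
      intro m _
      rw [mul_one]
    rw [h5, ha1, mul_zero]
  rw [classInner_eq_mult hch θ] at h1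
  exact_mod_cast h1

end gallagher

section galres

variable {Y Yb N : Type u} [Group Y] [Fintype Y] [Group Yb] [Fintype Yb] [Group N] [Fintype N]
  (π : Y →* Yb) (hπ : Function.Surjective π) (j : N →* Y)
  (hker : ∀ y, π y = 1 ↔ y ∈ j.range) (Θ : Y → ℂ) (hΘ : IsCharacter Y Θ)
  (θ : IrrCharacter N) (hΘj : ∀ n, Θ (j n) = θ.1 n)
  {D Db ND : Type u} [Group D] [Fintype D] [Group Db] [Fintype Db] [Group ND] [Fintype ND]
  (πD : D →* Db) (hπD : Function.Surjective πD) (jD : ND →* D)
  (hkerD : ∀ d, πD d = 1 ↔ d ∈ jD.range) (κ : D →* Y) (θD : IrrCharacter ND)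
  (hΘjD : ∀ n, Θ (κ (jD n)) = θD.1 n) (ι : Db →* Yb) (hsq : ∀ d, π (κ d) = ι (πD d))

include hsq in
/-- Restriction of Gallagher characters: the multiplicities are those of the quotients. -/
theorem gal_res (η : IrrCharacter Yb) (β : IrrCharacter Db) :
    mult (fun d => (gal π hπ j hker Θ hΘ θ hΘj η).1 (κ d))
      (gal πD hπD jD hkerD (fun d => Θ (κ d)) (Cfsg.Agent.Lib.CT.Ops.isCharacter_comp_hom κ hΘ)
        θD hΘjD β) = mult (fun z => η.1 (ι z)) β := by
  classical
  have hΦ : IsCharacter D (fun d => Θ (κ d)) := Cfsg.Agent.Lib.CT.Ops.isCharacter_comp_hom κ hΘ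
  have hch1 : IsCharacter D (fun d => (gal π hπ j hker Θ hΘ θ hΘj η).1 (κ d)) :=
    Cfsg.Agent.Lib.CT.Ops.isCharacter_comp_hom κ
      (Cfsg.Agent.Lib.CT.Wedderburn.isCharacter_of_irr (gal π hπ j hker Θ hΘ θ hΘj η).2)
  have hch2 : IsCharacter Db (fun z => η.1 (ι z)) :=
    Cfsg.Agent.Lib.CT.Ops.isCharacter_comp_hom ι
      (Cfsg.Agent.Lib.CT.Wedderburn.isCharacter_of_irr η.2)
  have h1 : classInner (fun d => (gal π hπ j hker Θ hΘ θ hΘj η).1 (κ d))
      (gal πD hπD jD hkerD (fun d => Θ (κ d)) hΦ θD hΘjD β).1 =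
      classInner (fun z => η.1 (ι z)) β.1 := by
    show classInner (fun d => Θ (κ d) * η.1 (π (κ d))) (fun d => Θ (κ d) * β.1 (πD d)) = _
    have h2 : (fun d => Θ (κ d) * η.1 (π (κ d))) =
        fun d => (fun d => Θ (κ d)) d * (fun d => η.1 (ι (πD d))) d := by
      funext d
      show _ = Θ (κ d) * η.1 (ι (πD d))
      rw [hsq]
    rw [h2, twist_inner jD.range hΦ (res_irr jD (fun d => Θ (κ d)) hΦ θD hΘjD)
      (fun d => η.1 (ι (πD d))) (fun d => β.1 (πD d))
      (fun m hm d => by rw [pi_range_mul πD jD hkerD m hm])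
      (fun m hm d => by rw [pi_range_mul πD jD hkerD m hm])]
    exact inner_comp_surj πD hπD (fun z => η.1 (ι z)) β.1
  rw [classInner_eq_mult hch1, classInner_eq_mult hch2] at h1
  exact_mod_cast h1

end galres

section quotAut

variable {Y : Type u} [Group Y] (M : Subgroup Y) [M.Normal] {B : Type*} [Group B]
  (α : B →* MulAut Y) (hM : ∀ b, ∀ m ∈ M, α b m ∈ M)

include hM in
theorem map_aut_eq (b : B) : M.map ((α b : Y ≃* Y) : Y →* Y) = M := by
  apply le_antisymm
  · rintro _ ⟨m, hm, rfl⟩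
    exact hM b m hm
  · intro m hm
    refine ⟨α b⁻¹ m, hM b⁻¹ m hm, ?_⟩
    show α b (α b⁻¹ m) = m
    rw [map_inv, MulAut.apply_inv_self]

/-- The automorphisms of a quotient induced by automorphisms stabilizing the normal subgroup. -/
noncomputable def quotAut : B →* MulAut (Y ⧸ M) where
  toFun b := QuotientGroup.congr M M (α b) (map_aut_eq M α hM b)
  map_one' := by
    apply MulEquiv.ext
    intro z
    induction z using QuotientGroup.induction_on with
    | H y =>
      show ((α 1 y : Y) : Y ⧸ M) = (y : Y ⧸ M)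
      rw [map_one]
      rfl
  map_mul' := fun b c => by
    apply MulEquiv.ext
    intro z
    induction z using QuotientGroup.induction_on with
    | H y =>
      show ((α (b * c) y : Y) : Y ⧸ M) = ((α b (α c y) : Y) : Y ⧸ M)
      rw [map_mul]
      rfl

theorem quotAut_mk (b : B) (y : Y) :
    quotAut M α hM b (QuotientGroup.mk y) = QuotientGroup.mk (α b y) := rfl

end quotAut

section cosetFix

/-- A coset of an invariant subgroup that is stable under a `p`-group of automorphisms of a
`p'`-group contains a fixed point. -/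
theorem exists_fixed_coset {G : Type u} [Group G] [Finite G] (p : ℕ) [Fact p.Prime]
    (S : Subgroup (MulAut G)) (hS : IsPGroup p S) (hpG : ¬ p ∣ Nat.card G) (H : Subgroup G)
    (hH : ∀ s ∈ S, ∀ h ∈ H, s h ∈ H) (g : G) (hg : ∀ s ∈ S, s g * g⁻¹ ∈ H) :
    ∃ h ∈ H, ∀ s ∈ S, s (h * g) = h * g := by
  classical
  let X := {z : G // z * g⁻¹ ∈ H}
  let _ : MulAction ↥S X :=
    { smul := fun s z => ⟨s.1 z.1, by
        have h1 : s.1 z.1 * g⁻¹ = s.1 (z.1 * g⁻¹) * (s.1 g * g⁻¹) := by
          rw [map_mul, map_inv]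
          group
        rw [h1]
        exact H.mul_mem (hH s.1 s.2 _ z.2) (hg s.1 s.2)⟩
      one_smul := fun z => Subtype.ext rfl
      mul_smul := fun s t z => Subtype.ext rfl }
  let e : X ≃ ↥H :=
    { toFun := fun z => ⟨z.1 * g⁻¹, z.2⟩
      invFun := fun h => ⟨h.1 * g, by rw [mul_inv_cancel_right]; exact h.2⟩
      left_inv := fun z => Subtype.ext (by simp)
      right_inv := fun h => Subtype.ext (by simp) }
  have hpX : ¬ p ∣ Nat.card X := by
    rw [Nat.card_congr e]
    exact fun h => hpG (h.trans (Subgroup.card_subgroup_dvd_card _))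
  obtain ⟨z, hz⟩ := hS.nonempty_fixed_point_of_prime_not_dvd_card X hpX
  refine ⟨z.1 * g⁻¹, z.2, fun s hs => ?_⟩
  rw [inv_mul_cancel_right]
  have := hz ⟨s, hs⟩
  exact congrArg Subtype.val this

end cosetFix

end Cfsg.Agent.Lib.Helper81.NSylA
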