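import Mathlib
import Cfsg.Prelude.Def_Characters
import Cfsg.Agent.Lib.Helper81.NSylA
import Cfsg.Agent.Lib.Helper78.CliffordCorr

set_option autoImplicit false
set_option linter.style.haveILetI false
set_option linter.unusedSectionVars false

/-!
# Clifford correspondence in multiplicity form, and a transfer principle
-/

namespace Cfsg.Agent.Lib.Helper81.NSylB

open Cfsg
open Cfsg.Agent.Lib.Helper81.Irr Cfsg.Agent.Lib.Helper81.Basic Cfsg.Agent.Lib.Helper81.Expand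
  Cfsg.Agent.Lib.Helper81.Mult Cfsg.Agent.Lib.Helper81.GlaubCore Cfsg.Agent.Lib.Helper81.Glaub
  Cfsg.Agent.Lib.Helper81.NSylA
open scoped ComplexConjugate

universe u

section clifford

variable {X : Type u} [Group X] [Fintype X] (N : Subgroup X) [hN : N.Normal] [Fintype ↥N]
  (θ : IrrCharacter ↥N) (T : Subgroup X) [Fintype ↥T]
  (hT : ∀ g : X, g ∈ T ↔
    ∀ n : ↥N, θ.1 ⟨g * n * g⁻¹, hN.conj_mem (n : X) n.2 g⟩ = θ.1 n)
  (hNT : N ≤ T)

omit hN in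
/-- Lying over is transitive. -/
theorem over_trans (χ : IrrCharacter X) (ψ : IrrCharacter ↥T)
    (h1 : mult (fun t : ↥T => χ.1 t) ψ ≠ 0)
    (h2 : mult (fun n : ↥N => ψ.1 (Subgroup.inclusion hNT n)) θ ≠ 0) :
    mult (fun n : ↥N => χ.1 n) θ ≠ 0 := by
  classical
  have : Finite (IrrCharacter ↥T) := finite_irr
  let _ : Fintype (IrrCharacter ↥T) := Fintype.ofFinite _
  have hch : IsCharacter ↥T (fun t : ↥T => χ.1 t) :=
    Cfsg.Agent.Lib.CT.Ops.isCharacter_restrict T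
      (Cfsg.Agent.Lib.CT.Wedderburn.isCharacter_of_irr χ.2)
  have h3 := mult_comp (Subgroup.inclusion hNT) hch θ
  have h4 : (fun n : ↥N => (fun t : ↥T => χ.1 t) (Subgroup.inclusion hNT n)) =
      fun n : ↥N => χ.1 n := rfl
  rw [h4] at h3
  rw [h3]
  intro h0
  have h5 := (Finset.sum_eq_zero_iff.1 h0) ψ (Finset.mem_univ _)
  rcases Nat.mul_eq_zero.1 h5 with h6 | h6
  · exact h1 h6
  · exact h2 h6

include hT in
/-- Clifford correspondence: a character over `θ` is induced from the stabilizer. -/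
theorem cp_corr (χ : IrrCharacter X) (h : mult (fun n : ↥N => χ.1 n) θ ≠ 0) :
    ∃ ψ : IrrCharacter ↥T, indFun T ψ.1 = χ.1 ∧
      mult (fun n : ↥N => ψ.1 (Subgroup.inclusion hNT n)) θ = mult (fun n : ↥N => χ.1 n) θ := by
  classical
  have hch : IsCharacter ↥N (fun n : ↥N => χ.1 n) :=
    Cfsg.Agent.Lib.CT.Ops.isCharacter_restrict N
      (Cfsg.Agent.Lib.CT.Wedderburn.isCharacter_of_irr χ.2)
  have hcon : classInner (fun n : ↥N => χ.1 n) θ.1 ≠ 0 := by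
    rw [classInner_eq_mult hch θ]
    exact Nat.cast_ne_zero.2 h
  obtain ⟨ψ, e, hψ, hind, -, hce, hres, -⟩ :=
    Cfsg.Agent.Lib.Helper78.CliffordCorr.clifford_corr N hN θ.1 θ.2 T hT hNT χ.1 χ.2 hcon
  refine ⟨⟨ψ, hψ⟩, hind, ?_⟩
  have h1 : (fun n : ↥N => ψ (Subgroup.inclusion hNT n)) = (e : ℂ) • θ.1 := by
    funext n
    exact hres n
  have hch2 : IsCharacter ↥N (fun n : ↥N => ψ (Subgroup.inclusion hNT n)) :=
    Cfsg.Agent.Lib.CT.Ops.isCharacter_comp_hom (Subgroup.inclusion hNT)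
      (Cfsg.Agent.Lib.CT.Wedderburn.isCharacter_of_irr hψ)
  have h2 : (mult (fun n : ↥N => ψ (Subgroup.inclusion hNT n)) θ : ℂ) = (e : ℂ) := by
    rw [mult_cast hch2, h1, multC_smul, multC_irr, if_pos rfl, mul_one]
  have h3 : (mult (fun n : ↥N => χ.1 n) θ : ℂ) = (e : ℂ) := by
    rw [← classInner_eq_mult hch θ, hce]
  show mult (fun n : ↥N => ψ (Subgroup.inclusion hNT n)) θ = _
  exact_mod_cast h2.trans h3.symm

omit hN [Fintype ↥N] in
/-- An irreducible induced character contains the inducing character once. -/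
theorem cp_mult_one (χ : IrrCharacter X) (ψ : IrrCharacter ↥T) (hind : indFun T ψ.1 = χ.1) :
    mult (fun t : ↥T => χ.1 t) ψ = 1 := by
  have hch : IsCharacter ↥T (fun t : ↥T => χ.1 t) :=
    Cfsg.Agent.Lib.CT.Ops.isCharacter_restrict T
      (Cfsg.Agent.Lib.CT.Wedderburn.isCharacter_of_irr χ.2)
  have h1 : (mult (fun t : ↥T => χ.1 t) ψ : ℂ) = 1 := by
    rw [mult_cast hch]
    have h2 := Cfsg.Agent.Lib.Helper81.CliffCorr.multC_indFun' T ψ χ
    rw [hind, multC_irr, if_pos rfl] at h2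
    exact h2.symm
  exact_mod_cast h1

include hT in
/-- Clifford correspondence in multiplicity form. -/
theorem cp_main (χ : IrrCharacter X) (ψ : IrrCharacter ↥T)
    (h1 : mult (fun t : ↥T => χ.1 t) ψ ≠ 0)
    (h2 : mult (fun n : ↥N => ψ.1 (Subgroup.inclusion hNT n)) θ ≠ 0) :
    indFun T ψ.1 = χ.1 ∧ mult (fun t : ↥T => χ.1 t) ψ = 1 ∧
    ∀ ψ' : IrrCharacter ↥T, mult (fun t : ↥T => χ.1 t) ψ' ≠ 0 →
      mult (fun n : ↥N => ψ'.1 (Subgroup.inclusion hNT n)) θ ≠ 0 → ψ' = ψ := by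
  classical
  have : Finite (IrrCharacter ↥T) := finite_irr
  let _ : Fintype (IrrCharacter ↥T) := Fintype.ofFinite _
  have hover := over_trans N θ T hNT χ ψ h1 h2
  obtain ⟨ψ₀, hind, hm⟩ := cp_corr N θ T hT hNT χ hover
  have hone := cp_mult_one T χ ψ₀ hind
  have hch : IsCharacter ↥T (fun t : ↥T => χ.1 t) :=
    Cfsg.Agent.Lib.CT.Ops.isCharacter_restrict T
      (Cfsg.Agent.Lib.CT.Wedderburn.isCharacter_of_irr χ.2)
  have h3 := mult_comp (Subgroup.inclusion hNT) hch θ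
  have h4 : (fun n : ↥N => (fun t : ↥T => χ.1 t) (Subgroup.inclusion hNT n)) =
      fun n : ↥N => χ.1 n := rfl
  rw [h4] at h3
  have key : ∀ ψ' : IrrCharacter ↥T, mult (fun t : ↥T => χ.1 t) ψ' ≠ 0 →
      mult (fun n : ↥N => ψ'.1 (Subgroup.inclusion hNT n)) θ ≠ 0 → ψ' = ψ₀ := by
    intro ψ' h5 h6
    by_contra hne
    have h7 : ∑ η ∈ ({ψ₀, ψ'} : Finset (IrrCharacter ↥T)),
        mult (fun t : ↥T => χ.1 t) η * mult (fun n : ↥N => η.1 (Subgroup.inclusion hNT n)) θ ≤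
        ∑ η : IrrCharacter ↥T,
        mult (fun t : ↥T => χ.1 t) η * mult (fun n : ↥N => η.1 (Subgroup.inclusion hNT n)) θ :=
      Finset.sum_le_sum_of_subset (Finset.subset_univ _)
    rw [Finset.sum_pair (fun h => hne h.symm), hone, hm, ← h3, one_mul] at h7
    have h8 : 0 < mult (fun t : ↥T => χ.1 t) ψ' *
        mult (fun n : ↥N => ψ'.1 (Subgroup.inclusion hNT n)) θ :=
      Nat.mul_pos (Nat.pos_of_ne_zero h5) (Nat.pos_of_ne_zero h6)
    omega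
  have hψ : ψ = ψ₀ := key ψ h1 h2
  subst hψ
  exact ⟨hind, hone, key⟩

include hT in
theorem cp_exists (χ : IrrCharacter X) (h : mult (fun n : ↥N => χ.1 n) θ ≠ 0) :
    ∃ ψ : IrrCharacter ↥T, mult (fun t : ↥T => χ.1 t) ψ ≠ 0 ∧
      mult (fun n : ↥N => ψ.1 (Subgroup.inclusion hNT n)) θ ≠ 0 := by
  obtain ⟨ψ₀, hind, hm⟩ := cp_corr N θ T hT hNT χ h
  refine ⟨ψ₀, ?_, ?_⟩
  · rw [cp_mult_one T χ ψ₀ hind]
    exact one_ne_zero
  · rw [hm]
    exact h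

include hT in
theorem cp_unique (ψ : IrrCharacter ↥T)
    (h2 : mult (fun n : ↥N => ψ.1 (Subgroup.inclusion hNT n)) θ ≠ 0) (χ χ' : IrrCharacter X)
    (h : mult (fun t : ↥T => χ.1 t) ψ ≠ 0) (h' : mult (fun t : ↥T => χ'.1 t) ψ ≠ 0) :
    χ = χ' := by
  have e1 := (cp_main N θ T hT hNT χ ψ h h2).1
  have e2 := (cp_main N θ T hT hNT χ' ψ h' h2).1
  exact Subtype.ext (e1.symm.trans e2)

end clifford

section square

variable {K T C D : Type u} [Group K] [Fintype K] [Group T] [Fintype T] [Group C] [Fintype C]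
  [Group D] [Fintype D]

/-- Multiplicities across a commuting square of homomorphisms, when the correspondents are
the only relevant constituents. -/
theorem mult_square (r : T →* K) (ιC : C →* K) (κ : D →* T) (δ : D →* C)
    (hsq : ∀ d, r (κ d) = ιC (δ d))
    (χ : IrrCharacter K) (ψ : IrrCharacter T) (ξ : IrrCharacter C) (ξ₀ : IrrCharacter D)
    (h1 : mult (fun t => χ.1 (r t)) ψ = 1)
    (h2 : ∀ ψ' : IrrCharacter T, ψ' ≠ ψ → mult (fun t => χ.1 (r t)) ψ' ≠ 0 →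
      mult (fun d => ψ'.1 (κ d)) ξ₀ = 0)
    (h3 : mult (fun d => ξ.1 (δ d)) ξ₀ = 1)
    (h4 : ∀ ξ' : IrrCharacter C, ξ' ≠ ξ → mult (fun d => ξ'.1 (δ d)) ξ₀ = 0) :
    mult (fun c => χ.1 (ιC c)) ξ = mult (fun d => ψ.1 (κ d)) ξ₀ := by
  classical
  have : Finite (IrrCharacter T) := finite_irr
  let _ : Fintype (IrrCharacter T) := Fintype.ofFinite _
  have : Finite (IrrCharacter C) := finite_irr
  let _ : Fintype (IrrCharacter C) := Fintype.ofFinite _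
  have hχ : IsCharacter K χ.1 := Cfsg.Agent.Lib.CT.Wedderburn.isCharacter_of_irr χ.2
  have hchT : IsCharacter T (fun t => χ.1 (r t)) :=
    Cfsg.Agent.Lib.CT.Ops.isCharacter_comp_hom r hχ
  have hchC : IsCharacter C (fun c => χ.1 (ιC c)) :=
    Cfsg.Agent.Lib.CT.Ops.isCharacter_comp_hom ιC hχ
  have e1 := mult_comp κ hchT ξ₀
  have e2 := mult_comp δ hchC ξ₀
  have e3 : (fun d => (fun t => χ.1 (r t)) (κ d)) = fun d => (fun c => χ.1 (ιC c)) (δ d) := by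
    funext d
    show χ.1 (r (κ d)) = χ.1 (ιC (δ d))
    rw [hsq]
  rw [e3, e2] at e1
  rw [Finset.sum_eq_single ξ, Finset.sum_eq_single ψ, h1, h3, mul_one, one_mul] at e1
  · exact e1
  · intro ψ' _ hne
    by_cases h0 : mult (fun t => χ.1 (r t)) ψ' = 0
    · rw [h0, zero_mul]
    · rw [h2 ψ' hne h0, mul_zero]
  · intro h
    exact absurd (Finset.mem_univ _) h
  · intro ξ' _ hne
    rw [h4 ξ' hne, mul_zero]
  · intro h
    exact absurd (Finset.mem_univ _) h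

end square

section transfer

variable {G C Gb Cb : Type u} [Group G] [Group C] [Fintype C] [Group Gb] [Group Cb] [Fintype Cb]

/-- Transfer of the Glauberman property along two relations that are bijective on the
characters lying over a fixed character and preserve the multiplicities. -/
theorem local_transfer (p : ℕ) (ι : C →* G) (ιb : Cb →* Gb) (InvS : IrrCharacter Gb → Prop)
    (hglaub : Glaub p ιb InvS)
    (InvA : IrrCharacter G → Prop) (LiesK : IrrCharacter G → Prop)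
    (LiesC : IrrCharacter C → Prop)
    (RK : IrrCharacter Gb → IrrCharacter G → Prop) (RC : IrrCharacter Cb → IrrCharacter C → Prop)
    (K1 : ∀ η, ∃ χ, RK η χ) (K2 : ∀ η χ χ', RK η χ → RK η χ' → χ = χ')
    (K3 : ∀ χ, LiesK χ → ∃ η, RK η χ)
    (K5 : ∀ η χ, RK η χ → LiesK χ)
    (K6 : ∀ η χ, RK η χ → (InvA χ ↔ InvS η))
    (C1 : ∀ β, ∃ ξ, RC β ξ) (C2 : ∀ β ξ ξ', RC β ξ → RC β ξ' → ξ = ξ')
    (C3 : ∀ ξ, LiesC ξ → ∃ β, RC β ξ)
    (C5 : ∀ β ξ, RC β ξ → LiesC ξ)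
    (M : ∀ η χ β ξ, RK η χ → RC β ξ →
      mult (fun c => χ.1 (ι c)) ξ = mult (fun z => η.1 (ιb z)) β) :
    (∀ χ, InvA χ → LiesK χ → ∃ ξ : IrrCharacter C, LiesC ξ ∧
      (((mult (fun c => χ.1 (ι c)) ξ : ℕ) : ℤ) ≡ 1 [ZMOD p] ∨
        ((mult (fun c => χ.1 (ι c)) ξ : ℕ) : ℤ) ≡ -1 [ZMOD p]) ∧
      ∀ γ, LiesC γ → γ ≠ ξ → p ∣ mult (fun c => χ.1 (ι c)) γ) ∧
    (∀ χ χ', InvA χ → InvA χ' → LiesK χ → LiesK χ' → ∀ ξ : IrrCharacter C, LiesC ξ →
      ¬ p ∣ mult (fun c => χ.1 (ι c)) ξ → ¬ p ∣ mult (fun c => χ'.1 (ι c)) ξ → χ = χ') ∧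
    (∀ ξ : IrrCharacter C, LiesC ξ → ∃ χ, InvA χ ∧ LiesK χ ∧
      ¬ p ∣ mult (fun c => χ.1 (ι c)) ξ) := by
  refine ⟨fun χ hχ hl => ?_, fun χ χ' hχ hχ' hl hl' ξ hξ hnd hnd' => ?_, fun ξ hξ => ?_⟩
  · obtain ⟨η, hη⟩ := K3 χ hl
    have hηS : InvS η := (K6 η χ hη).1 hχ
    obtain ⟨β, hβ, hβ'⟩ := hglaub.1 η hηS
    obtain ⟨ξ, hξ⟩ := C1 β
    refine ⟨ξ, C5 β ξ hξ, ?_, fun γ hγ hne => ?_⟩
    · rw [M η χ β ξ hη hξ]
      exact hβ
    · obtain ⟨β', hβ''⟩ := C3 γ hγ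
      have hne' : β' ≠ β := by
        rintro rfl
        exact hne (C2 β' γ ξ hβ'' hξ)
      rw [M η χ β' γ hη hβ'']
      exact hβ' β' hne'
  · obtain ⟨η, hη⟩ := K3 χ hl
    obtain ⟨η', hη'⟩ := K3 χ' hl'
    obtain ⟨β, hβ⟩ := C3 ξ hξ
    rw [M η χ β ξ hη hβ] at hnd
    rw [M η' χ' β ξ hη' hβ] at hnd'
    have h1 : η = η' :=
      hglaub.2.1 η η' ((K6 η χ hη).1 hχ) ((K6 η' χ' hη').1 hχ') β hnd hnd'
    subst h1
    exact K2 η χ χ' hη hη'
  · obtain ⟨β, hβ⟩ := C3 ξ hξ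
    obtain ⟨η, hηS, hnd⟩ := hglaub.2.2 β
    obtain ⟨χ, hχ⟩ := K1 η
    refine ⟨χ, (K6 η χ hχ).2 hηS, K5 η χ hχ, ?_⟩
    rw [M η χ β ξ hχ hβ]
    exact hnd

end transfer

end Cfsg.Agent.Lib.Helper81.NSylB
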