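import Mathlib
import Cfsg.Prelude.Def_Characters
import Cfsg.Agent.Lib.Helper81.NSylB
import Cfsg.Agent.Lib.Helper74.DetTools
import Cfsg.Agent.Lib.Helper4.GlauDet
import Cfsg.Agent.S0867

set_option autoImplicit false
set_option linter.style.haveILetI false
set_option linter.unusedSectionVars false

/-!
# The Clifford–Gallagher parametrization of the characters over a fixed character
-/

namespace Cfsg.Agent.Lib.Helper81.NSylC

open Cfsg
open Cfsg.Agent.Lib.Helper81.Irr Cfsg.Agent.Lib.Helper81.Basic Cfsg.Agent.Lib.Helper81.Expand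
  Cfsg.Agent.Lib.Helper81.Mult Cfsg.Agent.Lib.Helper81.GlaubCore Cfsg.Agent.Lib.Helper81.Glaub
  Cfsg.Agent.Lib.Helper81.NSylA Cfsg.Agent.Lib.Helper81.NSylB
  Cfsg.Agent.Lib.Helper81.GlaubClass
open scoped ComplexConjugate

universe u

section twist

variable {Y Yb N : Type u} [Group Y] [Fintype Y] [Group Yb] [Fintype Yb] [Group N] [Fintype N]
  (π : Y →* Yb) (hπ : Function.Surjective π) (j : N →* Y)
  (hker : ∀ y, π y = 1 ↔ y ∈ j.range) (Θ : Y → ℂ) (hΘ : IsCharacter Y Θ)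
  (θ : IrrCharacter N) (hΘj : ∀ n, Θ (j n) = θ.1 n)

/-- Gallagher characters and automorphisms. -/
theorem gal_twist (σ : Y ≃* Y) (s : Yb ≃* Yb) (hs : ∀ y, s (π y) = π (σ y))
    (hσ : ∀ y, Θ (σ y) = Θ y) (η : IrrCharacter Yb) :
    gal π hπ j hker Θ hΘ θ hΘj (irrComp s η) = irrComp σ (gal π hπ j hker Θ hΘ θ hΘj η) := by
  apply Subtype.ext
  funext y
  show Θ y * η.1 (s (π y)) = Θ (σ y) * η.1 (π (σ y))
  rw [hs, hσ]

end twist

section side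

variable {X : Type u} [Group X] [Fintype X] (N : Subgroup X) [hN : N.Normal] [Fintype ↥N]
  (θ : IrrCharacter ↥N) (T : Subgroup X) [Fintype ↥T]
  (hT : ∀ g : X, g ∈ T ↔
    ∀ n : ↥N, θ.1 ⟨g * n * g⁻¹, hN.conj_mem (n : X) n.2 g⟩ = θ.1 n)
  (hNT : N ≤ T)
  {Yb : Type u} [Group Yb] [Fintype Yb] (π : ↥T →* Yb) (hπ : Function.Surjective π)
  (hker : ∀ y, π y = 1 ↔ y ∈ (Subgroup.inclusion hNT).range)
  (Θ : ↥T → ℂ) (hΘ : IsCharacter ↥T Θ) (hΘj : ∀ n, Θ (Subgroup.inclusion hNT n) = θ.1 n)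

/-- The relation between the irreducible characters of the quotient of the stabilizer and the
irreducible characters of the group lying over `θ`. -/
def GRel (η : IrrCharacter Yb) (χ : IrrCharacter X) : Prop :=
  mult (fun t : ↥T => χ.1 t) (gal π hπ (Subgroup.inclusion hNT) hker Θ hΘ θ hΘj η) ≠ 0

omit hN in
theorem rel_exists (η : IrrCharacter Yb) : ∃ χ, GRel N θ T hNT π hπ hker Θ hΘ hΘj η χ :=
  Cfsg.Agent.Lib.Helper81.GlaubNormal.exists_over T _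

include hT in
theorem rel_unique_right (η : IrrCharacter Yb) (χ χ' : IrrCharacter X)
    (h : GRel N θ T hNT π hπ hker Θ hΘ hΘj η χ) (h' : GRel N θ T hNT π hπ hker Θ hΘ hΘj η χ') :
    χ = χ' :=
  cp_unique N θ T hT hNT _ (gal_over π hπ (Subgroup.inclusion hNT) hker Θ hΘ θ hΘj η) χ χ' h h'

include hT in
theorem rel_surj (χ : IrrCharacter X) (h : mult (fun n : ↥N => χ.1 n) θ ≠ 0) :
    ∃ η, GRel N θ T hNT π hπ hker Θ hΘ hΘj η χ := by
  obtain ⟨ψ, h1, h2⟩ := cp_exists N θ T hT hNT χ h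
  obtain ⟨η, rfl⟩ := gal_surj π hπ (Subgroup.inclusion hNT) hker Θ hΘ θ hΘj ψ h2
  exact ⟨η, h1⟩

include hT in
theorem rel_main (η : IrrCharacter Yb) (χ : IrrCharacter X)
    (h : GRel N θ T hNT π hπ hker Θ hΘ hΘj η χ) :
    mult (fun t : ↥T => χ.1 t) (gal π hπ (Subgroup.inclusion hNT) hker Θ hΘ θ hΘj η) = 1 ∧
    ∀ ψ' : IrrCharacter ↥T, mult (fun t : ↥T => χ.1 t) ψ' ≠ 0 →
      mult (fun n : ↥N => ψ'.1 (Subgroup.inclusion hNT n)) θ ≠ 0 →
      ψ' = gal π hπ (Subgroup.inclusion hNT) hker Θ hΘ θ hΘj η :=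
  (cp_main N θ T hT hNT χ _ h (gal_over π hπ (Subgroup.inclusion hNT) hker Θ hΘ θ hΘj η)).2

include hT in
theorem rel_unique_left (η η' : IrrCharacter Yb) (χ : IrrCharacter X)
    (h : GRel N θ T hNT π hπ hker Θ hΘ hΘj η χ) (h' : GRel N θ T hNT π hπ hker Θ hΘ hΘj η' χ) :
    η = η' := by
  have h1 := (rel_main N θ T hT hNT π hπ hker Θ hΘ hΘj η χ h).2 _ h'
    (gal_over π hπ (Subgroup.inclusion hNT) hker Θ hΘ θ hΘj η')
  exact (gal_injective π hπ (Subgroup.inclusion hNT) hker Θ hΘ θ hΘj η' η h1).symm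

omit hN in
theorem rel_over (η : IrrCharacter Yb) (χ : IrrCharacter X)
    (h : GRel N θ T hNT π hπ hker Θ hΘ hΘj η χ) : mult (fun n : ↥N => χ.1 n) θ ≠ 0 :=
  over_trans N θ T hNT χ _ h (gal_over π hπ (Subgroup.inclusion hNT) hker Θ hΘ θ hΘj η)

omit hN in
/-- The relation is compatible with automorphisms. -/
theorem rel_twist (a : X ≃* X) (σ : ↥T ≃* ↥T) (hσ : ∀ t, (σ t : X) = a t) (s : Yb ≃* Yb)
    (hs : ∀ y, s (π y) = π (σ y)) (hΘσ : ∀ y, Θ (σ y) = Θ y) (η : IrrCharacter Yb)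
    (χ : IrrCharacter X) :
    GRel N θ T hNT π hπ hker Θ hΘ hΘj (irrComp s η) (irrComp a χ) ↔
      GRel N θ T hNT π hπ hker Θ hΘ hΘj η χ := by
  unfold GRel
  rw [gal_twist π hπ (Subgroup.inclusion hNT) hker Θ hΘ θ hΘj σ s hs hΘσ η]
  have h1 : (fun t : ↥T => (irrComp a χ).1 t) = fun t => (fun t : ↥T => χ.1 t) (σ t) := by
    funext t
    show χ.1 (a t) = χ.1 (σ t)
    rw [hσ]
  rw [h1, mult_comp_equiv σ (fun t : ↥T => χ.1 t)
    (gal π hπ (Subgroup.inclusion hNT) hker Θ hΘ θ hΘj η)]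

include hT in
theorem rel_inv_left (a : X ≃* X) (σ : ↥T ≃* ↥T) (hσ : ∀ t, (σ t : X) = a t) (s : Yb ≃* Yb)
    (hs : ∀ y, s (π y) = π (σ y)) (hΘσ : ∀ y, Θ (σ y) = Θ y) (η : IrrCharacter Yb)
    (χ : IrrCharacter X) (h : GRel N θ T hNT π hπ hker Θ hΘ hΘj η χ)
    (hχ : irrComp a χ = χ) : irrComp s η = η := by
  have h1 := (rel_twist N θ T hNT π hπ hker Θ hΘ hΘj a σ hσ s hs hΘσ η χ).2 h
  rw [hχ] at h1
  exact rel_unique_left N θ T hT hNT π hπ hker Θ hΘ hΘj _ _ χ h1 h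

include hT in
theorem rel_inv_right (a : X ≃* X) (σ : ↥T ≃* ↥T) (hσ : ∀ t, (σ t : X) = a t) (s : Yb ≃* Yb)
    (hs : ∀ y, s (π y) = π (σ y)) (hΘσ : ∀ y, Θ (σ y) = Θ y) (η : IrrCharacter Yb)
    (χ : IrrCharacter X) (h : GRel N θ T hNT π hπ hker Θ hΘ hΘj η χ)
    (hη : irrComp s η = η) : irrComp a χ = χ := by
  have h1 := (rel_twist N θ T hNT π hπ hker Θ hΘ hΘj a σ hσ s hs hΘσ η χ).2 h
  rw [hη] at h1
  exact rel_unique_right N θ T hT hNT π hπ hker Θ hΘ hΘj η _ χ h1 h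

end side

section matrix

variable {K : Type u} [Group K] [Fintype K] (N : Subgroup K) [hN : N.Normal] [Fintype ↥N]
  (θ : IrrCharacter ↥N) (T : Subgroup K) [Fintype ↥T]
  (hT : ∀ g : K, g ∈ T ↔
    ∀ n : ↥N, θ.1 ⟨g * n * g⁻¹, hN.conj_mem (n : K) n.2 g⟩ = θ.1 n)
  (hNT : N ≤ T)
  {Yb : Type u} [Group Yb] [Fintype Yb] (π : ↥T →* Yb) (hπ : Function.Surjective π)
  (hker : ∀ y, π y = 1 ↔ y ∈ (Subgroup.inclusion hNT).range)
  (Θ : ↥T → ℂ) (hΘ : IsCharacter ↥T Θ) (hΘj : ∀ n, Θ (Subgroup.inclusion hNT n) = θ.1 n)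
  {X : Type u} [Group X] [Fintype X] (N' : Subgroup X) [hN' : N'.Normal] [Fintype ↥N']
  (θ' : IrrCharacter ↥N') (T' : Subgroup X) [Fintype ↥T']
  (hT' : ∀ g : X, g ∈ T' ↔
    ∀ n : ↥N', θ'.1 ⟨g * n * g⁻¹, hN'.conj_mem (n : X) n.2 g⟩ = θ'.1 n)
  (hNT' : N' ≤ T')
  {Yb' : Type u} [Group Yb'] [Fintype Yb'] (π' : ↥T' →* Yb') (hπ' : Function.Surjective π')
  (hker' : ∀ y, π' y = 1 ↔ y ∈ (Subgroup.inclusion hNT').range)
  (ιC : X →* K) (κ : ↥T' →* ↥T) (hκ : ∀ d : ↥T', (κ d : K) = ιC (d : X))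
  (hΘj' : ∀ n, Θ (κ (Subgroup.inclusion hNT' n)) = θ'.1 n)
  (ι : Yb' →* Yb) (hsq : ∀ d, π (κ d) = ι (π' d))
  (e : ↥N' ≃* ↥N) (he : ∀ n, κ (Subgroup.inclusion hNT' n) = Subgroup.inclusion hNT (e n))
  (hθ' : θ' = infl e.toMonoidHom e.surjective θ)

include hT hT' hκ hsq he hθ' in
/-- The multiplicities of corresponding characters are those of the quotients. -/
theorem rel_matrix (η : IrrCharacter Yb) (χ : IrrCharacter K) (β : IrrCharacter Yb')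
    (ξ : IrrCharacter X) (hK : GRel N θ T hNT π hπ hker Θ hΘ hΘj η χ)
    (hC : GRel N' θ' T' hNT' π' hπ' hker' (fun d => Θ (κ d))
      (Cfsg.Agent.Lib.CT.Ops.isCharacter_comp_hom κ hΘ) hΘj' β ξ) :
    mult (fun c => χ.1 (ιC c)) ξ = mult (fun z => η.1 (ι z)) β := by
  classical
  subst hθ'
  have : Finite (IrrCharacter ↥T') := finite_irr
  let _ : Fintype (IrrCharacter ↥T') := Fintype.ofFinite _
  have hΦ : IsCharacter ↥T' (fun d => Θ (κ d)) := Cfsg.Agent.Lib.CT.Ops.isCharacter_comp_hom κ hΘ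
  have hmK := rel_main N θ T hT hNT π hπ hker Θ hΘ hΘj η χ hK
  have hmC := rel_main N' _ T' hT' hNT' π' hπ' hker' (fun d => Θ (κ d)) hΦ hΘj' β ξ hC
  have hsquare := mult_square T.subtype ιC κ T'.subtype (fun d => hκ d) χ
    (gal π hπ (Subgroup.inclusion hNT) hker Θ hΘ θ hΘj η) ξ
    (gal π' hπ' (Subgroup.inclusion hNT') hker' (fun d => Θ (κ d)) hΦ _ hΘj' β)
    hmK.1 ?_ hmC.1 ?_
  · rw [hsquare]
    exact gal_res π hπ (Subgroup.inclusion hNT) hker Θ hΘ θ hΘj π' hπ' (Subgroup.inclusion hNT')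
      hker' κ _ hΘj' ι hsq η β
  · intro ψ' hne h0
    by_contra h1
    apply hne
    apply hmK.2 ψ' h0
    -- `ψ'` lies over `θ`
    have hch : IsCharacter ↥T' (fun d => ψ'.1 (κ d)) :=
      Cfsg.Agent.Lib.CT.Ops.isCharacter_comp_hom κ
        (Cfsg.Agent.Lib.CT.Wedderburn.isCharacter_of_irr ψ'.2)
    have h2 := mult_comp (Subgroup.inclusion hNT') hch
      (infl e.toMonoidHom e.surjective θ)
    have h3 : (fun n : ↥N' => (fun d => ψ'.1 (κ d)) (Subgroup.inclusion hNT' n)) =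
        fun n : ↥N' => (fun q : ↥N => ψ'.1 (Subgroup.inclusion hNT q)) (e.toMonoidHom n) := by
      funext n
      show ψ'.1 (κ (Subgroup.inclusion hNT' n)) = ψ'.1 (Subgroup.inclusion hNT (e n))
      rw [he]
    rw [h3, mult_infl e.toMonoidHom e.surjective
      (fun q : ↥N => ψ'.1 (Subgroup.inclusion hNT q)) θ] at h2
    rw [h2]
    intro h4
    have h5 := (Finset.sum_eq_zero_iff.1 h4)
      (gal π' hπ' (Subgroup.inclusion hNT') hker' (fun d => Θ (κ d)) hΦ _ hΘj' β)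
      (Finset.mem_univ _)
    rcases Nat.mul_eq_zero.1 h5 with h6 | h6
    · exact h1 h6
    · exact gal_over π' hπ' (Subgroup.inclusion hNT') hker' (fun d => Θ (κ d)) hΦ _ hΘj' β h6
  · intro ξ' hne
    by_contra h0
    exact hne (rel_unique_right N' _ T' hT' hNT' π' hπ' hker' (fun d => Θ (κ d)) hΦ hΘj' β ξ' ξ
      h0 hC)

end matrix

section objects

variable {K : Type u} [Group K] (Q : Subgroup K) [hQn : Q.Normal] (A : Subgroup (MulAut K))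
  (T : Subgroup K) (hTA : ∀ a ∈ A, ∀ t ∈ T, a t ∈ T) (hQA : ∀ a ∈ A, ∀ q ∈ Q, a q ∈ Q)

omit hQn in
include hQA in
theorem actT_mem (b : ↥A) (m : ↥T) (hm : m ∈ Q.subgroupOf T) :
    restrictAut A T hTA b m ∈ Q.subgroupOf T := by
  rw [Subgroup.mem_subgroupOf] at hm ⊢
  exact hQA b.1 b.2 _ hm

/-- The action on the quotient of the stabilizer. -/
noncomputable def actQ : ↥A →* MulAut (↥T ⧸ Q.subgroupOf T) :=
  quotAut (Q.subgroupOf T) (restrictAut A T hTA) (fun b m hm => actT_mem Q A T hTA hQA b m hm)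

theorem actQ_mk (b : ↥A) (t : ↥T) :
    actQ Q A T hTA hQA b (QuotientGroup.mk t) = QuotientGroup.mk (restrictAut A T hTA b t) :=
  rfl

/-- The group of induced automorphisms of the quotient. -/
noncomputable abbrev Sq : Subgroup (MulAut (↥T ⧸ Q.subgroupOf T)) := (actQ Q A T hTA hQA).range

theorem Sq_pgroup (p : ℕ) (hA : IsPGroup p A) : IsPGroup p (Sq Q A T hTA hQA) :=
  hA.of_surjective (actQ Q A T hTA hQA).rangeRestrict
    (actQ Q A T hTA hQA).rangeRestrict_surjective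

/-- The inclusion of the stabilizer in `C` into the stabilizer. -/
def kap (C : Subgroup K) : ↥(T.subgroupOf C) →* ↥T where
  toFun x := ⟨((x : ↥C) : K), Subgroup.mem_subgroupOf.1 x.2⟩
  map_one' := rfl
  map_mul' _ _ := rfl

theorem kap_coe (C : Subgroup K) (x : ↥(T.subgroupOf C)) : (kap T C x : K) = ((x : ↥C) : K) :=
  rfl

variable (C : Subgroup K) (hC : ∀ k, k ∈ C ↔ ∀ a ∈ A, a k * k⁻¹ ∈ Q)

include hC in
theorem mk_kap_mem (x : ↥(T.subgroupOf C)) :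
    (QuotientGroup.mk (kap T C x) : ↥T ⧸ Q.subgroupOf T) ∈ fixS (Sq Q A T hTA hQA) := by
  intro s hs
  obtain ⟨b, rfl⟩ := hs
  rw [actQ_mk, QuotientGroup.eq, Subgroup.mem_subgroupOf]
  have h1 : b.1 ((x : ↥C) : K) * ((x : ↥C) : K)⁻¹ ∈ Q := (hC _).1 x.1.2 b.1 b.2
  have h2 : (((restrictAut A T hTA b (kap T C x))⁻¹ * kap T C x : ↥T) : K) =
      (b.1 ((x : ↥C) : K))⁻¹ * (b.1 ((x : ↥C) : K) * ((x : ↥C) : K)⁻¹)⁻¹ *
        (b.1 ((x : ↥C) : K))⁻¹⁻¹ := by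
    show (b.1 ((x : ↥C) : K))⁻¹ * ((x : ↥C) : K) = _
    group
  rw [h2]
  exact hQn.conj_mem _ (Q.inv_mem h1) _

/-- The projection of the stabilizer in `C` onto the fixed points of the quotient. -/
noncomputable def piC : ↥(T.subgroupOf C) →* ↥(fixS (Sq Q A T hTA hQA)) :=
  ((QuotientGroup.mk' (Q.subgroupOf T)).comp (kap T C)).codRestrict _
    (fun x => mk_kap_mem Q A T hTA hQA C hC x)

theorem piC_coe (x : ↥(T.subgroupOf C)) :
    ((piC Q A T hTA hQA C hC x : ↥(fixS (Sq Q A T hTA hQA))) : ↥T ⧸ Q.subgroupOf T) =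
      QuotientGroup.mk (kap T C x) := rfl

theorem piC_surjective : Function.Surjective (piC Q A T hTA hQA C hC) := by
  intro z
  obtain ⟨t, ht⟩ := QuotientGroup.mk_surjective z.1
  have htC : (t : K) ∈ C := by
    rw [hC]
    intro a ha
    have h1 := z.2 (actQ Q A T hTA hQA ⟨a, ha⟩) ⟨⟨a, ha⟩, rfl⟩
    rw [← ht, actQ_mk, QuotientGroup.eq, Subgroup.mem_subgroupOf] at h1
    have h2 : a (t : K) * (t : K)⁻¹ =
        a (t : K) * ((a (t : K))⁻¹ * (t : K))⁻¹ * (a (t : K))⁻¹ := by group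
    rw [h2]
    exact hQn.conj_mem _ (Q.inv_mem h1) _
  refine ⟨⟨⟨(t : K), htC⟩, Subgroup.mem_subgroupOf.2 t.2⟩, Subtype.ext ?_⟩
  rw [piC_coe]
  exact ht

variable (hQT : Q ≤ T)

omit hQn in
include hQT in
theorem hNTC : Q.subgroupOf C ≤ T.subgroupOf C :=
  fun _ hx => Subgroup.mem_subgroupOf.2 (hQT (Subgroup.mem_subgroupOf.1 hx))

theorem piC_ker (x : ↥(T.subgroupOf C)) :
    piC Q A T hTA hQA C hC x = 1 ↔ x ∈ (Subgroup.inclusion (hNTC Q T C hQT)).range := by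
  constructor
  · intro h
    have h1 : (QuotientGroup.mk (kap T C x) : ↥T ⧸ Q.subgroupOf T) = 1 := congrArg Subtype.val h
    rw [QuotientGroup.eq_one_iff, Subgroup.mem_subgroupOf] at h1
    exact ⟨⟨x.1, Subgroup.mem_subgroupOf.2 h1⟩, Subtype.ext rfl⟩
  · rintro ⟨n, rfl⟩
    apply Subtype.ext
    show (QuotientGroup.mk (kap T C (Subgroup.inclusion _ n)) : ↥T ⧸ Q.subgroupOf T) = 1
    rw [QuotientGroup.eq_one_iff, Subgroup.mem_subgroupOf]
    exact Subgroup.mem_subgroupOf.1 n.2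

theorem mk_ker (y : ↥T) :
    (QuotientGroup.mk' (Q.subgroupOf T)) y = 1 ↔ y ∈ (Subgroup.inclusion hQT).range := by
  rw [QuotientGroup.mk'_apply, QuotientGroup.eq_one_iff, Subgroup.mem_subgroupOf]
  constructor
  · intro h
    exact ⟨⟨y.1, h⟩, Subtype.ext rfl⟩
  · rintro ⟨n, rfl⟩
    exact n.2

end objects

section basics

variable {K : Type u} [Group K] (Q : Subgroup K) [hQn : Q.Normal] (A : Subgroup (MulAut K))
  (hQA : ∀ a ∈ A, ∀ q ∈ Q, a q ∈ Q) (θ : IrrCharacter ↥Q)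
  (hθ : ∀ a ∈ A, ∀ q q' : ↥Q, (q' : K) = a q → θ.1 q' = θ.1 q)
  (T : Subgroup K)
  (hT : ∀ g : K, g ∈ T ↔
    ∀ n : ↥Q, θ.1 ⟨g * n * g⁻¹, hQn.conj_mem (n : K) n.2 g⟩ = θ.1 n)

include hT in
theorem le_T : Q ≤ T := by
  intro g hg
  rw [hT]
  intro n
  exact irr_conj θ n ⟨g, hg⟩

include hT hθ hQA in
theorem T_stable : ∀ a ∈ A, ∀ t ∈ T, a t ∈ T := by
  intro a ha t ht
  rw [hT]
  intro n
  let n' : ↥Q := ⟨a⁻¹ (n : K), hQA a⁻¹ (A.inv_mem ha) n n.2⟩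
  have h1 : θ.1 ⟨a t * n * (a t)⁻¹, hQn.conj_mem (n : K) n.2 (a t)⟩ =
      θ.1 ⟨t * n' * t⁻¹, hQn.conj_mem (n' : K) n'.2 t⟩ := by
    apply hθ a ha
    show a t * (n : K) * (a t)⁻¹ = a (t * a⁻¹ (n : K) * t⁻¹)
    rw [map_mul, map_mul, map_inv, MulAut.apply_inv_self]
  have h2 : θ.1 n = θ.1 n' := by
    apply hθ a ha
    show (n : K) = a (a⁻¹ (n : K))
    rw [MulAut.apply_inv_self]
  rw [h1, h2]
  exact (hT t).1 ht n'

variable (C : Subgroup K) (hC : ∀ k, k ∈ C ↔ ∀ a ∈ A, a k * k⁻¹ ∈ Q)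

omit hQn in
include hC hQA in
theorem Q_le_C : Q ≤ C :=
  fun q hq => (hC q).2 (fun a ha => Q.mul_mem (hQA a ha q hq) (Q.inv_mem hq))

omit hQn in
include hC hQA in
theorem C_stable : ∀ a ∈ A, ∀ c ∈ C, a c ∈ C := by
  intro a ha c hc
  have h1 : a c = (a c * c⁻¹) * c := by group
  rw [h1]
  exact C.mul_mem (Q_le_C Q A hQA C hC ((hC c).1 hc a ha)) hc

end basics

section ext

/-- An invariant irreducible character of the normal Sylow subgroup has an invariant extension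
to its stabilizer. -/
theorem exists_ext {K : Type u} [Group K] [Finite K] (p : ℕ) [Fact p.Prime] (Q : Subgroup K)
    [hQn : Q.Normal] (A : Subgroup (MulAut K)) (hQp : IsPGroup p Q) (hQi : ¬ p ∣ Q.index)
    (hQA : ∀ a ∈ A, ∀ q ∈ Q, a q ∈ Q) (θ : IrrCharacter ↥Q)
    (hθ : ∀ a ∈ A, ∀ q q' : ↥Q, (q' : K) = a q → θ.1 q' = θ.1 q)
    (T : Subgroup K)
    (hT : ∀ g : K, g ∈ T ↔
      ∀ n : ↥Q, θ.1 ⟨g * n * g⁻¹, hQn.conj_mem (n : K) n.2 g⟩ = θ.1 n)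
    (hQT : Q ≤ T) (hTA : ∀ a ∈ A, ∀ t ∈ T, a t ∈ T) :
    ∃ Θ : IrrCharacter ↥T, (∀ n : ↥Q, Θ.1 (Subgroup.inclusion hQT n) = θ.1 n) ∧
      ∀ a ∈ A, ∀ t t' : ↥T, (t' : K) = a t → Θ.1 t' = Θ.1 t := by
  classical
  have hp : p.Prime := Fact.out
  let e : ↥(Q.subgroupOf T) ≃* ↥Q := Subgroup.subgroupOfEquivOfLe hQT
  have hϑ : IsIrrCharacter ↥(Q.subgroupOf T) (fun n => θ.1 (e n)) :=
    Cfsg.Agent.Lib.CT.Ops.isIrrCharacter_comp_mulEquiv e θ.2
  have hinv : ∀ (g : ↥T) (n : ↥(Q.subgroupOf T)),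
      (fun n => θ.1 (e n)) ⟨g * n * g⁻¹,
        (inferInstance : (Q.subgroupOf T).Normal).conj_mem (n : ↥T) n.2 g⟩ =
        (fun n => θ.1 (e n)) n := by
    intro g n
    exact (hT g).1 g.2 (e n)
  obtain ⟨k, hk⟩ := IsPGroup.iff_card.1 hQp
  have hcardN : Nat.card ↥(Q.subgroupOf T) = p ^ k := by rw [Nat.card_congr e.toEquiv, hk]
  have hidx : Nat.Coprime (Q.subgroupOf T).index p := by
    rw [Nat.coprime_comm, hp.coprime_iff_not_dvd]
    exact fun h => hQi (h.trans (Subgroup.relIndex_dvd_index_of_normal (H := Q) (K := T)))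
  have hdet : detOrder (fun n => θ.1 (e n)) ∣ p ^ k := by
    rw [← hcardN]
    exact Cfsg.Agent.Lib.Helper4.GlauDet.detOrder_dvd_card hϑ
  have hdeg : charDegree θ.1 ∣ p ^ k := by
    rw [← hk]
    exact Cfsg.Agent.Lib.Helper80.Integrality.charDegree_dvd_card θ
  have hcop1 : Nat.Coprime (Q.subgroupOf T).index (detOrder (fun n => θ.1 (e n))) :=
    Nat.Coprime.coprime_dvd_right hdet (Nat.Coprime.pow_right k hidx)
  have hcop : Nat.Coprime (Q.subgroupOf T).index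
      (detOrder (fun n => θ.1 (e n)) * charDegree θ.1) :=
    Nat.Coprime.mul_right hcop1
      (Nat.Coprime.coprime_dvd_right hdeg (Nat.Coprime.pow_right k hidx))
  have hd : (fun n => θ.1 (e n)) 1 = ((charDegree θ.1 : ℕ) : ℂ) := by
    show θ.1 (e 1) = _
    rw [map_one]
    exact Cfsg.Agent.Lib.Helper81.CliffCorr.deg_cast θ
  obtain ⟨χ, ⟨hχ, hext, hdetχ⟩, huniq⟩ := Cfsg.Agent.S0867.result (Q.subgroupOf T)
    (fun n => θ.1 (e n)) hϑ hinv (charDegree θ.1) hd hcop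
  refine ⟨⟨χ, hχ⟩, ?_, ?_⟩
  · intro n
    have h1 := hext (e.symm n)
    have h2 : ((e.symm n : ↥(Q.subgroupOf T)) : ↥T) = Subgroup.inclusion hQT n := Subtype.ext rfl
    rw [h2] at h1
    show χ (Subgroup.inclusion hQT n) = θ.1 n
    rw [h1]
    show θ.1 (e (e.symm n)) = θ.1 n
    rw [MulEquiv.apply_symm_apply]
  · intro a ha t t' htt
    let σ : ↥T ≃* ↥T := restrictAut A T hTA ⟨a, ha⟩
    have hirr' : IsIrrCharacter ↥T (fun t => χ (σ t)) :=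
      Cfsg.Agent.Lib.CT.Ops.isIrrCharacter_comp_mulEquiv σ hχ
    have hext' : ∀ n : ↥(Q.subgroupOf T), (fun t => χ (σ t)) n = (fun n => θ.1 (e n)) n := by
      intro n
      have hmem : σ (n : ↥T) ∈ Q.subgroupOf T := actT_mem Q A T hTA hQA ⟨a, ha⟩ n n.2
      have h1 := hext ⟨σ (n : ↥T), hmem⟩
      show χ (σ (n : ↥T)) = θ.1 (e n)
      have h3 : χ (σ (n : ↥T)) = θ.1 (e ⟨σ (n : ↥T), hmem⟩) := h1
      rw [h3]
      exact hθ a ha (e n) (e ⟨σ (n : ↥T), hmem⟩) rfl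
    have hcop' : Nat.Coprime (Q.subgroupOf T).index (detOrder (fun t => χ (σ t))) := by
      rw [Cfsg.Agent.Lib.Helper74.DetTools.detOrder_comp_mulEquiv σ hχ, hdetχ]
      exact hcop1
    have h3 := huniq _ hirr' hext' hcop'
    have h4 : t' = σ t := Subtype.ext htt
    rw [h4]
    exact congrFun h3 t

end ext

end Cfsg.Agent.Lib.Helper81.NSylC
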