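import Mathlib
import Cfsg.Prelude.Def_Characters
import Cfsg.Agent.Lib.Helper81.NSylC

set_option autoImplicit false
set_option linter.style.haveILetI false
set_option linter.unusedSectionVars false
set_option maxHeartbeats 1600000

/-!
# The correspondence over a fixed invariant character of the normal Sylow subgroup
-/

namespace Cfsg.Agent.Lib.Helper81.NSylD

open Cfsg
open Cfsg.Agent.Lib.Helper81.Irr Cfsg.Agent.Lib.Helper81.Basic Cfsg.Agent.Lib.Helper81.Expand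
  Cfsg.Agent.Lib.Helper81.Mult Cfsg.Agent.Lib.Helper81.GlaubCore Cfsg.Agent.Lib.Helper81.Glaub
  Cfsg.Agent.Lib.Helper81.NSylA Cfsg.Agent.Lib.Helper81.NSylB Cfsg.Agent.Lib.Helper81.NSylC
  Cfsg.Agent.Lib.Helper81.GlaubClass
open scoped ComplexConjugate

universe u

/-- The local form of the correspondence: the statement over a fixed invariant irreducible
character `θ` of `Q`. -/
def LocalProp (p : ℕ) {K : Type u} [Group K] (Q : Subgroup K) [Fintype ↥Q]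
    (A : Subgroup (MulAut K)) (C : Subgroup K) [Fintype ↥C] (hQC : Q ≤ C)
    (θ : IrrCharacter ↥Q) : Prop :=
  (∀ χ : IrrCharacter K, (∀ a ∈ A, ∀ k, χ.1 (a k) = χ.1 k) →
      mult (fun q : ↥Q => χ.1 q) θ ≠ 0 →
      ∃ ξ : IrrCharacter ↥C, mult (fun q : ↥Q => ξ.1 (Subgroup.inclusion hQC q)) θ ≠ 0 ∧
        (((mult (fun c => χ.1 (C.subtype c)) ξ : ℕ) : ℤ) ≡ 1 [ZMOD p] ∨
          ((mult (fun c => χ.1 (C.subtype c)) ξ : ℕ) : ℤ) ≡ -1 [ZMOD p]) ∧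
        ∀ γ : IrrCharacter ↥C, mult (fun q : ↥Q => γ.1 (Subgroup.inclusion hQC q)) θ ≠ 0 →
          γ ≠ ξ → p ∣ mult (fun c => χ.1 (C.subtype c)) γ) ∧
  (∀ χ χ' : IrrCharacter K, (∀ a ∈ A, ∀ k, χ.1 (a k) = χ.1 k) →
      (∀ a ∈ A, ∀ k, χ'.1 (a k) = χ'.1 k) →
      mult (fun q : ↥Q => χ.1 q) θ ≠ 0 → mult (fun q : ↥Q => χ'.1 q) θ ≠ 0 →
      ∀ ξ : IrrCharacter ↥C, mult (fun q : ↥Q => ξ.1 (Subgroup.inclusion hQC q)) θ ≠ 0 →
      ¬ p ∣ mult (fun c => χ.1 (C.subtype c)) ξ → ¬ p ∣ mult (fun c => χ'.1 (C.subtype c)) ξ →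
      χ = χ') ∧
  (∀ ξ : IrrCharacter ↥C, mult (fun q : ↥Q => ξ.1 (Subgroup.inclusion hQC q)) θ ≠ 0 →
      ∃ χ : IrrCharacter K, (∀ a ∈ A, ∀ k, χ.1 (a k) = χ.1 k) ∧
        mult (fun q : ↥Q => χ.1 q) θ ≠ 0 ∧ ¬ p ∣ mult (fun c => χ.1 (C.subtype c)) ξ) ∧
  (∀ ξ : IrrCharacter ↥C, mult (fun q : ↥Q => ξ.1 (Subgroup.inclusion hQC q)) θ ≠ 0 →
      ∀ a ∈ A, ∀ c c' : ↥C, (c' : K) = a c → ξ.1 c' = ξ.1 c)

section core

variable {K : Type u} [Group K] [Fintype K] (p : ℕ) [Fact p.Prime] (Q : Subgroup K)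
  [hQn : Q.Normal] [Fintype ↥Q] (A : Subgroup (MulAut K)) (hA : IsPGroup p A)
  (hQi : ¬ p ∣ Q.index) (hQA : ∀ a ∈ A, ∀ q ∈ Q, a q ∈ Q) (C : Subgroup K) [Fintype ↥C]
  (hC : ∀ k, k ∈ C ↔ ∀ a ∈ A, a k * k⁻¹ ∈ Q) (hQC : Q ≤ C)
  (θ : IrrCharacter ↥Q) (hθ : ∀ a ∈ A, ∀ q q' : ↥Q, (q' : K) = a q → θ.1 q' = θ.1 q)
  (T : Subgroup K) [Fintype ↥T]
  (hT : ∀ g : K, g ∈ T ↔
    ∀ n : ↥Q, θ.1 ⟨g * n * g⁻¹, hQn.conj_mem (n : K) n.2 g⟩ = θ.1 n)
  (hQT : Q ≤ T) (hTA : ∀ a ∈ A, ∀ t ∈ T, a t ∈ T)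
  (Θ : IrrCharacter ↥T) (hΘ : ∀ n : ↥Q, Θ.1 (Subgroup.inclusion hQT n) = θ.1 n)
  (hΘA : ∀ a ∈ A, ∀ t t' : ↥T, (t' : K) = a t → Θ.1 t' = Θ.1 t)

include hA hQi hQA hC hθ hT hTA hΘ hΘA in
theorem local_core : LocalProp p Q A C hQC θ := by
  classical
  have hp : p.Prime := Fact.out
  have hCA : ∀ a ∈ A, ∀ c ∈ C, a c ∈ C := C_stable Q A hQA C hC
  let _ : Fintype (↥T ⧸ Q.subgroupOf T) := Fintype.ofFinite _
  let _ : Fintype ↥(fixS (Sq Q A T hTA hQA)) := Fintype.ofFinite _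
  let _ : Fintype ↥(Q.subgroupOf C) := Fintype.ofFinite _
  let _ : Fintype ↥(T.subgroupOf C) := Fintype.ofFinite _
  -- the side of `K`
  have hπK : Function.Surjective (QuotientGroup.mk' (Q.subgroupOf T)) :=
    QuotientGroup.mk'_surjective _
  have hkerK := mk_ker Q T hQT
  have hΘc : IsCharacter ↥T Θ.1 := Cfsg.Agent.Lib.CT.Wedderburn.isCharacter_of_irr Θ.2
  -- the side of `C`
  let eQ : ↥(Q.subgroupOf C) ≃* ↥Q := Subgroup.subgroupOfEquivOfLe hQC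
  have hT' : ∀ c : ↥C, c ∈ T.subgroupOf C ↔ ∀ n : ↥(Q.subgroupOf C),
      (infl eQ.toMonoidHom eQ.surjective θ).1 ⟨c * n * c⁻¹,
        (inferInstance : (Q.subgroupOf C).Normal).conj_mem (n : ↥C) n.2 c⟩ =
      (infl eQ.toMonoidHom eQ.surjective θ).1 n := by
    intro c
    rw [Subgroup.mem_subgroupOf, hT]
    constructor
    · intro h n
      exact h (eQ n)
    · intro h n
      exact h (eQ.symm n)
  have hπC := piC_surjective Q A T hTA hQA C hC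
  have hkerC := piC_ker Q A T hTA hQA C hC hQT
  have hΘj' : ∀ n : ↥(Q.subgroupOf C),
      Θ.1 (kap T C (Subgroup.inclusion (hNTC Q T C hQT) n)) =
        (infl eQ.toMonoidHom eQ.surjective θ).1 n := by
    intro n
    exact hΘ (eQ n)
  have hΦ : IsCharacter ↥(T.subgroupOf C) (fun d => Θ.1 (kap T C d)) :=
    Cfsg.Agent.Lib.CT.Ops.isCharacter_comp_hom (kap T C) hΘc
  -- conversion of the lying-over condition on `C`
  have hLC : ∀ ξ : IrrCharacter ↥C,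
      mult (fun n : ↥(Q.subgroupOf C) => ξ.1 n) (infl eQ.toMonoidHom eQ.surjective θ) =
        mult (fun q : ↥Q => ξ.1 (Subgroup.inclusion hQC q)) θ := by
    intro ξ
    exact mult_infl eQ.toMonoidHom eQ.surjective
      (fun q : ↥Q => ξ.1 (Subgroup.inclusion hQC q)) θ
  -- the Glauberman correspondence of the quotient
  have hpY : ¬ p ∣ Nat.card (↥T ⧸ Q.subgroupOf T) := by
    intro h
    apply hQi
    have h1 : Nat.card (↥T ⧸ Q.subgroupOf T) = Q.relIndex T := rfl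
    rw [h1] at h
    exact h.trans (Subgroup.relIndex_dvd_index_of_normal (H := Q) (K := T))
  have hglaub := glaub_fixS p (Sq Q A T hTA hQA) (Sq_pgroup Q A T hTA hQA p hA) hpY
  -- invariance on the side of `K`
  have K6 : ∀ (η : IrrCharacter (↥T ⧸ Q.subgroupOf T)) (χ : IrrCharacter K),
      GRel Q θ T hQT (QuotientGroup.mk' (Q.subgroupOf T)) hπK hkerK Θ.1 hΘc hΘ η χ →
      ((∀ a ∈ A, ∀ k, χ.1 (a k) = χ.1 k) ↔
        ∀ s ∈ Sq Q A T hTA hQA, ∀ g, η.1 (s g) = η.1 g) := by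
    intro η χ hrel
    constructor
    · intro hχ s hs g
      obtain ⟨b, rfl⟩ := hs
      have hχ' : irrComp (b.1 : K ≃* K) χ = χ :=
        Subtype.ext (funext fun k => hχ b.1 b.2 k)
      have h1 := rel_inv_left Q θ T hT hQT (QuotientGroup.mk' (Q.subgroupOf T)) hπK hkerK Θ.1
        hΘc hΘ (b.1 : K ≃* K) (restrictAut A T hTA b) (fun t => rfl) (actQ Q A T hTA hQA b)
        (fun y => rfl) (fun y => hΘA b.1 b.2 y _ rfl) η χ hrel hχ'
      exact congrFun (congrArg Subtype.val h1) g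
    · intro hη a ha k
      have hη' : irrComp (actQ Q A T hTA hQA ⟨a, ha⟩) η = η :=
        Subtype.ext (funext fun g => hη _ ⟨⟨a, ha⟩, rfl⟩ g)
      have h1 := rel_inv_right Q θ T hT hQT (QuotientGroup.mk' (Q.subgroupOf T)) hπK hkerK Θ.1
        hΘc hΘ (a : K ≃* K) (restrictAut A T hTA ⟨a, ha⟩) (fun t => rfl)
        (actQ Q A T hTA hQA ⟨a, ha⟩) (fun y => rfl) (fun y => hΘA a ha y _ rfl) η χ hrel hη'
      exact congrFun (congrArg Subtype.val h1) k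
  -- the transfer
  have hmain := local_transfer p C.subtype (fixS (Sq Q A T hTA hQA)).subtype
    (fun η : IrrCharacter (↥T ⧸ Q.subgroupOf T) => ∀ s ∈ Sq Q A T hTA hQA, ∀ g, η.1 (s g) = η.1 g)
    hglaub
    (fun χ : IrrCharacter K => ∀ a ∈ A, ∀ k, χ.1 (a k) = χ.1 k)
    (fun χ : IrrCharacter K => mult (fun q : ↥Q => χ.1 q) θ ≠ 0)
    (fun ξ : IrrCharacter ↥C => mult (fun q : ↥Q => ξ.1 (Subgroup.inclusion hQC q)) θ ≠ 0)
    (GRel Q θ T hQT (QuotientGroup.mk' (Q.subgroupOf T)) hπK hkerK Θ.1 hΘc hΘ)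
    (GRel (Q.subgroupOf C) (infl eQ.toMonoidHom eQ.surjective θ) (T.subgroupOf C)
      (hNTC Q T C hQT) (piC Q A T hTA hQA C hC) hπC hkerC (fun d => Θ.1 (kap T C d)) hΦ hΘj')
    (rel_exists Q θ T hQT _ hπK hkerK Θ.1 hΘc hΘ)
    (rel_unique_right Q θ T hT hQT _ hπK hkerK Θ.1 hΘc hΘ)
    (rel_surj Q θ T hT hQT _ hπK hkerK Θ.1 hΘc hΘ)
    (rel_over Q θ T hQT _ hπK hkerK Θ.1 hΘc hΘ)
    K6
    (rel_exists (Q.subgroupOf C) _ (T.subgroupOf C) (hNTC Q T C hQT) _ hπC hkerC _ hΦ hΘj')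
    (rel_unique_right (Q.subgroupOf C) _ (T.subgroupOf C) hT' (hNTC Q T C hQT) _ hπC hkerC _ hΦ
      hΘj')
    (fun ξ h => rel_surj (Q.subgroupOf C) _ (T.subgroupOf C) hT' (hNTC Q T C hQT) _ hπC hkerC _
      hΦ hΘj' ξ (by rw [hLC ξ]; exact h))
    (fun β ξ h => by
      have h1 := rel_over (Q.subgroupOf C) _ (T.subgroupOf C) (hNTC Q T C hQT) _ hπC hkerC _ hΦ
        hΘj' β ξ h
      rw [hLC ξ] at h1
      exact h1)
    (fun η χ β ξ hK hCr =>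
      rel_matrix Q θ T hT hQT (QuotientGroup.mk' (Q.subgroupOf T)) hπK hkerK Θ.1 hΘc hΘ
        (Q.subgroupOf C) (infl eQ.toMonoidHom eQ.surjective θ) (T.subgroupOf C) hT'
        (hNTC Q T C hQT) (piC Q A T hTA hQA C hC) hπC hkerC C.subtype (kap T C) (fun d => rfl)
        hΘj' (fixS (Sq Q A T hTA hQA)).subtype (fun d => rfl) eQ (fun n => rfl) rfl η χ β ξ hK hCr)
  refine ⟨hmain.1, hmain.2.1, hmain.2.2, ?_⟩
  -- invariance on the side of `C`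
  intro ξ hξ a ha c c' hcc
  obtain ⟨β, hβ⟩ := rel_surj (Q.subgroupOf C) _ (T.subgroupOf C) hT' (hNTC Q T C hQT) _ hπC hkerC
    _ hΦ hΘj' ξ (by rw [hLC ξ]; exact hξ)
  let aC : ↥C ≃* ↥C := restrictAut A C hCA ⟨a, ha⟩
  have hTC : ∀ s ∈ (restrictAut A C hCA).range, ∀ d ∈ T.subgroupOf C, s d ∈ T.subgroupOf C := by
    rintro _ ⟨b, rfl⟩ d hd
    rw [Subgroup.mem_subgroupOf] at hd ⊢
    exact hTA b.1 b.2 _ hd
  let σC : ↥(T.subgroupOf C) ≃* ↥(T.subgroupOf C) :=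
    restrictAut (restrictAut A C hCA).range (T.subgroupOf C) hTC ⟨aC, ⟨⟨a, ha⟩, rfl⟩⟩
  have hs : ∀ y : ↥(T.subgroupOf C),
      (MulEquiv.refl ↥(fixS (Sq Q A T hTA hQA))) (piC Q A T hTA hQA C hC y) =
        piC Q A T hTA hQA C hC (σC y) := by
    intro y
    apply Subtype.ext
    have h1 := (piC Q A T hTA hQA C hC y).2 (actQ Q A T hTA hQA ⟨a, ha⟩) ⟨⟨a, ha⟩, rfl⟩
    exact h1.symm
  have hη' : irrComp (MulEquiv.refl ↥(fixS (Sq Q A T hTA hQA))) β = β := Subtype.ext rfl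
  have h1 := rel_inv_right (Q.subgroupOf C) _ (T.subgroupOf C) hT' (hNTC Q T C hQT) _ hπC hkerC
    _ hΦ hΘj' aC σC (fun t => rfl) (MulEquiv.refl _) hs
    (fun y => hΘA a ha (kap T C y) (kap T C (σC y)) rfl) β ξ hβ hη'
  have h2 : c' = aC c := Subtype.ext hcc
  rw [h2]
  exact congrFun (congrArg Subtype.val h1) c

end core

end Cfsg.Agent.Lib.Helper81.NSylD
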