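import Mathlib
import Cfsg.Prelude.Def_Characters
import Cfsg.Agent.Lib.Helper81.NSylD
import Cfsg.Agent.Lib.Helper74.CoprimeRes

set_option autoImplicit false
set_option linter.style.haveILetI false
set_option linter.unusedSectionVars false
set_option maxHeartbeats 1600000

/-!
# The correspondence for a `p`-group acting on a group with a normal Sylow `p`-subgroup
-/

namespace Cfsg.Agent.Lib.Helper81.NSylE

open Cfsg
open Cfsg.Agent.Lib.Helper81.Irr Cfsg.Agent.Lib.Helper81.Basic Cfsg.Agent.Lib.Helper81.Expand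
  Cfsg.Agent.Lib.Helper81.Mult Cfsg.Agent.Lib.Helper81.GlaubCore Cfsg.Agent.Lib.Helper81.Glaub
  Cfsg.Agent.Lib.Helper81.NSylA Cfsg.Agent.Lib.Helper81.NSylB Cfsg.Agent.Lib.Helper81.NSylC
  Cfsg.Agent.Lib.Helper81.NSylD Cfsg.Agent.Lib.Helper81.GlaubClass
open scoped ComplexConjugate

universe u

/-- The Glauberman property relative to families of characters on both sides. -/
def GlaubRel (p : ℕ) {G C : Type u} [Group G] [Group C] [Fintype C] (ι : C →* G)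
    (Inv : IrrCharacter G → Prop) (InvC : IrrCharacter C → Prop) : Prop :=
  (∀ χ, Inv χ → ∃ β : IrrCharacter C, InvC β ∧
      (((mult (fun c => χ.1 (ι c)) β : ℕ) : ℤ) ≡ 1 [ZMOD p] ∨
        ((mult (fun c => χ.1 (ι c)) β : ℕ) : ℤ) ≡ -1 [ZMOD p]) ∧
      ∀ γ, InvC γ → γ ≠ β → p ∣ mult (fun c => χ.1 (ι c)) γ) ∧
  (∀ χ χ', Inv χ → Inv χ' → ∀ β : IrrCharacter C, InvC β →
      ¬ p ∣ mult (fun c => χ.1 (ι c)) β → ¬ p ∣ mult (fun c => χ'.1 (ι c)) β → χ = χ') ∧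
  (∀ β : IrrCharacter C, InvC β → ∃ χ, Inv χ ∧ ¬ p ∣ mult (fun c => χ.1 (ι c)) β)

section core

variable {K : Type u} [Group K] [Fintype K] (p : ℕ) [Fact p.Prime] (Q : Subgroup K)
  [hQn : Q.Normal] [Fintype ↥Q] (A : Subgroup (MulAut K)) (hA : IsPGroup p A)
  (hQp : IsPGroup p Q) (hQi : ¬ p ∣ Q.index) (hQA : ∀ a ∈ A, ∀ q ∈ Q, a q ∈ Q)
  (C : Subgroup K) [Fintype ↥C] (hC : ∀ k, k ∈ C ↔ ∀ a ∈ A, a k * k⁻¹ ∈ Q) (hQC : Q ≤ C)

include hA hQp hQi hQA hC in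
/-- The correspondence over a fixed invariant character of `Q`. -/
theorem local_thm (θ : IrrCharacter ↥Q)
    (hθ : ∀ a ∈ A, ∀ q q' : ↥Q, (q' : K) = a q → θ.1 q' = θ.1 q) :
    LocalProp p Q A C hQC θ := by
  classical
  have hT := fun g => Cfsg.Agent.Lib.Helper78.CliffordCorr.mem_inertia Q hQn θ.1 g
  have hQT := le_T Q θ _ hT
  have hTA := T_stable Q A hQA θ hθ _ hT
  obtain ⟨Θ, hΘ, hΘA⟩ := exists_ext p Q A hQp hQi hQA θ hθ _ hT hQT hTA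
  let _ : Fintype ↥(Cfsg.Agent.Lib.Helper78.CliffordCorr.inertia Q hQn θ.1) := Fintype.ofFinite _
  exact local_core p Q A hA hQi hQA C hC hQC θ hθ
    (Cfsg.Agent.Lib.Helper78.CliffordCorr.inertia Q hQn θ.1) hT hQT hTA Θ hΘ hΘA

include hA hQi hQA hC in
/-- Two invariant constituents of an irreducible character are conjugate under `C`. -/
theorem conj_lemma (θ θ' : IrrCharacter ↥Q)
    (hθ : ∀ a ∈ A, ∀ q q' : ↥Q, (q' : K) = a q → θ.1 q' = θ.1 q)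
    (hθ' : ∀ a ∈ A, ∀ q q' : ↥Q, (q' : K) = a q → θ'.1 q' = θ'.1 q)
    (χ : IrrCharacter K) (h1 : mult (fun q : ↥Q => χ.1 q) θ ≠ 0)
    (h2 : mult (fun q : ↥Q => χ.1 q) θ' ≠ 0) :
    ∃ c ∈ C, ∀ q : ↥Q, θ'.1 q = θ.1 ⟨c * q * c⁻¹, hQn.conj_mem (q : K) q.2 c⟩ := by
  classical
  have hch : IsCharacter ↥Q (fun n : ↥Q => χ.1 n) :=
    Cfsg.Agent.Lib.CT.Ops.isCharacter_restrict Q
      (Cfsg.Agent.Lib.CT.Wedderburn.isCharacter_of_irr χ.2)
  have hc1 : classInner (fun n : ↥Q => χ.1 n) θ.1 ≠ 0 := by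
    rw [classInner_eq_mult hch θ]
    exact Nat.cast_ne_zero.2 h1
  have hc2 : classInner (fun n : ↥Q => χ.1 n) θ'.1 ≠ 0 := by
    rw [classInner_eq_mult hch θ']
    exact Nat.cast_ne_zero.2 h2
  obtain ⟨g, hg⟩ := Cfsg.Agent.Lib.CT.Clifford.exists_conj_of_constituent Q hQn χ.2 θ.2 θ'.2
    hc1 hc2
  have hg' : ∀ q : ↥Q, θ'.1 q = θ.1 ⟨g * q * g⁻¹, hQn.conj_mem (q : K) q.2 g⟩ :=
    fun q => congrFun hg q
  have hT := fun g => Cfsg.Agent.Lib.Helper78.CliffordCorr.mem_inertia Q hQn θ.1 g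
  have hTA := T_stable Q A hQA θ hθ _ hT
  have hgT : ∀ a ∈ A, a g * g⁻¹ ∈ Cfsg.Agent.Lib.Helper78.CliffordCorr.inertia Q hQn θ.1 := by
    intro a ha
    rw [hT]
    intro n
    let m : ↥Q := ⟨g⁻¹ * n * g, by
      have := hQn.conj_mem (n : K) n.2 g⁻¹
      rwa [inv_inv] at this⟩
    let m' : ↥Q := ⟨a⁻¹ (m : K), hQA a⁻¹ (A.inv_mem ha) m m.2⟩
    have s1 : θ.1 ⟨a g * g⁻¹ * n * (a g * g⁻¹)⁻¹, hQn.conj_mem (n : K) n.2 (a g * g⁻¹)⟩ =
        θ.1 ⟨g * m' * g⁻¹, hQn.conj_mem (m' : K) m'.2 g⟩ := by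
      apply hθ a ha
      show a g * g⁻¹ * (n : K) * (a g * g⁻¹)⁻¹ = a (g * a⁻¹ (g⁻¹ * (n : K) * g) * g⁻¹)
      rw [map_mul, map_mul, MulAut.apply_inv_self, map_inv]
      group
    have s2 : θ.1 ⟨g * m' * g⁻¹, hQn.conj_mem (m' : K) m'.2 g⟩ = θ'.1 m' := (hg' m').symm
    have s3 : θ'.1 m = θ'.1 m' := by
      apply hθ' a ha
      show (m : K) = a (a⁻¹ (m : K))
      rw [MulAut.apply_inv_self]
    have s4 : θ'.1 m = θ.1 n := by
      rw [hg' m]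
      exact congrArg θ.1 (Subtype.ext (by
        show g * (g⁻¹ * (n : K) * g) * g⁻¹ = n
        group))
    rw [s1, s2, ← s3, s4]
  -- the quotient by `Q`
  have hQA' : ∀ b : ↥A, ∀ m ∈ Q, A.subtype b m ∈ Q := fun b m hm => hQA b.1 b.2 m hm
  have hSK : IsPGroup p (quotAut Q A.subtype hQA').range :=
    hA.of_surjective (quotAut Q A.subtype hQA').rangeRestrict
      (quotAut Q A.subtype hQA').rangeRestrict_surjective
  have hpK : ¬ p ∣ Nat.card (K ⧸ Q) := hQi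
  have hH : ∀ s ∈ (quotAut Q A.subtype hQA').range,
      ∀ h ∈ (Cfsg.Agent.Lib.Helper78.CliffordCorr.inertia Q hQn θ.1).map (QuotientGroup.mk' Q),
      s h ∈ (Cfsg.Agent.Lib.Helper78.CliffordCorr.inertia Q hQn θ.1).map
        (QuotientGroup.mk' Q) := by
    rintro _ ⟨b, rfl⟩ _ ⟨t, ht, rfl⟩
    exact ⟨b.1 t, hTA b.1 b.2 t ht, rfl⟩
  have hgH : ∀ s ∈ (quotAut Q A.subtype hQA').range, s (g : K ⧸ Q) * (g : K ⧸ Q)⁻¹ ∈
      (Cfsg.Agent.Lib.Helper78.CliffordCorr.inertia Q hQn θ.1).map (QuotientGroup.mk' Q) := by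
    rintro _ ⟨b, rfl⟩
    exact ⟨b.1 g * g⁻¹, hgT b.1 b.2, rfl⟩
  obtain ⟨h, hhH, hfix⟩ := exists_fixed_coset p _ hSK hpK _ hH (g : K ⧸ Q) hgH
  obtain ⟨t, ht, rfl⟩ := hhH
  refine ⟨t * g, ?_, ?_⟩
  · rw [hC]
    intro a ha
    have h3 := hfix (quotAut Q A.subtype hQA' ⟨a, ha⟩) ⟨⟨a, ha⟩, rfl⟩
    have h4 : ((a (t * g) : K) : K ⧸ Q) = ((t * g : K) : K ⧸ Q) := h3
    rw [QuotientGroup.eq] at h4
    have h5 : a (t * g) * (t * g)⁻¹ =
        a (t * g) * ((a (t * g))⁻¹ * (t * g))⁻¹ * (a (t * g))⁻¹ := by group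
    rw [h5]
    exact hQn.conj_mem _ (Q.inv_mem h4) _
  · intro q
    rw [hg' q]
    have h6 := (hT t).1 ht ⟨g * q * g⁻¹, hQn.conj_mem (q : K) q.2 g⟩
    rw [← h6]
    exact congrArg θ.1 (Subtype.ext (by
      show t * (g * (q : K) * g⁻¹) * t⁻¹ = t * g * (q : K) * (t * g)⁻¹
      group))

omit [Fintype K] [Fact p.Prime] in
/-- Conjugate characters of `Q` have the same multiplicity in a character of `C`. -/
theorem conj_mult (θ θ' : IrrCharacter ↥Q) (c : K) (hc : c ∈ C)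
    (hconj : ∀ q : ↥Q, θ'.1 q = θ.1 ⟨c * q * c⁻¹, hQn.conj_mem (q : K) q.2 c⟩)
    (γ : IrrCharacter ↥C) :
    mult (fun q : ↥Q => γ.1 (Subgroup.inclusion hQC q)) θ' =
      mult (fun q : ↥Q => γ.1 (Subgroup.inclusion hQC q)) θ := by
  let σ : ↥Q ≃* ↥Q := MulAut.conjNormal c
  have h1 : irrComp σ θ = θ' := by
    apply Subtype.ext
    funext q
    exact (hconj q).symm
  have h2 : (fun q : ↥Q => γ.1 (Subgroup.inclusion hQC q)) =
      fun q => (fun q : ↥Q => γ.1 (Subgroup.inclusion hQC q)) (σ q) := by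
    funext q
    have h3 : Subgroup.inclusion hQC (σ q) =
        (⟨c, hc⟩ : ↥C) * Subgroup.inclusion hQC q * (⟨c, hc⟩ : ↥C)⁻¹ := Subtype.ext rfl
    show γ.1 (Subgroup.inclusion hQC q) = γ.1 (Subgroup.inclusion hQC (σ q))
    rw [h3, irr_conj]
  rw [← h1]
  conv_lhs => rw [h2]
  exact mult_comp_equiv σ (fun q : ↥Q => γ.1 (Subgroup.inclusion hQC q)) θ

include hA hQi hQA in
/-- An invariant irreducible character has an invariant constituent on `Q`. -/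
theorem exists_inv_const_K (χ : IrrCharacter K) (hχ : ∀ a ∈ A, ∀ k, χ.1 (a k) = χ.1 k) :
    ∃ θ : IrrCharacter ↥Q, (∀ a ∈ A, ∀ q q' : ↥Q, (q' : K) = a q → θ.1 q' = θ.1 q) ∧
      mult (fun q : ↥Q => χ.1 q) θ ≠ 0 := by
  classical
  have hp : p.Prime := Fact.out
  obtain ⟨k, hk⟩ := IsPGroup.iff_card.1 hA
  have hcop : (Q.index).Coprime (Nat.card ↥A) := by
    rw [hk]
    apply Nat.Coprime.pow_right
    rw [Nat.coprime_comm, hp.coprime_iff_not_dvd]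
    exact hQi
  have hnil : Group.IsNilpotent ↥A := hA.isNilpotent
  have hsolv : Group.IsSolvable ↥A := inferInstance
  obtain ⟨θ, hθ, hcon, hinv⟩ :=
    Cfsg.Agent.Lib.Helper74.CoprimeRes.exists_invariant_constituent Q A.subtype
      (fun b n hn => hQA b.1 b.2 n hn) hcop (Or.inl hsolv) χ.1 χ.2 (fun b g => hχ b.1 b.2 g)
  refine ⟨⟨θ, hθ⟩, ?_, ?_⟩
  · intro a ha q q' hqq
    have h1 : q' = ⟨a q, hQA a ha q q.2⟩ := Subtype.ext hqq
    rw [h1]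
    exact hinv ⟨a, ha⟩ q
  · have hch : IsCharacter ↥Q (fun n : ↥Q => χ.1 n) :=
      Cfsg.Agent.Lib.CT.Ops.isCharacter_restrict Q
        (Cfsg.Agent.Lib.CT.Wedderburn.isCharacter_of_irr χ.2)
    rw [classInner_eq_mult hch ⟨θ, hθ⟩] at hcon
    exact_mod_cast hcon

include hA hQi hQA hC in
/-- An invariant irreducible character of `C` has an invariant constituent on `Q`. -/
theorem exists_inv_const_C (ξ : IrrCharacter ↥C)
    (hξ : ∀ a ∈ A, ∀ c c' : ↥C, (c' : K) = a c → ξ.1 c' = ξ.1 c) :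
    ∃ θ : IrrCharacter ↥Q, (∀ a ∈ A, ∀ q q' : ↥Q, (q' : K) = a q → θ.1 q' = θ.1 q) ∧
      mult (fun q : ↥Q => ξ.1 (Subgroup.inclusion hQC q)) θ ≠ 0 := by
  classical
  have hp : p.Prime := Fact.out
  have hCA : ∀ a ∈ A, ∀ c ∈ C, a c ∈ C := C_stable Q A hQA C hC
  let _ : Fintype ↥(Q.subgroupOf C) := Fintype.ofFinite _
  obtain ⟨k, hk⟩ := IsPGroup.iff_card.1 hA
  have hcop : ((Q.subgroupOf C).index).Coprime (Nat.card ↥A) := by
    rw [hk]
    apply Nat.Coprime.pow_right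
    rw [Nat.coprime_comm, hp.coprime_iff_not_dvd]
    exact fun h => hQi (h.trans (Subgroup.relIndex_dvd_index_of_normal (H := Q) (K := C)))
  have hnil : Group.IsNilpotent ↥A := hA.isNilpotent
  have hsolv : Group.IsSolvable ↥A := inferInstance
  have hαN : ∀ b : ↥A, ∀ n ∈ Q.subgroupOf C, restrictAut A C hCA b n ∈ Q.subgroupOf C := by
    intro b n hn
    rw [Subgroup.mem_subgroupOf] at hn ⊢
    exact hQA b.1 b.2 _ hn
  obtain ⟨θ, hθ, hcon, hinv⟩ :=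
    Cfsg.Agent.Lib.Helper74.CoprimeRes.exists_invariant_constituent (Q.subgroupOf C)
      (restrictAut A C hCA) hαN hcop (Or.inl hsolv) ξ.1 ξ.2
      (fun b g => hξ b.1 b.2 g _ rfl)
  let eQ : ↥(Q.subgroupOf C) ≃* ↥Q := Subgroup.subgroupOfEquivOfLe hQC
  have hθ' : IsIrrCharacter ↥Q (fun q => θ (eQ.symm q)) :=
    Cfsg.Agent.Lib.CT.Ops.isIrrCharacter_comp_mulEquiv eQ.symm hθ
  refine ⟨⟨fun q => θ (eQ.symm q), hθ'⟩, ?_, ?_⟩
  · intro a ha q q' hqq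
    have h1 : eQ.symm q' = ⟨restrictAut A C hCA ⟨a, ha⟩ (eQ.symm q),
        hαN ⟨a, ha⟩ _ (eQ.symm q).2⟩ := Subtype.ext (Subtype.ext hqq)
    show θ (eQ.symm q') = θ (eQ.symm q)
    rw [h1]
    exact hinv ⟨a, ha⟩ (eQ.symm q)
  · have h1 := inner_comp_surj eQ.symm.toMonoidHom eQ.symm.surjective
      (fun n : ↥(Q.subgroupOf C) => ξ.1 n) θ
    have hch : IsCharacter ↥Q (fun q : ↥Q => ξ.1 (Subgroup.inclusion hQC q)) :=
      Cfsg.Agent.Lib.CT.Ops.isCharacter_comp_hom (Subgroup.inclusion hQC)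
        (Cfsg.Agent.Lib.CT.Wedderburn.isCharacter_of_irr ξ.2)
    have h2 : classInner (fun q : ↥Q => ξ.1 (Subgroup.inclusion hQC q))
        (fun q => θ (eQ.symm q)) ≠ 0 := by
      rw [← h1] at hcon
      exact hcon
    rw [classInner_eq_mult hch ⟨fun q => θ (eQ.symm q), hθ'⟩] at h2
    exact_mod_cast h2

omit hQn [Fintype K] [Fact p.Prime] in
/-- Lying over is transitive along `Q ≤ C ≤ K`. -/
theorem over_trans' (χ : IrrCharacter K) (γ : IrrCharacter ↥C) (θ : IrrCharacter ↥Q)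
    (h1 : mult (fun c => χ.1 (C.subtype c)) γ ≠ 0)
    (h2 : mult (fun q : ↥Q => γ.1 (Subgroup.inclusion hQC q)) θ ≠ 0) :
    mult (fun q : ↥Q => χ.1 q) θ ≠ 0 := by
  classical
  have : Finite (IrrCharacter ↥C) := finite_irr
  let _ : Fintype (IrrCharacter ↥C) := Fintype.ofFinite _
  have hch : IsCharacter ↥C (fun c => χ.1 (C.subtype c)) :=
    Cfsg.Agent.Lib.CT.Ops.isCharacter_comp_hom C.subtype
      (Cfsg.Agent.Lib.CT.Wedderburn.isCharacter_of_irr χ.2)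
  have h3 := mult_comp (Subgroup.inclusion hQC) hch θ
  have h4 : (fun q : ↥Q => (fun c => χ.1 (C.subtype c)) (Subgroup.inclusion hQC q)) =
      fun q : ↥Q => χ.1 q := rfl
  rw [h4] at h3
  rw [h3]
  intro h0
  have h5 := (Finset.sum_eq_zero_iff.1 h0) γ (Finset.mem_univ _)
  rcases Nat.mul_eq_zero.1 h5 with h6 | h6
  · exact h1 h6
  · exact h2 h6

include hA hQp hQi hQA hC in
/-- The correspondence for a `p`-group of automorphisms of a group with a normal Sylow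
`p`-subgroup `Q`, `C / Q` being the fixed points on the quotient. -/
theorem nsyl_core :
    GlaubRel p C.subtype (fun χ : IrrCharacter K => ∀ a ∈ A, ∀ k, χ.1 (a k) = χ.1 k)
      (fun ξ : IrrCharacter ↥C => ∀ a ∈ A, ∀ c c' : ↥C, (c' : K) = a c → ξ.1 c' = ξ.1 c) := by
  classical
  have hQC : Q ≤ C := Q_le_C Q A hQA C hC
  refine ⟨fun χ hχ => ?_, fun χ χ' hχ hχ' β hβ hnd hnd' => ?_, fun β hβ => ?_⟩
  · obtain ⟨θ, hθ, hθχ⟩ := exists_inv_const_K p Q A hA hQi hQA χ hχ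
    have L := local_thm p Q A hA hQp hQi hQA C hC hQC θ hθ
    obtain ⟨ξ, hξθ, hpm, hoth⟩ := L.1 χ hχ hθχ
    refine ⟨ξ, L.2.2.2 ξ hξθ, hpm, fun γ hγ hne => ?_⟩
    by_cases h0 : mult (fun c => χ.1 (C.subtype c)) γ = 0
    · rw [h0]
      exact dvd_zero p
    · obtain ⟨θ', hθ', hγθ'⟩ := exists_inv_const_C p Q A hA hQi hQA C hC hQC γ hγ
      have hχθ' := over_trans' Q C hQC χ γ θ' h0 hγθ'
      obtain ⟨c, hcC, hconj⟩ := conj_lemma p Q A hA hQi hQA C hC θ θ' hθ hθ' χ hθχ hχθ'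
      have hγθ : mult (fun q : ↥Q => γ.1 (Subgroup.inclusion hQC q)) θ ≠ 0 := by
        rw [← conj_mult Q C hQC θ θ' c hcC hconj γ]
        exact hγθ'
      exact hoth γ hγθ hne
  · obtain ⟨θ, hθ, hβθ⟩ := exists_inv_const_C p Q A hA hQi hQA C hC hQC β hβ
    have L := local_thm p Q A hA hQp hQi hQA C hC hQC θ hθ
    have hχθ := over_trans' Q C hQC χ β θ (fun h0 => hnd (by rw [h0]; exact dvd_zero p)) hβθ
    have hχ'θ := over_trans' Q C hQC χ' β θ (fun h0 => hnd' (by rw [h0]; exact dvd_zero p)) hβθ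
    exact L.2.1 χ χ' hχ hχ' hχθ hχ'θ β hβθ hnd hnd'
  · obtain ⟨θ, hθ, hβθ⟩ := exists_inv_const_C p Q A hA hQi hQA C hC hQC β hβ
    have L := local_thm p Q A hA hQp hQi hQA C hC hQC θ hθ
    obtain ⟨χ, hχ, -, hnd⟩ := L.2.2.1 β hβθ
    exact ⟨χ, hχ, hnd⟩

end core

end Cfsg.Agent.Lib.Helper81.NSylE
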