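import Mathlib
import Cfsg.Prelude.Def_Characters
import Cfsg.Agent.Lib.Helper81.NSylE

set_option autoImplicit false
set_option linter.style.haveILetI false
set_option linter.unusedSectionVars false
set_option maxHeartbeats 1600000

/-!
# The correspondence over a normal Sylow subgroup: degrees, transfer, final form
-/

namespace Cfsg.Agent.Lib.Helper81.NSylF

open Cfsg
open Cfsg.Agent.Lib.Helper81.Irr Cfsg.Agent.Lib.Helper81.Basic Cfsg.Agent.Lib.Helper81.Expand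
  Cfsg.Agent.Lib.Helper81.Mult Cfsg.Agent.Lib.Helper81.GlaubCore Cfsg.Agent.Lib.Helper81.Glaub
  Cfsg.Agent.Lib.Helper81.NSylA Cfsg.Agent.Lib.Helper81.NSylB Cfsg.Agent.Lib.Helper81.NSylC
  Cfsg.Agent.Lib.Helper81.NSylD Cfsg.Agent.Lib.Helper81.NSylE Cfsg.Agent.Lib.Helper81.GlaubClass
  Cfsg.Agent.Lib.Helper81.GlaubNormal
open scoped ComplexConjugate

universe u

section transfer

variable {G C C₀ : Type u} [Group G] [Group C] [Fintype C] [Group C₀] [Fintype C₀]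

theorem mult_transfer (e : C₀ ≃* C) (F : C → ℂ) (ξ₀ : IrrCharacter C₀) :
    mult (fun c₀ => F (e c₀)) ξ₀ = mult F (irrComp e.symm ξ₀) := by
  have h : ξ₀ = infl e.toMonoidHom e.surjective (irrComp e.symm ξ₀) := by
    apply Subtype.ext
    funext n
    show ξ₀.1 n = ξ₀.1 (e.symm (e n))
    rw [MulEquiv.symm_apply_apply]
  conv_lhs => rw [h]
  exact mult_infl e.toMonoidHom e.surjective F (irrComp e.symm ξ₀)

/-- Transfer of the relative Glauberman property along an isomorphism of the smaller group. -/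
theorem glaubRel_transfer (p : ℕ) (e : C₀ ≃* C) {ι : C →* G} {Inv : IrrCharacter G → Prop}
    {InvC : IrrCharacter C → Prop} (hg : GlaubRel p ι Inv InvC) :
    GlaubRel p (ι.comp e.toMonoidHom) Inv (fun ξ₀ : IrrCharacter C₀ => InvC (irrComp e.symm ξ₀)) := by
  have hm : ∀ (χ : IrrCharacter G) (ξ₀ : IrrCharacter C₀),
      mult (fun c₀ => χ.1 ((ι.comp e.toMonoidHom) c₀)) ξ₀ =
        mult (fun c => χ.1 (ι c)) (irrComp e.symm ξ₀) := fun χ ξ₀ =>
    mult_transfer e (fun c => χ.1 (ι c)) ξ₀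
  refine ⟨fun χ hχ => ?_, fun χ χ' hχ hχ' β hβ hnd hnd' => ?_, fun β hβ => ?_⟩
  · obtain ⟨β, hβ, hpm, hoth⟩ := hg.1 χ hχ
    refine ⟨irrComp e β, ?_, ?_, fun γ hγ hne => ?_⟩
    · show InvC (irrComp e.symm (irrComp e β))
      rw [irrComp_symm]
      exact hβ
    · rw [hm, irrComp_symm]
      exact hpm
    · rw [hm]
      apply hoth _ hγ
      intro h
      apply hne
      rw [← h, irrComp_symm']
  · rw [hm] at hnd hnd'
    exact hg.2.1 χ χ' hχ hχ' _ hβ hnd hnd'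
  · obtain ⟨χ, hχ, hnd⟩ := hg.2.2 _ hβ
    refine ⟨χ, hχ, ?_⟩
    rw [hm]
    exact hnd

theorem glaubRel_congr (p : ℕ) {ι ι' : C →* G} {Inv Inv' : IrrCharacter G → Prop}
    {InvC InvC' : IrrCharacter C → Prop} (hι : ι = ι') (h : ∀ χ, Inv χ ↔ Inv' χ)
    (hC : ∀ ξ, InvC ξ ↔ InvC' ξ) (hg : GlaubRel p ι Inv InvC) : GlaubRel p ι' Inv' InvC' := by
  have h1 : Inv = Inv' := funext fun χ => propext (h χ)
  have h2 : InvC = InvC' := funext fun ξ => propext (hC ξ)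
  rw [← hι, ← h1, ← h2]
  exact hg

end transfer

section degree

variable {G C : Type u} [Group G] [Group C] [Fintype C]

/-- The degree congruence, from the multiplicities and a `p`-group of permutations of the
irreducible characters of the smaller group. -/
theorem deg_congr (p : ℕ) [Fact p.Prime] (ι : C →* G) (χ : IrrCharacter G)
    [Fintype (IrrCharacter C)]
    (Pm : Subgroup (Equiv.Perm (IrrCharacter C))) (hPm : IsPGroup p Pm)
    (hF : ∀ σ ∈ Pm, ∀ γ, mult (fun c => χ.1 (ι c)) (σ γ) = mult (fun c => χ.1 (ι c)) γ ∧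
      charDegree (σ γ).1 = charDegree γ.1)
    (ξ : IrrCharacter C) (hξ : ∀ σ ∈ Pm, σ ξ = ξ)
    (hpm : ((mult (fun c => χ.1 (ι c)) ξ : ℕ) : ℤ) ≡ 1 [ZMOD p] ∨
      ((mult (fun c => χ.1 (ι c)) ξ : ℕ) : ℤ) ≡ -1 [ZMOD p])
    (hoth : ∀ γ : IrrCharacter C, (∀ σ ∈ Pm, σ γ = γ) → γ ≠ ξ →
      p ∣ mult (fun c => χ.1 (ι c)) γ) :
    ((charDegree ξ.1 : ℤ) ≡ (charDegree χ.1 : ℤ) [ZMOD p]) ∨
      ((charDegree ξ.1 : ℤ) ≡ -(charDegree χ.1 : ℤ) [ZMOD p]) := by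
  classical
  have hch : IsCharacter C (fun c => χ.1 (ι c)) :=
    Cfsg.Agent.Lib.CT.Ops.isCharacter_comp_hom ι
      (Cfsg.Agent.Lib.CT.Wedderburn.isCharacter_of_irr χ.2)
  have h1 := Cfsg.Agent.Lib.Helper81.CliffCorr.charDegree_expand hch
  have h0 : charDegree (fun c => χ.1 (ι c)) = charDegree χ.1 := by
    unfold charDegree
    simp only [map_one]
  rw [h0] at h1
  have h2 := sum_fixed_modEq p Pm hPm
    (fun γ : IrrCharacter C => mult (fun c => χ.1 (ι c)) γ * charDegree γ.1)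
    (fun σ hσ γ => by
      show mult (fun c => χ.1 (ι c)) (σ γ) * charDegree (σ γ).1 = _
      rw [(hF σ hσ γ).1, (hF σ hσ γ).2])
  rw [← h1] at h2
  have hmem : ξ ∈ Finset.univ.filter (fun γ : IrrCharacter C => ∀ σ ∈ Pm, σ γ = γ) :=
    Finset.mem_filter.2 ⟨Finset.mem_univ _, hξ⟩
  rw [← Finset.add_sum_erase _ _ hmem] at h2
  have h3 : (p : ℤ) ∣ ((∑ γ ∈ (Finset.univ.filter
      (fun γ : IrrCharacter C => ∀ σ ∈ Pm, σ γ = γ)).erase ξ,
      mult (fun c => χ.1 (ι c)) γ * charDegree γ.1 : ℕ) : ℤ) := by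
    rw [Int.natCast_dvd_natCast]
    apply Finset.dvd_sum
    intro γ hγ
    have hγ1 := Finset.ne_of_mem_erase hγ
    have hγ2 := (Finset.mem_filter.1 (Finset.mem_of_mem_erase hγ)).2
    exact Dvd.dvd.mul_right (hoth γ hγ2 hγ1) _
  have h4 : (charDegree χ.1 : ℤ) ≡
      (mult (fun c => χ.1 (ι c)) ξ : ℤ) * (charDegree ξ.1 : ℤ) [ZMOD p] := by
    have h5 := (Int.natCast_modEq_iff (n := p)).2 h2
    push_cast at h5
    refine h5.trans ?_
    rw [Int.modEq_iff_dvd]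
    have h6 : (mult (fun c => χ.1 (ι c)) ξ : ℤ) * (charDegree ξ.1 : ℤ) -
        ((mult (fun c => χ.1 (ι c)) ξ : ℤ) * (charDegree ξ.1 : ℤ) +
          ∑ γ ∈ (Finset.univ.filter (fun γ : IrrCharacter C => ∀ σ ∈ Pm, σ γ = γ)).erase ξ,
            (mult (fun c => χ.1 (ι c)) γ : ℤ) * (charDegree γ.1 : ℤ)) =
        -∑ γ ∈ (Finset.univ.filter (fun γ : IrrCharacter C => ∀ σ ∈ Pm, σ γ = γ)).erase ξ,
            (mult (fun c => χ.1 (ι c)) γ : ℤ) * (charDegree γ.1 : ℤ) := by ring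
    rw [h6, dvd_neg]
    push_cast at h3
    exact h3
  rcases hpm with h | h
  · left
    have h7 := h4.trans (Int.ModEq.mul_right _ h)
    rw [one_mul] at h7
    exact h7.symm
  · right
    have h7 := h4.trans (Int.ModEq.mul_right _ h)
    have h8 : (charDegree ξ.1 : ℤ) ≡ -(-1 * (charDegree ξ.1 : ℤ)) [ZMOD p] := by
      rw [neg_mul, one_mul, neg_neg]
    exact h8.trans (Int.ModEq.neg h7.symm)

end degree

section core

variable {K : Type u} [Group K] [Fintype K] (p : ℕ) [Fact p.Prime] (Q : Subgroup K)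
  [hQn : Q.Normal] (A : Subgroup (MulAut K)) (hA : IsPGroup p A)
  (hQA : ∀ a ∈ A, ∀ q ∈ Q, a q ∈ Q)
  (C : Subgroup K) [Fintype ↥C] (hC : ∀ k, k ∈ C ↔ ∀ a ∈ A, a k * k⁻¹ ∈ Q)

include hA hQA hC in
/-- The degree congruence for the correspondence. -/
theorem nsyl_deg (χ : IrrCharacter K) (hχ : ∀ a ∈ A, ∀ k, χ.1 (a k) = χ.1 k)
    (ξ : IrrCharacter ↥C) (hξ : ∀ a ∈ A, ∀ c c' : ↥C, (c' : K) = a c → ξ.1 c' = ξ.1 c)
    (hpm : ((mult (fun c => χ.1 (C.subtype c)) ξ : ℕ) : ℤ) ≡ 1 [ZMOD p] ∨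
      ((mult (fun c => χ.1 (C.subtype c)) ξ : ℕ) : ℤ) ≡ -1 [ZMOD p])
    (hoth : ∀ γ : IrrCharacter ↥C,
      (∀ a ∈ A, ∀ c c' : ↥C, (c' : K) = a c → γ.1 c' = γ.1 c) → γ ≠ ξ →
      p ∣ mult (fun c => χ.1 (C.subtype c)) γ) :
    ((charDegree ξ.1 : ℤ) ≡ (charDegree χ.1 : ℤ) [ZMOD p]) ∨
      ((charDegree ξ.1 : ℤ) ≡ -(charDegree χ.1 : ℤ) [ZMOD p]) := by
  classical
  have hCA : ∀ a ∈ A, ∀ c ∈ C, a c ∈ C := C_stable Q A hQA C hC
  have : Finite (IrrCharacter ↥C) := finite_irr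
  let _ : Fintype (IrrCharacter ↥C) := Fintype.ofFinite _
  have hPm : IsPGroup p (irrPerm.comp (restrictAut A C hCA)).range :=
    hA.of_surjective (irrPerm.comp (restrictAut A C hCA)).rangeRestrict
      (irrPerm.comp (restrictAut A C hCA)).rangeRestrict_surjective
  have hcoe : ∀ (b : ↥A) (c : ↥C), (((restrictAut A C hCA b)⁻¹ c : ↥C) : K) = b.1⁻¹ (c : K) := by
    intro b c
    rw [← map_inv]
    rfl
  apply deg_congr p C.subtype χ (irrPerm.comp (restrictAut A C hCA)).range hPm ?_ ξ ?_ hpm ?_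
  · rintro _ ⟨b, rfl⟩ γ
    have hσ : (irrPerm.comp (restrictAut A C hCA)) b γ =
        irrComp (restrictAut A C hCA b)⁻¹ γ := rfl
    rw [hσ]
    constructor
    · have h2 : (fun c => χ.1 (C.subtype c)) =
          fun c => (fun c => χ.1 (C.subtype c)) ((restrictAut A C hCA b)⁻¹ c) := by
        funext c
        show χ.1 (c : K) = χ.1 (((restrictAut A C hCA b)⁻¹ c : ↥C) : K)
        rw [hcoe, hχ b.1⁻¹ (A.inv_mem b.2)]
      conv_lhs => rw [h2]
      exact mult_comp_equiv ((restrictAut A C hCA b)⁻¹ : ↥C ≃* ↥C)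
        (fun c => χ.1 (C.subtype c)) γ
    · show charDegree (fun c => γ.1 ((restrictAut A C hCA b)⁻¹ c)) = charDegree γ.1
      unfold charDegree
      simp only [map_one]
  · rintro _ ⟨b, rfl⟩
    have hσ : (irrPerm.comp (restrictAut A C hCA)) b ξ =
        irrComp (restrictAut A C hCA b)⁻¹ ξ := rfl
    rw [hσ]
    apply Subtype.ext
    funext c
    show ξ.1 ((restrictAut A C hCA b)⁻¹ c) = ξ.1 c
    refine (hξ b.1 b.2 ((restrictAut A C hCA b)⁻¹ c) c ?_).symm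
    rw [hcoe, MulAut.apply_inv_self]
  · intro γ hγfix hne
    apply hoth γ ?_ hne
    intro a ha c c' hcc
    have h1 := hγfix ((irrPerm.comp (restrictAut A C hCA)) ⟨a, ha⟩) ⟨⟨a, ha⟩, rfl⟩
    have hσ : (irrPerm.comp (restrictAut A C hCA)) ⟨a, ha⟩ γ =
        irrComp (restrictAut A C hCA ⟨a, ha⟩)⁻¹ γ := rfl
    rw [hσ] at h1
    have h2 : γ.1 ((restrictAut A C hCA ⟨a, ha⟩)⁻¹ c') = γ.1 c' :=
      congrFun (congrArg Subtype.val h1) c'
    have h3 : (restrictAut A C hCA ⟨a, ha⟩)⁻¹ c' = c := by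
      apply Subtype.ext
      rw [hcoe, hcc]
      exact MulAut.inv_apply_self _ _ _
    rw [h3] at h2
    exact h2.symm

end core

section final

variable {G C : Type u} [Group G] [Group C] [Fintype C]

/-- The final form of the correspondence: a bijection with the multiplicity and degree
congruences. -/
theorem glaubRel_final (p : ℕ) [Fact p.Prime] (ι : C →* G)
    (Inv : IrrCharacter G → Prop) (InvC : IrrCharacter C → Prop) (hg : GlaubRel p ι Inv InvC)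
    (hdeg : ∀ χ, Inv χ → ∀ ξ, InvC ξ → ¬ p ∣ mult (fun c => χ.1 (ι c)) ξ →
      ((charDegree ξ.1 : ℤ) ≡ (charDegree χ.1 : ℤ) [ZMOD p]) ∨
        ((charDegree ξ.1 : ℤ) ≡ -(charDegree χ.1 : ℤ) [ZMOD p])) :
    ∃ f : {χ : IrrCharacter G // Inv χ} → {ξ : IrrCharacter C // InvC ξ},
      Function.Bijective f ∧ ∀ χ,
        (∀ ξ : {ξ : IrrCharacter C // InvC ξ}, ∃ m : ℕ,
          (Nat.card C : ℂ)⁻¹ * ∑ᶠ c : C, (χ.1 : G → ℂ) (ι c) *
            (starRingEnd ℂ) ((ξ.1 : C → ℂ) c) = (m : ℂ) ∧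
          (ξ = f χ → ((m : ZMod p) = 1 ∨ (m : ZMod p) = -1)) ∧ (ξ ≠ f χ → p ∣ m)) ∧
        ((charDegree ((f χ).1 : C → ℂ) : ZMod p) = (charDegree (χ.1 : G → ℂ) : ZMod p) ∨
          (charDegree ((f χ).1 : C → ℂ) : ZMod p) = -(charDegree (χ.1 : G → ℂ) : ZMod p)) := by
  classical
  have hp : p.Prime := Fact.out
  choose F hF using hg.1
  have hnd : ∀ χ : {χ : IrrCharacter G // Inv χ},
      ¬ p ∣ mult (fun c => χ.1.1 (ι c)) (F χ.1 χ.2) :=
    fun χ => not_dvd_of_modEq hp _ (hF χ.1 χ.2).2.1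
  refine ⟨fun χ => ⟨F χ.1 χ.2, (hF χ.1 χ.2).1⟩, ⟨?_, ?_⟩, fun χ => ⟨fun ξ => ?_, ?_⟩⟩
  · intro χ χ' h
    apply Subtype.ext
    have h0 : F χ.1 χ.2 = F χ'.1 χ'.2 := congrArg Subtype.val h
    have h1 := hnd χ
    rw [h0] at h1
    exact hg.2.1 χ.1 χ'.1 χ.2 χ'.2 _ (hF χ'.1 χ'.2).1 h1 (hnd χ')
  · intro ξ
    obtain ⟨χ, hχ, hnd'⟩ := hg.2.2 ξ.1 ξ.2
    refine ⟨⟨χ, hχ⟩, ?_⟩
    by_contra hne
    apply hnd'
    exact (hF χ hχ).2.2 ξ.1 ξ.2 (fun h => hne (Subtype.ext h.symm))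
  · have hch : IsCharacter C (fun c => χ.1.1 (ι c)) :=
      Cfsg.Agent.Lib.CT.Ops.isCharacter_comp_hom ι
        (Cfsg.Agent.Lib.CT.Wedderburn.isCharacter_of_irr χ.1.2)
    refine ⟨mult (fun c => χ.1.1 (ι c)) ξ.1, ?_, ?_, ?_⟩
    · rw [finsum_eq_sum_of_fintype]
      exact classInner_eq_mult hch ξ.1
    · intro h
      have h0 : ξ.1 = F χ.1 χ.2 := congrArg Subtype.val h
      rw [h0]
      rcases (hF χ.1 χ.2).2.1 with h1 | h1
      · left
        have h2 := (ZMod.intCast_eq_intCast_iff _ _ _).2 h1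
        simpa using h2
      · right
        have h2 := (ZMod.intCast_eq_intCast_iff _ _ _).2 h1
        simpa using h2
    · intro hne
      exact (hF χ.1 χ.2).2.2 ξ.1 ξ.2 (fun h => hne (Subtype.ext h))
  · rcases hdeg χ.1 χ.2 (F χ.1 χ.2) (hF χ.1 χ.2).1 (hnd χ) with h1 | h1
    · left
      have h2 := (ZMod.intCast_eq_intCast_iff _ _ _).2 h1
      simpa using h2
    · right
      have h2 := (ZMod.intCast_eq_intCast_iff _ _ _).2 h1
      simpa using h2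

end final

end Cfsg.Agent.Lib.Helper81.NSylF
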