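import Mathlib
import Cfsg.Prelude.Def_Characters
import Cfsg.Agent.Lib.Helper81.NSylF
import Cfsg.Agent.Lib.Helper15.DetChar
import Cfsg.Agent.Lib.Helper80.Schur
import Cfsg.Agent.Lib.Helper4.GlauOrth

set_option autoImplicit false
set_option linter.style.haveILetI false
set_option linter.unusedSectionVars false

/-!
# Relative Schur averaging and the commutator sum for characters over an invariant character
-/

namespace Cfsg.Agent.Lib.Helper81.McKA

open Cfsg
open Cfsg.Agent.Lib.Helper81.Irr Cfsg.Agent.Lib.Helper81.Basic Cfsg.Agent.Lib.Helper81.Expand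
  Cfsg.Agent.Lib.Helper81.Mult Cfsg.Agent.Lib.Helper81.Cliff Cfsg.Agent.Lib.Helper81.CliffCorr
open scoped ComplexConjugate

universe u

section homForm

variable {X N : Type u} [Group X] [Group N] [Fintype N]

/-- Schur averaging over a subgroup on which the character stays irreducible (hom form). -/
theorem rel_schur (j : N →* X) {ψ : X → ℂ} (hψ : IsCharacter X ψ)
    (hirr : IsIrrCharacter N (fun n => ψ (j n))) (b c : X) :
    ψ 1 * ∑ n : N, ψ (j n * b * (j n)⁻¹ * c) = (Nat.card N : ℂ) * ψ b * ψ c := by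
  obtain ⟨d, ρ, rfl⟩ := hψ
  let σ : Representation ℂ N (Fin d → ℂ) := MonoidHom.comp ρ j
  have hσc : σ.character = fun n : N => ρ.character (j n) := rfl
  have hσirr : σ.IsIrreducible :=
    Cfsg.Agent.Lib.Helper15.DetChar.isIrreducible_of_isIrrCharacter σ (by rw [hσc]; exact hirr)
  have hcomm : ∀ n : N, (∑ k : N, ρ (j k * b * (j k)⁻¹)) * σ n =
      σ n * ∑ k : N, ρ (j k * b * (j k)⁻¹) := by
    intro n
    show (∑ k : N, ρ (j k * b * (j k)⁻¹)) * ρ (j n) = ρ (j n) * ∑ k : N, ρ (j k * b * (j k)⁻¹)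
    rw [Finset.sum_mul, Finset.mul_sum]
    refine Fintype.sum_equiv (Equiv.mulLeft n⁻¹) _ _ (fun k => ?_)
    simp only [Equiv.coe_mulLeft, ← map_mul]
    congr 1
    rw [map_mul, map_inv]
    group
  obtain ⟨c₀, hc₀⟩ := Cfsg.Agent.Lib.Helper80.Schur.schur_scalar σ _ hcomm
  have htr : (Fintype.card N : ℂ) * ρ.character b = c₀ * (Module.finrank ℂ (Fin d → ℂ) : ℂ) := by
    have h1 := congrArg (LinearMap.trace ℂ (Fin d → ℂ)) hc₀
    rw [map_sum, map_smul, LinearMap.trace_one] at h1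
    have h2 : ∀ k : N, LinearMap.trace ℂ (Fin d → ℂ) (ρ (j k * b * (j k)⁻¹)) = ρ.character b :=
      fun k => ρ.char_conj b (j k)
    simp only [h2, Finset.sum_const, Finset.card_univ, nsmul_eq_mul, smul_eq_mul] at h1
    exact h1
  have h3 : ∑ n : N, ρ.character (j n * b * (j n)⁻¹ * c) = c₀ * ρ.character c := by
    have h := congrArg (fun f : Module.End ℂ (Fin d → ℂ) =>
      LinearMap.trace ℂ (Fin d → ℂ) (f * ρ c)) hc₀
    simp only [smul_mul_assoc, Finset.sum_mul, map_smul, map_sum, one_mul, smul_eq_mul,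
      ← map_mul] at h
    exact h
  have h4 : ρ.character 1 = (Module.finrank ℂ (Fin d → ℂ) : ℂ) := Representation.char_one ρ
  rw [h3, h4, Nat.card_eq_fintype_card]
  linear_combination (-(ρ.character c)) * htr

/-- Coset orthogonality, hom form. -/
theorem coset_norm_hom (j : N →* X) {ψ : X → ℂ} (hψ : IsCharacter X ψ)
    (hirr : IsIrrCharacter N (fun n => ψ (j n))) (y : X) :
    ∑ n : N, ψ (j n * y) * ψ ((j n * y)⁻¹) = (Nat.card N : ℂ) := by
  obtain ⟨d, ρ, rfl⟩ := hψ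
  let σ : Representation ℂ N (Fin d → ℂ) := MonoidHom.comp ρ j
  have hσc : σ.character = fun n : N => ρ.character (j n) := rfl
  have hσirr : σ.IsIrreducible :=
    Cfsg.Agent.Lib.Helper15.DetChar.isIrreducible_of_isIrrCharacter σ (by rw [hσc]; exact hirr)
  have h1 : ∀ k : N, ρ.character (j k * y) * ρ.character ((j k * y)⁻¹) =
      (Cfsg.Agent.Lib.CT.MatCoeff.mat σ k * Cfsg.Agent.Lib.CT.MatCoeff.mat ρ y).trace *
        (Cfsg.Agent.Lib.CT.MatCoeff.mat ρ y⁻¹ * Cfsg.Agent.Lib.CT.MatCoeff.mat σ k⁻¹).trace := by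
    intro k
    rw [Cfsg.Agent.Lib.CT.MatCoeff.character_eq_trace, Cfsg.Agent.Lib.CT.MatCoeff.character_eq_trace,
      Cfsg.Agent.Lib.CT.MatCoeff.mat_mul, mul_inv_rev, Cfsg.Agent.Lib.CT.MatCoeff.mat_mul]
    have e1 : Cfsg.Agent.Lib.CT.MatCoeff.mat ρ (j k)⁻¹ = Cfsg.Agent.Lib.CT.MatCoeff.mat σ k⁻¹ := by
      show Cfsg.Agent.Lib.CT.MatCoeff.mat ρ (j k)⁻¹ = Cfsg.Agent.Lib.CT.MatCoeff.mat ρ (j k⁻¹)
      rw [map_inv]
    rw [e1]
    rfl
  simp_rw [h1]
  rw [Cfsg.Agent.Lib.Helper4.GlauOrth.sum_trace_mul_trace σ, Cfsg.Agent.Lib.CT.MatCoeff.mat_mul_inv,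
    Matrix.trace_one, Fintype.card_fin, Nat.card_eq_fintype_card]
  have hn : (d : ℂ) ≠ 0 := Nat.cast_ne_zero.mpr (Cfsg.Agent.Lib.CT.MatCoeff.pos_dim σ).ne'
  field_simp

end homForm

section commSum

variable {G : Type u} [Group G] [Fintype G] (M : Subgroup G) [hM : M.Normal] [Fintype ↥M]
  (η : IrrCharacter ↥M)
  (hinv : ∀ (g : G) (m : ↥M), η.1 (MulAut.conjNormal g m) = η.1 m)

include hinv in
theorem ez_conj (g x : G) :
    extendByZero M η.1 (g * x * g⁻¹) = extendByZero M η.1 x := by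
  by_cases hx : x ∈ M
  · have h2 : g * x * g⁻¹ ∈ M := hM.conj_mem x hx g
    rw [Cfsg.Agent.Lib.CT.FrobRec.extendByZero_apply_of_mem M _ hx,
      Cfsg.Agent.Lib.CT.FrobRec.extendByZero_apply_of_mem M _ h2]
    have e : (⟨g * x * g⁻¹, h2⟩ : ↥M) = MulAut.conjNormal g ⟨x, hx⟩ :=
      Subtype.ext (by rw [MulAut.conjNormal_apply])
    rw [e]
    exact hinv g ⟨x, hx⟩
  · have h2 : g * x * g⁻¹ ∉ M := by
      intro h
      apply hx
      have h3 := hM.conj_mem _ h g⁻¹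
      have h4 : g⁻¹ * (g * x * g⁻¹) * g⁻¹⁻¹ = x := by group
      rwa [h4] at h3
    rw [Cfsg.Agent.Lib.CT.FrobRec.extendByZero_apply_of_not_mem M _ hx,
      Cfsg.Agent.Lib.CT.FrobRec.extendByZero_apply_of_not_mem M _ h2]

include hinv in
theorem ez_comm (a b : G) : extendByZero M η.1 (a * b) = extendByZero M η.1 (b * a) := by
  have h := ez_conj M η hinv b (a * b)
  have e : b * (a * b) * b⁻¹ = b * a := by group
  rw [e] at h
  exact h.symm

omit [Fintype G] hM [Fintype ↥M] in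
theorem ez_inv (z : G) :
    extendByZero M (fun m : ↥M => η.1 m⁻¹) z = extendByZero M η.1 z⁻¹ := by
  by_cases hz : z ∈ M
  · rw [Cfsg.Agent.Lib.CT.FrobRec.extendByZero_apply_of_mem M _ hz,
      Cfsg.Agent.Lib.CT.FrobRec.extendByZero_apply_of_mem M _ (M.inv_mem hz)]
    rfl
  · have h2 : z⁻¹ ∉ M := fun h => hz (by simpa using M.inv_mem h)
    rw [Cfsg.Agent.Lib.CT.FrobRec.extendByZero_apply_of_not_mem M _ hz,
      Cfsg.Agent.Lib.CT.FrobRec.extendByZero_apply_of_not_mem M _ h2]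

include hinv in
/-- Degree over an invariant character. -/
theorem deg_over_inv (χ : IrrCharacter G) (h : mult (res M χ.1) η ≠ 0) :
    χ.1 1 = (mult (res M χ.1) η : ℂ) * η.1 1 := by
  classical
  have : Finite (IrrCharacter G) := finite_irr
  let _ : Fintype (IrrCharacter G) := Fintype.ofFinite _
  have : Finite (IrrCharacter ↥M) := finite_irr
  let _ : Fintype (IrrCharacter ↥M) := Fintype.ofFinite _
  have h1 := degree_over M χ η h
  have horb : orb M η = {η} := by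
    ext θ
    rw [mem_orb, Finset.mem_singleton]
    constructor
    · rintro ⟨g, rfl⟩
      apply Subtype.ext
      funext k
      rw [conjI_apply]
      exact hinv g⁻¹ k
    · rintro rfl
      exact ⟨1, conjI_one M θ⟩
  rw [horb, Finset.card_singleton, one_mul] at h1
  rw [deg_cast χ, deg_cast η, h1]
  push_cast
  ring

include hinv in
theorem proj_sum (χ : IrrCharacter G) (g : G) :
    χ.1 1 * ∑ m : ↥M, η.1 m⁻¹ * χ.1 (m * g) =
      (Nat.card ↥M : ℂ) * multC (res M χ.1) η * χ.1 g := by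
  have hG : (Nat.card G : ℂ) ≠ 0 := card_ne_zero
  have hM0 : (Nat.card ↥M : ℂ) ≠ 0 := card_ne_zero
  have hχ1 : χ.1 1 ≠ 0 := Cfsg.Agent.Lib.CT.Wedderburn.irr_apply_one_ne_zero χ.2
  have key : ∀ u : G, ∑ m : ↥M, η.1 m⁻¹ * χ.1 (m * g) =
      ∑ m : ↥M, η.1 m⁻¹ * χ.1 (g * (u * m * u⁻¹)) := by
    intro u
    rw [← Equiv.sum_comp (MulAut.conjNormal u : ↥M ≃* ↥M).toEquiv]
    apply Finset.sum_congr rfl
    intro m _
    have e1 : η.1 ((MulAut.conjNormal u : ↥M ≃* ↥M) m)⁻¹ = η.1 m⁻¹ := by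
      rw [← map_inv]
      exact hinv u m⁻¹
    have e2 : (((MulAut.conjNormal u : ↥M ≃* ↥M) m : ↥M) : G) = u * m * u⁻¹ :=
      MulAut.conjNormal_apply u m
    show η.1 ((MulAut.conjNormal u : ↥M ≃* ↥M) m)⁻¹ *
      χ.1 (((MulAut.conjNormal u : ↥M ≃* ↥M) m : ↥M) * g) = _
    rw [e1, e2, irr_mul_comm]
  have h2 : (Nat.card G : ℂ) * ∑ m : ↥M, η.1 m⁻¹ * χ.1 (m * g) =
      ∑ m : ↥M, η.1 m⁻¹ * ((Nat.card G : ℂ) * χ.1 g * χ.1 m / χ.1 1) := by
    have h3 : (Nat.card G : ℂ) * ∑ m : ↥M, η.1 m⁻¹ * χ.1 (m * g) =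
        ∑ u : G, ∑ m : ↥M, η.1 m⁻¹ * χ.1 (g * (u * m * u⁻¹)) := by
      rw [← Finset.sum_congr rfl (fun u _ => key u), Finset.sum_const, Finset.card_univ,
        nsmul_eq_mul, Nat.card_eq_fintype_card]
    rw [h3, Finset.sum_comm]
    apply Finset.sum_congr rfl
    intro m _
    rw [← Finset.mul_sum, schur_avg χ g m]
  have h4 : ∑ m : ↥M, η.1 m⁻¹ * ((Nat.card G : ℂ) * χ.1 g * χ.1 m / χ.1 1) =
      (Nat.card G : ℂ) * χ.1 g / χ.1 1 * ((Nat.card ↥M : ℂ) * multC (res M χ.1) η) := by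
    rw [multC_def, ← mul_assoc (Nat.card ↥M : ℂ), mul_inv_cancel₀ hM0, one_mul, Finset.mul_sum]
    apply Finset.sum_congr rfl
    intro m _
    rw [res_apply]
    ring
  rw [h4] at h2
  apply mul_left_cancel₀ hG
  rw [← mul_assoc, mul_comm (Nat.card G : ℂ) (χ.1 1), mul_assoc, h2]
  field_simp

include hinv in
theorem fiber_sum [Fintype (IrrCharacter G)] (g : G) :
    (Nat.card ↥M : ℂ) * ∑ χ : IrrCharacter G,
        (if mult (res M χ.1) η ≠ 0 then χ.1 g * χ.1 g⁻¹ else 0) =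
      η.1 1 * ∑ k : G, extendByZero M η.1 (g * k * g⁻¹ * k⁻¹) := by
  classical
  have hη1 : η.1 1 ≠ 0 := Cfsg.Agent.Lib.CT.Wedderburn.irr_apply_one_ne_zero η.2
  have h1 : ∀ χ : IrrCharacter G, (Nat.card ↥M : ℂ) *
      (if mult (res M χ.1) η ≠ 0 then χ.1 g * χ.1 g⁻¹ else 0) =
      η.1 1 * ∑ m : ↥M, η.1 m⁻¹ * (χ.1 (m * g) * χ.1 g⁻¹) := by
    intro χ
    have hχ1 : χ.1 1 ≠ 0 := Cfsg.Agent.Lib.CT.Wedderburn.irr_apply_one_ne_zero χ.2
    have hp := proj_sum M η hinv χ g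
    have hres : IsCharacter ↥M (res M χ.1) := isCharacter_res M (irr_isCharacter χ)
    have hsum : ∑ m : ↥M, η.1 m⁻¹ * (χ.1 (m * g) * χ.1 g⁻¹) =
        (∑ m : ↥M, η.1 m⁻¹ * χ.1 (m * g)) * χ.1 g⁻¹ := by
      rw [Finset.sum_mul]
      apply Finset.sum_congr rfl
      intro m _
      ring
    rw [hsum]
    split_ifs with hov
    · have hd := deg_over_inv M η hinv χ hov
      have hm : multC (res M χ.1) η = (mult (res M χ.1) η : ℂ) := (mult_cast hres η).symm
      have hm0 : (mult (res M χ.1) η : ℂ) ≠ 0 := Nat.cast_ne_zero.2 hov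
      have h5 : η.1 1 * ∑ m : ↥M, η.1 m⁻¹ * χ.1 (m * g) = (Nat.card ↥M : ℂ) * χ.1 g := by
        apply mul_left_cancel₀ hm0
        rw [← mul_assoc, ← hd, hp, hm]
        ring
      rw [← mul_assoc (η.1 1), h5, mul_assoc]
    · have hov' : mult (res M χ.1) η = 0 := not_not.1 hov
      have hm : multC (res M χ.1) η = 0 := by
        rw [← mult_cast hres η, hov']
        simp
      rw [hm, mul_zero, zero_mul] at hp
      have h5 : ∑ m : ↥M, η.1 m⁻¹ * χ.1 (m * g) = 0 := by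
        rcases mul_eq_zero.1 hp with h | h
        · exact absurd h hχ1
        · exact h
      rw [h5]
      ring
  rw [Finset.mul_sum, Finset.sum_congr rfl (fun χ _ => h1 χ), ← Finset.mul_sum, Finset.sum_comm]
  congr 1
  have h2 : ∀ m : ↥M, ∑ χ : IrrCharacter G, η.1 m⁻¹ * (χ.1 (m * g) * χ.1 g⁻¹) =
      η.1 m⁻¹ * cnt (fun k : G => k * g * k⁻¹ * g⁻¹) (m : G) := by
    intro m
    rw [← Finset.mul_sum, ← second_orth_cnt complete ((m : G) * g) g, cnt_eq_natCard]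
    congr 2
    apply Nat.card_congr
    refine Equiv.subtypeEquivRight (fun k => ?_)
    constructor
    · intro h
      rw [h]
      group
    · intro h
      rw [← h]
      group
  rw [Finset.sum_congr rfl (fun m _ => h2 m),
    ← Cfsg.Agent.Lib.CT.FrobRec.sum_extendByZero_mul M (fun m : ↥M => η.1 m⁻¹)
      (fun x => cnt (fun k : G => k * g * k⁻¹ * g⁻¹) x)]
  have h3 : ∑ x : G, extendByZero M (fun m : ↥M => η.1 m⁻¹) x *
      cnt (fun k : G => k * g * k⁻¹ * g⁻¹) x =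
      ∑ k : G, extendByZero M (fun m : ↥M => η.1 m⁻¹) (k * g * k⁻¹ * g⁻¹) := by
    rw [← sum_cnt_mul (fun k : G => k * g * k⁻¹ * g⁻¹)]
    apply Finset.sum_congr rfl
    intro x _
    ring
  rw [h3]
  apply Finset.sum_congr rfl
  intro k _
  rw [ez_inv]
  congr 1
  group

include hinv in
/-- The number of irreducible characters over an invariant character as a commutator sum. -/
theorem comm_sum :
    (Nat.card {χ : IrrCharacter G // mult (res M χ.1) η ≠ 0} : ℂ) * (Nat.card G : ℂ) *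
        (Nat.card ↥M : ℂ) =
      η.1 1 * ∑ g : G, ∑ k : G, extendByZero M η.1 (g⁻¹ * k * g * k⁻¹) := by
  classical
  have : Finite (IrrCharacter G) := finite_irr
  let _ : Fintype (IrrCharacter G) := Fintype.ofFinite _
  have h1 : ∑ g : G, ∑ χ : IrrCharacter G,
      (if mult (res M χ.1) η ≠ 0 then χ.1 g * χ.1 g⁻¹ else 0) =
      (Nat.card {χ : IrrCharacter G // mult (res M χ.1) η ≠ 0} : ℂ) * (Nat.card G : ℂ) := by
    rw [Finset.sum_comm]
    have h5 : ∀ χ : IrrCharacter G, ∑ g : G,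
        (if mult (res M χ.1) η ≠ 0 then χ.1 g * χ.1 g⁻¹ else 0) =
        if mult (res M χ.1) η ≠ 0 then (Nat.card G : ℂ) else 0 := by
      intro χ
      split_ifs
      · have h6 := irr_orth χ χ
        rw [if_pos rfl] at h6
        exact h6
      · simp
    rw [Finset.sum_congr rfl (fun χ _ => h5 χ), Finset.sum_ite, Finset.sum_const_zero, add_zero,
      Finset.sum_const, nsmul_eq_mul]
    congr 2
    rw [Nat.card_eq_fintype_card, Fintype.card_subtype]
  have h2 : (Nat.card ↥M : ℂ) * ∑ g : G, ∑ χ : IrrCharacter G,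
      (if mult (res M χ.1) η ≠ 0 then χ.1 g * χ.1 g⁻¹ else 0) =
      η.1 1 * ∑ g : G, ∑ k : G, extendByZero M η.1 (g * k * g⁻¹ * k⁻¹) := by
    rw [Finset.mul_sum, Finset.mul_sum]
    apply Finset.sum_congr rfl
    intro g _
    exact fiber_sum M η hinv g
  have h3 : ∑ g : G, ∑ k : G, extendByZero M η.1 (g * k * g⁻¹ * k⁻¹) =
      ∑ g : G, ∑ k : G, extendByZero M η.1 (g⁻¹ * k * g * k⁻¹) := by
    rw [← Equiv.sum_comp (Equiv.inv G)]
    apply Finset.sum_congr rfl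
    intro g _
    simp
  rw [← h3, ← h2, h1]
  ring

end commSum

end Cfsg.Agent.Lib.Helper81.McKA
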