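import Mathlib
import Cfsg.Prelude.Def_Characters
import Cfsg.Agent.Lib.Helper81.McKA
import Cfsg.Agent.S0886

set_option autoImplicit false
set_option linter.style.haveILetI false
set_option linter.unusedSectionVars false

/-!
# Counting characters over an invariant character by good pairs
-/

namespace Cfsg.Agent.Lib.Helper81.McKB

open Cfsg
open Cfsg.Agent.Lib.Helper81.Irr Cfsg.Agent.Lib.Helper81.Basic Cfsg.Agent.Lib.Helper81.Expand
  Cfsg.Agent.Lib.Helper81.Mult Cfsg.Agent.Lib.Helper81.Cliff Cfsg.Agent.Lib.Helper81.CliffCorr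
  Cfsg.Agent.Lib.Helper81.McKA Cfsg.Agent.Lib.Helper81.NSylA
open scoped ComplexConjugate

universe u

section basics

theorem mult_self {H : Type u} [Group H] [Fintype H] (η : IrrCharacter H) : mult η.1 η = 1 := by
  have h := mult_cast (irr_isCharacter η) η
  rw [multC_irr, if_pos rfl] at h
  exact_mod_cast h

/-- A character whose restriction along a hom is irreducible is irreducible. -/
theorem irr_of_res_irr {X N : Type u} [Group X] [Group N] [Fintype N] (j : N →* X) {Ψ : X → ℂ}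
    (hΨ : IsCharacter X Ψ) (h : IsIrrCharacter N (fun n => Ψ (j n))) : IsIrrCharacter X Ψ := by
  obtain ⟨d, ρ, rfl⟩ := hΨ
  let σ : Representation ℂ N (Fin d → ℂ) := MonoidHom.comp ρ j
  have hσc : σ.character = fun n : N => ρ.character (j n) := rfl
  have hσ : σ.IsIrreducible :=
    Cfsg.Agent.Lib.Helper15.DetChar.isIrreducible_of_isIrrCharacter σ (by rw [hσc]; exact h)
  refine ⟨d, ρ, ?_, rfl⟩
  rw [irr_iff] at hσ ⊢
  obtain ⟨hV, h'⟩ := hσ
  exact ⟨hV, fun U hU => h' U (fun n v hv => hU (j n) v hv)⟩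

variable {G : Type u} [Group G]

/-- `η` extends to a character of the subgroup `W` (given by a function on the whole group). -/
def ExtTo (M : Subgroup G) (η : IrrCharacter ↥M) (W : Subgroup G) : Prop :=
  ∃ ψ : G → ℂ, IsCharacter ↥W (fun w : ↥W => ψ w) ∧ ∀ m : ↥M, ψ m = η.1 m

/-- `x` is good for `η`: `η` extends to `M⟨x, y⟩` whenever `y` commutes with `x` modulo `M`. -/
def Good (M : Subgroup G) (η : IrrCharacter ↥M) (x : G) : Prop :=
  ∀ y : G, y * x * y⁻¹ * x⁻¹ ∈ M →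
    ExtTo M η (M ⊔ Subgroup.zpowers x ⊔ Subgroup.zpowers y)

theorem mem_comap_conj (U : Subgroup G) (k u : G) :
    u ∈ U.comap (MulAut.conj k).toMonoidHom ↔ k * u * k⁻¹ ∈ U := by
  rw [Subgroup.mem_comap]
  rfl

theorem quot_gen (U₀ U : Subgroup G) (y : G) (hU : U = U₀ ⊔ Subgroup.zpowers y)
    [hn : (U₀.subgroupOf U).Normal] (hy : y ∈ U) (u : ↥U) :
    (QuotientGroup.mk u : ↥U ⧸ U₀.subgroupOf U) ∈
      Subgroup.zpowers (QuotientGroup.mk (⟨y, hy⟩ : ↥U) : ↥U ⧸ U₀.subgroupOf U) := by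
  let H' : Subgroup ↥U :=
    (Subgroup.zpowers (QuotientGroup.mk (⟨y, hy⟩ : ↥U) : ↥U ⧸ U₀.subgroupOf U)).comap
      (QuotientGroup.mk' (U₀.subgroupOf U))
  have h1 : U₀ ⊔ Subgroup.zpowers y ≤ H'.map U.subtype := by
    apply sup_le
    · intro g hg
      have hgU : g ∈ U := by rw [hU]; exact Subgroup.mem_sup_left hg
      refine ⟨⟨g, hgU⟩, ?_, rfl⟩
      show (QuotientGroup.mk (⟨g, hgU⟩ : ↥U) : ↥U ⧸ U₀.subgroupOf U) ∈
        Subgroup.zpowers (QuotientGroup.mk (⟨y, hy⟩ : ↥U) : ↥U ⧸ U₀.subgroupOf U)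
      have h0 : (QuotientGroup.mk (⟨g, hgU⟩ : ↥U) : ↥U ⧸ U₀.subgroupOf U) = 1 :=
        (QuotientGroup.eq_one_iff _).2 (Subgroup.mem_subgroupOf.2 hg)
      rw [h0]
      exact one_mem _
    · rw [Subgroup.zpowers_le]
      exact ⟨⟨y, hy⟩, Subgroup.mem_zpowers _, rfl⟩
  have hu : (u : G) ∈ U₀ ⊔ Subgroup.zpowers y := by rw [← hU]; exact u.2
  obtain ⟨v, hv, hvu⟩ := h1 hu
  have e : v = u := Subtype.ext hvu
  rw [← e]
  exact hv

/-- Extending an invariant irreducible character across a cyclic step. -/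
theorem ext_cyclic_step [Finite G] (U W : Subgroup G) (y : G)
    (hW : W = U ⊔ Subgroup.zpowers y)
    (ψ : G → ℂ) (hψ : IsIrrCharacter ↥U (fun u : ↥U => ψ u))
    (hyU : ∀ u, y * u * y⁻¹ ∈ U ↔ u ∈ U) (hyψ : ∀ u ∈ U, ψ (y * u * y⁻¹) = ψ u) :
    ∃ χ : G → ℂ, IsIrrCharacter ↥W (fun w : ↥W => χ w) ∧ ∀ u ∈ U, χ u = ψ u := by
  classical
  have hUW : U ≤ W := by rw [hW]; exact le_sup_left
  have hyW : y ∈ W := by rw [hW]; exact Subgroup.mem_sup_right (Subgroup.mem_zpowers y)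
  let T : Subgroup G :=
    { carrier := {g | (∀ u, g * u * g⁻¹ ∈ U ↔ u ∈ U) ∧ ∀ u ∈ U, ψ (g * u * g⁻¹) = ψ u}
      mul_mem' := by
        rintro a b ⟨ha1, ha2⟩ ⟨hb1, hb2⟩
        refine ⟨fun u => ?_, fun u hu => ?_⟩
        · have e : a * b * u * (a * b)⁻¹ = a * (b * u * b⁻¹) * a⁻¹ := by group
          rw [e, ha1, hb1]
        · have e : a * b * u * (a * b)⁻¹ = a * (b * u * b⁻¹) * a⁻¹ := by group
          rw [e, ha2 _ ((hb1 u).2 hu), hb2 u hu]
      one_mem' := ⟨fun u => by simp, fun u hu => by simp⟩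
      inv_mem' := by
        rintro a ⟨ha1, ha2⟩
        refine ⟨fun u => ?_, fun u hu => ?_⟩
        · have e : a * (a⁻¹ * u * a⁻¹⁻¹) * a⁻¹ = u := by group
          constructor
          · intro h
            rw [← e]
            exact (ha1 _).2 h
          · intro h
            exact (ha1 _).1 (by rw [e]; exact h)
        · have e : a * (a⁻¹ * u * a⁻¹⁻¹) * a⁻¹ = u := by group
          have hmem : a⁻¹ * u * a⁻¹⁻¹ ∈ U := (ha1 _).1 (by rw [e]; exact hu)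
          have h3 := ha2 _ hmem
          rw [e] at h3
          exact h3.symm }
  have hU_T : U ≤ T := by
    intro g hg
    refine ⟨fun u => ⟨fun h => ?_, fun h => U.mul_mem (U.mul_mem hg h) (U.inv_mem hg)⟩,
      fun u hu => ?_⟩
    · have e : g⁻¹ * (g * u * g⁻¹) * g = u := by group
      rw [← e]
      exact U.mul_mem (U.mul_mem (U.inv_mem hg) h) hg
    · exact char_conj (Cfsg.Agent.Lib.CT.Wedderburn.isCharacter_of_irr hψ) (⟨u, hu⟩ : ↥U)
        (⟨g, hg⟩ : ↥U)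
  have hW_T : W ≤ T := by
    rw [hW]
    refine sup_le hU_T ?_
    rw [Subgroup.zpowers_le]
    exact ⟨hyU, hyψ⟩
  have hn : (U.subgroupOf W).Normal := by
    constructor
    intro n hn g
    rw [Subgroup.mem_subgroupOf] at hn ⊢
    exact ((hW_T g.2).1 _).2 hn
  have hcyc : IsCyclic (↥W ⧸ U.subgroupOf W) := by
    refine ⟨⟨QuotientGroup.mk (⟨y, hyW⟩ : ↥W), fun q => ?_⟩⟩
    obtain ⟨w, rfl⟩ := QuotientGroup.mk_surjective q
    exact Subgroup.mem_zpowers_iff.1 (quot_gen U W y hW hyW w)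
  let f : ↥(U.subgroupOf W) →* ↥U :=
    { toFun := fun n => ⟨((n : ↥W) : G), Subgroup.mem_subgroupOf.1 n.2⟩
      map_one' := rfl
      map_mul' := fun _ _ => rfl }
  have hf : Function.Surjective f := fun u =>
    ⟨⟨⟨u, hUW u.2⟩, Subgroup.mem_subgroupOf.2 u.2⟩, rfl⟩
  have hϑ : IsIrrCharacter ↥(U.subgroupOf W) (fun n => ψ ((n : ↥W) : G)) :=
    isIrrCharacter_comp hψ f hf
  obtain ⟨χ, hχ, hχU⟩ := Cfsg.Agent.S0886.result (U.subgroupOf W) hcyc _ hϑ (by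
    intro g n
    exact (hW_T g.2).2 _ (Subgroup.mem_subgroupOf.1 n.2))
  refine ⟨fun g => if h : g ∈ W then χ ⟨g, h⟩ else 0, ?_, ?_⟩
  · have e : (fun w : ↥W => if h : (w : G) ∈ W then χ ⟨w, h⟩ else 0) = χ := by
      funext w
      rw [dif_pos w.2]
    rw [e]
    exact hχ
  · intro u hu
    show (if h : u ∈ W then χ ⟨u, h⟩ else 0) = ψ u
    rw [dif_pos (hUW hu)]
    exact hχU ⟨⟨u, hUW hu⟩, Subgroup.mem_subgroupOf.2 hu⟩

/-- Gallagher on a subgroup containing `M`: two extensions differ by a character of the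
quotient. -/
theorem gal_rel [Fintype G] (M : Subgroup G) [hM : M.Normal] [Fintype ↥M] (η : IrrCharacter ↥M)
    (U : Subgroup G) (hMU : M ≤ U) (Θ Ψ : G → ℂ)
    (hΘ : IsCharacter ↥U (fun u : ↥U => Θ u)) (hΨ : IsIrrCharacter ↥U (fun u : ↥U => Ψ u))
    (hΘM : ∀ m : ↥M, Θ m = η.1 m) (hΨM : ∀ m : ↥M, Ψ m = η.1 m) :
    ∃ lam : IrrCharacter (↥U ⧸ M.subgroupOf U),
      ∀ u : ↥U, Ψ u = Θ u * lam.1 (QuotientGroup.mk u) := by
  classical
  let _ : Fintype ↥U := Fintype.ofFinite _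
  let _ : Fintype (↥U ⧸ M.subgroupOf U) := Fintype.ofFinite _
  have hker : ∀ y : ↥U, (QuotientGroup.mk' (M.subgroupOf U)) y = 1 ↔
      y ∈ (Subgroup.inclusion hMU).range := by
    intro y
    rw [QuotientGroup.mk'_apply, QuotientGroup.eq_one_iff, Subgroup.mem_subgroupOf]
    constructor
    · intro h
      exact ⟨⟨y, h⟩, rfl⟩
    · rintro ⟨m, rfl⟩
      exact m.2
  obtain ⟨lam, hlam⟩ := gal_surj (QuotientGroup.mk' (M.subgroupOf U))
    (QuotientGroup.mk'_surjective _) (Subgroup.inclusion hMU) hker (fun u : ↥U => Θ u) hΘ η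
    (fun n => hΘM n) ⟨fun u : ↥U => Ψ u, hΨ⟩ (by
      have e : (fun n : ↥M => (⟨fun u : ↥U => Ψ u, hΨ⟩ : IrrCharacter ↥U).1
          (Subgroup.inclusion hMU n)) = η.1 := by
        funext n
        exact hΨM n
      rw [e, mult_self]
      exact one_ne_zero)
  refine ⟨lam, fun u => ?_⟩
  have h2 := congrArg (fun χ : IrrCharacter ↥U => χ.1 u) hlam
  exact h2

end basics


section block

open Classical

variable {G : Type u} [Group G] [Fintype G] (M : Subgroup G) [hM : M.Normal] [Fintype ↥M]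
  (η : IrrCharacter ↥M)
  (hinv : ∀ (g : G) (m : ↥M), η.1 (MulAut.conjNormal g m) = η.1 m)

/-- The subgroup generated by `M` and `x`. -/
abbrev Ux (x : G) : Subgroup G := M ⊔ Subgroup.zpowers x

/-- The subgroup of elements commuting with `x` modulo `M`. -/
def Vs (x : G) : Subgroup G where
  carrier := {k | k * x * k⁻¹ * x⁻¹ ∈ M}
  mul_mem' := by
    intro a b ha hb
    have e : a * b * x * (a * b)⁻¹ * x⁻¹ =
        a * (b * x * b⁻¹ * x⁻¹) * a⁻¹ * (a * x * a⁻¹ * x⁻¹) := by group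
    show a * b * x * (a * b)⁻¹ * x⁻¹ ∈ M
    rw [e]
    exact M.mul_mem (hM.conj_mem _ hb a) ha
  one_mem' := by
    show 1 * x * 1⁻¹ * x⁻¹ ∈ M
    simp
  inv_mem' := by
    intro a ha
    have e : a⁻¹ * x * a⁻¹⁻¹ * x⁻¹ = a⁻¹ * (a * x * a⁻¹ * x⁻¹)⁻¹ * a⁻¹⁻¹ := by group
    show a⁻¹ * x * a⁻¹⁻¹ * x⁻¹ ∈ M
    rw [e]
    exact hM.conj_mem _ (M.inv_mem ha) a⁻¹

theorem mem_Vs (x k : G) : k ∈ Vs M x ↔ k * x * k⁻¹ * x⁻¹ ∈ M := Iff.rfl

theorem coset_mem (x g : G) (hg : g * x⁻¹ ∈ M) : g ∈ Ux M x := by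
  have e : g = (g * x⁻¹) * x := by group
  rw [e]
  exact Subgroup.mul_mem _ (Subgroup.mem_sup_left hg)
    (Subgroup.mem_sup_right (Subgroup.mem_zpowers x))

theorem coset_conj (x k g : G) (hk : k * x * k⁻¹ * x⁻¹ ∈ M) (hg : g * x⁻¹ ∈ M) :
    (k * g * k⁻¹) * x⁻¹ ∈ M := by
  have e : k * g * k⁻¹ * x⁻¹ = k * (g * x⁻¹) * k⁻¹ * (k * x * k⁻¹ * x⁻¹) := by group
  rw [e]
  exact M.mul_mem (hM.conj_mem _ hg k) hk

theorem coset_mk (x g : G) (hg : g * x⁻¹ ∈ M) (hgU : g ∈ Ux M x) (hxU : x ∈ Ux M x) :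
    (QuotientGroup.mk (⟨g, hgU⟩ : ↥(Ux M x)) : ↥(Ux M x) ⧸ M.subgroupOf (Ux M x)) =
      QuotientGroup.mk ⟨x, hxU⟩ := by
  rw [QuotientGroup.eq, Subgroup.mem_subgroupOf]
  have e : g⁻¹ * x = x⁻¹ * (g * x⁻¹)⁻¹ * x⁻¹⁻¹ := by group
  show g⁻¹ * x ∈ M
  rw [e]
  exact hM.conj_mem _ (M.inv_mem hg) x⁻¹

theorem V_norm (x k : G) (hk : k * x * k⁻¹ * x⁻¹ ∈ M) (u : G) :
    k * u * k⁻¹ ∈ Ux M x ↔ u ∈ Ux M x := by
  have key : ∀ k' : G, k' * x * k'⁻¹ * x⁻¹ ∈ M →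
      Ux M x ≤ (Ux M x).comap (MulAut.conj k').toMonoidHom := by
    intro k' hk'
    apply sup_le
    · intro m hm
      rw [mem_comap_conj]
      exact Subgroup.mem_sup_left (hM.conj_mem m hm k')
    · rw [Subgroup.zpowers_le, mem_comap_conj]
      have e : k' * x * k'⁻¹ = (k' * x * k'⁻¹ * x⁻¹) * x := by group
      rw [e]
      exact Subgroup.mul_mem _ (Subgroup.mem_sup_left hk')
        (Subgroup.mem_sup_right (Subgroup.mem_zpowers x))
  constructor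
  · intro h
    have h2 := key k⁻¹ ((Vs M x).inv_mem hk) h
    rw [mem_comap_conj] at h2
    have e : k⁻¹ * (k * u * k⁻¹) * k⁻¹⁻¹ = u := by group
    rw [e] at h2
    exact h2
  · intro h
    have h2 := key k hk h
    rwa [mem_comap_conj] at h2

omit [Fintype G] in
/-- Conjugation by a normalizing element as an endomorphism of the subgroup. -/
def conjU (U : Subgroup G) (k : G) (hk : ∀ u, k * u * k⁻¹ ∈ U ↔ u ∈ U) : ↥U →* ↥U where
  toFun u := ⟨k * u * k⁻¹, (hk u).2 u.2⟩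
  map_one' := by
    apply Subtype.ext
    simp
  map_mul' a b := by
    apply Subtype.ext
    show k * ((a * b : ↥U) : G) * k⁻¹ = (k * a * k⁻¹) * (k * b * k⁻¹)
    rw [Subgroup.coe_mul]
    group

omit [Fintype G] in
theorem conjU_surj (U : Subgroup G) (k : G) (hk : ∀ u, k * u * k⁻¹ ∈ U ↔ u ∈ U) :
    Function.Surjective (conjU U k hk) := by
  intro v
  have e : k * (k⁻¹ * v * k) * k⁻¹ = v := by group
  exact ⟨⟨k⁻¹ * v * k, (hk _).1 (by rw [e]; exact v.2)⟩, Subtype.ext e⟩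

include hinv in
theorem conj_rel (x k : G) (hk : k * x * k⁻¹ * x⁻¹ ∈ M) (ψ : G → ℂ)
    (hψ : IsIrrCharacter ↥(Ux M x) (fun u : ↥(Ux M x) => ψ u))
    (hψM : ∀ m : ↥M, ψ m = η.1 m) :
    ∃ lam : IrrCharacter (↥(Ux M x) ⧸ M.subgroupOf (Ux M x)),
      ∀ u : ↥(Ux M x), ψ (k * u * k⁻¹) = ψ u * lam.1 (QuotientGroup.mk u) := by
  have hkU := V_norm M x k hk
  have hΨ : IsIrrCharacter ↥(Ux M x) (fun u : ↥(Ux M x) => ψ (k * u * k⁻¹)) :=
    isIrrCharacter_comp hψ (conjU _ k hkU) (conjU_surj _ k hkU)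
  exact gal_rel M η (Ux M x) le_sup_left ψ (fun g => ψ (k * g * k⁻¹))
    (Cfsg.Agent.Lib.CT.Wedderburn.isCharacter_of_irr hψ) hΨ hψM (fun m => by
      have h1 := hψM (MulAut.conjNormal k m)
      rw [MulAut.conjNormal_apply] at h1
      rw [h1, hinv k m])

theorem lam_trivial (x : G) (hxU : x ∈ Ux M x)
    (lam : IrrCharacter (↥(Ux M x) ⧸ M.subgroupOf (Ux M x))) (h1 : lam.1 1 = 1)
    (hx : lam.1 (QuotientGroup.mk ⟨x, hxU⟩) = 1) (u : ↥(Ux M x)) :
    lam.1 (QuotientGroup.mk u) = 1 := by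
  obtain ⟨f, hf⟩ := Cfsg.Agent.Lib.CT.LinChar.exists_hom_of_isCharacter lam.1
    (irr_isCharacter lam) h1
  have hfx : f (QuotientGroup.mk ⟨x, hxU⟩) = 1 := by
    apply Units.ext
    rw [← hf, hx]
    rfl
  obtain ⟨j, hj⟩ := Subgroup.mem_zpowers_iff.1 (quot_gen M (Ux M x) x rfl hxU u)
  rw [hf, ← hj, map_zpow, hfx, one_zpow]
  rfl

theorem exists_nonzero (x : G) (ψ : G → ℂ)
    (hψ : IsIrrCharacter ↥(Ux M x) (fun u : ↥(Ux M x) => ψ u))
    (hψM : ∀ m : ↥M, ψ m = η.1 m) : ∃ g₀, g₀ * x⁻¹ ∈ M ∧ ψ g₀ ≠ 0 := by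
  classical
  have hxU : x ∈ Ux M x := Subgroup.mem_sup_right (Subgroup.mem_zpowers x)
  have hirr : IsIrrCharacter ↥M (fun n : ↥M => (fun u : ↥(Ux M x) => ψ u)
      (Subgroup.inclusion le_sup_left n)) := by
    have e : (fun n : ↥M => (fun u : ↥(Ux M x) => ψ u)
        (Subgroup.inclusion le_sup_left n)) = η.1 := by
      funext n
      exact hψM n
    rw [e]
    exact η.2
  have h := coset_norm_hom (Subgroup.inclusion (le_sup_left : M ≤ Ux M x))
    (Cfsg.Agent.Lib.CT.Wedderburn.isCharacter_of_irr hψ) hirr ⟨x, hxU⟩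
  by_contra hcon
  push Not at hcon
  have h0 : ∑ n : ↥M, (fun u : ↥(Ux M x) => ψ u)
      (Subgroup.inclusion le_sup_left n * ⟨x, hxU⟩) *
      (fun u : ↥(Ux M x) => ψ u) ((Subgroup.inclusion le_sup_left n * ⟨x, hxU⟩)⁻¹) = 0 := by
    apply Finset.sum_eq_zero
    intro n _
    have h5 : ψ ((n : G) * x) = 0 := hcon _ (by
      have e : (n : G) * x * x⁻¹ = n := by group
      rw [e]
      exact n.2)
    show ψ ((n : G) * x) * _ = 0
    rw [h5, zero_mul]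
  rw [h0] at h
  exact (card_ne_zero (G := ↥M)) h.symm

theorem mem_iff_mk (a : G) : a ∈ M ↔ (a : G ⧸ M) = 1 := (QuotientGroup.eq_one_iff a).symm

theorem fiber_mem (x k g n : G) (hn : n ∈ M) (hk : k * x * k⁻¹ * x⁻¹ ∈ M) (hg : g * x⁻¹ ∈ M) :
    n * g⁻¹ * n⁻¹ * (k * g * k⁻¹) ∈ M := by
  rw [mem_iff_mk] at hn hk hg ⊢
  simp only [QuotientGroup.mk_mul, QuotientGroup.mk_inv] at hk hg ⊢
  have hg' : (g : G ⧸ M) = x := mul_inv_eq_one.1 hg
  have hk' : (k : G ⧸ M) * x * (k : G ⧸ M)⁻¹ = x := mul_inv_eq_one.1 hk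
  rw [hn, hg']
  simp only [one_mul, inv_one, mul_one]
  rw [hk', inv_mul_cancel]

theorem fiber_mem' (x k g n : G) (hn : n ∈ M) (hg : g * x⁻¹ ∈ M)
    (h : n * g⁻¹ * n⁻¹ * (k * g * k⁻¹) ∈ M) : k * x * k⁻¹ * x⁻¹ ∈ M := by
  rw [mem_iff_mk] at hn hg h ⊢
  simp only [QuotientGroup.mk_mul, QuotientGroup.mk_inv] at hg h ⊢
  have hg' : (g : G ⧸ M) = x := mul_inv_eq_one.1 hg
  rw [hn, hg'] at h
  simp only [one_mul, inv_one, mul_one] at h
  rw [mul_inv_eq_one]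
  exact (inv_mul_eq_one.1 h).symm

include hinv in
theorem fiber_eval (x : G) (ψ : G → ℂ)
    (hψ : IsIrrCharacter ↥(Ux M x) (fun u : ↥(Ux M x) => ψ u)) (hψM : ∀ m : ↥M, ψ m = η.1 m)
    (c : G → ℂ)
    (hc : ∀ k, k * x * k⁻¹ * x⁻¹ ∈ M → ∀ g, g * x⁻¹ ∈ M → ψ (k * g * k⁻¹) = c k * ψ g)
    (g : G) (hg : g * x⁻¹ ∈ M) :
    η.1 1 * ∑ k : G, extendByZero M η.1 (g⁻¹ * k * g * k⁻¹) =
      ψ g⁻¹ * ψ g * ∑ k : G, (if k * x * k⁻¹ * x⁻¹ ∈ M then c k else 0) := by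
  classical
  have hM0 : (Nat.card ↥M : ℂ) ≠ 0 := card_ne_zero
  have hgU : g ∈ Ux M x := coset_mem M x g hg
  have hginvU : g⁻¹ ∈ Ux M x := (Ux M x).inv_mem hgU
  have hirr : IsIrrCharacter ↥M (fun n : ↥M => (fun u : ↥(Ux M x) => ψ u)
      (Subgroup.inclusion le_sup_left n)) := by
    have e : (fun n : ↥M => (fun u : ↥(Ux M x) => ψ u)
        (Subgroup.inclusion le_sup_left n)) = η.1 := by
      funext n
      exact hψM n
    rw [e]
    exact η.2
  have hA : ∀ n : ↥M, ∑ k : G, extendByZero M η.1 (g⁻¹ * k * g * k⁻¹) =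
      ∑ k : G, extendByZero M η.1 ((n : G) * g⁻¹ * (n : G)⁻¹ * (k * g * k⁻¹)) := by
    intro n
    rw [← Equiv.sum_comp (Equiv.mulLeft ((n : G)⁻¹))]
    apply Finset.sum_congr rfl
    intro k _
    have e1 : g⁻¹ * ((Equiv.mulLeft ((n : G)⁻¹)) k) * g * ((Equiv.mulLeft ((n : G)⁻¹)) k)⁻¹ =
        (g⁻¹ * (n : G)⁻¹ * k * g * k⁻¹) * (n : G) := by
      simp only [Equiv.coe_mulLeft]
      group
    have e2 : (n : G) * g⁻¹ * (n : G)⁻¹ * (k * g * k⁻¹) =
        (n : G) * (g⁻¹ * (n : G)⁻¹ * k * g * k⁻¹) := by group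
    rw [e1, e2]
    exact ez_comm M η hinv _ _
  have hB : ∀ k : G, η.1 1 * ∑ n : ↥M,
      extendByZero M η.1 ((n : G) * g⁻¹ * (n : G)⁻¹ * (k * g * k⁻¹)) =
      if k * x * k⁻¹ * x⁻¹ ∈ M then (Nat.card ↥M : ℂ) * ψ g⁻¹ * (c k * ψ g) else 0 := by
    intro k
    split_ifs with hk
    · have hkgU : k * g * k⁻¹ ∈ Ux M x := coset_mem M x _ (coset_conj M x k g hk hg)
      have hs := rel_schur (Subgroup.inclusion (le_sup_left : M ≤ Ux M x))
        (Cfsg.Agent.Lib.CT.Wedderburn.isCharacter_of_irr hψ) hirr ⟨g⁻¹, hginvU⟩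
        ⟨k * g * k⁻¹, hkgU⟩
      have h1 : ψ (1 : G) = η.1 1 := hψM 1
      have hterm : ∀ n : ↥M,
          extendByZero M η.1 ((n : G) * g⁻¹ * (n : G)⁻¹ * (k * g * k⁻¹)) =
          ψ ((n : G) * g⁻¹ * (n : G)⁻¹ * (k * g * k⁻¹)) := by
        intro n
        have hmem := fiber_mem M x k g n n.2 hk hg
        rw [Cfsg.Agent.Lib.CT.FrobRec.extendByZero_apply_of_mem M _ hmem]
        exact (hψM ⟨_, hmem⟩).symm
      rw [Finset.sum_congr rfl (fun n _ => hterm n), ← h1, ← hc k hk g hg]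
      exact hs
    · apply mul_eq_zero_of_right
      apply Finset.sum_eq_zero
      intro n _
      apply Cfsg.Agent.Lib.CT.FrobRec.extendByZero_apply_of_not_mem
      intro hmem
      exact hk (fiber_mem' M x k g n n.2 hg hmem)
  have hC : (Nat.card ↥M : ℂ) *
      (η.1 1 * ∑ k : G, extendByZero M η.1 (g⁻¹ * k * g * k⁻¹)) =
      (Nat.card ↥M : ℂ) *
        (ψ g⁻¹ * ψ g * ∑ k : G, (if k * x * k⁻¹ * x⁻¹ ∈ M then c k else 0)) := by
    have h1 : (Nat.card ↥M : ℂ) *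
        (η.1 1 * ∑ k : G, extendByZero M η.1 (g⁻¹ * k * g * k⁻¹)) =
        η.1 1 * ∑ n : ↥M, ∑ k : G,
          extendByZero M η.1 ((n : G) * g⁻¹ * (n : G)⁻¹ * (k * g * k⁻¹)) := by
      rw [← Finset.sum_congr rfl (fun n _ => hA n), Finset.sum_const, Finset.card_univ,
        nsmul_eq_mul, Nat.card_eq_fintype_card]
      ring
    rw [h1, Finset.sum_comm, Finset.mul_sum, Finset.sum_congr rfl (fun k _ => hB k),
      Finset.mul_sum, Finset.mul_sum]
    apply Finset.sum_congr rfl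
    intro k _
    split_ifs
    · ring
    · ring
  exact mul_left_cancel₀ hM0 hC

include hinv in
theorem block_total (x : G) (ψ : G → ℂ)
    (hψ : IsIrrCharacter ↥(Ux M x) (fun u : ↥(Ux M x) => ψ u)) (hψM : ∀ m : ↥M, ψ m = η.1 m)
    (c : G → ℂ)
    (hc : ∀ k, k * x * k⁻¹ * x⁻¹ ∈ M → ∀ g, g * x⁻¹ ∈ M → ψ (k * g * k⁻¹) = c k * ψ g) :
    η.1 1 * ∑ m : ↥M, ∑ k : G,
        extendByZero M η.1 (((m : G) * x)⁻¹ * k * ((m : G) * x) * k⁻¹) =
      (Nat.card ↥M : ℂ) * ∑ k : G, (if k * x * k⁻¹ * x⁻¹ ∈ M then c k else 0) := by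
  classical
  have hxU : x ∈ Ux M x := Subgroup.mem_sup_right (Subgroup.mem_zpowers x)
  have hirr : IsIrrCharacter ↥M (fun n : ↥M => (fun u : ↥(Ux M x) => ψ u)
      (Subgroup.inclusion le_sup_left n)) := by
    have e : (fun n : ↥M => (fun u : ↥(Ux M x) => ψ u)
        (Subgroup.inclusion le_sup_left n)) = η.1 := by
      funext n
      exact hψM n
    rw [e]
    exact η.2
  have h := coset_norm_hom (Subgroup.inclusion (le_sup_left : M ≤ Ux M x))
    (Cfsg.Agent.Lib.CT.Wedderburn.isCharacter_of_irr hψ) hirr ⟨x, hxU⟩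
  rw [Finset.mul_sum]
  have h1 : ∀ m : ↥M, η.1 1 * ∑ k : G,
      extendByZero M η.1 (((m : G) * x)⁻¹ * k * ((m : G) * x) * k⁻¹) =
      ψ ((m : G) * x) * ψ (((m : G) * x)⁻¹) *
        ∑ k : G, (if k * x * k⁻¹ * x⁻¹ ∈ M then c k else 0) := by
    intro m
    rw [fiber_eval M η hinv x ψ hψ hψM c hc ((m : G) * x) (by
      have e : (m : G) * x * x⁻¹ = m := by group
      rw [e]
      exact m.2)]
    ring
  rw [Finset.sum_congr rfl (fun m _ => h1 m), ← Finset.sum_mul]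
  congr 1

theorem orth_sum (x : G) (c : G → ℂ)
    (hmul : ∀ k k', k ∈ Vs M x → k' ∈ Vs M x → c (k * k') = c k * c k')
    (k₀ : G) (hk₀ : k₀ ∈ Vs M x) (hne : c k₀ ≠ 1) :
    ∑ k : G, (if k * x * k⁻¹ * x⁻¹ ∈ M then c k else 0) = 0 := by
  classical
  have h1 : ∑ k : G, (if k * x * k⁻¹ * x⁻¹ ∈ M then c k else 0) =
      c k₀ * ∑ k : G, (if k * x * k⁻¹ * x⁻¹ ∈ M then c k else 0) := by
    conv_lhs => rw [← Equiv.sum_comp (Equiv.mulLeft k₀)]
    rw [Finset.mul_sum]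
    apply Finset.sum_congr rfl
    intro k _
    show (if k₀ * k * x * (k₀ * k)⁻¹ * x⁻¹ ∈ M then c (k₀ * k) else 0) =
      c k₀ * (if k * x * k⁻¹ * x⁻¹ ∈ M then c k else 0)
    by_cases hk : k * x * k⁻¹ * x⁻¹ ∈ M
    · have hk' : k₀ * k * x * (k₀ * k)⁻¹ * x⁻¹ ∈ M := (Vs M x).mul_mem hk₀ hk
      rw [if_pos hk, if_pos hk', hmul k₀ k hk₀ hk]
    · have hk' : ¬ (k₀ * k * x * (k₀ * k)⁻¹ * x⁻¹ ∈ M) := by
        intro h
        apply hk
        have h3 := (Vs M x).mul_mem ((Vs M x).inv_mem hk₀) h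
        have e : k₀⁻¹ * (k₀ * k) = k := by group
        rw [e] at h3
        exact h3
      rw [if_neg hk, if_neg hk', mul_zero]
  have h2 : (1 - c k₀) * ∑ k : G, (if k * x * k⁻¹ * x⁻¹ ∈ M then c k else 0) = 0 := by
    rw [sub_mul, one_mul, ← h1, sub_self]
  rcases mul_eq_zero.1 h2 with h | h
  · exact absurd (sub_eq_zero.1 h).symm hne
  · exact h

include hinv in
theorem block_good (x : G) :
    η.1 1 * ∑ m : ↥M, ∑ k : G,
        extendByZero M η.1 (((m : G) * x)⁻¹ * k * ((m : G) * x) * k⁻¹) =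
      (Nat.card ↥M : ℂ) *
        ∑ k : G, (if (k * x * k⁻¹ * x⁻¹ ∈ M ∧ Good M η x) then (1 : ℂ) else 0) := by
  classical
  have hxU : x ∈ Ux M x := Subgroup.mem_sup_right (Subgroup.mem_zpowers x)
  have hMU : M ≤ Ux M x := le_sup_left
  obtain ⟨ψ, hψ, hψ0⟩ := ext_cyclic_step M (Ux M x) x rfl (extendByZero M η.1)
    (by
      have e : (fun u : ↥M => extendByZero M η.1 u) = η.1 := by
        funext u
        exact Cfsg.Agent.Lib.CT.FrobRec.extendByZero_apply_coe M η.1 u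
      rw [e]
      exact η.2)
    (fun u => ⟨fun h => by
        have e : x⁻¹ * (x * u * x⁻¹) * x⁻¹⁻¹ = u := by group
        rw [← e]
        exact hM.conj_mem _ h x⁻¹, fun h => hM.conj_mem u h x⟩)
    (fun u _ => ez_conj M η hinv x u)
  have hψM : ∀ m : ↥M, ψ m = η.1 m := fun m => by
    rw [hψ0 m m.2]
    exact Cfsg.Agent.Lib.CT.FrobRec.extendByZero_apply_coe M η.1 m
  obtain ⟨g₀, hg₀, hne⟩ := exists_nonzero M η x ψ hψ hψM
  have hg₀U : g₀ ∈ Ux M x := coset_mem M x g₀ hg₀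
  let c : G → ℂ := fun k => ψ (k * g₀ * k⁻¹) / ψ g₀
  have hc : ∀ k, k * x * k⁻¹ * x⁻¹ ∈ M → ∀ g, g * x⁻¹ ∈ M →
      ψ (k * g * k⁻¹) = c k * ψ g := by
    intro k hk g hg
    obtain ⟨lam, hlam⟩ := conj_rel M η hinv x k hk ψ hψ hψM
    have h1 : ψ (k * g₀ * k⁻¹) = ψ g₀ * lam.1 (QuotientGroup.mk ⟨x, hxU⟩) := by
      have h := hlam ⟨g₀, hg₀U⟩
      rw [coset_mk M x g₀ hg₀ hg₀U hxU] at h
      exact h
    have h2 : ψ (k * g * k⁻¹) = ψ g * lam.1 (QuotientGroup.mk ⟨x, hxU⟩) := by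
      have h := hlam ⟨g, coset_mem M x g hg⟩
      rw [coset_mk M x g hg _ hxU] at h
      exact h
    show ψ (k * g * k⁻¹) = ψ (k * g₀ * k⁻¹) / ψ g₀ * ψ g
    rw [h2, h1]
    field_simp
  have hmul : ∀ k k', k ∈ Vs M x → k' ∈ Vs M x → c (k * k') = c k * c k' := by
    intro k k' hk hk'
    have h1 := hc k hk (k' * g₀ * k'⁻¹) (coset_conj M x k' g₀ hk' hg₀)
    have e : k * k' * g₀ * (k * k')⁻¹ = k * (k' * g₀ * k'⁻¹) * k⁻¹ := by group
    show ψ (k * k' * g₀ * (k * k')⁻¹) / ψ g₀ = c k * (ψ (k' * g₀ * k'⁻¹) / ψ g₀)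
    rw [e, h1]
    ring
  rw [block_total M η hinv x ψ hψ hψM c hc]
  congr 1
  by_cases hgood : Good M η x
  · apply Finset.sum_congr rfl
    intro k _
    by_cases hk : k * x * k⁻¹ * x⁻¹ ∈ M
    · rw [if_pos hk, if_pos ⟨hk, hgood⟩]
      obtain ⟨ψh, hψhW, hψhM⟩ := hgood k hk
      have hUW : Ux M x ≤ M ⊔ Subgroup.zpowers x ⊔ Subgroup.zpowers k := le_sup_left
      have hkW : k ∈ M ⊔ Subgroup.zpowers x ⊔ Subgroup.zpowers k :=
        Subgroup.mem_sup_right (Subgroup.mem_zpowers k)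
      have hΘ : IsCharacter ↥(Ux M x) (fun u : ↥(Ux M x) => ψh u) :=
        Cfsg.Agent.Lib.CT.Ops.isCharacter_comp_hom (Subgroup.inclusion hUW) hψhW
      obtain ⟨lam, hlam⟩ := gal_rel M η (Ux M x) hMU ψh ψ hΘ hψ hψhM hψM
      have hkg₀ := coset_conj M x k g₀ hk hg₀
      have h1 : ψ g₀ = ψh g₀ * lam.1 (QuotientGroup.mk ⟨x, hxU⟩) := by
        have h := hlam ⟨g₀, hg₀U⟩
        rw [coset_mk M x g₀ hg₀ hg₀U hxU] at h
        exact h
      have h2 : ψ (k * g₀ * k⁻¹) = ψh (k * g₀ * k⁻¹) * lam.1 (QuotientGroup.mk ⟨x, hxU⟩) := by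
        have h := hlam ⟨k * g₀ * k⁻¹, coset_mem M x _ hkg₀⟩
        rw [coset_mk M x _ hkg₀ _ hxU] at h
        exact h
      have h3 : ψh (k * g₀ * k⁻¹) = ψh g₀ :=
        char_conj hψhW (⟨g₀, hUW hg₀U⟩ : ↥(M ⊔ Subgroup.zpowers x ⊔ Subgroup.zpowers k))
          ⟨k, hkW⟩
      show ψ (k * g₀ * k⁻¹) / ψ g₀ = 1
      rw [h2, h3, ← h1, div_self hne]
    · rw [if_neg hk, if_neg (fun h => hk h.1)]
  · have hR : ∑ k : G, (if (k * x * k⁻¹ * x⁻¹ ∈ M ∧ Good M η x) then (1 : ℂ) else 0) = 0 := by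
      apply Finset.sum_eq_zero
      intro k _
      rw [if_neg (fun h => hgood h.2)]
    rw [hR]
    unfold Good at hgood
    push Not at hgood
    obtain ⟨y, hy, hyext⟩ := hgood
    apply orth_sum M x c hmul y hy
    intro hcy
    apply hyext
    obtain ⟨lam, hlam⟩ := conj_rel M η hinv x y hy ψ hψ hψM
    have h1 : ψ (y * g₀ * y⁻¹) = ψ g₀ * lam.1 (QuotientGroup.mk ⟨x, hxU⟩) := by
      have h := hlam ⟨g₀, hg₀U⟩
      rw [coset_mk M x g₀ hg₀ hg₀U hxU] at h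
      exact h
    have hcy' : ψ (y * g₀ * y⁻¹) = ψ g₀ := by
      have h5 : ψ (y * g₀ * y⁻¹) / ψ g₀ = 1 := hcy
      exact (div_eq_one_iff_eq hne).1 h5
    have hlx : lam.1 (QuotientGroup.mk ⟨x, hxU⟩) = 1 := by
      rw [hcy'] at h1
      exact mul_left_cancel₀ hne (by rw [mul_one]; exact h1.symm)
    have hl1 : lam.1 1 = 1 := by
      have h := hlam 1
      have hψ1 : ψ (1 : G) ≠ 0 := by
        rw [show ψ (1 : G) = η.1 1 from hψM 1]
        exact Cfsg.Agent.Lib.CT.Wedderburn.irr_apply_one_ne_zero η.2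
      have h6 : ψ (1 : G) = ψ (1 : G) * lam.1 1 := by
        have e : y * ((1 : ↥(Ux M x)) : G) * y⁻¹ = 1 := by simp
        rw [e] at h
        exact h
      exact mul_left_cancel₀ hψ1 (by rw [mul_one]; exact h6.symm)
    have hall : ∀ u ∈ Ux M x, ψ (y * u * y⁻¹) = ψ u := by
      intro u hu
      have h := hlam ⟨u, hu⟩
      rw [lam_trivial M x hxU lam hl1 hlx ⟨u, hu⟩, mul_one] at h
      exact h
    obtain ⟨χ, hχ, hχU⟩ := ext_cyclic_step (Ux M x)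
      (M ⊔ Subgroup.zpowers x ⊔ Subgroup.zpowers y) y rfl ψ hψ (V_norm M x y hy) hall
    exact ⟨χ, Cfsg.Agent.Lib.CT.Wedderburn.isCharacter_of_irr hχ,
      fun m => (hχU m (hMU m.2)).trans (hψM m)⟩

include hinv in
/-- The count of irreducible characters over an invariant character via good pairs. -/
theorem count_good :
    (Nat.card {χ : IrrCharacter G // mult (res M χ.1) η ≠ 0} : ℂ) * (Nat.card G : ℂ) *
        (Nat.card ↥M : ℂ) =
      ∑ x : G, ∑ k : G, (if (k * x * k⁻¹ * x⁻¹ ∈ M ∧ Good M η x) then (1 : ℂ) else 0) := by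
  classical
  have hM0 : (Nat.card ↥M : ℂ) ≠ 0 := card_ne_zero
  rw [comm_sum M η hinv]
  have h1 : (Nat.card ↥M : ℂ) * ∑ g : G, ∑ k : G, extendByZero M η.1 (g⁻¹ * k * g * k⁻¹) =
      ∑ x : G, ∑ m : ↥M, ∑ k : G,
        extendByZero M η.1 (((m : G) * x)⁻¹ * k * ((m : G) * x) * k⁻¹) := by
    conv_rhs => rw [Finset.sum_comm]
    have h2 : ∀ m : ↥M, ∑ x : G, ∑ k : G,
        extendByZero M η.1 (((m : G) * x)⁻¹ * k * ((m : G) * x) * k⁻¹) =
        ∑ g : G, ∑ k : G, extendByZero M η.1 (g⁻¹ * k * g * k⁻¹) := by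
      intro m
      exact Equiv.sum_comp (Equiv.mulLeft (m : G))
        (fun g => ∑ k : G, extendByZero M η.1 (g⁻¹ * k * g * k⁻¹))
    rw [Finset.sum_congr rfl (fun m _ => h2 m), Finset.sum_const, Finset.card_univ,
      nsmul_eq_mul, Nat.card_eq_fintype_card]
  apply mul_left_cancel₀ hM0
  rw [← mul_assoc, mul_comm (Nat.card ↥M : ℂ) (η.1 1), mul_assoc, h1, Finset.mul_sum,
    Finset.mul_sum]
  apply Finset.sum_congr rfl
  intro x _
  exact block_good M η hinv x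

theorem good_congr (x x' : G) (h : x' * x⁻¹ ∈ M) (hx : Good M η x) : Good M η x' := by
  intro y hy
  have hU : M ⊔ Subgroup.zpowers x' = M ⊔ Subgroup.zpowers x := by
    apply le_antisymm
    · apply sup_le le_sup_left
      rw [Subgroup.zpowers_le]
      exact coset_mem M x x' h
    · apply sup_le le_sup_left
      rw [Subgroup.zpowers_le]
      apply coset_mem M x' x
      have e : x * x'⁻¹ = (x' * x⁻¹)⁻¹ := by group
      rw [e]
      exact M.inv_mem h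
  rw [hU]
  apply hx
  rw [mem_iff_mk] at h hy ⊢
  simp only [QuotientGroup.mk_mul, QuotientGroup.mk_inv] at h hy ⊢
  have h' : (x' : G ⧸ M) = x := mul_inv_eq_one.1 h
  rw [h'] at hy
  exact hy

include hinv in
/-- The count of irreducible characters over an invariant character, read off in a quotient. -/
theorem count_hom {Q : Type u} [Group Q] [Fintype Q] (π : G →* Q) (hπ : Function.Surjective π)
    (hker : ∀ g, π g = 1 ↔ g ∈ M) :
    (Nat.card {χ : IrrCharacter G // mult (res M χ.1) η ≠ 0} : ℂ) * (Nat.card Q : ℂ) =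
      ∑ q : Q, ∑ r : Q,
        (if (r * q = q * r ∧ ∀ x, π x = q → Good M η x) then (1 : ℂ) else 0) := by
  classical
  have hM0 : (Nat.card ↥M : ℂ) ≠ 0 := card_ne_zero
  have hkerM : π.ker = M := by
    ext g
    rw [MonoidHom.mem_ker, hker]
  have hcard : (Nat.card G : ℂ) = (Nat.card ↥M : ℂ) * (Nat.card Q : ℂ) := by
    rw [card_eq_ker_mul π hπ, hkerM]
  have h1 := count_good M η hinv
  have h2 : ∀ x k : G, (if (k * x * k⁻¹ * x⁻¹ ∈ M ∧ Good M η x) then (1 : ℂ) else 0) =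
      (fun r : Q => if (r * π x = π x * r ∧ ∀ x', π x' = π x → Good M η x')
        then (1 : ℂ) else 0) (π k) := by
    intro x k
    have e1 : k * x * k⁻¹ * x⁻¹ ∈ M ↔ π k * π x = π x * π k := by
      rw [← hker, map_mul, map_mul, map_mul, map_inv, map_inv, mul_inv_eq_one,
        mul_inv_eq_iff_eq_mul]
    have e2 : Good M η x ↔ ∀ x', π x' = π x → Good M η x' := by
      constructor
      · intro hx x' hx'
        apply good_congr M η x x' _ hx
        rw [← hker, map_mul, map_inv, hx', mul_inv_cancel]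
      · intro h
        exact h x rfl
    show _ = if (π k * π x = π x * π k ∧ ∀ x', π x' = π x → Good M η x') then (1 : ℂ) else 0
    rw [if_congr (and_congr e1 e2) rfl rfl]
  have h3 : ∑ x : G, ∑ k : G, (if (k * x * k⁻¹ * x⁻¹ ∈ M ∧ Good M η x) then (1 : ℂ) else 0) =
      (Nat.card ↥M : ℂ) * ((Nat.card ↥M : ℂ) * ∑ q : Q, ∑ r : Q,
        (if (r * q = q * r ∧ ∀ x, π x = q → Good M η x) then (1 : ℂ) else 0)) := by
    have h4 : ∀ x : G, ∑ k : G,
        (if (k * x * k⁻¹ * x⁻¹ ∈ M ∧ Good M η x) then (1 : ℂ) else 0) =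
        (fun q : Q => (Nat.card ↥M : ℂ) * ∑ r : Q,
          (if (r * q = q * r ∧ ∀ x, π x = q → Good M η x) then (1 : ℂ) else 0)) (π x) := by
      intro x
      rw [Finset.sum_congr rfl (fun k _ => h2 x k)]
      have h5 := sum_comp_surj π hπ (fun r : Q =>
        if (r * π x = π x * r ∧ ∀ x', π x' = π x → Good M η x') then (1 : ℂ) else 0)
      rw [hkerM] at h5
      exact h5
    rw [Finset.sum_congr rfl (fun x _ => h4 x), sum_comp_surj π hπ (fun q : Q =>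
      (Nat.card ↥M : ℂ) * ∑ r : Q,
        (if (r * q = q * r ∧ ∀ x, π x = q → Good M η x) then (1 : ℂ) else 0)), hkerM,
      ← Finset.mul_sum]
  rw [h3, hcard] at h1
  apply mul_left_cancel₀ hM0
  apply mul_left_cancel₀ hM0
  rw [← h1]
  ring

end block

end Cfsg.Agent.Lib.Helper81.McKB
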