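import Mathlib
import Cfsg.Prelude.Def_Characters
import Cfsg.Agent.Lib.Helper81.McKB

set_option autoImplicit false
set_option linter.style.haveILetI false
set_option linter.unusedSectionVars false

/-!
# Extending a character across a factorisation `W = N H`
-/

namespace Cfsg.Agent.Lib.Helper81.McKC

open Cfsg
open Cfsg.Agent.Lib.Helper81.Irr Cfsg.Agent.Lib.Helper81.Basic Cfsg.Agent.Lib.Helper81.Expand
  Cfsg.Agent.Lib.Helper81.Mult Cfsg.Agent.Lib.Helper81.Cliff Cfsg.Agent.Lib.Helper81.CliffCorr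
  Cfsg.Agent.Lib.Helper81.McKA Cfsg.Agent.Lib.Helper81.NSylA Cfsg.Agent.Lib.Helper81.McKB
open scoped ComplexConjugate

universe u

section factor

variable {Γ : Type u} [Group Γ] [Finite Γ]

/-- If `W = N H` with `H` normalising `N`, an `H`-invariant irreducible character `θ` of `N`
restricting irreducibly to `N ⊓ H`, and a character `ψ` of `H` agreeing with `θ` on `N ⊓ H`,
then there is a character of `W` restricting to `θ` on `N` and to `ψ` on `H`. -/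
theorem ext_factor (N H W : Subgroup Γ) (hNW : N ≤ W) (hHW : H ≤ W)
    (hfac : ∀ w ∈ W, ∃ n ∈ N, ∃ h ∈ H, w = n * h)
    (hnorm : ∀ h ∈ H, ∀ n, h * n * h⁻¹ ∈ N ↔ n ∈ N)
    (θ : ↥N → ℂ) (hθ : IsIrrCharacter ↥N θ)
    (hinv : ∀ h (hh : h ∈ H) (n : ↥N), θ ⟨h * n * h⁻¹, (hnorm h hh n).2 n.2⟩ = θ n)
    (ψ : ↥H → ℂ) (hψ : IsCharacter ↥H ψ)
    (hcompat : ∀ d (hdN : d ∈ N) (hdH : d ∈ H), θ ⟨d, hdN⟩ = ψ ⟨d, hdH⟩)
    (hirr : IsIrrCharacter ↥(N ⊓ H) (fun d => θ ⟨d, d.2.1⟩)) :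
    ∃ χ : Γ → ℂ, IsCharacter ↥W (fun w : ↥W => χ w) ∧ (∀ n : ↥N, χ n = θ n) ∧
      (∀ h : ↥H, χ h = ψ h) := by
  classical
  obtain ⟨d, σ, hσ, rfl⟩ := hθ
  obtain ⟨d', τ, rfl⟩ := hψ
  let σD : Representation ℂ ↥(N ⊓ H) (Fin d → ℂ) :=
    MonoidHom.comp σ (Subgroup.inclusion inf_le_left)
  let τD : Representation ℂ ↥(N ⊓ H) (Fin d' → ℂ) :=
    MonoidHom.comp τ (Subgroup.inclusion inf_le_right)
  have hσD : σD.IsIrreducible :=
    Cfsg.Agent.Lib.Helper15.DetChar.isIrreducible_of_isIrrCharacter σD hirr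
  have hchar : τD.character = σD.character := by
    funext x
    exact (hcompat x x.2.1 x.2.2).symm
  obtain ⟨e, he⟩ := Cfsg.Agent.Lib.Helper15.DetChar.exists_equiv_of_character_eq σD τD hchar
  let τ' : Representation ℂ ↥H (Fin d → ℂ) := transport e.symm τ
  have hA : ∀ (x : Γ) (hxN : x ∈ N) (hxH : x ∈ H), τ' ⟨x, hxH⟩ = σ ⟨x, hxN⟩ := by
    intro x hxN hxH
    apply LinearMap.ext
    intro v
    rw [transport_apply]
    have h1 := LinearMap.congr_fun (he ⟨x, ⟨hxN, hxH⟩⟩) v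
    simp only [LinearMap.coe_comp, LinearEquiv.coe_coe, Function.comp_apply] at h1
    rw [LinearEquiv.symm_apply_eq, LinearEquiv.symm_symm]
    exact h1.symm
  have hB : ∀ (h : ↥H) (n : ↥N),
      τ' h * σ n = σ ⟨h * n * h⁻¹, (hnorm h h.2 n).2 n.2⟩ * τ' h := by
    intro h n
    let cj : ↥N →* ↥N := conjU N (h : Γ) (hnorm h h.2)
    let σh : Representation ℂ ↥N (Fin d → ℂ) := MonoidHom.comp σ cj
    have hσh_char : σh.character = σ.character := by
      funext n'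
      exact hinv h h.2 n'
    obtain ⟨P, hP⟩ := Cfsg.Agent.Lib.Helper15.DetChar.exists_equiv_of_character_eq σ σh hσh_char
    let Q : Module.End ℂ (Fin d → ℂ) := τ' h⁻¹ * P.toLinearMap
    have hQ : ∀ x : ↥(N ⊓ H), Q * σD x = σD x * Q := by
      intro x
      have hxc : (h : Γ) * x * (h : Γ)⁻¹ ∈ N := (hnorm h h.2 x).2 x.2.1
      have hxcH : (h : Γ) * x * (h : Γ)⁻¹ ∈ H :=
        H.mul_mem (H.mul_mem h.2 x.2.2) (H.inv_mem h.2)
      have h1 : P.toLinearMap * σ ⟨x, x.2.1⟩ =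
          σ ⟨(h : Γ) * x * (h : Γ)⁻¹, hxc⟩ * P.toLinearMap := hP ⟨x, x.2.1⟩
      have h2 : σ ⟨(h : Γ) * x * (h : Γ)⁻¹, hxc⟩ = τ' ⟨(h : Γ) * x * (h : Γ)⁻¹, hxcH⟩ :=
        (hA _ hxc hxcH).symm
      have h3 : σ ⟨x, x.2.1⟩ = τ' ⟨x, x.2.2⟩ := (hA _ x.2.1 x.2.2).symm
      show τ' h⁻¹ * P.toLinearMap * σ ⟨x, x.2.1⟩ = σ ⟨x, x.2.1⟩ * (τ' h⁻¹ * P.toLinearMap)
      rw [mul_assoc, h1, h2, ← mul_assoc, ← map_mul, h3, ← mul_assoc, ← map_mul]
      congr 2
      apply Subtype.ext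
      show (h : Γ)⁻¹ * ((h : Γ) * x * (h : Γ)⁻¹) = x * (h : Γ)⁻¹
      group
    obtain ⟨c, hc⟩ := Cfsg.Agent.Lib.Helper80.Schur.schur_scalar σD Q hQ
    have hPc : P.toLinearMap = c • τ' h := by
      have h5 : τ' h * Q = P.toLinearMap := by
        show τ' h * (τ' h⁻¹ * P.toLinearMap) = _
        rw [← mul_assoc, ← map_mul, mul_inv_cancel, map_one, one_mul]
      rw [← h5, hc, mul_smul_comm, mul_one]
    have hc0 : c ≠ 0 := by
      intro h0
      rw [h0, zero_smul] at hPc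
      have hnt : Nontrivial (Fin d → ℂ) := ((irr_iff σ).1 hσ).1
      obtain ⟨v, hv⟩ := exists_ne (0 : Fin d → ℂ)
      have h6 : P v = 0 := by
        have h7 := LinearMap.congr_fun hPc v
        simpa using h7
      exact hv (P.injective (by rw [h6, map_zero]))
    have h4 : P.toLinearMap * σ n =
        σ ⟨h * n * h⁻¹, (hnorm h h.2 n).2 n.2⟩ * P.toLinearMap := hP n
    rw [hPc, smul_mul_assoc, mul_smul_comm] at h4
    exact smul_right_injective _ hc0 h4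
  have hfac' : ∀ w : ↥W, ∃ n : ↥N, ∃ h : ↥H, (w : Γ) = n * h := fun w => by
    obtain ⟨n, hn, h, hh, e⟩ := hfac w w.2
    exact ⟨⟨n, hn⟩, ⟨h, hh⟩, e⟩
  let fn : ↥W → ↥N := fun w => Classical.choose (hfac' w)
  let fh : ↥W → ↥H := fun w => Classical.choose (Classical.choose_spec (hfac' w))
  have hf : ∀ w : ↥W, (w : Γ) = fn w * fh w := fun w =>
    Classical.choose_spec (Classical.choose_spec (hfac' w))
  let F : ↥W → Module.End ℂ (Fin d → ℂ) := fun w => σ (fn w) * τ' (fh w)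
  have hwd : ∀ (w : ↥W) (n : ↥N) (h : ↥H), (w : Γ) = n * h → F w = σ n * τ' h := by
    intro w n h hw
    have h0 : (n : Γ) * h = fn w * fh w := by rw [← hw, ← hf w]
    have hx : (n : Γ)⁻¹ * (fn w : Γ) = (h : Γ) * (fh w : Γ)⁻¹ := by
      calc (n : Γ)⁻¹ * fn w = (n : Γ)⁻¹ * ((fn w : Γ) * fh w) * (fh w : Γ)⁻¹ := by group
        _ = (n : Γ)⁻¹ * ((n : Γ) * h) * (fh w : Γ)⁻¹ := by rw [h0]
        _ = h * (fh w : Γ)⁻¹ := by group
    have hxN : (h : Γ) * (fh w : Γ)⁻¹ ∈ N := by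
      rw [← hx]
      exact (n⁻¹ * fn w).2
    have h1 : τ' (h * (fh w)⁻¹) = σ (n⁻¹ * fn w) := by
      have h2 := hA _ hxN (h * (fh w)⁻¹).2
      exact h2.trans (congrArg σ (Subtype.ext hx.symm))
    calc σ (fn w) * τ' (fh w) = σ (n * (n⁻¹ * fn w)) * τ' (fh w) := by
          rw [mul_inv_cancel_left]
      _ = σ n * (σ (n⁻¹ * fn w) * τ' (fh w)) := by rw [map_mul, mul_assoc]
      _ = σ n * (τ' (h * (fh w)⁻¹) * τ' (fh w)) := by rw [h1]
      _ = σ n * τ' h := by rw [← map_mul, inv_mul_cancel_right]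
  let ρ : Representation ℂ ↥W (Fin d → ℂ) :=
    { toFun := F
      map_one' := by
        have h1 := hwd 1 1 1 (by simp)
        rw [h1, map_one, map_one, one_mul]
      map_mul' := by
        intro w w'
        let m : ↥N := ⟨(fh w : Γ) * fn w' * (fh w : Γ)⁻¹, (hnorm _ (fh w).2 _).2 (fn w').2⟩
        have h1 := hwd (w * w') (fn w * m) (fh w * fh w') (by
          show (w : Γ) * (w' : Γ) = (fn w : Γ) * ((fh w : Γ) * fn w' * (fh w : Γ)⁻¹) *
            ((fh w : Γ) * (fh w' : Γ))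
          rw [hf w, hf w']
          group)
        rw [h1, map_mul, map_mul]
        have h2 : τ' (fh w) * σ (fn w') = σ m * τ' (fh w) := hB (fh w) (fn w')
        show σ (fn w) * σ m * (τ' (fh w) * τ' (fh w')) =
          σ (fn w) * τ' (fh w) * (σ (fn w') * τ' (fh w'))
        calc σ (fn w) * σ m * (τ' (fh w) * τ' (fh w')) =
            σ (fn w) * ((σ m * τ' (fh w)) * τ' (fh w')) := by simp only [mul_assoc]
          _ = σ (fn w) * ((τ' (fh w) * σ (fn w')) * τ' (fh w')) := by rw [h2]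
          _ = σ (fn w) * τ' (fh w) * (σ (fn w') * τ' (fh w')) := by simp only [mul_assoc] }
  refine ⟨fun g => if hg : g ∈ W then ρ.character ⟨g, hg⟩ else 0, ⟨d, ρ, ?_⟩, ?_, ?_⟩
  · funext w
    show ρ.character w = (if hg : (w : Γ) ∈ W then ρ.character ⟨w, hg⟩ else 0)
    rw [dif_pos w.2]
  · intro n
    show (if hg : (n : Γ) ∈ W then ρ.character ⟨n, hg⟩ else 0) = σ.character n
    rw [dif_pos (hNW n.2)]
    have h1 := hwd ⟨n, hNW n.2⟩ n 1 (by simp)
    show LinearMap.trace ℂ _ (F ⟨n, hNW n.2⟩) = LinearMap.trace ℂ _ (σ n)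
    rw [h1, map_one, mul_one]
  · intro h
    show (if hg : (h : Γ) ∈ W then ρ.character ⟨h, hg⟩ else 0) = τ.character h
    rw [dif_pos (hHW h.2)]
    have h1 := hwd ⟨h, hHW h.2⟩ 1 h (by simp)
    have h2 := congrFun (Representation.char_iso (transportEquiv e.symm τ)) h
    rw [h2]
    show LinearMap.trace ℂ _ (F ⟨h, hHW h.2⟩) = LinearMap.trace ℂ _ (τ' h)
    rw [h1, map_one, one_mul]

end factor

end Cfsg.Agent.Lib.Helper81.McKC
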