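import Mathlib
import Cfsg.Prelude.Def_Characters
import Cfsg.Agent.Lib.Helper81.McKC
import Cfsg.Agent.Lib.Helper81.GlaubNormal
import Cfsg.Agent.Lib.Helper81.SemiChar
import Cfsg.Agent.Lib.Helper81.NSylF

set_option autoImplicit false
set_option linter.style.haveILetI false
set_option linter.unusedSectionVars false

/-!
# Extensions and the correspondence for a `p`-group of automorphisms: one step
-/

namespace Cfsg.Agent.Lib.Helper81.McKD

open Cfsg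
open Cfsg.Agent.Lib.Helper81.Irr Cfsg.Agent.Lib.Helper81.Basic Cfsg.Agent.Lib.Helper81.Expand
  Cfsg.Agent.Lib.Helper81.Mult Cfsg.Agent.Lib.Helper81.Cliff Cfsg.Agent.Lib.Helper81.CliffCorr
  Cfsg.Agent.Lib.Helper81.McKA Cfsg.Agent.Lib.Helper81.NSylA Cfsg.Agent.Lib.Helper81.McKB
  Cfsg.Agent.Lib.Helper81.GlaubCore Cfsg.Agent.Lib.Helper81.Glaub
  Cfsg.Agent.Lib.Helper81.GlaubNormal
open scoped ComplexConjugate

universe u

section counting

variable {Y N : Type u} [Group Y] [Fintype Y] [Group N] [Fintype N]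

theorem charDegree_comp (j : N →* Y) (Ψ : Y → ℂ) :
    charDegree (fun n => Ψ (j n)) = charDegree Ψ := by
  show ⌊(Ψ (j 1)).re⌋₊ = ⌊(Ψ 1).re⌋₊
  rw [map_one]

/-- The degrees of the characters lying over `θ`, weighted by multiplicity. -/
theorem sum_deg_over [Fintype (IrrCharacter Y)] (j : N →* Y) (hj : Function.Injective j)
    (θ : IrrCharacter N) :
    (Nat.card N : ℂ) * ∑ ξ : IrrCharacter Y, (mult (fun n => ξ.1 (j n)) θ : ℂ) * ξ.1 1 =
      (Nat.card Y : ℂ) * θ.1 1 := by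
  classical
  have h1 : ∀ ξ : IrrCharacter Y, (Nat.card N : ℂ) * ((mult (fun n => ξ.1 (j n)) θ : ℂ) * ξ.1 1) =
      ∑ n : N, ξ.1 (j n) * θ.1 n⁻¹ * ξ.1 1 := by
    intro ξ
    rw [mult_cast (Cfsg.Agent.Lib.CT.Ops.isCharacter_comp_hom j
      (Cfsg.Agent.Lib.CT.Wedderburn.isCharacter_of_irr ξ.2)), multC_def, ← mul_assoc, ← mul_assoc,
      mul_inv_cancel₀ card_ne_zero, one_mul, Finset.sum_mul]
  rw [Finset.mul_sum, Finset.sum_congr rfl (fun ξ _ => h1 ξ), Finset.sum_comm]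
  have h2 : ∀ n : N, ∑ ξ : IrrCharacter Y, ξ.1 (j n) * θ.1 n⁻¹ * ξ.1 1 =
      if n = 1 then (Nat.card Y : ℂ) * θ.1 1 else 0 := by
    intro n
    have h3 := second_orth_cnt (complete (G := Y)) (j n) 1
    have h4 : ∑ ξ : IrrCharacter Y, ξ.1 (j n) * θ.1 n⁻¹ * ξ.1 1 =
        θ.1 n⁻¹ * ∑ ξ : IrrCharacter Y, ξ.1 (j n) * ξ.1 1⁻¹ := by
      rw [Finset.mul_sum]
      apply Finset.sum_congr rfl
      intro ξ _
      rw [inv_one]
      ring
    rw [h4, ← h3]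
    by_cases hn : n = 1
    · subst hn
      rw [if_pos rfl, map_one, inv_one]
      have h5 : Nat.card {k : Y // k * 1 * k⁻¹ = 1} = Nat.card Y := by
        apply Nat.card_congr
        exact Equiv.subtypeUnivEquiv (fun k => by simp)
      rw [h5]
      ring
    · rw [if_neg hn]
      have h5 : IsEmpty {k : Y // k * 1 * k⁻¹ = j n} := by
        constructor
        rintro ⟨k, hk⟩
        apply hn
        apply hj
        rw [map_one, ← hk]
        simp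
      rw [Nat.card_of_isEmpty]
      simp
  rw [Finset.sum_congr rfl (fun n _ => h2 n), Finset.sum_ite_eq']
  simp

/-- A character over `θ` of degree at most that of `θ` restricts to `θ`. -/
theorem res_eq_of_deg (j : N →* Y) (ξ : IrrCharacter Y) (θ : IrrCharacter N)
    (h : mult (fun n => ξ.1 (j n)) θ ≠ 0) (hd : charDegree ξ.1 ≤ charDegree θ.1) :
    ∀ n, ξ.1 (j n) = θ.1 n := by
  classical
  have : Finite (IrrCharacter N) := finite_irr
  let _ : Fintype (IrrCharacter N) := Fintype.ofFinite _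
  have hch : IsCharacter N (fun n => ξ.1 (j n)) :=
    Cfsg.Agent.Lib.CT.Ops.isCharacter_comp_hom j
      (Cfsg.Agent.Lib.CT.Wedderburn.isCharacter_of_irr ξ.2)
  have hexp := charDegree_expand hch
  rw [charDegree_comp, ← Finset.add_sum_erase Finset.univ _ (Finset.mem_univ θ)] at hexp
  have hdθ : 0 < charDegree θ.1 := deg_pos θ
  have hm1 : 1 ≤ mult (fun n => ξ.1 (j n)) θ := Nat.pos_of_ne_zero h
  have hle : charDegree θ.1 ≤ mult (fun n => ξ.1 (j n)) θ * charDegree θ.1 :=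
    Nat.le_mul_of_pos_left _ hm1
  have hR : ∑ φ ∈ Finset.univ.erase θ, mult (fun n => ξ.1 (j n)) φ * charDegree φ.1 = 0 := by
    omega
  have hm : mult (fun n => ξ.1 (j n)) θ = 1 := by
    have h3 : mult (fun n => ξ.1 (j n)) θ * charDegree θ.1 = charDegree θ.1 := by omega
    have h4 : mult (fun n => ξ.1 (j n)) θ * charDegree θ.1 = 1 * charDegree θ.1 := by
      rw [h3, one_mul]
    exact Nat.eq_of_mul_eq_mul_right hdθ h4
  have hz : ∀ φ : IrrCharacter N, φ ≠ θ → mult (fun n => ξ.1 (j n)) φ = 0 := by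
    intro φ hφ
    have h3 := (Finset.sum_eq_zero_iff.1 hR) φ (Finset.mem_erase.2 ⟨hφ, Finset.mem_univ _⟩)
    rcases Nat.mul_eq_zero.1 h3 with h4 | h4
    · exact h4
    · exact absurd h4 (deg_pos φ).ne'
  intro n
  have h5 := char_expand hch n
  rw [Finset.sum_eq_single θ (fun φ _ hφ => by rw [hz φ hφ, Nat.cast_zero, zero_mul])
    (fun hθ => absurd (Finset.mem_univ θ) hθ), hm, Nat.cast_one, one_mul] at h5
  exact h5

/-- The number of irreducible characters of a commutative group. -/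
theorem card_irr_comm {Qt : Type u} [Group Qt] [Fintype Qt] [Fintype (IrrCharacter Qt)]
    (hQ : ∀ a b : Qt, a * b = b * a) : Fintype.card (IrrCharacter Qt) = Nat.card Qt := by
  have h3 := second_orth_cnt (complete (G := Qt)) 1 1
  have h5 : Nat.card {k : Qt // k * 1 * k⁻¹ = 1} = Nat.card Qt := by
    apply Nat.card_congr
    exact Equiv.subtypeUnivEquiv (fun k => by simp)
  rw [h5] at h3
  have h6 : ∑ χ : IrrCharacter Qt, χ.1 1 * χ.1 1⁻¹ = (Fintype.card (IrrCharacter Qt) : ℂ) := by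
    rw [Finset.sum_congr rfl (fun χ _ => by
      rw [inv_one, Cfsg.Agent.Lib.Helper81.SemiChar.abelian_linear hQ χ, one_mul])]
    simp
  rw [h6] at h3
  exact_mod_cast h3.symm

/-- If enough irreducible characters lie over `θ`, they all restrict to `θ`. -/
theorem ext_of_many (j : N →* Y) (hj : Function.Injective j) (θ : IrrCharacter N)
    {Qt : Type u} [Group Qt] [Fintype Qt] (hQ : ∀ a b : Qt, a * b = b * a)
    (hcard : Nat.card Y = Nat.card N * Nat.card Qt)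
    (F : IrrCharacter Qt → IrrCharacter Y) (hF : Function.Injective F)
    (hover : ∀ η, mult (fun n => (F η).1 (j n)) θ ≠ 0)
    (ξ : IrrCharacter Y) (hξ : mult (fun n => ξ.1 (j n)) θ ≠ 0) :
    ∀ n, ξ.1 (j n) = θ.1 n := by
  classical
  have : Finite (IrrCharacter N) := finite_irr
  let _ : Fintype (IrrCharacter N) := Fintype.ofFinite _
  have : Finite (IrrCharacter Y) := finite_irr
  let _ : Fintype (IrrCharacter Y) := Fintype.ofFinite _
  have : Finite (IrrCharacter Qt) := finite_irr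
  let _ : Fintype (IrrCharacter Qt) := Fintype.ofFinite _
  have hdθ : 0 < charDegree θ.1 := deg_pos θ
  have hNpos : 0 < Nat.card N := Nat.card_pos
  -- the weighted degree sum
  have hsum : ∑ ζ : IrrCharacter Y, mult (fun n => ζ.1 (j n)) θ * charDegree ζ.1 =
      Nat.card Qt * charDegree θ.1 := by
    have h1 := sum_deg_over j hj θ
    have h2 : ((Nat.card N * ∑ ζ : IrrCharacter Y,
        mult (fun n => ζ.1 (j n)) θ * charDegree ζ.1 : ℕ) : ℂ) =
        ((Nat.card N * (Nat.card Qt * charDegree θ.1) : ℕ) : ℂ) := by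
      push_cast
      rw [← mul_assoc, ← Nat.cast_mul, ← hcard, ← deg_cast θ, ← h1]
      congr 1
      apply Finset.sum_congr rfl
      intro ζ _
      rw [deg_cast ζ]
    have h3 : Nat.card N * ∑ ζ : IrrCharacter Y,
        mult (fun n => ζ.1 (j n)) θ * charDegree ζ.1 =
        Nat.card N * (Nat.card Qt * charDegree θ.1) := by exact_mod_cast h2
    exact Nat.eq_of_mul_eq_mul_left hNpos h3
  -- each character dominates
  have hdom : ∀ ζ : IrrCharacter Y,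
      mult (fun n => ζ.1 (j n)) θ * charDegree θ.1 ≤ charDegree ζ.1 := by
    intro ζ
    have hch : IsCharacter N (fun n => ζ.1 (j n)) :=
      Cfsg.Agent.Lib.CT.Ops.isCharacter_comp_hom j
        (Cfsg.Agent.Lib.CT.Wedderburn.isCharacter_of_irr ζ.2)
    have hexp := charDegree_expand hch
    rw [charDegree_comp] at hexp
    rw [hexp]
    exact Finset.single_le_sum (f := fun φ : IrrCharacter N =>
      mult (fun n => ζ.1 (j n)) φ * charDegree φ.1) (fun _ _ => Nat.zero_le _) (Finset.mem_univ θ)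
  let T : Finset (IrrCharacter Y) := Finset.univ.image F
  have hTcard : T.card = Nat.card Qt := by
    rw [Finset.card_image_of_injective _ hF, Finset.card_univ, card_irr_comm hQ]
  have hTterm : ∀ ζ ∈ T, charDegree θ.1 ≤ mult (fun n => ζ.1 (j n)) θ * charDegree ζ.1 := by
    intro ζ hζ
    obtain ⟨η, -, rfl⟩ := Finset.mem_image.1 hζ
    have hm1 : 1 ≤ mult (fun n => (F η).1 (j n)) θ := Nat.pos_of_ne_zero (hover η)
    calc charDegree θ.1 ≤ mult (fun n => (F η).1 (j n)) θ * charDegree θ.1 :=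
          Nat.le_mul_of_pos_left _ hm1
      _ ≤ charDegree (F η).1 := hdom (F η)
      _ ≤ mult (fun n => (F η).1 (j n)) θ * charDegree (F η).1 := Nat.le_mul_of_pos_left _ hm1
  have hTsum : T.card * charDegree θ.1 ≤
      ∑ ζ ∈ T, mult (fun n => ζ.1 (j n)) θ * charDegree ζ.1 := by
    have := Finset.card_nsmul_le_sum T (fun ζ => mult (fun n => ζ.1 (j n)) θ * charDegree ζ.1)
      (charDegree θ.1) hTterm
    simpa [smul_eq_mul] using this
  -- `ξ` belongs to `T`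
  have hξT : ξ ∈ T := by
    by_contra hnot
    have h1 : ∑ ζ ∈ insert ξ T, mult (fun n => ζ.1 (j n)) θ * charDegree ζ.1 ≤
        ∑ ζ : IrrCharacter Y, mult (fun n => ζ.1 (j n)) θ * charDegree ζ.1 :=
      Finset.sum_le_sum_of_subset (Finset.subset_univ _)
    rw [Finset.sum_insert hnot, hsum] at h1
    have h2 : 0 < mult (fun n => ξ.1 (j n)) θ * charDegree ξ.1 :=
      Nat.mul_pos (Nat.pos_of_ne_zero hξ) (deg_pos ξ)
    rw [hTcard] at hTsum
    omega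
  -- its term is exactly the degree of `θ`
  have hterm : mult (fun n => ξ.1 (j n)) θ * charDegree ξ.1 = charDegree θ.1 := by
    by_contra hne
    have hlt : charDegree θ.1 < mult (fun n => ξ.1 (j n)) θ * charDegree ξ.1 :=
      lt_of_le_of_ne (hTterm ξ hξT) (Ne.symm hne)
    have h1 : ∑ ζ ∈ T, charDegree θ.1 <
        ∑ ζ ∈ T, mult (fun n => ζ.1 (j n)) θ * charDegree ζ.1 :=
      Finset.sum_lt_sum hTterm ⟨ξ, hξT, hlt⟩
    rw [Finset.sum_const, smul_eq_mul, hTcard] at h1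
    have h2 : ∑ ζ ∈ T, mult (fun n => ζ.1 (j n)) θ * charDegree ζ.1 ≤
        ∑ ζ : IrrCharacter Y, mult (fun n => ζ.1 (j n)) θ * charDegree ζ.1 :=
      Finset.sum_le_sum_of_subset (Finset.subset_univ _)
    rw [hsum] at h2
    omega
  apply res_eq_of_deg j ξ θ hξ
  have hm1 : 1 ≤ mult (fun n => ξ.1 (j n)) θ := Nat.pos_of_ne_zero hξ
  calc charDegree ξ.1 ≤ mult (fun n => ξ.1 (j n)) θ * charDegree ξ.1 :=
        Nat.le_mul_of_pos_left _ hm1
    _ = charDegree θ.1 := hterm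

end counting

section invariance

variable {W N₀ Q : Type u} [Group W] [Fintype W] [Group N₀] [Fintype N₀] [Group Q] [Fintype Q]

/-- Nonzero multiplicities over a normal subgroup of a `p'`-group are prime to `p`. -/
theorem mult_not_dvd_hom (j : N₀ →* W) (hj : Function.Injective j) (hnorm : j.range.Normal)
    (p : ℕ) (hpW : ¬ p ∣ Nat.card W) (χ : IrrCharacter W) (φ : IrrCharacter N₀)
    (h : mult (fun n => χ.1 (j n)) φ ≠ 0) : ¬ p ∣ mult (fun n => χ.1 (j n)) φ := by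
  classical
  let _ : Fintype ↥j.range := Fintype.ofFinite _
  let e : N₀ ≃* ↥j.range := MonoidHom.ofInjective hj
  have h1 := Cfsg.Agent.Lib.Helper81.NSylF.mult_transfer e (fun x : ↥j.range => χ.1 x) φ
  have h2 : (fun c₀ : N₀ => (fun x : ↥j.range => χ.1 x) (e c₀)) = fun n => χ.1 (j n) := rfl
  rw [h2] at h1
  rw [h1] at h ⊢
  exact mult_not_dvd j.range p hpW χ _ h

/-- All extensions of an invariant character are invariant under a `p`-automorphism acting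
trivially on the commutative `p'`-quotient. -/
theorem ext_invariant (π : W →* Q) (hπ : Function.Surjective π) (jK : N₀ →* W)
    (hker : ∀ w, π w = 1 ↔ w ∈ jK.range) (hQ : ∀ a b : Q, a * b = b * a)
    (p : ℕ) [Fact p.Prime] (hpW : ¬ p ∣ Nat.card W) (θ : IrrCharacter N₀) (χ : IrrCharacter W)
    (hχ : ∀ n, χ.1 (jK n) = θ.1 n) (s : MulAut W) (k : ℕ) (hsk : s ^ (p ^ k) = 1)
    (hsπ : ∀ w, π (s w) = π w) (hsθ : ∀ n, χ.1 (s (jK n)) = θ.1 n) :
    ∀ w, χ.1 (s w) = χ.1 w := by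
  classical
  have hp : p.Prime := Fact.out
  have hΘ : IsCharacter W χ.1 := Cfsg.Agent.Lib.CT.Wedderburn.isCharacter_of_irr χ.2
  have hover : mult (fun n => (irrComp s χ).1 (jK n)) θ ≠ 0 := by
    have h1 : (fun n => (irrComp s χ).1 (jK n)) = θ.1 := by
      funext n
      exact hsθ n
    rw [h1, mult_self]
    exact one_ne_zero
  obtain ⟨η, hη⟩ := gal_surj π hπ jK hker χ.1 hΘ θ hχ (irrComp s χ) hover
  have hη1 : η.1 1 = 1 := Cfsg.Agent.Lib.Helper81.SemiChar.abelian_linear hQ η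
  obtain ⟨f, hf⟩ := Cfsg.Agent.Lib.CT.LinChar.exists_hom_of_isCharacter η.1
    (Cfsg.Agent.Lib.CT.Wedderburn.isCharacter_of_irr η.2) hη1
  have hstep : ∀ w, χ.1 (s w) = χ.1 w * ((f (π w) : ℂˣ) : ℂ) := by
    intro w
    have h1 : (irrComp s χ).1 w = (gal π hπ jK hker χ.1 hΘ θ hχ η).1 w := by rw [hη]
    rw [gal_apply, hf] at h1
    exact h1
  have hpow : ∀ m : ℕ, ∀ w, π ((s ^ m) w) = π w ∧
      χ.1 ((s ^ m) w) = χ.1 w * (((f (π w)) ^ m : ℂˣ) : ℂ) := by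
    intro m
    induction m with
    | zero =>
      intro w
      simp
    | succ m ih =>
      intro w
      have e1 : (s ^ (m + 1)) w = s ((s ^ m) w) := by
        rw [pow_succ', MulAut.mul_apply]
      rw [e1]
      refine ⟨by rw [hsπ, (ih w).1], ?_⟩
      rw [hstep, (ih w).1, (ih w).2, pow_succ, Units.val_mul, mul_assoc]
  intro w
  by_cases h0 : χ.1 w = 0
  · rw [hstep, h0, zero_mul]
  · have h1 := (hpow (p ^ k) w).2
    rw [hsk, MulAut.one_apply] at h1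
    have h2 : (((f (π w)) ^ (p ^ k) : ℂˣ) : ℂ) = 1 := by
      have h3 : χ.1 w * 1 = χ.1 w * (((f (π w)) ^ (p ^ k) : ℂˣ) : ℂ) := by
        rw [mul_one]
        exact h1
      exact (mul_left_cancel₀ h0 h3).symm
    have h3 : (f (π w)) ^ (p ^ k) = 1 := Units.ext h2
    have h4 : (f (π w)) ^ Nat.card Q = 1 := by
      rw [← map_pow, pow_card_eq_one', map_one]
    have hcardQ : Nat.card Q ∣ Nat.card W := by
      have h5 := Subgroup.card_mul_index π.ker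
      rw [Subgroup.index_ker, MonoidHom.range_eq_top.2 hπ] at h5
      rw [← h5, Subgroup.card_top]
      exact Dvd.intro_left _ rfl
    have hcop : Nat.Coprime (p ^ k) (Nat.card Q) := by
      apply Nat.Coprime.pow_left
      rw [Nat.Prime.coprime_iff_not_dvd hp]
      exact fun hd => hpW (hd.trans hcardQ)
    have h6 : orderOf (f (π w)) ∣ Nat.gcd (p ^ k) (Nat.card Q) :=
      Nat.dvd_gcd (orderOf_dvd_of_pow_eq_one h3) (orderOf_dvd_of_pow_eq_one h4)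
    rw [hcop, Nat.dvd_one, orderOf_eq_one_iff] at h6
    rw [hstep, h6, Units.val_one, mul_one]

end invariance

section cards

theorem card_of_surj_ker {Y N Qt : Type u} [Group Y] [Finite Y] [Group N] [Group Qt]
    (f : Y →* Qt) (hf : Function.Surjective f) (j : N →* Y) (hj : Function.Injective j)
    (hker : ∀ y, f y = 1 ↔ y ∈ j.range) : Nat.card Y = Nat.card N * Nat.card Qt := by
  have h5 := Subgroup.card_mul_index f.ker
  rw [Subgroup.index_ker, MonoidHom.range_eq_top.2 hf, Subgroup.card_top] at h5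
  have h6 : f.ker = j.range := by
    ext y
    rw [MonoidHom.mem_ker, hker]
  have h7 : Nat.card ↥j.range = Nat.card N :=
    Nat.card_congr (MonoidHom.ofInjective hj).toEquiv.symm
  rw [← h5, h6, h7]

theorem range_normal_of_ker {Y N Qt : Type u} [Group Y] [Group N] [Group Qt]
    (f : Y →* Qt) (j : N →* Y) (hker : ∀ y, f y = 1 ↔ y ∈ j.range) : j.range.Normal := by
  have h6 : f.ker = j.range := by
    ext y
    rw [MonoidHom.mem_ker, hker]
  rw [← h6]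
  infer_instance

end cards

section us

variable {W N₀ C₀ E₀ Q : Type u} [Group W] [Fintype W] [Group N₀] [Fintype N₀] [Group C₀]
  [Fintype C₀] [Group E₀] [Fintype E₀] [Group Q] [Fintype Q]
  (p : ℕ) [Fact p.Prime]
  (jK : N₀ →* W) (hjK : Function.Injective jK) (jC : C₀ →* W) (hjC : Function.Injective jC)
  (kN : E₀ →* N₀) (hkN : Function.Injective kN) (kD : E₀ →* C₀) (hkD : Function.Injective kD)
  (hsq : ∀ e, jK (kN e) = jC (kD e))
  (π : W →* Q) (hπ : Function.Surjective π) (hker : ∀ w, π w = 1 ↔ w ∈ jK.range)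
  (hQ : ∀ a b : Q, a * b = b * a)
  (hπC : Function.Surjective (π.comp jC)) (hkerC : ∀ c, (π.comp jC) c = 1 ↔ c ∈ kD.range)
  (At : Subgroup (MulAut W)) (hAt : IsPGroup p At)
  (hfixW : ∀ w, w ∈ jC.range ↔ ∀ s ∈ At, s w = w)
  (hπs : ∀ s ∈ At, ∀ w, π (s w) = π w)
  (A₁ : Subgroup (MulAut N₀)) (hA₁ : IsPGroup p A₁)
  (hfixN : ∀ n, n ∈ kN.range ↔ ∀ a ∈ A₁, a n = n)
  (hc1 : ∀ s ∈ At, ∃ a ∈ A₁, ∀ n, s (jK n) = jK (a n))
  (hc2 : ∀ a ∈ A₁, ∃ s ∈ At, ∀ n, s (jK n) = jK (a n))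
  (hpW : ¬ p ∣ Nat.card W)
  (θ : IrrCharacter N₀) (hθ : ∀ a ∈ A₁, ∀ n, θ.1 (a n) = θ.1 n)
  (θ₁ : IrrCharacter E₀) (hθ₁ : ¬ p ∣ mult (fun e => θ.1 (kN e)) θ₁)

include hjC hAt hfixW hpW in
theorem glaubW :
    Glaub p jC (fun χ : IrrCharacter W => ∀ s ∈ At, ∀ w, χ.1 (s w) = χ.1 w) :=
  glaub_pgroup p At jC hAt hpW hjC hfixW

include hjK hkN hA₁ hfixN hpW in
theorem glaubN :
    Glaub p kN (fun θ : IrrCharacter N₀ => ∀ a ∈ A₁, ∀ n, θ.1 (a n) = θ.1 n) :=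
  glaub_pgroup p A₁ kN hA₁
    (fun hd => hpW (hd.trans (Subgroup.card_dvd_of_injective jK hjK))) hkN hfixN

include hjK hjC hkN hkD hsq hker hkerC hAt hfixW hA₁ hfixN hc2 hpW hθ hθ₁ in
theorem over_iff (χ : IrrCharacter W) (hχ : ∀ s ∈ At, ∀ w, χ.1 (s w) = χ.1 w)
    (ψ : IrrCharacter C₀) (hψ : ¬ p ∣ mult (fun c => χ.1 (jC c)) ψ) :
    mult (fun n => χ.1 (jK n)) θ ≠ 0 ↔ mult (fun e => ψ.1 (kD e)) θ₁ ≠ 0 := by
  have hfix : ∀ a ∈ A₁, ∀ e, a (kN e) = kN e := fun a ha e => (hfixN (kN e)).1 ⟨e, rfl⟩ a ha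
  have hχN : ∀ a ∈ A₁, ∀ n, χ.1 (jK (a n)) = χ.1 (jK n) := by
    intro a ha n
    obtain ⟨s, hs, hsn⟩ := hc2 a ha
    rw [← hsn n]
    exact hχ s hs _
  have hcc := corr_congr p jK jC kN kD hsq _ (glaubW p jC hjC At hAt hfixW hpW) A₁ hA₁
    (glaubN p jK hjK kN hkN A₁ hA₁ hfixN hpW) hfix χ hχ hχN ψ hψ θ hθ θ₁ hθ₁
  have hnK : jK.range.Normal := range_normal_of_ker π jK hker
  have hnC : kD.range.Normal := range_normal_of_ker (π.comp jC) kD hkerC
  have hpC : ¬ p ∣ Nat.card C₀ :=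
    fun hd => hpW (hd.trans (Subgroup.card_dvd_of_injective jC hjC))
  constructor
  · intro h
    have h1 := mult_not_dvd_hom jK hjK hnK p hpW χ θ h
    intro h0
    apply h1
    rw [← hcc, h0]
    exact dvd_zero p
  · intro h
    have h1 := mult_not_dvd_hom kD hkD hnC p hpC ψ θ₁ h
    intro h0
    apply h1
    rw [hcc, h0]
    exact dvd_zero p

include hπ hker hQ hAt hπs hc1 hpW hθ in
theorem ext_inv (χ : IrrCharacter W) (hχ : ∀ n, χ.1 (jK n) = θ.1 n) :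
    ∀ s ∈ At, ∀ w, χ.1 (s w) = χ.1 w := by
  intro s hs
  obtain ⟨k, hk⟩ := hAt ⟨s, hs⟩
  have hsk : s ^ (p ^ k) = 1 := by
    have := congrArg Subtype.val hk
    simpa using this
  obtain ⟨a, ha, han⟩ := hc1 s hs
  have hsθ : ∀ n, χ.1 (s (jK n)) = θ.1 n := fun n => by rw [han n, hχ, hθ a ha]
  exact ext_invariant π hπ jK hker hQ p hpW θ χ hχ s k hsk (hπs s hs) hsθ

include hjK hjC hkN hkD hsq hπ hker hQ hπC hkerC hAt hfixW hπs hA₁ hfixN hc1 hc2 hpW hθ hθ₁ in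
theorem us_fwd (χ₀ : IrrCharacter W) (hχ₀ : ∀ n, χ₀.1 (jK n) = θ.1 n) :
    (∃ ξ : IrrCharacter C₀, mult (fun e => ξ.1 (kD e)) θ₁ ≠ 0) ∧
    ∀ ξ : IrrCharacter C₀, mult (fun e => ξ.1 (kD e)) θ₁ ≠ 0 → ∀ e, ξ.1 (kD e) = θ₁.1 e := by
  classical
  have hp : p.Prime := Fact.out
  have hΘ : IsCharacter W χ₀.1 := Cfsg.Agent.Lib.CT.Wedderburn.isCharacter_of_irr χ₀.2
  have HW := glaubW p jC hjC At hAt hfixW hpW
  let G : IrrCharacter Q → IrrCharacter W := fun η => gal π hπ jK hker χ₀.1 hΘ θ hχ₀ η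
  have hGres : ∀ η n, (G η).1 (jK n) = θ.1 n := by
    intro η n
    show (gal π hπ jK hker χ₀.1 hΘ θ hχ₀ η).1 (jK n) = _
    rw [gal_apply, (hker _).2 ⟨n, rfl⟩, Cfsg.Agent.Lib.Helper81.SemiChar.abelian_linear hQ η,
      mul_one, hχ₀]
  have hGinv : ∀ η, ∀ s ∈ At, ∀ w, (G η).1 (s w) = (G η).1 w := fun η =>
    ext_inv p jK π hπ hker hQ At hAt hπs A₁ hc1 hpW θ hθ (G η) (hGres η)
  choose F hF1 hF2 using fun η => HW.1 (G η) (hGinv η)
  have hFnd : ∀ η, ¬ p ∣ mult (fun c => (G η).1 (jC c)) (F η) := fun η =>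
    not_dvd_of_modEq hp _ (hF1 η)
  have hFinj : Function.Injective F := by
    intro η η' h
    have h1 := hFnd η'
    rw [← h] at h1
    have h2 := HW.2.1 (G η) (G η') (hGinv η) (hGinv η') (F η) (hFnd η) h1
    exact gal_injective π hπ jK hker χ₀.1 hΘ θ hχ₀ η η' h2
  have hFover : ∀ η, mult (fun e => (F η).1 (kD e)) θ₁ ≠ 0 := by
    intro η
    apply (over_iff p jK hjK jC hjC kN hkN kD hkD hsq π hker hkerC At hAt hfixW A₁ hA₁ hfixN hc2
      hpW θ hθ θ₁ hθ₁ (G η) (hGinv η) (F η) (hFnd η)).1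
    rw [show (fun n => (G η).1 (jK n)) = θ.1 from funext (hGres η), mult_self]
    exact one_ne_zero
  have hcard : Nat.card C₀ = Nat.card E₀ * Nat.card Q :=
    card_of_surj_ker (π.comp jC) hπC kD hkD hkerC
  exact ⟨⟨F (trivChar Q), hFover _⟩,
    fun ξ hξ => ext_of_many kD hkD θ₁ hQ hcard F hFinj hFover ξ hξ⟩

include hjK hjC hkN hkD hsq hπ hker hQ hπC hkerC hAt hfixW hA₁ hfixN hc2 hpW hθ hθ₁ in
theorem us_bwd (ξ₀ : IrrCharacter C₀) (hξ₀ : ∀ e, ξ₀.1 (kD e) = θ₁.1 e) :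
    (∃ χ : IrrCharacter W, mult (fun n => χ.1 (jK n)) θ ≠ 0) ∧
    ∀ χ : IrrCharacter W, mult (fun n => χ.1 (jK n)) θ ≠ 0 → ∀ n, χ.1 (jK n) = θ.1 n := by
  classical
  have hp : p.Prime := Fact.out
  have hΘ : IsCharacter C₀ ξ₀.1 := Cfsg.Agent.Lib.CT.Wedderburn.isCharacter_of_irr ξ₀.2
  have HW := glaubW p jC hjC At hAt hfixW hpW
  let GC : IrrCharacter Q → IrrCharacter C₀ := fun β =>
    gal (π.comp jC) hπC kD hkerC ξ₀.1 hΘ θ₁ hξ₀ β
  have hGCres : ∀ β e, (GC β).1 (kD e) = θ₁.1 e := by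
    intro β e
    show (gal (π.comp jC) hπC kD hkerC ξ₀.1 hΘ θ₁ hξ₀ β).1 (kD e) = _
    rw [gal_apply, (hkerC _).2 ⟨e, rfl⟩, Cfsg.Agent.Lib.Helper81.SemiChar.abelian_linear hQ β,
      mul_one, hξ₀]
  choose F' hF'1 hF'2 using fun β => HW.2.2 (GC β)
  have hF'inj : Function.Injective F' := by
    intro β β' h
    obtain ⟨β₀, -, hoth⟩ := HW.1 (F' β) (hF'1 β)
    have e1 : GC β = β₀ := by
      by_contra hne
      exact hF'2 β (hoth _ hne)
    have e2 : GC β' = β₀ := by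
      by_contra hne
      have h1 := hF'2 β'
      rw [← h] at h1
      exact h1 (hoth _ hne)
    exact gal_injective (π.comp jC) hπC kD hkerC ξ₀.1 hΘ θ₁ hξ₀ β β' (e1.trans e2.symm)
  have hF'over : ∀ β, mult (fun n => (F' β).1 (jK n)) θ ≠ 0 := by
    intro β
    apply (over_iff p jK hjK jC hjC kN hkN kD hkD hsq π hker hkerC At hAt hfixW A₁ hA₁ hfixN hc2
      hpW θ hθ θ₁ hθ₁ (F' β) (hF'1 β) (GC β) (hF'2 β)).2
    rw [show (fun e => (GC β).1 (kD e)) = θ₁.1 from funext (hGCres β), mult_self]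
    exact one_ne_zero
  have hcard : Nat.card W = Nat.card N₀ * Nat.card Q := card_of_surj_ker π hπ jK hjK hker
  exact ⟨⟨F' (trivChar Q), hF'over _⟩,
    fun χ hχ => ext_of_many jK hjK θ hQ hcard F' hF'inj hF'over χ hχ⟩

include hjK hjC hkN hkD hsq hπ hker hQ hπC hkerC hAt hfixW hπs hA₁ hfixN hc1 hc2 hpW hθ hθ₁ in
/-- The one-step transfer of extensions. -/
theorem us_main :
    ((∃ χ : IrrCharacter W, ∀ n, χ.1 (jK n) = θ.1 n) ↔
      (∃ ξ : IrrCharacter C₀, ∀ e, ξ.1 (kD e) = θ₁.1 e)) ∧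
    (∀ χ : IrrCharacter W, (∀ n, χ.1 (jK n) = θ.1 n) →
      (∀ s ∈ At, ∀ w, χ.1 (s w) = χ.1 w) ∧
      ∀ ψ : IrrCharacter C₀, ¬ p ∣ mult (fun c => χ.1 (jC c)) ψ → ∀ e, ψ.1 (kD e) = θ₁.1 e) ∧
    (∀ ξ : IrrCharacter C₀, (∀ e, ξ.1 (kD e) = θ₁.1 e) →
      ∃ χ : IrrCharacter W, (∀ n, χ.1 (jK n) = θ.1 n) ∧ (∀ s ∈ At, ∀ w, χ.1 (s w) = χ.1 w) ∧
        ¬ p ∣ mult (fun c => χ.1 (jC c)) ξ) := by
  have hp : p.Prime := Fact.out
  have HW := glaubW p jC hjC At hAt hfixW hpW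
  have hfw := us_fwd p jK hjK jC hjC kN hkN kD hkD hsq π hπ hker hQ hπC hkerC At hAt hfixW hπs
    A₁ hA₁ hfixN hc1 hc2 hpW θ hθ θ₁ hθ₁
  have hbw := us_bwd p jK hjK jC hjC kN hkN kD hkD hsq π hπ hker hQ hπC hkerC At hAt hfixW
    A₁ hA₁ hfixN hc2 hpW θ hθ θ₁ hθ₁
  have hov := over_iff p jK hjK jC hjC kN hkN kD hkD hsq π hker hkerC At hAt hfixW A₁ hA₁ hfixN
    hc2 hpW θ hθ θ₁ hθ₁
  have hinv := ext_inv p jK π hπ hker hQ At hAt hπs A₁ hc1 hpW θ hθ
  refine ⟨⟨?_, ?_⟩, ?_, ?_⟩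
  · rintro ⟨χ₀, hχ₀⟩
    obtain ⟨⟨ξ, hξ⟩, h2⟩ := hfw χ₀ hχ₀
    exact ⟨ξ, h2 ξ hξ⟩
  · rintro ⟨ξ₀, hξ₀⟩
    obtain ⟨⟨χ, hχ⟩, h2⟩ := hbw ξ₀ hξ₀
    exact ⟨χ, h2 χ hχ⟩
  · intro χ hχ
    refine ⟨hinv χ hχ, ?_⟩
    intro ψ hψ
    apply (hfw χ hχ).2 ψ
    apply (hov χ (hinv χ hχ) ψ hψ).1
    rw [show (fun n => χ.1 (jK n)) = θ.1 from funext hχ, mult_self]
    exact one_ne_zero
  · intro ξ hξ
    obtain ⟨χ, hχinv, hχξ⟩ := HW.2.2 ξ
    refine ⟨χ, ?_, hχinv, hχξ⟩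
    apply (hbw ξ hξ).2 χ
    apply (hov χ hχinv ξ hχξ).2
    rw [show (fun e => ξ.1 (kD e)) = θ₁.1 from funext hξ, mult_self]
    exact one_ne_zero

include hjK hjC hkN hkD hsq hπ hker hQ hπC hkerC hAt hfixW hπs hA₁ hfixN hc1 hc2 hpW hθ hθ₁ in
/-- The one-step transfer of invariant extensions. -/
theorem us_sigma (σ : W ≃* W) (σC : C₀ ≃* C₀) (hσ : ∀ c, jC (σC c) = σ (jC c))
    (hσA : ∀ s ∈ At, ∃ s' ∈ At, ∀ w, σ (s w) = s' (σ w)) :
    (∃ χ : IrrCharacter W, (∀ n, χ.1 (jK n) = θ.1 n) ∧ ∀ w, χ.1 (σ w) = χ.1 w) ↔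
      (∃ ξ : IrrCharacter C₀, (∀ e, ξ.1 (kD e) = θ₁.1 e) ∧ ∀ c, ξ.1 (σC c) = ξ.1 c) := by
  have hp : p.Prime := Fact.out
  have HW := glaubW p jC hjC At hAt hfixW hpW
  obtain ⟨-, hb, hc⟩ := us_main p jK hjK jC hjC kN hkN kD hkD hsq π hπ hker hQ hπC hkerC At hAt
    hfixW hπs A₁ hA₁ hfixN hc1 hc2 hpW θ hθ θ₁ hθ₁
  constructor
  · rintro ⟨χ, hχ, hχσ⟩
    obtain ⟨hχinv, hχψ⟩ := hb χ hχ
    obtain ⟨ψ, hψ1, -⟩ := HW.1 χ hχinv
    have hψ : ¬ p ∣ mult (fun c => χ.1 (jC c)) ψ := not_dvd_of_modEq hp _ hψ1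
    refine ⟨ψ, hχψ ψ hψ, ?_⟩
    have h1 := corr_fixed p jC _ HW σ σC hσ χ hχinv hχσ ψ hψ
    intro c
    have h2 : (irrComp σC ψ).1 c = ψ.1 c := by rw [h1]
    exact h2
  · rintro ⟨ξ, hξ, hξσ⟩
    obtain ⟨χ, hχ, hχinv, hχξ⟩ := hc ξ hξ
    have hinv' : ∀ s ∈ At, ∀ w, (irrComp σ χ).1 (s w) = (irrComp σ χ).1 w := by
      intro s hs w
      obtain ⟨s', hs', h1⟩ := hσA s hs
      show χ.1 (σ (s w)) = χ.1 (σ w)
      rw [h1 w]
      exact hχinv s' hs' _
    have hξσ' : irrComp σC ξ = ξ := Subtype.ext (funext hξσ)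
    have h1 := fixed_of_corr_fixed p jC _ HW σ σC hσ χ hχinv hinv' ξ hχξ hξσ'
    refine ⟨χ, hχ, ?_⟩
    intro w
    have h2 : (irrComp σ χ).1 w = χ.1 w := by rw [h1]
    exact h2

end us

end Cfsg.Agent.Lib.Helper81.McKD
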