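import Mathlib
import Cfsg.Prelude.Def_Characters
import Cfsg.Agent.Lib.Helper81.McKD
import Cfsg.Agent.Lib.Helper54.FpfCyclic
import Cfsg.Agent.Lib.Helper74.SubConj

set_option autoImplicit false
set_option linter.style.haveILetI false
set_option linter.unusedSectionVars false

/-!
# The one-step transfer of extensions, for subgroups of an ambient group
-/

namespace Cfsg.Agent.Lib.Helper81.McKE

open Cfsg
open Cfsg.Agent.Lib.Helper81.Irr Cfsg.Agent.Lib.Helper81.Basic Cfsg.Agent.Lib.Helper81.Expand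
  Cfsg.Agent.Lib.Helper81.Mult Cfsg.Agent.Lib.Helper81.Cliff Cfsg.Agent.Lib.Helper81.CliffCorr
  Cfsg.Agent.Lib.Helper81.McKA Cfsg.Agent.Lib.Helper81.NSylA Cfsg.Agent.Lib.Helper81.McKB
  Cfsg.Agent.Lib.Helper81.GlaubCore Cfsg.Agent.Lib.Helper81.Glaub
  Cfsg.Agent.Lib.Helper81.GlaubNormal Cfsg.Agent.Lib.Helper81.McKD
open scoped ComplexConjugate

universe u

section conjSec

variable {Γ : Type u} [Group Γ]

/-- Conjugation by a normalising element as an automorphism of the subgroup. -/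
def conjE (U : Subgroup Γ) (k : Γ) (hk : ∀ u, k * u * k⁻¹ ∈ U ↔ u ∈ U) : ↥U ≃* ↥U where
  toFun u := ⟨k * u * k⁻¹, (hk u).2 u.2⟩
  invFun u := ⟨k⁻¹ * u * k, (hk (k⁻¹ * u * k)).1 (by
    have e : k * (k⁻¹ * (u : Γ) * k) * k⁻¹ = u := by group
    rw [e]
    exact u.2)⟩
  left_inv u := by
    apply Subtype.ext
    show k⁻¹ * (k * (u : Γ) * k⁻¹) * k = u
    group
  right_inv u := by
    apply Subtype.ext
    show k * (k⁻¹ * (u : Γ) * k) * k⁻¹ = u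
    group
  map_mul' a b := by
    apply Subtype.ext
    show k * ((a * b : ↥U) : Γ) * k⁻¹ = (k * a * k⁻¹) * (k * b * k⁻¹)
    rw [Subgroup.coe_mul]
    group

theorem conjE_coe (U : Subgroup Γ) (k : Γ) (hk : ∀ u, k * u * k⁻¹ ∈ U ↔ u ∈ U) (u : ↥U) :
    ((conjE U k hk u : ↥U) : Γ) = k * u * k⁻¹ := rfl

/-- Elements of the join of a subgroup with a subgroup normalising it factor. -/
theorem sup_factor (K D : Subgroup Γ) (h : ∀ d ∈ D, ∀ k ∈ K, d * k * d⁻¹ ∈ K) (w : Γ)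
    (hw : w ∈ K ⊔ D) : ∃ k ∈ K, ∃ d ∈ D, w = k * d := by
  let P : Subgroup Γ :=
    { carrier := {w | ∃ k ∈ K, ∃ d ∈ D, w = k * d}
      mul_mem' := by
        rintro _ _ ⟨k, hk, d, hd, rfl⟩ ⟨k', hk', d', hd', rfl⟩
        refine ⟨k * (d * k' * d⁻¹), K.mul_mem hk (h d hd k' hk'), d * d', D.mul_mem hd hd', ?_⟩
        group
      one_mem' := ⟨1, K.one_mem, 1, D.one_mem, by simp⟩
      inv_mem' := by
        rintro _ ⟨k, hk, d, hd, rfl⟩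
        refine ⟨d⁻¹ * k⁻¹ * d⁻¹⁻¹, h d⁻¹ (D.inv_mem hd) k⁻¹ (K.inv_mem hk), d⁻¹, D.inv_mem hd, ?_⟩
        group }
  have hle : K ⊔ D ≤ P := by
    apply sup_le
    · intro k hk
      exact ⟨k, hk, 1, D.one_mem, by simp⟩
    · intro d hd
      exact ⟨1, K.one_mem, d, hd, by simp⟩
  exact hle hw

/-- An element normalising two subgroups normalises their join. -/
theorem norm_sup_iff (U V : Subgroup Γ) (y : Γ) (hU : ∀ u, y * u * y⁻¹ ∈ U ↔ u ∈ U)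
    (hV : ∀ v, y * v * y⁻¹ ∈ V ↔ v ∈ V) (w : Γ) : y * w * y⁻¹ ∈ U ⊔ V ↔ w ∈ U ⊔ V := by
  have key : ∀ X : Subgroup Γ, (∀ u, y * u * y⁻¹ ∈ X ↔ u ∈ X) →
      X.map (MulAut.conj y).toMonoidHom = X := by
    intro X hX
    ext x
    rw [Subgroup.mem_map]
    constructor
    · rintro ⟨u, hu, rfl⟩
      exact (hX u).2 hu
    · intro hx
      refine ⟨y⁻¹ * x * y, (hX _).1 ?_, ?_⟩
      · have e : y * (y⁻¹ * x * y) * y⁻¹ = x := by group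
        rw [e]
        exact hx
      · show y * (y⁻¹ * x * y) * y⁻¹ = x
        group
  have h1 : (U ⊔ V).map (MulAut.conj y).toMonoidHom = U ⊔ V := by
    rw [Subgroup.map_sup, key U hU, key V hV]
  have h2 : y * w * y⁻¹ ∈ (U ⊔ V).map (MulAut.conj y).toMonoidHom ↔ w ∈ U ⊔ V :=
    Subgroup.mem_map_iff_mem (MulAut.conj y).injective
  rw [h1] at h2
  exact h2

/-- Gluing homomorphisms along a factorisation. -/
theorem glue_hom {X : Type*} [Group X] (N H W : Subgroup Γ)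
    (hfac : ∀ w ∈ W, ∃ n ∈ N, ∃ h ∈ H, w = n * h)
    (hnorm : ∀ h ∈ H, ∀ n ∈ N, h * n * h⁻¹ ∈ N) (f : ↥N →* X) (g : ↥H →* X)
    (hA : ∀ x (hxN : x ∈ N) (hxH : x ∈ H), g ⟨x, hxH⟩ = f ⟨x, hxN⟩)
    (hB : ∀ (h : ↥H) (n : ↥N), g h * f n = f ⟨h * n * h⁻¹, hnorm h h.2 n n.2⟩ * g h) :
    ∃ F : ↥W →* X, ∀ (w : ↥W) (n : ↥N) (h : ↥H), (w : Γ) = n * h → F w = f n * g h := by
  classical
  have hfac' : ∀ w : ↥W, ∃ n : ↥N, ∃ h : ↥H, (w : Γ) = n * h := fun w => by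
    obtain ⟨n, hn, h, hh, e⟩ := hfac w w.2
    exact ⟨⟨n, hn⟩, ⟨h, hh⟩, e⟩
  let fn : ↥W → ↥N := fun w => Classical.choose (hfac' w)
  let fh : ↥W → ↥H := fun w => Classical.choose (Classical.choose_spec (hfac' w))
  have hf : ∀ w : ↥W, (w : Γ) = fn w * fh w := fun w =>
    Classical.choose_spec (Classical.choose_spec (hfac' w))
  let F : ↥W → X := fun w => f (fn w) * g (fh w)
  have hwd : ∀ (w : ↥W) (n : ↥N) (h : ↥H), (w : Γ) = n * h → F w = f n * g h := by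
    intro w n h hw
    have h0 : (n : Γ) * h = fn w * fh w := by rw [← hw, ← hf w]
    have hx : (n : Γ)⁻¹ * (fn w : Γ) = (h : Γ) * (fh w : Γ)⁻¹ := by
      calc (n : Γ)⁻¹ * fn w = (n : Γ)⁻¹ * ((fn w : Γ) * fh w) * (fh w : Γ)⁻¹ := by group
        _ = (n : Γ)⁻¹ * ((n : Γ) * h) * (fh w : Γ)⁻¹ := by rw [h0]
        _ = h * (fh w : Γ)⁻¹ := by group
    have hxN : (h : Γ) * (fh w : Γ)⁻¹ ∈ N := by
      rw [← hx]
      exact (n⁻¹ * fn w).2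
    have h1 : g (h * (fh w)⁻¹) = f (n⁻¹ * fn w) := by
      have h2 := hA _ hxN (h * (fh w)⁻¹).2
      exact h2.trans (congrArg f (Subtype.ext hx.symm))
    calc f (fn w) * g (fh w) = f (n * (n⁻¹ * fn w)) * g (fh w) := by
          rw [mul_inv_cancel_left]
      _ = f n * (f (n⁻¹ * fn w) * g (fh w)) := by rw [map_mul, mul_assoc]
      _ = f n * (g (h * (fh w)⁻¹) * g (fh w)) := by rw [h1]
      _ = f n * g h := by rw [← map_mul, inv_mul_cancel_right]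
  refine ⟨{ toFun := F, map_one' := ?_, map_mul' := ?_ }, hwd⟩
  · have h1 := hwd 1 1 1 (by simp)
    rw [h1, map_one, map_one, one_mul]
  · intro w w'
    let m : ↥N := ⟨(fh w : Γ) * fn w' * (fh w : Γ)⁻¹, hnorm _ (fh w).2 _ (fn w').2⟩
    have h1 := hwd (w * w') (fn w * m) (fh w * fh w') (by
      show (w : Γ) * (w' : Γ) = (fn w : Γ) * ((fh w : Γ) * fn w' * (fh w : Γ)⁻¹) *
        ((fh w : Γ) * (fh w' : Γ))
      rw [hf w, hf w']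
      group)
    rw [h1, map_mul, map_mul]
    have h2 : g (fh w) * f (fn w') = f m * g (fh w) := hB (fh w) (fn w')
    show f (fn w) * f m * (g (fh w) * g (fh w')) = f (fn w) * g (fh w) * (f (fn w') * g (fh w'))
    calc f (fn w) * f m * (g (fh w) * g (fh w')) =
        f (fn w) * ((f m * g (fh w)) * g (fh w')) := by simp only [mul_assoc]
      _ = f (fn w) * ((g (fh w) * f (fn w')) * g (fh w')) := by rw [h2]
      _ = f (fn w) * g (fh w) * (f (fn w') * g (fh w')) := by simp only [mul_assoc]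

/-- An irreducible character extends across a cyclic step exactly when it has an invariant
extension to the bottom. -/
theorem ext_iff_inv [Finite Γ] (M U : Subgroup Γ) (hMU : M ≤ U) (η : IrrCharacter ↥M) (y : Γ)
    (hy : ∀ u, y * u * y⁻¹ ∈ U ↔ u ∈ U) :
    ExtTo M η (U ⊔ Subgroup.zpowers y) ↔
      ∃ χ : IrrCharacter ↥U, (∀ m : ↥M, χ.1 (Subgroup.inclusion hMU m) = η.1 m) ∧
        ∀ u : ↥U, χ.1 (conjE U y hy u) = χ.1 u := by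
  classical
  let _ : Fintype ↥M := Fintype.ofFinite _
  constructor
  · rintro ⟨ψ, hψ, hψM⟩
    have hUV : U ≤ U ⊔ Subgroup.zpowers y := le_sup_left
    have hyV : y ∈ U ⊔ Subgroup.zpowers y :=
      (le_sup_right : Subgroup.zpowers y ≤ _) (Subgroup.mem_zpowers y)
    have hch : IsCharacter ↥U (fun u : ↥U => ψ u) :=
      Cfsg.Agent.Lib.CT.Ops.isCharacter_comp_hom (Subgroup.inclusion hUV) hψ
    have hirr : IsIrrCharacter ↥U (fun u : ↥U => ψ u) := by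
      apply irr_of_res_irr (Subgroup.inclusion hMU) hch
      have e : (fun m : ↥M => (fun u : ↥U => ψ u) (Subgroup.inclusion hMU m)) = η.1 := by
        funext m
        exact hψM m
      rw [e]
      exact η.2
    refine ⟨⟨fun u : ↥U => ψ u, hirr⟩, fun m => hψM m, fun u => ?_⟩
    have h1 := char_conj hψ (⟨u, hUV u.2⟩ : ↥(U ⊔ Subgroup.zpowers y)) ⟨y, hyV⟩
    exact h1
  · rintro ⟨χ, hχM, hχy⟩
    let ψ : Γ → ℂ := fun g => if h : g ∈ U then χ.1 ⟨g, h⟩ else 0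
    have hψU : ∀ u : ↥U, ψ u = χ.1 u := fun u => dif_pos u.2
    have hψirr : IsIrrCharacter ↥U (fun u : ↥U => ψ u) := by
      have e : (fun u : ↥U => ψ u) = χ.1 := funext hψU
      rw [e]
      exact χ.2
    have hyψ : ∀ u ∈ U, ψ (y * u * y⁻¹) = ψ u := by
      intro u hu
      have h1 := hψU ⟨y * u * y⁻¹, (hy u).2 hu⟩
      have h2 := hψU ⟨u, hu⟩
      simp only at h1 h2
      rw [h1, h2]
      exact hχy ⟨u, hu⟩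
    obtain ⟨χ', hχ', hχ'U⟩ := ext_cyclic_step U (U ⊔ Subgroup.zpowers y) y rfl ψ hψirr hy hyψ
    refine ⟨χ', Cfsg.Agent.Lib.CT.Wedderburn.isCharacter_of_irr hχ', fun m => ?_⟩
    rw [hχ'U m (hMU m.2)]
    have h2 := hψU ⟨m, hMU m.2⟩
    simp only at h2
    rw [h2]
    exact hχM m

end conjSec

section usAmb

variable {Γ : Type u} [Group Γ] [Fintype Γ] (p : ℕ) [Fact p.Prime]
  (K D₀ K₁ : Subgroup Γ) (A₁ : Subgroup (MulAut ↥K))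
  (hD₀K : ∀ d ∈ D₀, ∀ k ∈ K, d * k * d⁻¹ ∈ K)
  (hcommA : ∀ d ∈ D₀, ∀ a ∈ A₁, ∀ k k' : ↥K, (k' : Γ) = d * k * d⁻¹ →
    ((a k' : ↥K) : Γ) = d * (a k : ↥K) * d⁻¹)
  (hK₁ : ∀ g, g ∈ K₁ ↔ ∃ hk : g ∈ K, ∀ a ∈ A₁, a ⟨g, hk⟩ = ⟨g, hk⟩)
  (hKD₀ : ∀ g ∈ K, g ∈ D₀ → g ∈ K₁)

/-- `s` extends `a` to the join, acting trivially on the second factor. -/
def Spec (s : MulAut ↥(K ⊔ D₀)) (a : MulAut ↥K) : Prop :=
  ∀ (w : ↥(K ⊔ D₀)) (k : ↥K) (d : ↥D₀), (w : Γ) = k * d →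
    ((s w : ↥(K ⊔ D₀)) : Γ) = (a k : ↥K) * d

omit [Fintype Γ] in
include hD₀K hcommA hK₁ hKD₀ in
theorem ext_aut_hom (a : MulAut ↥K) (ha : a ∈ A₁) :
    ∃ F : ↥(K ⊔ D₀) →* ↥(K ⊔ D₀), ∀ (w : ↥(K ⊔ D₀)) (k : ↥K) (d : ↥D₀), (w : Γ) = k * d →
      ((F w : ↥(K ⊔ D₀)) : Γ) = (a k : ↥K) * d := by
  have hKW : K ≤ K ⊔ D₀ := le_sup_left
  have hDW : D₀ ≤ K ⊔ D₀ := le_sup_right
  let f : ↥K →* ↥(K ⊔ D₀) := (Subgroup.inclusion hKW).comp a.toMonoidHom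
  let g : ↥D₀ →* ↥(K ⊔ D₀) := Subgroup.inclusion hDW
  have hA : ∀ x (hxN : x ∈ K) (hxH : x ∈ D₀), g ⟨x, hxH⟩ = f ⟨x, hxN⟩ := by
    intro x hxN hxH
    apply Subtype.ext
    show x = ((a ⟨x, hxN⟩ : ↥K) : Γ)
    obtain ⟨hk, hfix⟩ := (hK₁ x).1 (hKD₀ x hxN hxH)
    rw [hfix a ha]
  have hB : ∀ (h : ↥D₀) (n : ↥K), g h * f n = f ⟨h * n * h⁻¹, hD₀K h h.2 n n.2⟩ * g h := by
    intro h n
    apply Subtype.ext
    show (h : Γ) * ((a n : ↥K) : Γ) = ((a ⟨h * n * h⁻¹, hD₀K h h.2 n n.2⟩ : ↥K) : Γ) * h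
    rw [hcommA h h.2 a ha n ⟨h * n * h⁻¹, hD₀K h h.2 n n.2⟩ rfl]
    group
  obtain ⟨F, hF⟩ := glue_hom K D₀ (K ⊔ D₀) (sup_factor K D₀ hD₀K) hD₀K f g hA hB
  refine ⟨F, fun w k d hw => ?_⟩
  rw [hF w k d hw]
  rfl

omit [Fintype Γ] in
include hD₀K hcommA hK₁ hKD₀ in
theorem ext_aut_equiv (a : MulAut ↥K) (ha : a ∈ A₁) :
    ∃ s : MulAut ↥(K ⊔ D₀), Spec K D₀ s a := by
  have hKW : K ≤ K ⊔ D₀ := le_sup_left
  have hDW : D₀ ≤ K ⊔ D₀ := le_sup_right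
  obtain ⟨F, hF⟩ := ext_aut_hom K D₀ K₁ A₁ hD₀K hcommA hK₁ hKD₀ a ha
  obtain ⟨F', hF'⟩ := ext_aut_hom K D₀ K₁ A₁ hD₀K hcommA hK₁ hKD₀ a⁻¹ (A₁.inv_mem ha)
  have h1 : ∀ w, F' (F w) = w := by
    intro w
    obtain ⟨k, hk, d, hd, e⟩ := sup_factor K D₀ hD₀K w w.2
    have e1 := hF w ⟨k, hk⟩ ⟨d, hd⟩ e
    have e2 := hF' (F w) (a ⟨k, hk⟩) ⟨d, hd⟩ e1
    apply Subtype.ext
    rw [e2, MulAut.inv_apply_self, e]
  have h2 : ∀ w, F (F' w) = w := by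
    intro w
    obtain ⟨k, hk, d, hd, e⟩ := sup_factor K D₀ hD₀K w w.2
    have e1 := hF' w ⟨k, hk⟩ ⟨d, hd⟩ e
    have e2 := hF (F' w) (a⁻¹ ⟨k, hk⟩) ⟨d, hd⟩ e1
    apply Subtype.ext
    rw [e2, MulAut.apply_inv_self, e]
  refine ⟨MonoidHom.toMulEquiv F F' (MonoidHom.ext h1) (MonoidHom.ext h2), ?_⟩
  intro w k d hw
  exact hF w k d hw

/-- The group of extended automorphisms. -/
def At : Subgroup (MulAut ↥(K ⊔ D₀)) where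
  carrier := {s | ∃ a ∈ A₁, Spec K D₀ s a}
  mul_mem' := by
    rintro s s' ⟨a, ha, hs⟩ ⟨a', ha', hs'⟩
    refine ⟨a * a', A₁.mul_mem ha ha', ?_⟩
    intro w k d hw
    have h1 := hs' w k d hw
    exact hs (s' w) (a' k) d h1
  one_mem' := ⟨1, A₁.one_mem, fun w k d hw => hw⟩
  inv_mem' := by
    rintro s ⟨a, ha, hs⟩
    refine ⟨a⁻¹, A₁.inv_mem ha, ?_⟩
    intro w k d hw
    have hKW : K ≤ K ⊔ D₀ := le_sup_left
    have hDW : D₀ ≤ K ⊔ D₀ := le_sup_right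
    let w' : ↥(K ⊔ D₀) := ⟨((a⁻¹ k : ↥K) : Γ) * d,
      (K ⊔ D₀).mul_mem (hKW (a⁻¹ k).2) (hDW d.2)⟩
    have h1 := hs w' (a⁻¹ k) d rfl
    have h2 : s w' = w := by
      apply Subtype.ext
      rw [h1, MulAut.apply_inv_self, hw]
    rw [← h2, MulAut.inv_apply_self]

omit [Fintype Γ] in
theorem mem_At (s : MulAut ↥(K ⊔ D₀)) : s ∈ At K D₀ A₁ ↔ ∃ a ∈ A₁, Spec K D₀ s a := Iff.rfl

omit [Fintype Γ] in
include hD₀K in
theorem At_pgroup (hA₁ : IsPGroup p A₁) : IsPGroup p (At K D₀ A₁) := by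
  rintro ⟨s, a, ha, hs⟩
  obtain ⟨m, hm⟩ := hA₁ ⟨a, ha⟩
  have ham : a ^ (p ^ m) = 1 := by
    have := congrArg Subtype.val hm
    simpa using this
  have hpow : ∀ j : ℕ, Spec K D₀ (s ^ j) (a ^ j) := by
    intro j
    induction j with
    | zero =>
      intro w k d hw
      simpa using hw
    | succ j ih =>
      intro w k d hw
      rw [pow_succ', pow_succ']
      have h1 := ih w k d hw
      exact hs ((s ^ j) w) ((a ^ j) k) d h1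
  refine ⟨m, ?_⟩
  apply Subtype.ext
  show s ^ (p ^ m) = 1
  have h1 := hpow (p ^ m)
  rw [ham] at h1
  apply MulEquiv.ext
  intro w
  obtain ⟨k, hk, d, hd, e⟩ := sup_factor K D₀ hD₀K w w.2
  apply Subtype.ext
  rw [h1 w ⟨k, hk⟩ ⟨d, hd⟩ e]
  exact e.symm

include hD₀K hcommA hK₁ hKD₀ in
/-- The one-step transfer of extensions for subgroups of an ambient group. -/
theorem us_amb [Fintype ↥K] [Fintype ↥K₁] (d₁ : Γ) (hA₁ : IsPGroup p A₁)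
    (hd₁K : ∀ k, d₁ * k * d₁⁻¹ ∈ K ↔ k ∈ K) (hd₁D₀ : ∀ d, d₁ * d * d₁⁻¹ ∈ D₀ ↔ d ∈ D₀)
    (hd₁A : ∀ a ∈ A₁, ∃ a' ∈ A₁, ∀ k k' : ↥K, (k' : Γ) = d₁ * k * d₁⁻¹ →
      ((a' k' : ↥K) : Γ) = d₁ * (a k : ↥K) * d₁⁻¹)
    (hd₁A' : ∀ a ∈ A₁, ∃ a' ∈ A₁, ∀ k k' : ↥K, (k' : Γ) = d₁⁻¹ * k * d₁ →
      ((a' k' : ↥K) : Γ) = d₁⁻¹ * (a k : ↥K) * d₁)
    (hcomm : ∀ d ∈ D₀, ∀ d' ∈ D₀, d * d' * d⁻¹ * d'⁻¹ ∈ K)
    (hpK : ¬ p ∣ Nat.card K) (hpD₀ : ¬ p ∣ Nat.card D₀)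
    (θ : IrrCharacter ↥K) (hθ : ∀ a ∈ A₁, ∀ k, θ.1 (a k) = θ.1 k)
    (hK₁K : K₁ ≤ K) (θ₁ : IrrCharacter ↥K₁)
    (hθ₁ : ¬ p ∣ mult (fun e : ↥K₁ => θ.1 (Subgroup.inclusion hK₁K e)) θ₁) :
    ExtTo K θ (K ⊔ D₀ ⊔ Subgroup.zpowers d₁) ↔
      ExtTo K₁ θ₁ (K₁ ⊔ D₀ ⊔ Subgroup.zpowers d₁) := by
  classical
  have hp : p.Prime := Fact.out
  have hKW : K ≤ K ⊔ D₀ := le_sup_left
  have hDW : D₀ ≤ K ⊔ D₀ := le_sup_right
  have hK₁W₁ : K₁ ≤ K₁ ⊔ D₀ := le_sup_left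
  have hDW₁ : D₀ ≤ K₁ ⊔ D₀ := le_sup_right
  have hW₁W : K₁ ⊔ D₀ ≤ K ⊔ D₀ := sup_le (hK₁K.trans hKW) hDW
  have hD₀K₁ : ∀ d ∈ D₀, ∀ k ∈ K₁, d * k * d⁻¹ ∈ K₁ := by
    intro d hd k hk
    obtain ⟨hkK, hfix⟩ := (hK₁ k).1 hk
    refine (hK₁ _).2 ⟨hD₀K d hd k hkK, fun a ha => ?_⟩
    apply Subtype.ext
    rw [hcommA d hd a ha ⟨k, hkK⟩ ⟨d * k * d⁻¹, hD₀K d hd k hkK⟩ rfl, hfix a ha]
  have hd₁K₁ : ∀ k, d₁ * k * d₁⁻¹ ∈ K₁ ↔ k ∈ K₁ := by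
    intro k
    constructor
    · intro h
      obtain ⟨hkK', hfix⟩ := (hK₁ _).1 h
      have hkK : k ∈ K := (hd₁K k).1 hkK'
      refine (hK₁ k).2 ⟨hkK, fun a ha => ?_⟩
      obtain ⟨a', ha', haa'⟩ := hd₁A a ha
      have h1 := haa' ⟨k, hkK⟩ ⟨d₁ * k * d₁⁻¹, hkK'⟩ rfl
      rw [hfix a' ha'] at h1
      apply Subtype.ext
      exact (mul_left_cancel (mul_right_cancel h1)).symm
    · intro h
      obtain ⟨hkK, hfix⟩ := (hK₁ k).1 h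
      have hkK' : d₁ * k * d₁⁻¹ ∈ K := (hd₁K k).2 hkK
      refine (hK₁ _).2 ⟨hkK', fun a ha => ?_⟩
      obtain ⟨a'', ha'', haa''⟩ := hd₁A' a ha
      have h1 := haa'' ⟨d₁ * k * d₁⁻¹, hkK'⟩ ⟨k, hkK⟩ (by
        show k = d₁⁻¹ * (d₁ * k * d₁⁻¹) * d₁
        group)
      rw [hfix a'' ha''] at h1
      apply Subtype.ext
      show ((a ⟨d₁ * k * d₁⁻¹, hkK'⟩ : ↥K) : Γ) = d₁ * k * d₁⁻¹
      calc ((a ⟨d₁ * k * d₁⁻¹, hkK'⟩ : ↥K) : Γ) =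
          d₁ * (d₁⁻¹ * ((a ⟨d₁ * k * d₁⁻¹, hkK'⟩ : ↥K) : Γ) * d₁) * d₁⁻¹ := by group
        _ = d₁ * k * d₁⁻¹ := by rw [← h1]
  have hd₁W : ∀ w, d₁ * w * d₁⁻¹ ∈ K ⊔ D₀ ↔ w ∈ K ⊔ D₀ := norm_sup_iff K D₀ d₁ hd₁K hd₁D₀
  have hd₁W₁ : ∀ w, d₁ * w * d₁⁻¹ ∈ K₁ ⊔ D₀ ↔ w ∈ K₁ ⊔ D₀ :=
    norm_sup_iff K₁ D₀ d₁ hd₁K₁ hd₁D₀
  rw [ext_iff_inv K (K ⊔ D₀) hKW θ d₁ hd₁W, ext_iff_inv K₁ (K₁ ⊔ D₀) hK₁W₁ θ₁ d₁ hd₁W₁]
  let _ : Fintype ↥(K ⊔ D₀) := Fintype.ofFinite _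
  let _ : Fintype ↥(K₁ ⊔ D₀) := Fintype.ofFinite _
  have hKn : (K.subgroupOf (K ⊔ D₀)).Normal := by
    constructor
    intro n hn g
    rw [Subgroup.mem_subgroupOf] at hn ⊢
    obtain ⟨k, hk, d, hd, e⟩ := sup_factor K D₀ hD₀K g g.2
    show (g : Γ) * (n : Γ) * (g : Γ)⁻¹ ∈ K
    have e2 : (g : Γ) * (n : Γ) * (g : Γ)⁻¹ = k * (d * n * d⁻¹) * k⁻¹ := by
      rw [e]
      group
    rw [e2]
    exact K.mul_mem (K.mul_mem hk (hD₀K d hd _ hn)) (K.inv_mem hk)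
  let Q := ↥(K ⊔ D₀) ⧸ K.subgroupOf (K ⊔ D₀)
  let _ : Fintype Q := Fintype.ofFinite _
  let π : ↥(K ⊔ D₀) →* Q := QuotientGroup.mk' (K.subgroupOf (K ⊔ D₀))
  have hπ : Function.Surjective π := QuotientGroup.mk'_surjective _
  let jK : ↥K →* ↥(K ⊔ D₀) := Subgroup.inclusion hKW
  let jC : ↥(K₁ ⊔ D₀) →* ↥(K ⊔ D₀) := Subgroup.inclusion hW₁W
  let kN : ↥K₁ →* ↥K := Subgroup.inclusion hK₁K
  let kD : ↥K₁ →* ↥(K₁ ⊔ D₀) := Subgroup.inclusion hK₁W₁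
  have hπ1 : ∀ w : ↥(K ⊔ D₀), π w = 1 ↔ (w : Γ) ∈ K := by
    intro w
    show (QuotientGroup.mk w : Q) = 1 ↔ _
    rw [QuotientGroup.eq_one_iff, Subgroup.mem_subgroupOf]
  have hπeq : ∀ w w' : ↥(K ⊔ D₀), π w = π w' ↔ (w : Γ)⁻¹ * (w' : Γ) ∈ K := by
    intro w w'
    show (QuotientGroup.mk w : Q) = QuotientGroup.mk w' ↔ _
    rw [QuotientGroup.eq, Subgroup.mem_subgroupOf]
    rfl
  have hker : ∀ w, π w = 1 ↔ w ∈ jK.range := by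
    intro w
    rw [hπ1]
    constructor
    · intro h
      exact ⟨⟨w, h⟩, Subtype.ext rfl⟩
    · rintro ⟨k, rfl⟩
      exact k.2
  have hconj' : ∀ d ∈ D₀, ∀ k ∈ K, d⁻¹ * k * d ∈ K := by
    intro d hd k hk
    have := hD₀K d⁻¹ (D₀.inv_mem hd) k hk
    rwa [inv_inv] at this
  have surjD : ∀ q : Q, ∃ d : ↥D₀, π ⟨d, hDW d.2⟩ = q := by
    intro q
    obtain ⟨w, rfl⟩ := hπ q
    obtain ⟨k, hk, d, hd, e⟩ := sup_factor K D₀ hD₀K w w.2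
    refine ⟨⟨d, hd⟩, ?_⟩
    rw [hπeq]
    show d⁻¹ * (w : Γ) ∈ K
    rw [e]
    have e2 : d⁻¹ * (k * d) = d⁻¹ * k * d := by group
    rw [e2]
    exact hconj' d hd k hk
  have hQ : ∀ a b : Q, a * b = b * a := by
    intro a b
    obtain ⟨d, rfl⟩ := surjD a
    obtain ⟨d', rfl⟩ := surjD b
    rw [← map_mul, ← map_mul, hπeq]
    show ((d : Γ) * (d' : Γ))⁻¹ * ((d' : Γ) * (d : Γ)) ∈ K
    have h1 := hcomm _ (D₀.inv_mem d'.2) _ (D₀.inv_mem d.2)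
    have e2 : ((d : Γ) * (d' : Γ))⁻¹ * ((d' : Γ) * (d : Γ)) =
        (d' : Γ)⁻¹ * (d : Γ)⁻¹ * (d' : Γ)⁻¹⁻¹ * (d : Γ)⁻¹⁻¹ := by group
    rw [e2]
    exact h1
  have hπC : Function.Surjective (π.comp jC) := by
    intro q
    obtain ⟨d, hd⟩ := surjD q
    exact ⟨⟨d, hDW₁ d.2⟩, hd⟩
  have hkerC : ∀ c, (π.comp jC) c = 1 ↔ c ∈ kD.range := by
    intro c
    show π (jC c) = 1 ↔ _
    rw [hπ1]
    constructor
    · intro h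
      have h' : (c : Γ) ∈ K := h
      obtain ⟨k₁, hk₁, d, hd, e⟩ := sup_factor K₁ D₀ hD₀K₁ c c.2
      have hdK : d ∈ K := by
        have e2 : d = k₁⁻¹ * (c : Γ) := by
          rw [e]
          group
        rw [e2]
        exact K.mul_mem (K.inv_mem (hK₁K hk₁)) h'
      have hcK₁ : (c : Γ) ∈ K₁ := by
        rw [e]
        exact K₁.mul_mem hk₁ (hKD₀ d hdK hd)
      exact ⟨⟨c, hcK₁⟩, Subtype.ext rfl⟩
    · rintro ⟨k, rfl⟩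
      exact hK₁K k.2
  have hAtex : ∀ a ∈ A₁, ∃ s ∈ At K D₀ A₁, Spec K D₀ s a := by
    intro a ha
    obtain ⟨s, hs⟩ := ext_aut_equiv K D₀ K₁ A₁ hD₀K hcommA hK₁ hKD₀ a ha
    exact ⟨s, ⟨a, ha, hs⟩, hs⟩
  have hfixW : ∀ w, w ∈ jC.range ↔ ∀ s ∈ At K D₀ A₁, s w = w := by
    intro w
    constructor
    · rintro ⟨c, rfl⟩ s ⟨a, ha, hs⟩
      obtain ⟨k₁, hk₁, d, hd, e⟩ := sup_factor K₁ D₀ hD₀K₁ c c.2
      apply Subtype.ext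
      rw [hs (jC c) ⟨k₁, hK₁K hk₁⟩ ⟨d, hd⟩ e]
      obtain ⟨_, hfix⟩ := (hK₁ k₁).1 hk₁
      rw [hfix a ha]
      exact e.symm
    · intro h
      obtain ⟨k, hk, d, hd, e⟩ := sup_factor K D₀ hD₀K w w.2
      have hk₁ : k ∈ K₁ := by
        refine (hK₁ k).2 ⟨hk, fun a ha => ?_⟩
        obtain ⟨s, hsAt, hs⟩ := hAtex a ha
        have h1 := hs w ⟨k, hk⟩ ⟨d, hd⟩ e
        rw [h s hsAt, e] at h1
        apply Subtype.ext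
        exact (mul_right_cancel h1).symm
      refine ⟨⟨w, ?_⟩, Subtype.ext rfl⟩
      rw [e]
      exact (K₁ ⊔ D₀).mul_mem (hK₁W₁ hk₁) (hDW₁ hd)
  have hπs : ∀ s ∈ At K D₀ A₁, ∀ w, π (s w) = π w := by
    rintro s ⟨a, ha, hs⟩ w
    obtain ⟨k, hk, d, hd, e⟩ := sup_factor K D₀ hD₀K w w.2
    rw [hπeq, hs w ⟨k, hk⟩ ⟨d, hd⟩ e, e]
    have e2 : (((a ⟨k, hk⟩ : ↥K) : Γ) * d)⁻¹ * (k * d) =
        d⁻¹ * (((a ⟨k, hk⟩ : ↥K) : Γ)⁻¹ * k) * d := by group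
    rw [e2]
    exact hconj' d hd _ (K.mul_mem (K.inv_mem (a ⟨k, hk⟩).2) hk)
  have hfixN : ∀ n, n ∈ kN.range ↔ ∀ a ∈ A₁, a n = n := by
    intro n
    constructor
    · rintro ⟨e, rfl⟩ a ha
      obtain ⟨hk, hfix⟩ := (hK₁ e).1 e.2
      exact hfix a ha
    · intro h
      exact ⟨⟨n, (hK₁ n).2 ⟨n.2, h⟩⟩, Subtype.ext rfl⟩
  have hspecK : ∀ s a, Spec K D₀ s a → ∀ n : ↥K, s (jK n) = jK (a n) := by
    intro s a hs n
    apply Subtype.ext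
    have h1 := hs (jK n) n 1 (by
      show (n : Γ) = n * ((1 : ↥D₀) : Γ)
      rw [Subgroup.coe_one, mul_one])
    rw [h1, Subgroup.coe_one, mul_one]
    rfl
  have hc1 : ∀ s ∈ At K D₀ A₁, ∃ a ∈ A₁, ∀ n, s (jK n) = jK (a n) := by
    rintro s ⟨a, ha, hs⟩
    exact ⟨a, ha, hspecK s a hs⟩
  have hc2 : ∀ a ∈ A₁, ∃ s ∈ At K D₀ A₁, ∀ n, s (jK n) = jK (a n) := by
    intro a ha
    obtain ⟨s, hsAt, hs⟩ := hAtex a ha
    exact ⟨s, hsAt, hspecK s a hs⟩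
  have hpW : ¬ p ∣ Nat.card ↥(K ⊔ D₀) := by
    have h1 : Nat.card ↥(K ⊔ D₀) = Nat.card ↥K * Nat.card Q :=
      card_of_surj_ker π hπ jK (Subgroup.inclusion_injective hKW) hker
    have h2 : Nat.card Q ∣ Nat.card ↥D₀ := by
      apply Subgroup.card_dvd_of_surjective (π.comp (Subgroup.inclusion hDW))
      intro q
      obtain ⟨d, hd⟩ := surjD q
      exact ⟨d, hd⟩
    rw [h1]
    intro hd
    rcases (Nat.Prime.dvd_mul hp).1 hd with h3 | h3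
    · exact hpK h3
    · exact hpD₀ (h3.trans h2)
  have hσA : ∀ s ∈ At K D₀ A₁, ∃ s' ∈ At K D₀ A₁,
      ∀ w, conjE (K ⊔ D₀) d₁ hd₁W (s w) = s' (conjE (K ⊔ D₀) d₁ hd₁W w) := by
    rintro s ⟨a, ha, hs⟩
    obtain ⟨a', ha', haa'⟩ := hd₁A a ha
    obtain ⟨s', hs'At, hs'⟩ := hAtex a' ha'
    refine ⟨s', hs'At, fun w => Subtype.ext ?_⟩
    obtain ⟨k, hk, d, hd, e⟩ := sup_factor K D₀ hD₀K w w.2
    have h1 := hs' (conjE (K ⊔ D₀) d₁ hd₁W w) ⟨d₁ * k * d₁⁻¹, (hd₁K k).2 hk⟩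
      ⟨d₁ * d * d₁⁻¹, (hd₁D₀ d).2 hd⟩ (by
        show d₁ * (w : Γ) * d₁⁻¹ = (d₁ * k * d₁⁻¹) * (d₁ * d * d₁⁻¹)
        rw [e]
        group)
    rw [h1, haa' ⟨k, hk⟩ ⟨d₁ * k * d₁⁻¹, (hd₁K k).2 hk⟩ rfl]
    show d₁ * ((s w : ↥(K ⊔ D₀)) : Γ) * d₁⁻¹ = _
    rw [hs w ⟨k, hk⟩ ⟨d, hd⟩ e]
    group
  exact us_sigma p jK (Subgroup.inclusion_injective hKW) jC (Subgroup.inclusion_injective hW₁W)
    kN (Subgroup.inclusion_injective hK₁K) kD (Subgroup.inclusion_injective hK₁W₁)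
    (fun e => Subtype.ext rfl) π hπ hker hQ hπC hkerC (At K D₀ A₁)
    (At_pgroup p K D₀ A₁ hD₀K hA₁) hfixW hπs A₁ hA₁ hfixN hc1 hc2 hpW θ hθ θ₁ hθ₁
    (conjE (K ⊔ D₀) d₁ hd₁W) (conjE (K₁ ⊔ D₀) d₁ hd₁W₁) (fun c => Subtype.ext rfl) hσA

end usAmb

section cyclicChoice

open Cfsg.Agent.Lib.Helper74.SubConj

/-- In a nontrivial `p`-group `A` normalised by `Dbar`, whose commutators centralise `A`, there
is a nontrivial central invariant subgroup `A₁` on which `Dbar` acts through a cyclic group. -/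
theorem exists_A1 {𝔸 : Type*} [Group 𝔸] [Finite 𝔸] (p : ℕ) [Fact p.Prime] (A Dbar : Subgroup 𝔸)
    (hA : IsPGroup p A) (hA1 : A ≠ ⊥) (hnorm : ∀ x ∈ Dbar, ∀ a ∈ A, x * a * x⁻¹ ∈ A)
    (hcomm : ∀ x ∈ Dbar, ∀ y ∈ Dbar, ∀ a ∈ A,
      (x * y * x⁻¹ * y⁻¹) * a = a * (x * y * x⁻¹ * y⁻¹)) :
    ∃ A₁ : Subgroup 𝔸, A₁ ≤ A ∧ A₁ ≠ ⊥ ∧ (∀ a ∈ A, ∀ b ∈ A₁, a * b = b * a) ∧
      (∀ x ∈ Dbar, ∀ b ∈ A₁, x * b * x⁻¹ ∈ A₁) ∧
      ∃ x₁ ∈ Dbar, ∀ x ∈ Dbar, ∃ j : ℤ, ∀ b ∈ A₁, (x * x₁ ^ j) * b = b * (x * x₁ ^ j) := by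
  classical
  let F : Subgroup 𝔸 → Prop := fun B => B ≠ ⊥ ∧ B ≤ A ∧ (∀ a ∈ A, ∀ b ∈ B, a * b = b * a) ∧
    (∀ x ∈ Dbar, ∀ b ∈ B, x * b * x⁻¹ ∈ B)
  -- the centre of `A` belongs to the family
  have hZ : ∃ B, F B := by
    let Z : Subgroup 𝔸 := A ⊓ Subgroup.centralizer (A : Set 𝔸)
    refine ⟨Z, ?_, inf_le_left, ?_, ?_⟩
    · haveI : Nontrivial ↥A := (Subgroup.nontrivial_iff_ne_bot A).2 hA1
      haveI := hA.center_nontrivial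
      obtain ⟨z, hz⟩ := exists_ne (1 : Subgroup.center ↥A)
      intro hbot
      have hzZ : ((z : ↥A) : 𝔸) ∈ Z := by
        refine ⟨(z : ↥A).2, Subgroup.mem_centralizer_iff.2 ?_⟩
        intro a ha
        have h1 := (Subgroup.mem_center_iff.1 z.2) ⟨a, ha⟩
        exact congrArg Subtype.val h1
      rw [hbot, Subgroup.mem_bot] at hzZ
      apply hz
      apply Subtype.ext
      apply Subtype.ext
      exact hzZ
    · intro a ha b hb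
      exact (Subgroup.mem_centralizer_iff.1 hb.2) a ha
    · intro x hx b hb
      refine ⟨hnorm x hx b hb.1, Subgroup.mem_centralizer_iff.2 ?_⟩
      intro a ha
      have h1 : x⁻¹ * a * x⁻¹⁻¹ ∈ A := hnorm x⁻¹ (Dbar.inv_mem hx) a ha
      have h2 := (Subgroup.mem_centralizer_iff.1 hb.2) _ h1
      calc a * (x * b * x⁻¹) = x * ((x⁻¹ * a * x⁻¹⁻¹) * b) * x⁻¹ := by group
        _ = x * (b * (x⁻¹ * a * x⁻¹⁻¹)) * x⁻¹ := by rw [h2]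
        _ = x * b * x⁻¹ * a := by group
  -- a member of minimal order
  have hS : ∃ n, ∃ B, F B ∧ Nat.card B = n := by
    obtain ⟨B, hB⟩ := hZ
    exact ⟨_, B, hB, rfl⟩
  obtain ⟨A₁, hFA₁, hcard⟩ := Nat.find_spec hS
  have hmin : ∀ B, F B → B ≤ A₁ → B = A₁ := by
    intro B hB hle
    apply Subgroup.eq_of_le_of_card_ge hle
    rw [hcard]
    exact Nat.find_min' hS ⟨B, hB, rfl⟩
  obtain ⟨hA₁bot, hA₁A, hA₁c, hA₁D⟩ := hFA₁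
  refine ⟨A₁, hA₁A, hA₁bot, hA₁c, hA₁D, ?_⟩
  -- the action on `A₁`
  let r : ↥Dbar →* MulAut ↥A₁ := conjHom A₁ Dbar hA₁D
  let lam : ↥A₁ →* Equiv.Perm ↥A₁ := MulAction.toPermHom ↥A₁ ↥A₁
  let ρ : ↥Dbar →* Equiv.Perm ↥A₁ := (MulAut.toPerm ↥A₁).comp r
  have hlam : ∀ b c : ↥A₁, lam b c = b * c := fun b c => rfl
  have hρ : ∀ (x : ↥Dbar) (c : ↥A₁), ((ρ x c : ↥A₁) : 𝔸) = x * c * (x : 𝔸)⁻¹ := fun x c => rfl
  have hconj : ∀ (x : ↥Dbar) (b : ↥A₁), ρ x * lam b * (ρ x)⁻¹ = lam (r x b) := by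
    intro x b
    apply Equiv.ext
    intro c
    rw [Equiv.Perm.mul_apply, Equiv.Perm.mul_apply, hlam, hlam]
    apply Subtype.ext
    rw [hρ, Subgroup.coe_mul, Subgroup.coe_mul]
    have h1 : (((ρ x)⁻¹ c : ↥A₁) : 𝔸) = (x : 𝔸)⁻¹ * c * x := by
      have h2 : ρ x ((ρ x)⁻¹ c) = c := Equiv.apply_symm_apply (ρ x) c
      have h3 := congrArg Subtype.val h2
      rw [hρ] at h3
      rw [← h3]
      group
    rw [h1]
    show (x : 𝔸) * ((b : 𝔸) * ((x : 𝔸)⁻¹ * c * x)) * (x : 𝔸)⁻¹ = (x : 𝔸) * b * (x : 𝔸)⁻¹ * c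
    group
  -- commutators act trivially
  have hcommA₁ : ∀ x y : ↥Dbar, ∀ b : 𝔸, b ∈ A₁ →
      ((x : 𝔸) * y) * b * ((x : 𝔸) * y)⁻¹ = ((y : 𝔸) * x) * b * ((y : 𝔸) * x)⁻¹ := by
    intro x y b hb
    have hb' : ((y : 𝔸) * x) * b * ((y : 𝔸) * x)⁻¹ ∈ A :=
      hnorm _ (Dbar.mul_mem y.2 x.2) b (hA₁A hb)
    have h1 := hcomm x x.2 y y.2 _ hb'
    calc ((x : 𝔸) * y) * b * ((x : 𝔸) * y)⁻¹ =
        ((x : 𝔸) * y * (x : 𝔸)⁻¹ * (y : 𝔸)⁻¹) * (((y : 𝔸) * x) * b * ((y : 𝔸) * x)⁻¹) *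
          ((x : 𝔸) * y * (x : 𝔸)⁻¹ * (y : 𝔸)⁻¹)⁻¹ := by group
      _ = (((y : 𝔸) * x) * b * ((y : 𝔸) * x)⁻¹) * ((x : 𝔸) * y * (x : 𝔸)⁻¹ * (y : 𝔸)⁻¹) *
          ((x : 𝔸) * y * (x : 𝔸)⁻¹ * (y : 𝔸)⁻¹)⁻¹ := by rw [h1]
      _ = ((y : 𝔸) * x) * b * ((y : 𝔸) * x)⁻¹ := by group
  have hρcomm : ∀ x y : ↥Dbar, ρ x * ρ y = ρ y * ρ x := by
    intro x y
    rw [← map_mul, ← map_mul]
    apply Equiv.ext
    intro c
    apply Subtype.ext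
    rw [hρ, hρ]
    exact hcommA₁ x y c c.2
  -- trivial action
  have hρone : ∀ x : ↥Dbar, (∀ b ∈ A₁, (x : 𝔸) * b * (x : 𝔸)⁻¹ = b) → ρ x = 1 := by
    intro x hx
    apply Equiv.ext
    intro c
    apply Subtype.ext
    rw [hρ]
    exact hx c c.2
  let V : Subgroup (Equiv.Perm ↥A₁) := lam.range
  let R : Subgroup (Equiv.Perm ↥A₁) := ρ.range
  have hV : V ≠ ⊥ := by
    intro hbot
    apply hA₁bot
    rw [Subgroup.eq_bot_iff_forall]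
    intro b hb
    have h1 : lam ⟨b, hb⟩ ∈ V := ⟨_, rfl⟩
    rw [hbot, Subgroup.mem_bot] at h1
    have h2 := congrArg (fun σ : Equiv.Perm ↥A₁ => ((σ 1 : ↥A₁) : 𝔸)) h1
    simp only [hlam, Equiv.Perm.one_apply, Subgroup.coe_one, mul_one] at h2
    exact h2
  have hRV : R ≤ Subgroup.normalizer (V : Set (Equiv.Perm ↥A₁)) := by
    rintro _ ⟨x, rfl⟩
    rw [Subgroup.mem_normalizer_iff]
    intro v
    constructor
    · rintro ⟨b, rfl⟩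
      rw [hconj]
      exact ⟨_, rfl⟩
    · rintro ⟨b, hb⟩
      have h1 := hconj x⁻¹ b
      rw [hb, map_inv, inv_inv] at h1
      have h2 : (ρ x)⁻¹ * (ρ x * v * (ρ x)⁻¹) * ρ x = v := by group
      rw [h2] at h1
      rw [h1]
      exact ⟨_, rfl⟩
  have hfpf : ∀ α ∈ R, α ≠ 1 → ∀ v ∈ V, α * v = v * α → v = 1 := by
    rintro _ ⟨x, rfl⟩ hne _ ⟨b, rfl⟩ hc
    have h1 := congrArg (fun σ : Equiv.Perm ↥A₁ => ((σ 1 : ↥A₁) : 𝔸)) hc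
    simp only [Equiv.Perm.mul_apply, hlam, hρ, Subgroup.coe_mul, Subgroup.coe_one, mul_one,
      mul_inv_cancel] at h1
    -- h1 : x * b * x⁻¹ = b
    let B : Subgroup 𝔸 :=
      { carrier := {c | c ∈ A₁ ∧ (x : 𝔸) * c * (x : 𝔸)⁻¹ = c}
        mul_mem' := by
          rintro c c' ⟨hc1, hc2⟩ ⟨hc1', hc2'⟩
          refine ⟨A₁.mul_mem hc1 hc1', ?_⟩
          calc (x : 𝔸) * (c * c') * (x : 𝔸)⁻¹ =
              ((x : 𝔸) * c * (x : 𝔸)⁻¹) * ((x : 𝔸) * c' * (x : 𝔸)⁻¹) := by group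
            _ = c * c' := by rw [hc2, hc2']
        one_mem' := ⟨A₁.one_mem, by simp⟩
        inv_mem' := by
          rintro c ⟨hc1, hc2⟩
          refine ⟨A₁.inv_mem hc1, ?_⟩
          calc (x : 𝔸) * c⁻¹ * (x : 𝔸)⁻¹ = ((x : 𝔸) * c * (x : 𝔸)⁻¹)⁻¹ := by group
            _ = c⁻¹ := by rw [hc2] }
    have hBle : B ≤ A₁ := fun c hc => hc.1
    have hbB : (b : 𝔸) ∈ B := ⟨b.2, h1⟩
    by_cases hb1 : (b : 𝔸) = 1
    · have : b = 1 := Subtype.ext hb1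
      rw [this, map_one]
    · exfalso
      have hFB : F B := by
        refine ⟨?_, hBle.trans hA₁A, fun a ha c hc => hA₁c a ha c hc.1, ?_⟩
        · intro hbot
          rw [hbot, Subgroup.mem_bot] at hbB
          exact hb1 hbB
        · intro y hy c hc
          refine ⟨hA₁D y hy c hc.1, ?_⟩
          have h2 := hcommA₁ x ⟨y, hy⟩ c hc.1
          simp only at h2
          calc (x : 𝔸) * (y * c * y⁻¹) * (x : 𝔸)⁻¹ = ((x : 𝔸) * y) * c * ((x : 𝔸) * y)⁻¹ := by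
                group
            _ = (y * (x : 𝔸)) * c * (y * (x : 𝔸))⁻¹ := h2
            _ = y * ((x : 𝔸) * c * (x : 𝔸)⁻¹) * y⁻¹ := by group
            _ = y * c * y⁻¹ := by rw [hc.2]
      have hBA₁ := hmin B hFB hBle
      apply hne
      apply hρone x
      intro c hc
      rw [← hBA₁] at hc
      exact hc.2
  have hRcomm : ∀ α β : ↥R, α * β = β * α := by
    rintro ⟨_, x, rfl⟩ ⟨_, y, rfl⟩
    apply Subtype.ext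
    exact hρcomm x y
  have hcyc : IsCyclic ↥R :=
    Cfsg.Agent.Lib.Helper54.FpfCyclic.isCyclic_of_fpf_comm R V hV hRV hfpf hRcomm
  obtain ⟨⟨g₀, x₁, rfl⟩, hg₀⟩ := IsCyclic.exists_generator (α := ↥R)
  refine ⟨x₁, x₁.2, ?_⟩
  intro x hx
  obtain ⟨i, hi⟩ := Subgroup.mem_zpowers_iff.1 (hg₀ ⟨ρ ⟨x, hx⟩, ⟨_, rfl⟩⟩)
  have hi' : ρ x₁ ^ i = ρ ⟨x, hx⟩ := by
    have := congrArg Subtype.val hi
    simpa using this
  refine ⟨-i, ?_⟩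
  have h1 : ρ (⟨x, hx⟩ * x₁ ^ (-i)) = 1 := by
    rw [map_mul, map_zpow, ← hi', zpow_neg, mul_inv_cancel]
  intro b hb
  have h2 := congrArg (fun σ : Equiv.Perm ↥A₁ => ((σ ⟨b, hb⟩ : ↥A₁) : 𝔸)) h1
  simp only [hρ, Equiv.Perm.one_apply] at h2
  have h3 : ((⟨x, hx⟩ * x₁ ^ (-i) : ↥Dbar) : 𝔸) = x * (x₁ : 𝔸) ^ (-i) := by
    rw [Subgroup.coe_mul, Subgroup.coe_zpow]
  rw [h3] at h2
  calc x * (x₁ : 𝔸) ^ (-i) * b =
      (x * (x₁ : 𝔸) ^ (-i) * b * (x * (x₁ : 𝔸) ^ (-i))⁻¹) * (x * (x₁ : 𝔸) ^ (-i)) := by group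
    _ = b * (x * (x₁ : 𝔸) ^ (-i)) := by rw [h2]

end cyclicChoice

end Cfsg.Agent.Lib.Helper81.McKE
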