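import Mathlib
import Cfsg.Prelude.Def_Characters
import Cfsg.Agent.Lib.Helper81.McKE
import Cfsg.Agent.Lib.Helper81.GlaubClass

set_option autoImplicit false
set_option linter.style.haveILetI false
set_option linter.unusedSectionVars false
set_option maxHeartbeats 1000000

/-!
# Transfer of extendibility under the correspondence for a `p`-group of automorphisms
-/

namespace Cfsg.Agent.Lib.Helper81.McKF

open Cfsg
open Cfsg.Agent.Lib.Helper81.Irr Cfsg.Agent.Lib.Helper81.Basic Cfsg.Agent.Lib.Helper81.Expand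
  Cfsg.Agent.Lib.Helper81.Mult Cfsg.Agent.Lib.Helper81.Cliff Cfsg.Agent.Lib.Helper81.CliffCorr
  Cfsg.Agent.Lib.Helper81.McKA Cfsg.Agent.Lib.Helper81.NSylA Cfsg.Agent.Lib.Helper81.McKB
  Cfsg.Agent.Lib.Helper81.GlaubCore Cfsg.Agent.Lib.Helper81.Glaub
  Cfsg.Agent.Lib.Helper81.GlaubNormal Cfsg.Agent.Lib.Helper81.McKD Cfsg.Agent.Lib.Helper81.McKE
  Cfsg.Agent.Lib.Helper81.GlaubClass
open Cfsg.Agent.Lib.Helper74.SubConj
open scoped ComplexConjugate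

universe u

section resAutSec

variable {Γ : Type u} [Group Γ]

/-- Restriction of a group of automorphisms of `K` to a stable subgroup `K₁`. -/
def resAut (K K₁ : Subgroup Γ) (hK₁K : K₁ ≤ K) (A : Subgroup (MulAut ↥K))
    (hpres : ∀ a ∈ A, ∀ k : ↥K, (k : Γ) ∈ K₁ → ((a k : ↥K) : Γ) ∈ K₁) : ↥A →* MulAut ↥K₁ where
  toFun a :=
    { toFun := fun k₁ => ⟨((a.1 ⟨k₁, hK₁K k₁.2⟩ : ↥K) : Γ), hpres a.1 a.2 _ k₁.2⟩
      invFun := fun k₁ =>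
        ⟨((a.1⁻¹ ⟨k₁, hK₁K k₁.2⟩ : ↥K) : Γ), hpres a.1⁻¹ (A.inv_mem a.2) _ k₁.2⟩
      left_inv := by
        intro k₁
        apply Subtype.ext
        have e : (⟨((a.1 ⟨k₁, hK₁K k₁.2⟩ : ↥K) : Γ),
            hK₁K (hpres a.1 a.2 _ k₁.2)⟩ : ↥K) = a.1 ⟨k₁, hK₁K k₁.2⟩ := Subtype.ext rfl
        show ((a.1⁻¹ ⟨((a.1 ⟨k₁, hK₁K k₁.2⟩ : ↥K) : Γ),
            hK₁K (hpres a.1 a.2 _ k₁.2)⟩ : ↥K) : Γ) = k₁
        rw [e, MulAut.inv_apply_self]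
      right_inv := by
        intro k₁
        apply Subtype.ext
        have e : (⟨((a.1⁻¹ ⟨k₁, hK₁K k₁.2⟩ : ↥K) : Γ),
            hK₁K (hpres a.1⁻¹ (A.inv_mem a.2) _ k₁.2)⟩ : ↥K) = a.1⁻¹ ⟨k₁, hK₁K k₁.2⟩ :=
          Subtype.ext rfl
        show ((a.1 ⟨((a.1⁻¹ ⟨k₁, hK₁K k₁.2⟩ : ↥K) : Γ),
            hK₁K (hpres a.1⁻¹ (A.inv_mem a.2) _ k₁.2)⟩ : ↥K) : Γ) = k₁
        rw [e, MulAut.apply_inv_self]
      map_mul' := by
        intro x y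
        apply Subtype.ext
        have e : (⟨((x * y : ↥K₁) : Γ), hK₁K (x * y).2⟩ : ↥K) =
            ⟨x, hK₁K x.2⟩ * ⟨y, hK₁K y.2⟩ := Subtype.ext rfl
        show ((a.1 ⟨((x * y : ↥K₁) : Γ), hK₁K (x * y).2⟩ : ↥K) : Γ) =
          ((a.1 ⟨x, hK₁K x.2⟩ : ↥K) : Γ) * ((a.1 ⟨y, hK₁K y.2⟩ : ↥K) : Γ)
        rw [e, map_mul]
        rfl }
  map_one' := by
    apply MulEquiv.ext
    intro k₁
    apply Subtype.ext
    rfl
  map_mul' := by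
    intro a b
    apply MulEquiv.ext
    intro k₁
    apply Subtype.ext
    rfl

theorem resAut_coe (K K₁ : Subgroup Γ) (hK₁K : K₁ ≤ K) (A : Subgroup (MulAut ↥K))
    (hpres : ∀ a ∈ A, ∀ k : ↥K, (k : Γ) ∈ K₁ → ((a k : ↥K) : Γ) ∈ K₁) (a : ↥A) (k₁ : ↥K₁) :
    ((resAut K K₁ hK₁K A hpres a k₁ : ↥K₁) : Γ) = ((a.1 ⟨k₁, hK₁K k₁.2⟩ : ↥K) : Γ) := rfl

theorem conj_elem (K D : Subgroup Γ) (hDK : ∀ d ∈ D, ∀ k ∈ K, d * k * d⁻¹ ∈ K) (y : ↥D)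
    (a : MulAut ↥K) (k k' : ↥K) (h : (k' : Γ) = y * k * (y : Γ)⁻¹) :
    (((conjHom K D hDK y * a * (conjHom K D hDK y)⁻¹) k' : ↥K) : Γ) =
      y * (a k : ↥K) * (y : Γ)⁻¹ := by
  have h1 : (conjHom K D hDK y)⁻¹ k' = k := by
    have h2 : conjHom K D hDK y k = k' := Subtype.ext h.symm
    rw [← h2, MulAut.inv_apply_self]
  show ((conjHom K D hDK y (a ((conjHom K D hDK y)⁻¹ k')) : ↥K) : Γ) = _
  rw [h1]
  rfl

theorem norm_iff (D K : Subgroup Γ) (hDK : ∀ d ∈ D, ∀ k ∈ K, d * k * d⁻¹ ∈ K) (d : Γ)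
    (hd : d ∈ D) (k : Γ) : d * k * d⁻¹ ∈ K ↔ k ∈ K := by
  constructor
  · intro h
    have h1 := hDK d⁻¹ (D.inv_mem hd) _ h
    have e : d⁻¹ * (d * k * d⁻¹) * d⁻¹⁻¹ = k := by group
    rwa [e] at h1
  · exact hDK d hd k

end resAutSec

section lemE

variable {Γ : Type u} [Group Γ] [Fintype Γ] (p : ℕ) [Fact p.Prime] (D C : Subgroup Γ)
  [Fintype ↥C] (θ' : IrrCharacter ↥C) (hCD : C ≤ D) (hpD : ¬ p ∣ Nat.card D)

include hCD hpD in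
/-- Transfer of extendibility, by induction on the order of `K`. -/
theorem lemE_aux : ∀ (n : ℕ) (K : Subgroup Γ) [Fintype ↥K] (A : Subgroup (MulAut ↥K))
    (hDK : ∀ d ∈ D, ∀ k ∈ K, d * k * d⁻¹ ∈ K), Nat.card K = n → IsPGroup p A →
    (∀ d : ↥D, ∀ a ∈ A, conjHom K D hDK d * a * (conjHom K D hDK d)⁻¹ ∈ A) →
    (∀ g, g ∈ C ↔ ∃ hk : g ∈ K, ∀ a ∈ A, a ⟨g, hk⟩ = ⟨g, hk⟩) →
    (∀ g ∈ K, g ∈ D → g ∈ C) →
    (∀ d ∈ D, ∀ d' ∈ D, d * d' * d⁻¹ * d'⁻¹ ∈ K) →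
    ¬ p ∣ Nat.card K →
    ∀ (θ : IrrCharacter ↥K), (∀ a ∈ A, ∀ k, θ.1 (a k) = θ.1 k) →
    ∀ (hCK : C ≤ K), ¬ p ∣ mult (fun c : ↥C => θ.1 (Subgroup.inclusion hCK c)) θ' →
    (ExtTo K θ (K ⊔ D) ↔ ExtTo C θ' D) := by
  classical
  have hp : p.Prime := Fact.out
  intro n
  induction n using Nat.strong_induction_on with
  | _ n ih =>
  intro K _ A hDK hn hA hDA hC hKD hcomm hpK θ hθ hCK hθ'
  by_cases hA1 : A = ⊥
  · -- trivial action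
    have hKC : K ≤ C := by
      intro g hg
      refine (hC g).2 ⟨hg, fun a ha => ?_⟩
      rw [hA1, Subgroup.mem_bot] at ha
      rw [ha]
      rfl
    have hKD' : K ≤ D := hKC.trans hCD
    have hsup : K ⊔ D = D := sup_eq_right.2 hKD'
    have hsurj : Function.Surjective (Subgroup.inclusion hCK) := by
      intro k
      exact ⟨⟨k, hKC k.2⟩, Subtype.ext rfl⟩
    let θc : IrrCharacter ↥C := ⟨fun c => θ.1 (Subgroup.inclusion hCK c),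
      isIrrCharacter_comp θ.2 (Subgroup.inclusion hCK) hsurj⟩
    have hθc : θc = θ' := by
      by_contra hne
      have h1 := mult_irr θc θ'
      rw [if_neg hne] at h1
      apply hθ'
      show p ∣ mult θc.1 θ'
      rw [h1]
      exact dvd_zero p
    have hθ'eq : ∀ c : ↥C, θ'.1 c = θ.1 (Subgroup.inclusion hCK c) := by
      intro c
      rw [← hθc]
    constructor
    · rintro ⟨ψ, hψ, hψK⟩
      rw [hsup] at hψ
      refine ⟨ψ, hψ, fun c => ?_⟩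
      rw [hθ'eq c]
      exact hψK ⟨c, hCK c.2⟩
    · rintro ⟨ψ, hψ, hψC⟩
      refine ⟨ψ, ?_, fun k => ?_⟩
      · rw [hsup]
        exact hψ
      · have h1 := hψC ⟨k, hKC k.2⟩
        rw [hθ'eq] at h1
        exact h1
  · -- the inductive step
    let cD : ↥D →* MulAut ↥K := conjHom K D hDK
    let Dbar : Subgroup (MulAut ↥K) := cD.range
    have hnormbar : ∀ x ∈ Dbar, ∀ a ∈ A, x * a * x⁻¹ ∈ A := by
      rintro _ ⟨d, rfl⟩ a ha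
      exact hDA d a ha
    -- elements of `C` act on `K` commuting with `A`
    have hCcomm : ∀ c : ↥D, (c : Γ) ∈ K → ∀ a ∈ A, cD c * a = a * cD c := by
      intro c hcK a ha
      have hcC : (c : Γ) ∈ C := hKD _ hcK c.2
      obtain ⟨hk, hfix⟩ := (hC _).1 hcC
      apply MulEquiv.ext
      intro k
      have e1 : cD c k = ⟨c, hk⟩ * k * ⟨c, hk⟩⁻¹ := Subtype.ext rfl
      have e2 : cD c (a k) = ⟨c, hk⟩ * a k * ⟨c, hk⟩⁻¹ := Subtype.ext rfl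
      show cD c (a k) = a (cD c k)
      rw [e1, e2, map_mul, map_mul, map_inv, hfix a ha]
    have hcommbar : ∀ x ∈ Dbar, ∀ y ∈ Dbar, ∀ a ∈ A,
        (x * y * x⁻¹ * y⁻¹) * a = a * (x * y * x⁻¹ * y⁻¹) := by
      rintro _ ⟨d, rfl⟩ _ ⟨d', rfl⟩ a ha
      have e : cD d * cD d' * (cD d)⁻¹ * (cD d')⁻¹ = cD (d * d' * d⁻¹ * d'⁻¹) := by
        rw [map_mul, map_mul, map_mul, map_inv, map_inv]
      rw [e]
      exact hCcomm _ (hcomm d d.2 d' d'.2) a ha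
    obtain ⟨A₁, hA₁A, hA₁bot, hA₁c, hA₁D, x₁, ⟨d₁, rfl⟩, hgen⟩ :=
      exists_A1 p A Dbar hA hA1 hnormbar hcommbar
    have hA₁p : IsPGroup p A₁ := hA.to_le hA₁A
    -- the centraliser of `A₁` in `D`
    let D₀ : Subgroup Γ :=
      (Subgroup.comap cD (Subgroup.centralizer (A₁ : Set (MulAut ↥K)))).map D.subtype
    have hD₀D : D₀ ≤ D := by
      rintro _ ⟨d, -, rfl⟩
      exact d.2
    have hmemD₀ : ∀ d : ↥D, (d : Γ) ∈ D₀ ↔ ∀ b ∈ A₁, b * cD d = cD d * b := by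
      intro d
      constructor
      · rintro ⟨d', hd', e⟩
        have e' : d' = d := Subtype.ext e
        rw [e'] at hd'
        exact Subgroup.mem_centralizer_iff.1 hd'
      · intro h
        exact ⟨d, Subgroup.mem_centralizer_iff.2 h, rfl⟩
    have hDsup : D₀ ⊔ Subgroup.zpowers (d₁ : Γ) = D := by
      apply le_antisymm
      · apply sup_le hD₀D
        rw [Subgroup.zpowers_le]
        exact d₁.2
      · intro d hd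
        obtain ⟨j, hj⟩ := hgen (cD ⟨d, hd⟩) ⟨_, rfl⟩
        have h1 : ((⟨d, hd⟩ * d₁ ^ j : ↥D) : Γ) ∈ D₀ := by
          rw [hmemD₀]
          intro b hb
          rw [map_mul, map_zpow]
          exact (hj b hb).symm
        have h2 : d = ((⟨d, hd⟩ * d₁ ^ j : ↥D) : Γ) * (d₁ : Γ) ^ (-j) := by
          rw [Subgroup.coe_mul, Subgroup.coe_zpow, zpow_neg]
          group
        rw [h2]
        exact Subgroup.mul_mem _ (Subgroup.mem_sup_left h1)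
          (Subgroup.mem_sup_right (Subgroup.zpow_mem_zpowers _ _))
    -- the fixed points of `A₁`
    let K₁ : Subgroup Γ := (fixS A₁).map K.subtype
    have hK₁ : ∀ g, g ∈ K₁ ↔ ∃ hk : g ∈ K, ∀ a ∈ A₁, a ⟨g, hk⟩ = ⟨g, hk⟩ := by
      intro g
      constructor
      · rintro ⟨x, hx, rfl⟩
        exact ⟨x.2, hx⟩
      · rintro ⟨hk, h⟩
        exact ⟨⟨g, hk⟩, h, rfl⟩
    have hK₁K : K₁ ≤ K := by
      rintro _ ⟨x, -, rfl⟩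
      exact x.2
    let _ : Fintype ↥K₁ := Fintype.ofFinite _
    have hCK₁ : C ≤ K₁ := by
      intro g hg
      obtain ⟨hk, hfix⟩ := (hC g).1 hg
      exact (hK₁ g).2 ⟨hk, fun a ha => hfix a (hA₁A ha)⟩
    have hlt : Nat.card K₁ < n := by
      rw [← hn]
      apply lt_of_le_of_ne (Subgroup.card_le_of_le hK₁K)
      intro heq
      have hKK₁ : K₁ = K := Subgroup.eq_of_le_of_card_ge hK₁K heq.ge
      apply hA₁bot
      rw [Subgroup.eq_bot_iff_forall]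
      intro b hb
      apply MulEquiv.ext
      intro k
      have hk : (k : Γ) ∈ K₁ := by
        rw [hKK₁]
        exact k.2
      obtain ⟨hk', hfix⟩ := (hK₁ _).1 hk
      exact hfix b hb
    -- the correspondent of `θ`
    have hrange : ∀ g : ↥K, g ∈ (Subgroup.inclusion hK₁K).range ↔ ∀ s ∈ A₁, s g = g := by
      intro g
      constructor
      · rintro ⟨e, rfl⟩ a ha
        obtain ⟨hk, hfix⟩ := (hK₁ e).1 e.2
        exact hfix a ha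
      · intro h
        exact ⟨⟨g, (hK₁ g).2 ⟨g.2, h⟩⟩, Subtype.ext rfl⟩
    have HN := glaub_pgroup p A₁ (Subgroup.inclusion hK₁K) hA₁p hpK
      (Subgroup.inclusion_injective hK₁K) hrange
    have hθA₁ : ∀ a ∈ A₁, ∀ k, θ.1 (a k) = θ.1 k := fun a ha k => hθ a (hA₁A ha) k
    obtain ⟨θ₁, hθ₁pm, hθ₁oth⟩ := HN.1 θ hθA₁
    have hθ₁ : ¬ p ∣ mult (fun e : ↥K₁ => θ.1 (Subgroup.inclusion hK₁K e)) θ₁ :=
      not_dvd_of_modEq hp _ hθ₁pm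
    -- hypotheses of the one-step transfer
    have hD₀K : ∀ d ∈ D₀, ∀ k ∈ K, d * k * d⁻¹ ∈ K := fun d hd => hDK d (hD₀D hd)
    have hcommA : ∀ d ∈ D₀, ∀ a ∈ A₁, ∀ k k' : ↥K, (k' : Γ) = d * k * d⁻¹ →
        ((a k' : ↥K) : Γ) = d * (a k : ↥K) * d⁻¹ := by
      intro d hd a ha k k' hk'
      have h1 := (hmemD₀ ⟨d, hD₀D hd⟩).1 hd a ha
      have h2 : cD ⟨d, hD₀D hd⟩ k = k' := Subtype.ext hk'.symm
      have h3 : a (cD ⟨d, hD₀D hd⟩ k) = cD ⟨d, hD₀D hd⟩ (a k) := by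
        have h4 := congrArg (fun σ : MulAut ↥K => σ k) h1
        exact h4
      rw [← h2, h3]
      rfl
    have hKD₀ : ∀ g ∈ K, g ∈ D₀ → g ∈ K₁ := fun g hg hgD => hCK₁ (hKD g hg (hD₀D hgD))
    have hd₁K : ∀ k, (d₁ : Γ) * k * (d₁ : Γ)⁻¹ ∈ K ↔ k ∈ K := norm_iff D K hDK d₁ d₁.2
    have hD₀norm : ∀ y ∈ D, ∀ d ∈ D₀, y * d * y⁻¹ ∈ D₀ := by
      intro y hy d hd
      have hdD : d ∈ D := hD₀D hd
      have h0 : y * d * y⁻¹ ∈ D := D.mul_mem (D.mul_mem hy hdD) (D.inv_mem hy)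
      have h1 := (hmemD₀ ⟨d, hdD⟩).1 hd
      have h2 : ((⟨y * d * y⁻¹, h0⟩ : ↥D) : Γ) ∈ D₀ := by
        rw [hmemD₀]
        intro b hb
        have e : (⟨y * d * y⁻¹, h0⟩ : ↥D) = ⟨y, hy⟩ * ⟨d, hdD⟩ * ⟨y, hy⟩⁻¹ := Subtype.ext rfl
        rw [e, map_mul, map_mul, map_inv]
        have hb' : (cD ⟨y, hy⟩)⁻¹ * b * (cD ⟨y, hy⟩)⁻¹⁻¹ ∈ A₁ :=
          hA₁D _ ⟨⟨y, hy⟩⁻¹, map_inv _ _⟩ b hb
        have h3 := h1 _ hb'
        calc b * (cD ⟨y, hy⟩ * cD ⟨d, hdD⟩ * (cD ⟨y, hy⟩)⁻¹) =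
            cD ⟨y, hy⟩ * (((cD ⟨y, hy⟩)⁻¹ * b * (cD ⟨y, hy⟩)⁻¹⁻¹) * cD ⟨d, hdD⟩) *
              (cD ⟨y, hy⟩)⁻¹ := by group
          _ = cD ⟨y, hy⟩ * (cD ⟨d, hdD⟩ * ((cD ⟨y, hy⟩)⁻¹ * b * (cD ⟨y, hy⟩)⁻¹⁻¹)) *
              (cD ⟨y, hy⟩)⁻¹ := by rw [h3]
          _ = cD ⟨y, hy⟩ * cD ⟨d, hdD⟩ * (cD ⟨y, hy⟩)⁻¹ * b := by group
      exact h2
    have hd₁D₀ : ∀ d, (d₁ : Γ) * d * (d₁ : Γ)⁻¹ ∈ D₀ ↔ d ∈ D₀ :=
      norm_iff D D₀ hD₀norm d₁ d₁.2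
    have hd₁A : ∀ a ∈ A₁, ∃ a' ∈ A₁, ∀ k k' : ↥K, (k' : Γ) = (d₁ : Γ) * k * (d₁ : Γ)⁻¹ →
        ((a' k' : ↥K) : Γ) = (d₁ : Γ) * (a k : ↥K) * (d₁ : Γ)⁻¹ := by
      intro a ha
      exact ⟨cD d₁ * a * (cD d₁)⁻¹, hA₁D _ ⟨d₁, rfl⟩ a ha,
        fun k k' hk' => conj_elem K D hDK d₁ a k k' hk'⟩
    have hd₁A' : ∀ a ∈ A₁, ∃ a' ∈ A₁, ∀ k k' : ↥K, (k' : Γ) = (d₁ : Γ)⁻¹ * k * (d₁ : Γ) →
        ((a' k' : ↥K) : Γ) = (d₁ : Γ)⁻¹ * (a k : ↥K) * (d₁ : Γ) := by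
      intro a ha
      refine ⟨cD d₁⁻¹ * a * (cD d₁⁻¹)⁻¹, hA₁D _ ⟨d₁⁻¹, rfl⟩ a ha, fun k k' hk' => ?_⟩
      have h1 := conj_elem K D hDK d₁⁻¹ a k k' (by
        rw [Subgroup.coe_inv, inv_inv]
        exact hk')
      rw [Subgroup.coe_inv, inv_inv] at h1
      exact h1
    have hcomm₀ : ∀ d ∈ D₀, ∀ d' ∈ D₀, d * d' * d⁻¹ * d'⁻¹ ∈ K :=
      fun d hd d' hd' => hcomm d (hD₀D hd) d' (hD₀D hd')
    have hpD₀ : ¬ p ∣ Nat.card D₀ := fun hd => hpD (hd.trans (Subgroup.card_dvd_of_le hD₀D))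
    have hstep := us_amb p K D₀ K₁ A₁ hD₀K hcommA hK₁ hKD₀ (d₁ : Γ) hA₁p hd₁K hd₁D₀ hd₁A hd₁A'
      hcomm₀ hpK hpD₀ θ hθA₁ hK₁K θ₁ hθ₁
    rw [sup_assoc, sup_assoc, hDsup] at hstep
    -- the inductive hypothesis
    have hpres : ∀ a ∈ A, ∀ k : ↥K, (k : Γ) ∈ K₁ → ((a k : ↥K) : Γ) ∈ K₁ := by
      intro a ha k hk
      obtain ⟨hk', hfix⟩ := (hK₁ _).1 hk
      refine (hK₁ _).2 ⟨(a k).2, fun b hb => ?_⟩
      have h1 : b (a k) = a (b k) := by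
        have h2 := congrArg (fun σ : MulAut ↥K => σ k) (hA₁c a ha b hb)
        exact h2.symm
      show b (a k) = a k
      rw [h1]
      exact congrArg a (hfix b hb)
    let A' : Subgroup (MulAut ↥K₁) := (resAut K K₁ hK₁K A hpres).range
    have hA'p : IsPGroup p A' :=
      hA.of_surjective (resAut K K₁ hK₁K A hpres).rangeRestrict
        (resAut K K₁ hK₁K A hpres).rangeRestrict_surjective
    have hDK₁ : ∀ d ∈ D, ∀ k ∈ K₁, d * k * d⁻¹ ∈ K₁ := by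
      intro d hd k hk
      obtain ⟨hkK, hfix⟩ := (hK₁ k).1 hk
      refine (hK₁ _).2 ⟨hDK d hd k hkK, fun b hb => ?_⟩
      have hb' : (cD ⟨d, hd⟩)⁻¹ * b * (cD ⟨d, hd⟩)⁻¹⁻¹ ∈ A₁ :=
        hA₁D _ ⟨⟨d, hd⟩⁻¹, map_inv _ _⟩ b hb
      have h1 : b * cD ⟨d, hd⟩ = cD ⟨d, hd⟩ * ((cD ⟨d, hd⟩)⁻¹ * b * (cD ⟨d, hd⟩)⁻¹⁻¹) := by
        group
      have h2 := congrArg (fun σ : MulAut ↥K => σ ⟨k, hkK⟩) h1
      have h3 : b (cD ⟨d, hd⟩ ⟨k, hkK⟩) =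
          cD ⟨d, hd⟩ (((cD ⟨d, hd⟩)⁻¹ * b * (cD ⟨d, hd⟩)⁻¹⁻¹) ⟨k, hkK⟩) := h2
      rw [hfix _ hb'] at h3
      exact h3
    have hDA' : ∀ d : ↥D, ∀ a ∈ A',
        conjHom K₁ D hDK₁ d * a * (conjHom K₁ D hDK₁ d)⁻¹ ∈ A' := by
      rintro d _ ⟨a, rfl⟩
      refine ⟨⟨cD d * a.1 * (cD d)⁻¹, hDA d a.1 a.2⟩, ?_⟩
      apply MulEquiv.ext
      intro k₁
      apply Subtype.ext
      rw [resAut_coe]
      have h1 := conj_elem K D hDK d a.1 ⟨(d : Γ)⁻¹ * k₁ * d, by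
        have := hDK d⁻¹ (D.inv_mem d.2) k₁ (hK₁K k₁.2)
        rwa [inv_inv] at this⟩ ⟨k₁, hK₁K k₁.2⟩ (by
          show (k₁ : Γ) = d * ((d : Γ)⁻¹ * k₁ * d) * (d : Γ)⁻¹
          group)
      rw [h1]
      rfl
    have hC' : ∀ g, g ∈ C ↔ ∃ hk : g ∈ K₁, ∀ a ∈ A', a ⟨g, hk⟩ = ⟨g, hk⟩ := by
      intro g
      constructor
      · intro hg
        obtain ⟨hk, hfix⟩ := (hC g).1 hg
        refine ⟨hCK₁ hg, ?_⟩
        rintro _ ⟨a, rfl⟩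
        apply Subtype.ext
        rw [resAut_coe]
        exact congrArg Subtype.val (hfix a.1 a.2)
      · rintro ⟨hk, h⟩
        refine (hC g).2 ⟨hK₁K hk, fun a ha => ?_⟩
        have h1 := h (resAut K K₁ hK₁K A hpres ⟨a, ha⟩) ⟨_, rfl⟩
        apply Subtype.ext
        have h2 := congrArg Subtype.val h1
        rw [resAut_coe] at h2
        exact h2
    have hKD' : ∀ g ∈ K₁, g ∈ D → g ∈ C := fun g hg hgD => hKD g (hK₁K hg) hgD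
    have hcomm' : ∀ d ∈ D, ∀ d' ∈ D, d * d' * d⁻¹ * d'⁻¹ ∈ K₁ := by
      intro d hd d' hd'
      apply hCK₁
      apply hKD _ (hcomm d hd d' hd')
      exact D.mul_mem (D.mul_mem (D.mul_mem hd hd') (D.inv_mem hd)) (D.inv_mem hd')
    have hpK₁ : ¬ p ∣ Nat.card K₁ := fun hd => hpK (hd.trans (Subgroup.card_dvd_of_le hK₁K))
    have hθ₁inv : ∀ a ∈ A', ∀ k, θ₁.1 (a k) = θ₁.1 k := by
      rintro _ ⟨a, rfl⟩ k
      have h1 := corr_fixed p (Subgroup.inclusion hK₁K) _ HN a.1 (resAut K K₁ hK₁K A hpres a)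
        (fun c => Subtype.ext rfl) θ hθA₁ (fun g => hθ a.1 a.2 g) θ₁ hθ₁
      have h2 : (irrComp (resAut K K₁ hK₁K A hpres a) θ₁).1 k = θ₁.1 k := by rw [h1]
      exact h2
    have hθ₁' : ¬ p ∣ mult (fun c : ↥C => θ₁.1 (Subgroup.inclusion hCK₁ c)) θ' := by
      have hΨ : IsCharacter ↥K₁ (fun e : ↥K₁ => θ.1 (Subgroup.inclusion hK₁K e)) :=
        Cfsg.Agent.Lib.CT.Ops.isCharacter_comp_hom (Subgroup.inclusion hK₁K)
          (Cfsg.Agent.Lib.CT.Wedderburn.isCharacter_of_irr θ.2)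
      have : Finite (IrrCharacter ↥K₁) := finite_irr
      let _ : Fintype (IrrCharacter ↥K₁) := Fintype.ofFinite _
      have h1 := mult_comp_modEq p (Subgroup.inclusion hCK₁) hΨ θ₁ hθ₁oth θ'
      have h2 := (dvd_iff_of_modEq _ _ _ h1)
      intro hd
      apply hθ'
      have h3 : (fun c : ↥C => θ.1 (Subgroup.inclusion hCK c)) =
          fun c : ↥C => (fun e : ↥K₁ => θ.1 (Subgroup.inclusion hK₁K e))
            (Subgroup.inclusion hCK₁ c) := rfl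
      rw [h3, h2]
      exact Dvd.dvd.mul_left hd _
    have hih := ih (Nat.card K₁) hlt K₁ A' hDK₁ rfl hA'p hDA' hC' hKD' hcomm' hpK₁ θ₁ hθ₁inv
      hCK₁ hθ₁'
    exact hstep.trans hih

include hCD hpD in
/-- Transfer of extendibility under the correspondence for a `p`-group of automorphisms. -/
theorem lemE (K : Subgroup Γ) [Fintype ↥K] (A : Subgroup (MulAut ↥K))
    (hDK : ∀ d ∈ D, ∀ k ∈ K, d * k * d⁻¹ ∈ K) (hA : IsPGroup p A)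
    (hDA : ∀ d : ↥D, ∀ a ∈ A, conjHom K D hDK d * a * (conjHom K D hDK d)⁻¹ ∈ A)
    (hC : ∀ g, g ∈ C ↔ ∃ hk : g ∈ K, ∀ a ∈ A, a ⟨g, hk⟩ = ⟨g, hk⟩)
    (hKD : ∀ g ∈ K, g ∈ D → g ∈ C)
    (hcomm : ∀ d ∈ D, ∀ d' ∈ D, d * d' * d⁻¹ * d'⁻¹ ∈ K)
    (hpK : ¬ p ∣ Nat.card K)
    (θ : IrrCharacter ↥K) (hθ : ∀ a ∈ A, ∀ k, θ.1 (a k) = θ.1 k)
    (hCK : C ≤ K) (hθ' : ¬ p ∣ mult (fun c : ↥C => θ.1 (Subgroup.inclusion hCK c)) θ') :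
    ExtTo K θ (K ⊔ D) ↔ ExtTo C θ' D :=
  lemE_aux p D C θ' hCD hpD (Nat.card K) K A hDK rfl hA hDA hC hKD hcomm hpK θ hθ hCK hθ'

end lemE

end Cfsg.Agent.Lib.Helper81.McKF
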