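import Mathlib
import Cfsg.Prelude.Def_Characters
import Cfsg.Agent.Lib.Helper81.McKF

set_option autoImplicit false
set_option linter.style.haveILetI false
set_option linter.unusedSectionVars false
set_option maxHeartbeats 1000000

/-!
# Counting characters over an invariant character of a subgroup of an ambient group
-/

namespace Cfsg.Agent.Lib.Helper81.McKG

open Cfsg
open Cfsg.Agent.Lib.Helper81.Irr Cfsg.Agent.Lib.Helper81.Basic Cfsg.Agent.Lib.Helper81.Expand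
  Cfsg.Agent.Lib.Helper81.Mult Cfsg.Agent.Lib.Helper81.Cliff Cfsg.Agent.Lib.Helper81.CliffCorr
  Cfsg.Agent.Lib.Helper81.McKA Cfsg.Agent.Lib.Helper81.NSylA Cfsg.Agent.Lib.Helper81.McKB
  Cfsg.Agent.Lib.Helper81.GlaubCore Cfsg.Agent.Lib.Helper81.Glaub
  Cfsg.Agent.Lib.Helper81.GlaubNormal Cfsg.Agent.Lib.Helper81.McKD Cfsg.Agent.Lib.Helper81.McKE
  Cfsg.Agent.Lib.Helper81.McKF
open Cfsg.Agent.Lib.Helper74.SubConj
open scoped ComplexConjugate

universe u

section amb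

open Classical

variable {G : Type u} [Group G] [Fintype G]

/-- Goodness relative to a subgroup `Γ`. -/
def GoodIn (Γ M : Subgroup G) (η : IrrCharacter ↥M) (x : G) : Prop :=
  ∀ y ∈ Γ, y * x * y⁻¹ * x⁻¹ ∈ M → ExtTo M η (M ⊔ Subgroup.zpowers x ⊔ Subgroup.zpowers y)

variable (Γ M : Subgroup G) (hMΓ : M ≤ Γ) (η : IrrCharacter ↥M)

/-- The character `η` on the subgroup of `Γ` corresponding to `M`. -/
noncomputable def subChar : IrrCharacter ↥(M.subgroupOf Γ) :=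
  irrComp (Subgroup.subgroupOfEquivOfLe hMΓ) η

omit [Fintype G] in
theorem subChar_apply (z : ↥(M.subgroupOf Γ)) :
    (subChar Γ M hMΓ η).1 z = η.1 ⟨((z : ↥Γ) : G), z.2⟩ := rfl

omit [Fintype G] in
theorem extTo_sub (W' : Subgroup ↥Γ) :
    ExtTo (M.subgroupOf Γ) (subChar Γ M hMΓ η) W' ↔ ExtTo M η (W'.map Γ.subtype) := by
  let ε : ↥W' ≃* ↥(W'.map Γ.subtype) :=
    Subgroup.equivMapOfInjective W' Γ.subtype Subtype.coe_injective
  have hε : ∀ w : ↥W', ((ε w : ↥(W'.map Γ.subtype)) : G) = ((w : ↥Γ) : G) := fun w => rfl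
  constructor
  · rintro ⟨ψ, hψ, hψM⟩
    let ψt : G → ℂ := fun g => if h : g ∈ Γ then ψ ⟨g, h⟩ else 0
    have hψt : ∀ γ : ↥Γ, ψt γ = ψ γ := fun γ => dif_pos γ.2
    refine ⟨ψt, ?_, ?_⟩
    · have h1 := Cfsg.Agent.Lib.CT.Ops.isCharacter_comp_hom ε.symm.toMonoidHom hψ
      have h2 : (fun v : ↥(W'.map Γ.subtype) => ψt v) =
          fun v => (fun w : ↥W' => ψ w) (ε.symm.toMonoidHom v) := by
        funext v
        have h3 := hε (ε.symm v)
        rw [MulEquiv.apply_symm_apply] at h3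
        show ψt (v : G) = ψ ((ε.symm v : ↥W') : ↥Γ)
        rw [h3, hψt]
      rw [h2]
      exact h1
    · intro m
      have h1 := hψM ⟨⟨m, hMΓ m.2⟩, m.2⟩
      rw [subChar_apply] at h1
      have h2 := hψt ⟨m, hMΓ m.2⟩
      simp only at h2
      rw [h2]
      exact h1
  · rintro ⟨ψt, hψt, hψtM⟩
    refine ⟨fun γ : ↥Γ => ψt γ, ?_, ?_⟩
    · exact Cfsg.Agent.Lib.CT.Ops.isCharacter_comp_hom ε.toMonoidHom hψt
    · intro m
      rw [subChar_apply]
      exact hψtM ⟨((m : ↥Γ) : G), m.2⟩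

omit [Fintype G] in
include hMΓ in
theorem good_sub (x : ↥Γ) :
    Good (M.subgroupOf Γ) (subChar Γ M hMΓ η) x ↔ GoodIn Γ M η (x : G) := by
  have hmap : ∀ y : ↥Γ, (M.subgroupOf Γ ⊔ Subgroup.zpowers x ⊔ Subgroup.zpowers y).map
      Γ.subtype = M ⊔ Subgroup.zpowers (x : G) ⊔ Subgroup.zpowers (y : G) := by
    intro y
    rw [Subgroup.map_sup, Subgroup.map_sup, Subgroup.map_subgroupOf_eq_of_le hMΓ,
      MonoidHom.map_zpowers, MonoidHom.map_zpowers]
    rfl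
  constructor
  · intro h y hy hc
    have h1 := h ⟨y, hy⟩ hc
    rw [extTo_sub, hmap] at h1
    exact h1
  · intro h y hc
    have h1 := h y y.2 hc
    rw [extTo_sub, hmap]
    exact h1

/-- The count of the irreducible characters of `Γ` over an invariant character of `M`, read
off in a quotient. -/
theorem count_amb [Fintype ↥Γ] [Fintype ↥M] (hnorm : ∀ g ∈ Γ, ∀ m ∈ M, g * m * g⁻¹ ∈ M)
    (hinv : ∀ g ∈ Γ, ∀ m m' : ↥M, (m' : G) = g * m * g⁻¹ → η.1 m' = η.1 m)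
    {Q : Type u} [Group Q] [Fintype Q] (π : ↥Γ →* Q) (hπ : Function.Surjective π)
    (hker : ∀ g : ↥Γ, π g = 1 ↔ (g : G) ∈ M) :
    (Nat.card {χ : IrrCharacter ↥Γ //
        mult (fun m : ↥M => χ.1 (Subgroup.inclusion hMΓ m)) η ≠ 0} : ℂ) * (Nat.card Q : ℂ) =
      ∑ q : Q, ∑ r : Q,
        (if (r * q = q * r ∧ ∀ x : ↥Γ, π x = q → GoodIn Γ M η x) then (1 : ℂ) else 0) := by
  have hN : (M.subgroupOf Γ).Normal := by
    constructor
    intro n hn g
    rw [Subgroup.mem_subgroupOf] at hn ⊢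
    exact hnorm g g.2 n hn
  let _ : Fintype ↥(M.subgroupOf Γ) := Fintype.ofFinite _
  have hinv' : ∀ (g : ↥Γ) (m : ↥(M.subgroupOf Γ)),
      (subChar Γ M hMΓ η).1 (MulAut.conjNormal g m) = (subChar Γ M hMΓ η).1 m := by
    intro g m
    rw [subChar_apply, subChar_apply]
    exact hinv g g.2 ⟨((m : ↥Γ) : G), m.2⟩ _ rfl
  have hker' : ∀ g : ↥Γ, π g = 1 ↔ g ∈ M.subgroupOf Γ := by
    intro g
    rw [hker, Subgroup.mem_subgroupOf]
  have h1 := count_hom (M.subgroupOf Γ) (subChar Γ M hMΓ η) hinv' π hπ hker'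
  have h2 : Nat.card {χ : IrrCharacter ↥Γ //
      mult (res (M.subgroupOf Γ) χ.1) (subChar Γ M hMΓ η) ≠ 0} =
      Nat.card {χ : IrrCharacter ↥Γ //
        mult (fun m : ↥M => χ.1 (Subgroup.inclusion hMΓ m)) η ≠ 0} := by
    apply Nat.card_congr
    apply Equiv.subtypeEquivRight
    intro χ
    have h3 := Cfsg.Agent.Lib.Helper81.NSylF.mult_transfer (Subgroup.subgroupOfEquivOfLe hMΓ)
      (fun m : ↥M => χ.1 (Subgroup.inclusion hMΓ m)) (subChar Γ M hMΓ η)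
    have h4 : irrComp (Subgroup.subgroupOfEquivOfLe hMΓ).symm (subChar Γ M hMΓ η) = η :=
      irrComp_symm' (Subgroup.subgroupOfEquivOfLe hMΓ).symm η
    rw [h4] at h3
    have h5 : (fun c₀ : ↥(M.subgroupOf Γ) => (fun m : ↥M => χ.1 (Subgroup.inclusion hMΓ m))
        (Subgroup.subgroupOfEquivOfLe hMΓ c₀)) = res (M.subgroupOf Γ) χ.1 := by
      funext c₀
      rfl
    rw [h5] at h3
    rw [h3]
  rw [← h2, h1]
  apply Finset.sum_congr rfl
  intro q _
  apply Finset.sum_congr rfl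
  intro r _
  have hk : (∀ x : ↥Γ, π x = q → Good (M.subgroupOf Γ) (subChar Γ M hMΓ η) x) ↔
      (∀ x : ↥Γ, π x = q → GoodIn Γ M η x) := by
    constructor
    · intro h x hx
      exact (good_sub Γ M hMΓ η x).1 (h x hx)
    · intro h x hx
      exact (good_sub Γ M hMΓ η x).2 (h x hx)
  by_cases h : (r * q = q * r ∧ ∀ x : ↥Γ, π x = q → GoodIn Γ M η x)
  · rw [if_pos h, if_pos ⟨h.1, hk.2 h.2⟩]
  · rw [if_neg h, if_neg (fun h' => h ⟨h'.1, hk.1 h'.2⟩)]

end amb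

end Cfsg.Agent.Lib.Helper81.McKG
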