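import Mathlib
import Cfsg.Prelude.Def_Characters
import Cfsg.Agent.Lib.Helper81.McKG

set_option autoImplicit false
set_option linter.style.haveILetI false
set_option linter.unusedSectionVars false
set_option maxHeartbeats 1000000

/-!
# Characters over corresponding invariant characters: the local count
-/

namespace Cfsg.Agent.Lib.Helper81.McKH

open Cfsg
open Cfsg.Agent.Lib.Helper81.Irr Cfsg.Agent.Lib.Helper81.Basic Cfsg.Agent.Lib.Helper81.Expand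
  Cfsg.Agent.Lib.Helper81.Mult Cfsg.Agent.Lib.Helper81.Cliff Cfsg.Agent.Lib.Helper81.CliffCorr
  Cfsg.Agent.Lib.Helper81.McKA Cfsg.Agent.Lib.Helper81.NSylA Cfsg.Agent.Lib.Helper81.McKB
  Cfsg.Agent.Lib.Helper81.GlaubCore Cfsg.Agent.Lib.Helper81.Glaub
  Cfsg.Agent.Lib.Helper81.GlaubNormal Cfsg.Agent.Lib.Helper81.McKD Cfsg.Agent.Lib.Helper81.McKE
  Cfsg.Agent.Lib.Helper81.McKF Cfsg.Agent.Lib.Helper81.McKG Cfsg.Agent.Lib.Helper81.McKC
open Cfsg.Agent.Lib.Helper74.SubConj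
open scoped ComplexConjugate

universe u

section tools

variable {G : Type u} [Group G]

/-- A `p`-element of a `p'`-group is trivial. -/
theorem inter_trivial (p : ℕ) [Fact p.Prime] (K S : Subgroup G) [Finite ↥K]
    (hpK : ¬ p ∣ Nat.card K) (hS : IsPGroup p S) (g : G) (hgK : g ∈ K) (hgS : g ∈ S) : g = 1 := by
  have hp : p.Prime := Fact.out
  obtain ⟨k, hk⟩ := hS ⟨g, hgS⟩
  have hgk : g ^ (p ^ k) = 1 := by
    have := congrArg Subtype.val hk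
    simpa using this
  have h1 : orderOf g ∣ p ^ k := orderOf_dvd_of_pow_eq_one hgk
  have h2 : orderOf g ∣ Nat.card K := Subgroup.orderOf_dvd_natCard K hgK
  have hcop : Nat.Coprime (p ^ k) (Nat.card K) := by
    apply Nat.Coprime.pow_left
    rw [Nat.Prime.coprime_iff_not_dvd hp]
    exact hpK
  have h3 : orderOf g ∣ Nat.gcd (p ^ k) (Nat.card K) := Nat.dvd_gcd h1 h2
  rw [hcop, Nat.dvd_one, orderOf_eq_one_iff] at h3
  exact h3

/-- Commutators of a subgroup generated, modulo a normalised subgroup, by two commuting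
elements. -/
theorem comm_mod (N₁ M₁ : Subgroup G) (hM₁N₁ : M₁ ≤ N₁)
    (hnorm : ∀ n ∈ N₁, ∀ m ∈ M₁, n * m * n⁻¹ ∈ M₁) (x y : G) (hx : x ∈ N₁) (hy : y ∈ N₁)
    (hxy : y * x * y⁻¹ * x⁻¹ ∈ M₁) :
    ∀ b ∈ M₁ ⊔ Subgroup.zpowers x ⊔ Subgroup.zpowers y,
      ∀ b' ∈ M₁ ⊔ Subgroup.zpowers x ⊔ Subgroup.zpowers y, b * b' * b⁻¹ * b'⁻¹ ∈ M₁ := by
  -- the subgroup of elements commuting with `c` modulo `M₁`
  let Z : (c : G) → c ∈ N₁ → Subgroup G := fun c hc =>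
    { carrier := {b | b ∈ N₁ ∧ b * c * b⁻¹ * c⁻¹ ∈ M₁}
      mul_mem' := by
        rintro a b ⟨ha, ha'⟩ ⟨hb, hb'⟩
        refine ⟨N₁.mul_mem ha hb, ?_⟩
        have e : a * b * c * (a * b)⁻¹ * c⁻¹ =
            a * (b * c * b⁻¹ * c⁻¹) * a⁻¹ * (a * c * a⁻¹ * c⁻¹) := by group
        rw [e]
        exact M₁.mul_mem (hnorm a ha _ hb') ha'
      one_mem' := ⟨N₁.one_mem, by simp⟩
      inv_mem' := by
        rintro a ⟨ha, ha'⟩
        refine ⟨N₁.inv_mem ha, ?_⟩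
        have e : a⁻¹ * c * a⁻¹⁻¹ * c⁻¹ = a⁻¹ * (a * c * a⁻¹ * c⁻¹)⁻¹ * a⁻¹⁻¹ := by group
        rw [e]
        exact hnorm a⁻¹ (N₁.inv_mem ha) _ (M₁.inv_mem ha') }
  have hZM : ∀ (c : G) (hc : c ∈ N₁), M₁ ≤ Z c hc := by
    intro c hc m hm
    refine ⟨hM₁N₁ hm, ?_⟩
    have e : m * c * m⁻¹ * c⁻¹ = m * (c * m⁻¹ * c⁻¹) := by group
    rw [e]
    exact M₁.mul_mem hm (hnorm c hc _ (M₁.inv_mem hm))
  have hswap : ∀ a c : G, a * c * a⁻¹ * c⁻¹ ∈ M₁ → c * a * c⁻¹ * a⁻¹ ∈ M₁ := by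
    intro a c h
    have e : c * a * c⁻¹ * a⁻¹ = (a * c * a⁻¹ * c⁻¹)⁻¹ := by group
    rw [e]
    exact M₁.inv_mem h
  have hBN : M₁ ⊔ Subgroup.zpowers x ⊔ Subgroup.zpowers y ≤ N₁ := by
    apply sup_le (sup_le hM₁N₁ _)
    · rw [Subgroup.zpowers_le]
      exact hy
    · rw [Subgroup.zpowers_le]
      exact hx
  have hBx : M₁ ⊔ Subgroup.zpowers x ⊔ Subgroup.zpowers y ≤ Z x hx := by
    apply sup_le (sup_le (hZM x hx) _)
    · rw [Subgroup.zpowers_le]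
      exact ⟨hy, hxy⟩
    · rw [Subgroup.zpowers_le]
      exact ⟨hx, by simp⟩
  have hBy : M₁ ⊔ Subgroup.zpowers x ⊔ Subgroup.zpowers y ≤ Z y hy := by
    apply sup_le (sup_le (hZM y hy) _)
    · rw [Subgroup.zpowers_le]
      exact ⟨hy, by simp⟩
    · rw [Subgroup.zpowers_le]
      exact ⟨hx, hswap y x hxy⟩
  intro b hb b' hb'
  have hb'N : b' ∈ N₁ := hBN hb'
  have hle : M₁ ⊔ Subgroup.zpowers x ⊔ Subgroup.zpowers y ≤ Z b' hb'N := by
    apply sup_le (sup_le (hZM b' hb'N) _)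
    · rw [Subgroup.zpowers_le]
      exact ⟨hy, hswap b' y (hBy hb').2⟩
    · rw [Subgroup.zpowers_le]
      exact ⟨hx, hswap b' x (hBx hb').2⟩
  exact (hle hb).2

/-- The order of a join with a normalising subgroup divides the product of the orders. -/
theorem card_sup_dvd [Finite G] (K D : Subgroup G) (h : ∀ d ∈ D, ∀ k ∈ K, d * k * d⁻¹ ∈ K) :
    Nat.card ↥(K ⊔ D) ∣ Nat.card K * Nat.card D := by
  have hKW : K ≤ K ⊔ D := le_sup_left
  have hDW : D ≤ K ⊔ D := le_sup_right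
  have hKn : (K.subgroupOf (K ⊔ D)).Normal := by
    constructor
    intro n hn g
    rw [Subgroup.mem_subgroupOf] at hn ⊢
    obtain ⟨k, hk, d, hd, e⟩ := sup_factor K D h g g.2
    show (g : G) * (n : G) * (g : G)⁻¹ ∈ K
    have e2 : (g : G) * (n : G) * (g : G)⁻¹ = k * (d * n * d⁻¹) * k⁻¹ := by
      rw [e]
      group
    rw [e2]
    exact K.mul_mem (K.mul_mem hk (h d hd _ hn)) (K.inv_mem hk)
  let Q := ↥(K ⊔ D) ⧸ K.subgroupOf (K ⊔ D)
  let π : ↥(K ⊔ D) →* Q := QuotientGroup.mk' (K.subgroupOf (K ⊔ D))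
  have hπ : Function.Surjective π := QuotientGroup.mk'_surjective _
  have hker : ∀ w, π w = 1 ↔ w ∈ (Subgroup.inclusion hKW).range := by
    intro w
    show (QuotientGroup.mk w : Q) = 1 ↔ _
    rw [QuotientGroup.eq_one_iff, Subgroup.mem_subgroupOf]
    constructor
    · intro h
      exact ⟨⟨w, h⟩, Subtype.ext rfl⟩
    · rintro ⟨k, rfl⟩
      exact k.2
  have h1 : Nat.card ↥(K ⊔ D) = Nat.card ↥K * Nat.card Q :=
    card_of_surj_ker π hπ (Subgroup.inclusion hKW) (Subgroup.inclusion_injective hKW) hker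
  have h2 : Nat.card Q ∣ Nat.card ↥D := by
    apply Subgroup.card_dvd_of_surjective (π.comp (Subgroup.inclusion hDW))
    intro q
    obtain ⟨w, rfl⟩ := hπ q
    obtain ⟨k, hk, d, hd, e⟩ := sup_factor K D h w w.2
    refine ⟨⟨d, hd⟩, ?_⟩
    show (QuotientGroup.mk (Subgroup.inclusion hDW ⟨d, hd⟩) : Q) = QuotientGroup.mk w
    rw [QuotientGroup.eq, Subgroup.mem_subgroupOf]
    show d⁻¹ * (w : G) ∈ K
    rw [e]
    have e2 : d⁻¹ * (k * d) = d⁻¹ * k * d⁻¹⁻¹ := by group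
    rw [e2]
    exact h d⁻¹ (D.inv_mem hd) k hk
  rw [h1]
  exact Nat.mul_dvd_mul_left _ h2

variable [Fintype G]

/-- Extension across a factorisation, as an equivalence. -/
theorem ext_factor_iff (N H W K : Subgroup G) (hNW : N ≤ W) (hHW : H ≤ W)
    (hfac : ∀ w ∈ W, ∃ n ∈ N, ∃ h ∈ H, w = n * h)
    (hnorm : ∀ h ∈ H, ∀ n ∈ N, h * n * h⁻¹ ∈ N) (η : IrrCharacter ↥N)
    (hinv : ∀ h ∈ H, ∀ n n' : ↥N, (n' : G) = h * n * h⁻¹ → η.1 n' = η.1 n)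
    (hKN : K ≤ N) (hKH : K ≤ H) (hNH : ∀ g ∈ N, g ∈ H → g ∈ K) (θ : IrrCharacter ↥K)
    (hηθ : ∀ k : ↥K, η.1 (Subgroup.inclusion hKN k) = θ.1 k) :
    ExtTo N η W ↔ ExtTo K θ H := by
  constructor
  · rintro ⟨χ, hχ, hχN⟩
    refine ⟨χ, Cfsg.Agent.Lib.CT.Ops.isCharacter_comp_hom (Subgroup.inclusion hHW) hχ, ?_⟩
    intro k
    rw [← hηθ k]
    exact hχN ⟨k, hKN k.2⟩
  · rintro ⟨ψ₀, hψ₀, hψ₀K⟩
    have hle : N ⊓ H ≤ K := fun g hg => hNH g hg.1 hg.2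
    have hsurj : Function.Surjective (Subgroup.inclusion hle) := by
      intro k
      exact ⟨⟨k, ⟨hKN k.2, hKH k.2⟩⟩, Subtype.ext rfl⟩
    have hirr : IsIrrCharacter ↥(N ⊓ H) (fun d => η.1 ⟨d, d.2.1⟩) := by
      have h1 := isIrrCharacter_comp θ.2 (Subgroup.inclusion hle) hsurj
      have h2 : (fun d : ↥(N ⊓ H) => η.1 ⟨d, d.2.1⟩) =
          fun d => θ.1 (Subgroup.inclusion hle d) := by
        funext d
        rw [← hηθ]
        rfl
      rw [h2]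
      exact h1
    obtain ⟨χ, hχ, hχN, -⟩ := ext_factor N H W hNW hHW hfac
      (fun h hh n => norm_iff H N hnorm h hh n) η.1 η.2
      (fun h hh n => hinv h hh n _ rfl) (fun h : ↥H => ψ₀ h) hψ₀
      (fun d hdN hdH => by
        have h1 := hψ₀K ⟨d, hNH d hdN hdH⟩
        have h2 := hηθ ⟨d, hNH d hdN hdH⟩
        show η.1 ⟨d, hdN⟩ = ψ₀ d
        rw [h1]
        exact h2) hirr
    exact ⟨χ, hχ, hχN⟩

/-- Goodness depends only on the coset. -/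
theorem goodIn_congr (Γ M : Subgroup G) (hMΓ : M ≤ Γ)
    (hnorm : ∀ g ∈ Γ, ∀ m ∈ M, g * m * g⁻¹ ∈ M) (η : IrrCharacter ↥M) (x x' : G)
    (h : x' * x⁻¹ ∈ M) (hg : GoodIn Γ M η x) : GoodIn Γ M η x' := by
  intro y hy hc
  have h1 : y * x * y⁻¹ * x⁻¹ ∈ M := by
    have e : y * x * y⁻¹ * x⁻¹ =
        (y * (x' * x⁻¹) * y⁻¹)⁻¹ * (y * x' * y⁻¹ * x'⁻¹) * (x' * x⁻¹) := by group
    rw [e]
    exact M.mul_mem (M.mul_mem (M.inv_mem (hnorm y hy _ h)) hc) h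
  have h2 := hg y hy h1
  have h3 : M ⊔ Subgroup.zpowers x' = M ⊔ Subgroup.zpowers x := by
    apply le_antisymm
    · apply sup_le le_sup_left
      rw [Subgroup.zpowers_le]
      have e : x' = (x' * x⁻¹) * x := by group
      rw [e]
      exact Subgroup.mul_mem _ (Subgroup.mem_sup_left h)
        (Subgroup.mem_sup_right (Subgroup.mem_zpowers x))
    · apply sup_le le_sup_left
      rw [Subgroup.zpowers_le]
      have e : x = (x' * x⁻¹)⁻¹ * x' := by group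
      rw [e]
      exact Subgroup.mul_mem _ (Subgroup.mem_sup_left (M.inv_mem h))
        (Subgroup.mem_sup_right (Subgroup.mem_zpowers x'))
  rw [h3]
  exact h2

end tools

section star

variable {G : Type u} [Group G] [Fintype G] (p : ℕ) [Fact p.Prime]
  (Γ M K₀ S N M' C₀ : Subgroup G) [Fintype ↥M] [Fintype ↥K₀] [Fintype ↥M'] [Fintype ↥C₀]
  (hK₀M : K₀ ≤ M) (hSM : S ≤ M) (hMΓ : M ≤ Γ)
  (hfacM : ∀ m ∈ M, ∃ k ∈ K₀, ∃ s ∈ S, m = k * s)
  (hnM : ∀ g ∈ Γ, ∀ m ∈ M, g * m * g⁻¹ ∈ M) (hnK₀ : ∀ g ∈ Γ, ∀ k ∈ K₀, g * k * g⁻¹ ∈ K₀)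
  (hpK₀ : ¬ p ∣ Nat.card K₀) (hS : IsPGroup p S) (hSyl : ¬ p ∣ S.relIndex Γ)
  (hN : ∀ g, g ∈ N ↔ g ∈ Γ ∧ ∀ s, s ∈ S ↔ g * s * g⁻¹ ∈ S)
  (hM' : ∀ g, g ∈ M' ↔ g ∈ M ∧ g ∈ N) (hC₀ : ∀ g, g ∈ C₀ ↔ g ∈ K₀ ∧ g ∈ N)
  (η : IrrCharacter ↥M)
  (hηinv : ∀ g ∈ Γ, ∀ m m' : ↥M, (m' : G) = g * m * g⁻¹ → η.1 m' = η.1 m)
  (θ : IrrCharacter ↥K₀) (hηθ : ∀ k : ↥K₀, η.1 (Subgroup.inclusion hK₀M k) = θ.1 k)
  (η' : IrrCharacter ↥M')
  (hη'inv : ∀ g ∈ N, ∀ m m' : ↥M', (m' : G) = g * m * g⁻¹ → η'.1 m' = η'.1 m)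
  (θ' : IrrCharacter ↥C₀) (hC₀M' : C₀ ≤ M')
  (hη'θ' : ∀ c : ↥C₀, η'.1 (Subgroup.inclusion hC₀M' c) = θ'.1 c)
  (hC₀K₀ : C₀ ≤ K₀)
  (hθθ' : ¬ p ∣ mult (fun c : ↥C₀ => θ.1 (Subgroup.inclusion hC₀K₀ c)) θ')

include hSM hMΓ hfacM hnM hnK₀ hpK₀ hS hSyl hN hM' hC₀ hηinv hηθ hη'inv hη'θ' hθθ' in
/-- The heart of the local count: extendibility to a two-generator overgroup transfers. -/
theorem star_core (x y : G) (hx : x ∈ N) (hy : y ∈ N) (hxy : y * x * y⁻¹ * x⁻¹ ∈ M') :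
    ExtTo M η (M ⊔ Subgroup.zpowers x ⊔ Subgroup.zpowers y) ↔
      ExtTo M' η' (M' ⊔ Subgroup.zpowers x ⊔ Subgroup.zpowers y) := by
  classical
  have hp : p.Prime := Fact.out
  have hNΓ : N ≤ Γ := fun g hg => ((hN g).1 hg).1
  have hM'M : M' ≤ M := fun g hg => ((hM' g).1 hg).1
  have hM'N : M' ≤ N := fun g hg => ((hM' g).1 hg).2
  have hSΓ : S ≤ Γ := hSM.trans hMΓ
  have hSN : S ≤ N := by
    intro s hs
    refine (hN s).2 ⟨hSΓ hs, fun t => ?_⟩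
    constructor
    · intro ht
      exact S.mul_mem (S.mul_mem hs ht) (S.inv_mem hs)
    · intro ht
      have e : t = s⁻¹ * (s * t * s⁻¹) * s := by group
      rw [e]
      exact S.mul_mem (S.mul_mem (S.inv_mem hs) ht) hs
  have hSM' : S ≤ M' := fun s hs => (hM' s).2 ⟨hSM hs, hSN hs⟩
  have hNS : ∀ g ∈ N, ∀ s ∈ S, g * s * g⁻¹ ∈ S := fun g hg s hs => (((hN g).1 hg).2 s).1 hs
  have hNM' : ∀ g ∈ N, ∀ m ∈ M', g * m * g⁻¹ ∈ M' := by
    intro g hg m hm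
    exact (hM' _).2 ⟨hnM g (hNΓ hg) m (hM'M hm),
      N.mul_mem (N.mul_mem hg (hM'N hm)) (N.inv_mem hg)⟩
  have hC₀N : C₀ ≤ N := fun g hg => ((hC₀ g).1 hg).2
  have hNC₀ : ∀ g ∈ N, ∀ c ∈ C₀, g * c * g⁻¹ ∈ C₀ := by
    intro g hg c hc
    exact (hC₀ _).2 ⟨hnK₀ g (hNΓ hg) c (hC₀K₀ hc),
      N.mul_mem (N.mul_mem hg (hC₀N hc)) (N.inv_mem hg)⟩
  have hKS : ∀ g ∈ K₀, g ∈ S → g = 1 :=
    fun g hgK hgS => inter_trivial p K₀ S hpK₀ hS g hgK hgS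
  have hC₀S : ∀ c ∈ C₀, ∀ s ∈ S, c * s * c⁻¹ = s := by
    intro c hc s hs
    have h1 : c * s * c⁻¹ * s⁻¹ ∈ S := S.mul_mem (hNS c (hC₀N hc) s hs) (S.inv_mem hs)
    have h2 : c * s * c⁻¹ * s⁻¹ ∈ K₀ := by
      have e : c * s * c⁻¹ * s⁻¹ = c * (s * c⁻¹ * s⁻¹) := by group
      rw [e]
      exact K₀.mul_mem (hC₀K₀ hc) (hnK₀ s (hSΓ hs) _ (K₀.inv_mem (hC₀K₀ hc)))
    have h3 := hKS _ h2 h1
    calc c * s * c⁻¹ = (c * s * c⁻¹ * s⁻¹) * s := by group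
      _ = s := by rw [h3, one_mul]
  have hfacM' : ∀ m ∈ M', ∃ c ∈ C₀, ∃ s ∈ S, m = c * s := by
    intro m hm
    obtain ⟨k, hk, s, hs, e⟩ := hfacM m (hM'M hm)
    refine ⟨k, (hC₀ k).2 ⟨hk, ?_⟩, s, hs, e⟩
    have e2 : k = m * s⁻¹ := by
      rw [e]
      group
    rw [e2]
    exact N.mul_mem (hM'N hm) (N.inv_mem (hSN hs))
  -- the group `B`
  have hBN : M' ⊔ Subgroup.zpowers x ⊔ Subgroup.zpowers y ≤ N := by
    apply sup_le (sup_le hM'N _)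
    · rw [Subgroup.zpowers_le]
      exact hy
    · rw [Subgroup.zpowers_le]
      exact hx
  have hM'B : M' ≤ M' ⊔ Subgroup.zpowers x ⊔ Subgroup.zpowers y :=
    le_sup_left.trans le_sup_left
  have hSB : S ≤ M' ⊔ Subgroup.zpowers x ⊔ Subgroup.zpowers y := hSM'.trans hM'B
  have hSBn : (S.subgroupOf (M' ⊔ Subgroup.zpowers x ⊔ Subgroup.zpowers y)).Normal := by
    constructor
    intro n hn g
    rw [Subgroup.mem_subgroupOf] at hn ⊢
    exact hNS g (hBN g.2) n hn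
  have hcardS : Nat.card ↥(S.subgroupOf (M' ⊔ Subgroup.zpowers x ⊔ Subgroup.zpowers y)) =
      Nat.card ↥S := Nat.card_congr (Subgroup.subgroupOfEquivOfLe hSB).toEquiv
  have hpidx : ¬ p ∣ (S.subgroupOf (M' ⊔ Subgroup.zpowers x ⊔ Subgroup.zpowers y)).index := by
    intro hd
    apply hSyl
    have h2 : S.relIndex (M' ⊔ Subgroup.zpowers x ⊔ Subgroup.zpowers y) *
        (M' ⊔ Subgroup.zpowers x ⊔ Subgroup.zpowers y).relIndex Γ = S.relIndex Γ :=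
      Subgroup.relIndex_mul_relIndex S _ Γ hSB (hBN.trans hNΓ)
    rw [← h2]
    exact Dvd.dvd.mul_right hd _
  obtain ⟨nS, hnS⟩ := IsPGroup.iff_card.1 hS
  have hcop : Nat.Coprime
      (Nat.card ↥(S.subgroupOf (M' ⊔ Subgroup.zpowers x ⊔ Subgroup.zpowers y)))
      (S.subgroupOf (M' ⊔ Subgroup.zpowers x ⊔ Subgroup.zpowers y)).index := by
    rw [hcardS, hnS]
    apply Nat.Coprime.pow_left
    rw [Nat.Prime.coprime_iff_not_dvd hp]
    exact hpidx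
  obtain ⟨Db, hDb⟩ := Subgroup.exists_right_complement'_of_coprime hcop
  have hDB : Db.map (M' ⊔ Subgroup.zpowers x ⊔ Subgroup.zpowers y).subtype ≤
      M' ⊔ Subgroup.zpowers x ⊔ Subgroup.zpowers y := by
    rintro _ ⟨d, -, rfl⟩
    exact d.2
  have hfacB : ∀ b ∈ M' ⊔ Subgroup.zpowers x ⊔ Subgroup.zpowers y, ∃ s ∈ S,
      ∃ d ∈ Db.map (M' ⊔ Subgroup.zpowers x ⊔ Subgroup.zpowers y).subtype, b = s * d := by
    intro b hb
    obtain ⟨⟨s, d⟩, hsd, -⟩ := (Subgroup.isComplement_iff_existsUnique.1 hDb) ⟨b, hb⟩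
    refine ⟨s.1.1, s.2, d.1.1, ⟨d.1, d.2, rfl⟩, ?_⟩
    have h1 := congrArg Subtype.val hsd
    exact h1.symm
  have hSD : ∀ g ∈ S, g ∈ Db.map (M' ⊔ Subgroup.zpowers x ⊔ Subgroup.zpowers y).subtype →
      g = 1 := by
    rintro g hgS ⟨d, hd, rfl⟩
    have h1 : d ∈ S.subgroupOf (M' ⊔ Subgroup.zpowers x ⊔ Subgroup.zpowers y) ⊓ Db :=
      ⟨hgS, hd⟩
    rw [hDb.disjoint.eq_bot, Subgroup.mem_bot] at h1
    rw [h1]
    rfl
  have hcardB : Nat.card ↥(S.subgroupOf (M' ⊔ Subgroup.zpowers x ⊔ Subgroup.zpowers y)) *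
      Nat.card ↥Db = Nat.card ↥(M' ⊔ Subgroup.zpowers x ⊔ Subgroup.zpowers y) := hDb.card_mul_card
  have hcardD : Nat.card ↥(Db.map (M' ⊔ Subgroup.zpowers x ⊔ Subgroup.zpowers y).subtype) =
      Nat.card ↥Db :=
    Nat.card_congr (Subgroup.equivMapOfInjective Db _ Subtype.coe_injective).toEquiv.symm
  have hpD : ¬ p ∣ Nat.card ↥(Db.map (M' ⊔ Subgroup.zpowers x ⊔ Subgroup.zpowers y).subtype) := by
    have h3 := Subgroup.card_mul_index
      (S.subgroupOf (M' ⊔ Subgroup.zpowers x ⊔ Subgroup.zpowers y))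
    have h4 : Nat.card ↥Db =
        (S.subgroupOf (M' ⊔ Subgroup.zpowers x ⊔ Subgroup.zpowers y)).index :=
      Nat.eq_of_mul_eq_mul_left Nat.card_pos (hcardB.trans h3.symm)
    rw [hcardD, h4]
    exact hpidx
  have hDC₀n : ∀ d ∈ Db.map (M' ⊔ Subgroup.zpowers x ⊔ Subgroup.zpowers y).subtype,
      ∀ c ∈ C₀, d * c * d⁻¹ ∈ C₀ := fun d hd => hNC₀ d (hBN (hDB hd))
  have hpC₀ : ¬ p ∣ Nat.card C₀ := fun hd => hpK₀ (hd.trans (Subgroup.card_dvd_of_le hC₀K₀))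
  have hC₀D : C₀ ≤ Db.map (M' ⊔ Subgroup.zpowers x ⊔ Subgroup.zpowers y).subtype := by
    have h1 := card_sup_dvd C₀ _ hDC₀n
    have h2 : ¬ p ∣ Nat.card
        ↥(C₀ ⊔ Db.map (M' ⊔ Subgroup.zpowers x ⊔ Subgroup.zpowers y).subtype) := by
      intro hd
      rcases (Nat.Prime.dvd_mul hp).1 (hd.trans h1) with h | h
      · exact hpC₀ h
      · exact hpD h
    have hC₀B : C₀ ≤ M' ⊔ Subgroup.zpowers x ⊔ Subgroup.zpowers y := hC₀M'.trans hM'B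
    have h3 : Nat.card
        ↥(C₀ ⊔ Db.map (M' ⊔ Subgroup.zpowers x ⊔ Subgroup.zpowers y).subtype) ∣
        Nat.card ↥(M' ⊔ Subgroup.zpowers x ⊔ Subgroup.zpowers y) :=
      Subgroup.card_dvd_of_le (sup_le hC₀B hDB)
    rw [← hcardB, hcardS, ← hcardD] at h3
    have hcop2 : Nat.Coprime
        (Nat.card ↥(C₀ ⊔ Db.map (M' ⊔ Subgroup.zpowers x ⊔ Subgroup.zpowers y).subtype))
        (Nat.card ↥S) := by
      rw [hnS]
      apply Nat.Coprime.pow_right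
      rw [Nat.coprime_comm, Nat.Prime.coprime_iff_not_dvd hp]
      exact h2
    have h4 := hcop2.dvd_of_dvd_mul_left h3
    have h5 : Db.map (M' ⊔ Subgroup.zpowers x ⊔ Subgroup.zpowers y).subtype =
        C₀ ⊔ Db.map (M' ⊔ Subgroup.zpowers x ⊔ Subgroup.zpowers y).subtype :=
      Subgroup.eq_of_le_of_card_ge le_sup_right (Nat.le_of_dvd Nat.card_pos h4)
    rw [h5]
    exact le_sup_left
  have hDM' : ∀ g ∈ Db.map (M' ⊔ Subgroup.zpowers x ⊔ Subgroup.zpowers y).subtype,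
      g ∈ M' → g ∈ C₀ := by
    intro g hgD hgM'
    obtain ⟨c, hc, s, hs, e⟩ := hfacM' g hgM'
    have hsD : s ∈ Db.map (M' ⊔ Subgroup.zpowers x ⊔ Subgroup.zpowers y).subtype := by
      have e2 : s = c⁻¹ * g := by
        rw [e]
        group
      rw [e2]
      exact Subgroup.mul_mem _ (Subgroup.inv_mem _ (hC₀D hc)) hgD
    have hs1 := hSD s hs hsD
    rw [e, hs1, mul_one]
    exact hc
  have hcommB := comm_mod N M' hM'N hNM' x y hx hy hxy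
  have hcommD : ∀ d ∈ Db.map (M' ⊔ Subgroup.zpowers x ⊔ Subgroup.zpowers y).subtype,
      ∀ d' ∈ Db.map (M' ⊔ Subgroup.zpowers x ⊔ Subgroup.zpowers y).subtype,
      d * d' * d⁻¹ * d'⁻¹ ∈ K₀ := by
    intro d hd d' hd'
    apply hC₀K₀
    apply hDM' _ (Subgroup.mul_mem _ (Subgroup.mul_mem _ (Subgroup.mul_mem _ hd hd')
      (Subgroup.inv_mem _ hd)) (Subgroup.inv_mem _ hd'))
    exact hcommB d (hDB hd) d' (hDB hd')
  have hDΓ : Db.map (M' ⊔ Subgroup.zpowers x ⊔ Subgroup.zpowers y).subtype ≤ Γ :=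
    hDB.trans (hBN.trans hNΓ)
  have hDK₀ : ∀ d ∈ Db.map (M' ⊔ Subgroup.zpowers x ⊔ Subgroup.zpowers y).subtype,
      ∀ k ∈ K₀, d * k * d⁻¹ ∈ K₀ := fun d hd => hnK₀ d (hDΓ hd)
  have hxB : x ∈ M' ⊔ Subgroup.zpowers x ⊔ Subgroup.zpowers y :=
    Subgroup.mem_sup_left (Subgroup.mem_sup_right (Subgroup.mem_zpowers x))
  have hyB : y ∈ M' ⊔ Subgroup.zpowers x ⊔ Subgroup.zpowers y :=
    Subgroup.mem_sup_right (Subgroup.mem_zpowers y)
  have hW : M ⊔ Subgroup.zpowers x ⊔ Subgroup.zpowers y =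
      M ⊔ (M' ⊔ Subgroup.zpowers x ⊔ Subgroup.zpowers y) := by
    apply le_antisymm
    · apply sup_le (sup_le le_sup_left _)
      · rw [Subgroup.zpowers_le]
        exact Subgroup.mem_sup_right hyB
      · rw [Subgroup.zpowers_le]
        exact Subgroup.mem_sup_right hxB
    · apply sup_le (le_sup_left.trans le_sup_left)
      exact sup_le_sup (sup_le_sup hM'M le_rfl) le_rfl
  have hBM : ∀ b ∈ M' ⊔ Subgroup.zpowers x ⊔ Subgroup.zpowers y, ∀ m ∈ M, b * m * b⁻¹ ∈ M :=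
    fun b hb => hnM b (hNΓ (hBN hb))
  have hHΓ : K₀ ⊔ Db.map (M' ⊔ Subgroup.zpowers x ⊔ Subgroup.zpowers y).subtype ≤ Γ :=
    sup_le (hK₀M.trans hMΓ) hDΓ
  have ha : ExtTo M η (M ⊔ (M' ⊔ Subgroup.zpowers x ⊔ Subgroup.zpowers y)) ↔
      ExtTo K₀ θ (K₀ ⊔ Db.map (M' ⊔ Subgroup.zpowers x ⊔ Subgroup.zpowers y).subtype) := by
    apply ext_factor_iff M _ _ K₀ le_sup_left
      (sup_le (hK₀M.trans le_sup_left) (hDB.trans le_sup_right)) ?_ ?_ η ?_ hK₀M le_sup_left ?_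
      θ hηθ
    · intro w hw
      obtain ⟨m, hm, b, hb, e⟩ := sup_factor M _ hBM w hw
      obtain ⟨s, hs, d, hd, e2⟩ := hfacB b hb
      refine ⟨m * s, M.mul_mem hm (hSM hs), d, Subgroup.mem_sup_right hd, ?_⟩
      rw [e, e2, mul_assoc]
    · intro h hh
      exact hnM h (hHΓ hh)
    · intro h hh n n' hn'
      exact hηinv h (hHΓ hh) n n' hn'
    · intro g hgM hgH
      obtain ⟨k, hk, d, hd, e⟩ := sup_factor K₀ _ hDK₀ g hgH
      have hdM : d ∈ M := by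
        have e2 : d = k⁻¹ * g := by
          rw [e]
          group
        rw [e2]
        exact M.mul_mem (M.inv_mem (hK₀M hk)) hgM
      have hdM' : d ∈ M' := (hM' d).2 ⟨hdM, hBN (hDB hd)⟩
      rw [e]
      exact K₀.mul_mem hk (hC₀K₀ (hDM' d hd hdM'))
  have hc : ExtTo M' η' (M' ⊔ Subgroup.zpowers x ⊔ Subgroup.zpowers y) ↔
      ExtTo C₀ θ' (Db.map (M' ⊔ Subgroup.zpowers x ⊔ Subgroup.zpowers y).subtype) := by
    apply ext_factor_iff M' _ _ C₀ hM'B hDB ?_ ?_ η' ?_ hC₀M' hC₀D ?_ θ' hη'θ'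
    · intro b hb
      obtain ⟨s, hs, d, hd, e⟩ := hfacB b hb
      exact ⟨s, hSM' hs, d, hd, e⟩
    · intro h hh
      exact hNM' h (hBN (hDB hh))
    · intro h hh n n' hn'
      exact hη'inv h (hBN (hDB hh)) n n' hn'
    · intro g hgM' hgD
      exact hDM' g hgD hgM'
  -- the transfer of extendibility
  have hSK₀ : ∀ s ∈ S, ∀ k ∈ K₀, s * k * s⁻¹ ∈ K₀ := fun s hs => hnK₀ s (hSΓ hs)
  have hA : IsPGroup p (conjHom K₀ S hSK₀).range :=
    hS.of_surjective (conjHom K₀ S hSK₀).rangeRestrict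
      (conjHom K₀ S hSK₀).rangeRestrict_surjective
  have hDA : ∀ d : ↥(Db.map (M' ⊔ Subgroup.zpowers x ⊔ Subgroup.zpowers y).subtype),
      ∀ a ∈ (conjHom K₀ S hSK₀).range,
      conjHom K₀ _ hDK₀ d * a * (conjHom K₀ _ hDK₀ d)⁻¹ ∈ (conjHom K₀ S hSK₀).range := by
    rintro d _ ⟨s, rfl⟩
    refine ⟨⟨(d : G) * s * (d : G)⁻¹, hNS d (hBN (hDB d.2)) s s.2⟩, ?_⟩
    apply MulEquiv.ext
    intro k
    apply Subtype.ext
    have hk' : (d : G)⁻¹ * k * d ∈ K₀ := by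
      have := hDK₀ (d : G)⁻¹ (Subgroup.inv_mem _ d.2) k k.2
      rwa [inv_inv] at this
    have h1 := conj_elem K₀ _ hDK₀ d (conjHom K₀ S hSK₀ s) ⟨(d : G)⁻¹ * k * d, hk'⟩ k (by
      show (k : G) = d * ((d : G)⁻¹ * k * d) * (d : G)⁻¹
      group)
    rw [h1]
    show ((d : G) * s * (d : G)⁻¹) * k * ((d : G) * s * (d : G)⁻¹)⁻¹ =
      d * (s * ((d : G)⁻¹ * k * d) * (s : G)⁻¹) * (d : G)⁻¹
    group
  have hCfix : ∀ g, g ∈ C₀ ↔
      ∃ hk : g ∈ K₀, ∀ a ∈ (conjHom K₀ S hSK₀).range, a ⟨g, hk⟩ = ⟨g, hk⟩ := by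
    intro g
    constructor
    · intro hg
      refine ⟨hC₀K₀ hg, ?_⟩
      rintro _ ⟨s, rfl⟩
      apply Subtype.ext
      show (s : G) * g * (s : G)⁻¹ = g
      have h1 := hC₀S g hg s s.2
      have h2 : g * s = s * g := by
        calc g * s = (g * s * g⁻¹) * g := by group
          _ = s * g := by rw [h1]
      rw [← h2]
      group
    · rintro ⟨hk, h⟩
      have hcent : ∀ t ∈ S, g * t * g⁻¹ = t := by
        intro t ht
        have h1 : t * g * t⁻¹ = g :=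
          congrArg Subtype.val (h (conjHom K₀ S hSK₀ ⟨t, ht⟩) ⟨_, rfl⟩)
        have h2 : t * g = g * t := by
          calc t * g = (t * g * t⁻¹) * t := by group
            _ = g * t := by rw [h1]
        rw [← h2]
        group
      refine (hC₀ g).2 ⟨hk, (hN g).2 ⟨(hK₀M.trans hMΓ) hk, fun s => ?_⟩⟩
      constructor
      · intro hs
        rw [hcent s hs]
        exact hs
      · intro hs
        have h2 := hcent _ hs
        have h3 : g * s * g⁻¹ = s := mul_left_cancel (mul_right_cancel h2)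
        rw [← h3]
        exact hs
  have hKD : ∀ g ∈ K₀, g ∈ Db.map (M' ⊔ Subgroup.zpowers x ⊔ Subgroup.zpowers y).subtype →
      g ∈ C₀ := fun g hgK hgD => (hC₀ g).2 ⟨hgK, hBN (hDB hgD)⟩
  have hθA : ∀ a ∈ (conjHom K₀ S hSK₀).range, ∀ k, θ.1 (a k) = θ.1 k := by
    rintro _ ⟨s, rfl⟩ k
    rw [← hηθ, ← hηθ]
    exact hηinv s (hSΓ s.2) _ _ rfl
  have hb := lemE p _ C₀ θ' hC₀D hpD K₀ (conjHom K₀ S hSK₀).range hDK₀ hA hDA hCfix hKD hcommD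
    hpK₀ θ hθA hC₀K₀ hθθ'
  rw [hW]
  exact ha.trans (hb.trans hc.symm)

include hSM hMΓ hfacM hnM hnK₀ hpK₀ hS hSyl hN hM' hC₀ hηinv hηθ hη'inv hη'θ' hθθ' in
/-- The local count: corresponding invariant characters of `M` and of `M ⊓ N` lie under equally
many irreducible characters of `Γ` and of `N`. -/
theorem star [Fintype ↥Γ] [Fintype ↥N] (hFrat : ∀ g ∈ Γ, ∃ m ∈ M, ∃ n ∈ N, g = m * n)
    (hM'N : M' ≤ N) :
    Nat.card {χ : IrrCharacter ↥Γ //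
        mult (fun m : ↥M => χ.1 (Subgroup.inclusion hMΓ m)) η ≠ 0} =
      Nat.card {ψ : IrrCharacter ↥N //
        mult (fun m : ↥M' => ψ.1 (Subgroup.inclusion hM'N m)) η' ≠ 0} := by
  classical
  have hNΓ : N ≤ Γ := fun g hg => ((hN g).1 hg).1
  have hM'M : M' ≤ M := fun g hg => ((hM' g).1 hg).1
  have hNM' : ∀ g ∈ N, ∀ m ∈ M', g * m * g⁻¹ ∈ M' := by
    intro g hg m hm
    exact (hM' _).2 ⟨hnM g (hNΓ hg) m (hM'M hm),
      N.mul_mem (N.mul_mem hg (hM'N hm)) (N.inv_mem hg)⟩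
  have hMn : (M.subgroupOf Γ).Normal := by
    constructor
    intro n hn g
    rw [Subgroup.mem_subgroupOf] at hn ⊢
    exact hnM g g.2 n hn
  let Q := ↥Γ ⧸ M.subgroupOf Γ
  let _ : Fintype Q := Fintype.ofFinite _
  let π : ↥Γ →* Q := QuotientGroup.mk' (M.subgroupOf Γ)
  have hπ : Function.Surjective π := QuotientGroup.mk'_surjective _
  have hker : ∀ g : ↥Γ, π g = 1 ↔ (g : G) ∈ M := by
    intro g
    show (QuotientGroup.mk g : Q) = 1 ↔ _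
    rw [QuotientGroup.eq_one_iff, Subgroup.mem_subgroupOf]
  have hπeq : ∀ g g' : ↥Γ, π g = π g' ↔ (g : G)⁻¹ * (g' : G) ∈ M := by
    intro g g'
    show (QuotientGroup.mk g : Q) = QuotientGroup.mk g' ↔ _
    rw [QuotientGroup.eq, Subgroup.mem_subgroupOf]
    rfl
  let π' : ↥N →* Q := π.comp (Subgroup.inclusion hNΓ)
  have hFratπ : ∀ (g : ↥Γ) (m n : G) (hn : n ∈ N), m ∈ M → (g : G) = m * n →
      π ⟨n, hNΓ hn⟩ = π g := by
    intro g m n hn hm e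
    rw [hπeq]
    show n⁻¹ * (g : G) ∈ M
    rw [e]
    have e2 : n⁻¹ * (m * n) = n⁻¹ * m * n⁻¹⁻¹ := by group
    rw [e2]
    exact hnM n⁻¹ (Γ.inv_mem (hNΓ hn)) m hm
  have hπ' : Function.Surjective π' := by
    intro q
    obtain ⟨g, rfl⟩ := hπ q
    obtain ⟨m, hm, n, hn, e⟩ := hFrat g g.2
    exact ⟨⟨n, hn⟩, hFratπ g m n hn hm e⟩
  have hker' : ∀ g : ↥N, π' g = 1 ↔ (g : G) ∈ M' := by
    intro g
    show π (Subgroup.inclusion hNΓ g) = 1 ↔ _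
    rw [hker, hM']
    exact ⟨fun h => ⟨h, g.2⟩, fun h => h.1⟩
  have h1 := count_amb Γ M hMΓ η hnM hηinv π hπ hker
  have h2 := count_amb N M' hM'N η' hNM' hη'inv π' hπ' hker'
  have hcore := star_core p Γ M K₀ S N M' C₀ hK₀M hSM hMΓ hfacM hnM hnK₀ hpK₀ hS hSyl hN hM'
    hC₀ η hηinv θ hηθ η' hη'inv θ' hC₀M' hη'θ' hC₀K₀ hθθ'
  have key1 : ∀ x ∈ N, GoodIn Γ M η x ↔ GoodIn N M' η' x := by
    intro x hx
    constructor
    · intro h y hy hc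
      exact (hcore x y hx hy hc).1 (h y (hNΓ hy) (hM'M hc))
    · intro h y hy hc
      obtain ⟨m, hm, y₁, hy₁, e⟩ := hFrat y hy
      have hc₁ : y₁ * x * y₁⁻¹ * x⁻¹ ∈ M' := by
        refine (hM' _).2 ⟨?_, N.mul_mem (N.mul_mem (N.mul_mem hy₁ hx) (N.inv_mem hy₁))
          (N.inv_mem hx)⟩
        have e2 : y₁ * x * y₁⁻¹ * x⁻¹ = m⁻¹ * (y * x * y⁻¹ * x⁻¹) * (x * m * x⁻¹) := by
          rw [e]
          group
        rw [e2]
        exact M.mul_mem (M.mul_mem (M.inv_mem hm) hc) (hnM x (hNΓ hx) m hm)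
      have h3 := (hcore x y₁ hx hy₁ hc₁).2 (h y₁ hy₁ hc₁)
      have hsup : M ⊔ Subgroup.zpowers x ⊔ Subgroup.zpowers y =
          M ⊔ Subgroup.zpowers x ⊔ Subgroup.zpowers y₁ := by
        apply le_antisymm
        · apply sup_le le_sup_left
          rw [Subgroup.zpowers_le, e]
          exact Subgroup.mul_mem _ (Subgroup.mem_sup_left (Subgroup.mem_sup_left hm))
            (Subgroup.mem_sup_right (Subgroup.mem_zpowers y₁))
        · apply sup_le le_sup_left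
          rw [Subgroup.zpowers_le]
          have e3 : y₁ = m⁻¹ * y := by
            rw [e]
            group
          rw [e3]
          exact Subgroup.mul_mem _
            (Subgroup.mem_sup_left (Subgroup.mem_sup_left (M.inv_mem hm)))
            (Subgroup.mem_sup_right (Subgroup.mem_zpowers y))
      rw [hsup]
      exact h3
  have hkey : ∀ q : Q, (∀ x : ↥Γ, π x = q → GoodIn Γ M η x) ↔
      (∀ x : ↥N, π' x = q → GoodIn N M' η' x) := by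
    intro q
    constructor
    · intro h x hx
      exact (key1 x x.2).1 (h ⟨x, hNΓ x.2⟩ hx)
    · intro h x hx
      obtain ⟨m, hm, n, hn, e⟩ := hFrat x x.2
      have hπn : π' ⟨n, hn⟩ = q := by
        rw [← hx]
        exact hFratπ x m n hn hm e
      have h3 := (key1 n hn).2 (h ⟨n, hn⟩ hπn)
      apply goodIn_congr Γ M hMΓ hnM η n x _ h3
      rw [e]
      have e2 : m * n * n⁻¹ = m := by group
      rw [e2]
      exact hm
  have h4 : (Nat.card {χ : IrrCharacter ↥Γ //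
      mult (fun m : ↥M => χ.1 (Subgroup.inclusion hMΓ m)) η ≠ 0} : ℂ) * (Nat.card Q : ℂ) =
      (Nat.card {ψ : IrrCharacter ↥N //
        mult (fun m : ↥M' => ψ.1 (Subgroup.inclusion hM'N m)) η' ≠ 0} : ℂ) * (Nat.card Q : ℂ) := by
    rw [h1, h2]
    apply Finset.sum_congr rfl
    intro q _
    apply Finset.sum_congr rfl
    intro r _
    by_cases h : (r * q = q * r ∧ ∀ x : ↥Γ, π x = q → GoodIn Γ M η x)
    · rw [if_pos h, if_pos ⟨h.1, (hkey q).1 h.2⟩]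
    · rw [if_neg h, if_neg (fun h' => h ⟨h'.1, (hkey q).2 h'.2⟩)]
  have hQ0 : (Nat.card Q : ℂ) ≠ 0 := Nat.cast_ne_zero.2 Nat.card_pos.ne'
  exact_mod_cast mul_right_cancel₀ hQ0 h4

end star

end Cfsg.Agent.Lib.Helper81.McKH
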