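import Mathlib
import Cfsg.Prelude.Def_Characters

set_option autoImplicit false
set_option linter.style.haveILetI false
set_option linter.unusedSectionVars false

/-!
# Counting lemmas: bijective relations and orbit counting
-/

namespace Cfsg.Agent.Lib.Helper81.McKI

section comb

/-- A relation that is a bijection between two subsets gives an equivalence of the subtypes. -/
theorem rel_equiv {A B : Type*} (PA : A → Prop) (PB : B → Prop) (R : A → B → Prop)
    (h1 : ∀ a, PA a → ∃ b, PB b ∧ R a b) (h2 : ∀ b, PB b → ∃ a, PA a ∧ R a b)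
    (h3 : ∀ a b b', PA a → PB b → PB b' → R a b → R a b' → b = b')
    (h4 : ∀ a a' b, PA a → PA a' → PB b → R a b → R a' b → a = a') :
    ∃ e : {a // PA a} ≃ {b // PB b}, ∀ a, R a.1 (e a).1 := by
  choose f hf1 hf2 using h1
  refine ⟨Equiv.ofBijective (fun a => ⟨f a.1 a.2, hf1 a.1 a.2⟩) ⟨?_, ?_⟩, fun a => hf2 a.1 a.2⟩
  · intro a a' h
    have h' : f a.1 a.2 = f a'.1 a'.2 := congrArg Subtype.val h
    apply Subtype.ext
    refine h4 a.1 a'.1 (f a.1 a.2) a.2 a'.2 (hf1 a.1 a.2) (hf2 a.1 a.2) ?_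
    rw [h']
    exact hf2 a'.1 a'.2
  · intro b
    obtain ⟨a, ha, hR⟩ := h2 b.1 b.2
    refine ⟨⟨a, ha⟩, Subtype.ext ?_⟩
    exact h3 a _ _ ha (hf1 a ha) b.2 (hf2 a ha) hR

theorem card_rel {A B : Type*} (PA : A → Prop) (PB : B → Prop) (R : A → B → Prop)
    (h1 : ∀ a, PA a → ∃ b, PB b ∧ R a b) (h2 : ∀ b, PB b → ∃ a, PA a ∧ R a b)
    (h3 : ∀ a b b', PA a → PB b → PB b' → R a b → R a b' → b = b')
    (h4 : ∀ a a' b, PA a → PA a' → PB b → R a b → R a' b → a = a') :
    Nat.card {a // PA a} = Nat.card {b // PB b} := by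
  obtain ⟨e, -⟩ := rel_equiv PA PB R h1 h2 h3 h4
  exact Nat.card_congr e

open Classical in
theorem sum_rel {A B : Type*} [Finite A] [Finite B] (PA : A → Prop) (PB : B → Prop)
    (R : A → B → Prop)
    (h1 : ∀ a, PA a → ∃ b, PB b ∧ R a b) (h2 : ∀ b, PB b → ∃ a, PA a ∧ R a b)
    (h3 : ∀ a b b', PA a → PB b → PB b' → R a b → R a b' → b = b')
    (h4 : ∀ a a' b, PA a → PA a' → PB b → R a b → R a' b → a = a')
    (f : A → ℕ) (g : B → ℕ) (hf : ∀ a, ¬ PA a → f a = 0) (hg : ∀ b, ¬ PB b → g b = 0)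
    (hfg : ∀ a b, PA a → PB b → R a b → f a = g b) : ∑ᶠ a, f a = ∑ᶠ b, g b := by
  obtain ⟨e, he⟩ := rel_equiv PA PB R h1 h2 h3 h4
  let _ : Fintype A := Fintype.ofFinite _
  let _ : Fintype B := Fintype.ofFinite _
  rw [finsum_eq_sum_of_fintype, finsum_eq_sum_of_fintype]
  have hA : ∑ a, f a = ∑ a : {a // PA a}, f a.1 := by
    rw [← Finset.sum_filter_of_ne (p := PA) (fun a _ ha => by
      by_contra hn
      exact ha (hf a hn))]
    exact Finset.sum_subtype (Finset.univ.filter PA) (by simp) f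
  have hB : ∑ b, g b = ∑ b : {b // PB b}, g b.1 := by
    rw [← Finset.sum_filter_of_ne (p := PB) (fun b _ hb => by
      by_contra hn
      exact hb (hg b hn))]
    exact Finset.sum_subtype (Finset.univ.filter PB) (by simp) g
  rw [hA, hB]
  exact Fintype.sum_equiv e _ _ (fun a => hfg a.1 (e a).1 a.2 (e a).2 (he a))

end comb

section orbit

open Classical

variable {A Ω : Type*} [Group A] [Finite A] [MulAction A Ω] [Finite Ω]

theorem fix_card_smul (b : A) (ω : Ω) :
    Nat.card {a : A // a • (b • ω) = b • ω} = Nat.card {a : A // a • ω = ω} := by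
  apply Nat.card_congr
  refine ⟨fun a => ⟨b⁻¹ * a.1 * b, ?_⟩, fun a => ⟨b * a.1 * b⁻¹, ?_⟩, ?_, ?_⟩
  · have h := a.2
    rw [mul_smul, mul_smul, h, inv_smul_smul]
  · have h := a.2
    rw [mul_smul, mul_smul, inv_smul_smul, h]
  · intro a
    apply Subtype.ext
    show b * (b⁻¹ * a.1 * b) * b⁻¹ = a.1
    group
  · intro a
    apply Subtype.ext
    show b⁻¹ * (b * a.1 * b⁻¹) * b = a.1
    group

theorem orbit_sum (ω₀ : Ω) [Fintype Ω] :
    ∑ ω : Ω, (if ∃ a : A, a • ω₀ = ω then 1 else 0) * Nat.card {a : A // a • ω = ω} =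
      Nat.card A := by
  have h1 : ∀ ω : Ω, (if ∃ a : A, a • ω₀ = ω then 1 else 0) * Nat.card {a : A // a • ω = ω} =
      if ω ∈ MulAction.orbit A ω₀ then Nat.card {a : A // a • ω₀ = ω₀} else 0 := by
    intro ω
    by_cases h : ∃ a : A, a • ω₀ = ω
    · rw [if_pos h, if_pos (by exact h), one_mul]
      obtain ⟨b, rfl⟩ := h
      exact fix_card_smul b ω₀
    · rw [if_neg h, if_neg (by exact h), zero_mul]
  rw [Finset.sum_congr rfl (fun ω _ => h1 ω), ← Finset.sum_filter, Finset.sum_const, smul_eq_mul]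
  let _ : Fintype A := Fintype.ofFinite _
  have h2 := MulAction.card_orbit_mul_card_stabilizer_eq_card_group A ω₀
  rw [Nat.card_eq_fintype_card (α := A), ← h2]
  congr 1
  · rw [Fintype.card_subtype]
  · rw [← Nat.card_eq_fintype_card]
    rfl

/-- Orbit counting: if the set of `ω` related to `χ` is empty or a single orbit, the weighted
number of related pairs is the number of `χ` related to something times the group order. -/
theorem orbit_count {𝒳 : Type*} [Finite 𝒳] (R : 𝒳 → Ω → Prop)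
    (h : ∀ χ ω ω', R χ ω → (R χ ω' ↔ ∃ a : A, a • ω = ω')) :
    ∑ᶠ ω : Ω, Nat.card {χ // R χ ω} * Nat.card {a : A // a • ω = ω} =
      Nat.card {χ // ∃ ω, R χ ω} * Nat.card A := by
  let _ : Fintype Ω := Fintype.ofFinite _
  let _ : Fintype 𝒳 := Fintype.ofFinite _
  rw [finsum_eq_sum_of_fintype]
  have hc : ∀ P : 𝒳 → Prop, Nat.card {χ // P χ} = ∑ χ : 𝒳, if P χ then 1 else 0 := by
    intro P
    rw [Nat.card_eq_fintype_card, Fintype.card_subtype, Finset.card_filter]
  have h1 : ∀ ω : Ω, Nat.card {χ // R χ ω} * Nat.card {a : A // a • ω = ω} =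
      ∑ χ : 𝒳, (if R χ ω then 1 else 0) * Nat.card {a : A // a • ω = ω} := by
    intro ω
    rw [hc, Finset.sum_mul]
  rw [Finset.sum_congr rfl (fun ω _ => h1 ω), Finset.sum_comm, hc, Finset.sum_mul]
  apply Finset.sum_congr rfl
  intro χ _
  by_cases hχ : ∃ ω, R χ ω
  · rw [if_pos hχ, one_mul]
    obtain ⟨ω₀, hω₀⟩ := hχ
    rw [← orbit_sum (A := A) ω₀]
    apply Finset.sum_congr rfl
    intro ω _
    congr 1
    by_cases hR : R χ ω
    · rw [if_pos hR, if_pos ((h χ ω₀ ω hω₀).1 hR)]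
    · rw [if_neg hR, if_neg (fun h' => hR ((h χ ω₀ ω hω₀).2 h'))]
  · rw [if_neg hχ, zero_mul]
    apply Finset.sum_eq_zero
    intro ω _
    rw [if_neg (fun h' => hχ ⟨ω, h'⟩), zero_mul]

end orbit

end Cfsg.Agent.Lib.Helper81.McKI
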