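import Mathlib
import Cfsg.Prelude.Def_Characters
import Cfsg.Prelude.Def_BlockLocal
import Cfsg.Agent.Lib.Helper81.McKH
import Cfsg.Agent.Lib.Helper81.McKI
import Cfsg.Agent.S0887

set_option autoImplicit false
set_option linter.style.haveILetI false
set_option linter.unusedSectionVars false
set_option maxHeartbeats 1000000

/-!
# Clifford theory for pairs of subgroups of an ambient group
-/

namespace Cfsg.Agent.Lib.Helper81.McKJ

open Cfsg
open Cfsg.Agent.Lib.Helper81.Irr Cfsg.Agent.Lib.Helper81.Basic Cfsg.Agent.Lib.Helper81.Expand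
  Cfsg.Agent.Lib.Helper81.Mult Cfsg.Agent.Lib.Helper81.Cliff Cfsg.Agent.Lib.Helper81.CliffCorr
  Cfsg.Agent.Lib.Helper81.McKA Cfsg.Agent.Lib.Helper81.NSylA Cfsg.Agent.Lib.Helper81.McKB
  Cfsg.Agent.Lib.Helper81.GlaubCore Cfsg.Agent.Lib.Helper81.Glaub
  Cfsg.Agent.Lib.Helper81.GlaubNormal Cfsg.Agent.Lib.Helper81.McKD Cfsg.Agent.Lib.Helper81.McKE
  Cfsg.Agent.Lib.Helper81.McKF Cfsg.Agent.Lib.Helper81.McKG Cfsg.Agent.Lib.Helper81.McKI
open scoped ComplexConjugate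

universe u

section amb

variable {G : Type u} [Group G] [Finite G]

/-- `χ` lies over `η`, stated without any choice of finiteness instances. -/
def Ov {Y X : Subgroup G} (hYX : Y ≤ X) (χ : IrrCharacter ↥X) (η : IrrCharacter ↥Y) : Prop :=
  (∑ᶠ y : ↥Y, χ.1 (Subgroup.inclusion hYX y) * (starRingEnd ℂ) (η.1 y)) ≠ 0

theorem ov_iff {Y X : Subgroup G} [Fintype ↥Y] (hYX : Y ≤ X) (χ : IrrCharacter ↥X)
    (η : IrrCharacter ↥Y) :
    Ov hYX χ η ↔ mult (fun y : ↥Y => χ.1 (Subgroup.inclusion hYX y)) η ≠ 0 := by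
  unfold Ov
  rw [finsum_eq_sum_of_fintype]
  have hch : IsCharacter ↥Y (fun y : ↥Y => χ.1 (Subgroup.inclusion hYX y)) :=
    Cfsg.Agent.Lib.CT.Ops.isCharacter_comp_hom (Subgroup.inclusion hYX) (irr_isCharacter χ)
  have h1 := classInner_eq_mult hch η
  unfold classInner at h1
  have hc : (Nat.card ↥Y : ℂ) ≠ 0 := Nat.cast_ne_zero.2 Nat.card_pos.ne'
  have h2 : ∑ y : ↥Y, χ.1 (Subgroup.inclusion hYX y) * (starRingEnd ℂ) (η.1 y) =
      (Nat.card ↥Y : ℂ) * (mult (fun y : ↥Y => χ.1 (Subgroup.inclusion hYX y)) η : ℂ) := by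
    rw [← h1, ← mul_assoc, mul_inv_cancel₀ hc, one_mul]
  rw [h2]
  constructor
  · intro h h0
    apply h
    rw [h0]
    simp
  · intro h
    exact mul_ne_zero hc (Nat.cast_ne_zero.2 h)

/-- Multiplicity in a restriction, computed inside the larger subgroup. -/
theorem mult_sub {Y X : Subgroup G} [Fintype ↥Y] [Fintype ↥(Y.subgroupOf X)] (hYX : Y ≤ X)
    (F : ↥X → ℂ) (η : IrrCharacter ↥Y) :
    mult (fun n : ↥(Y.subgroupOf X) => F n) (subChar X Y hYX η) =
      mult (fun y : ↥Y => F (Subgroup.inclusion hYX y)) η := by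
  have h3 := Cfsg.Agent.Lib.Helper81.NSylF.mult_transfer (Subgroup.subgroupOfEquivOfLe hYX)
    (fun y : ↥Y => F (Subgroup.inclusion hYX y)) (subChar X Y hYX η)
  have h4 : irrComp (Subgroup.subgroupOfEquivOfLe hYX).symm (subChar X Y hYX η) = η :=
    irrComp_symm' (Subgroup.subgroupOfEquivOfLe hYX).symm η
  rw [h4] at h3
  rw [← h3]
  rfl

/-- Transitivity of multiplicities inside the larger subgroup. -/
theorem mult_sub2 {Y T X : Subgroup G} [Fintype ↥Y] [Fintype ↥(Y.subgroupOf X)] (hYT : Y ≤ T)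
    (hTX : T ≤ X) (hYX : Y ≤ X) (hNT : Y.subgroupOf X ≤ T.subgroupOf X)
    (ψ : IrrCharacter ↥T) (η : IrrCharacter ↥Y) :
    mult (fun n : ↥(Y.subgroupOf X) => (subChar X T hTX ψ).1 (Subgroup.inclusion hNT n))
      (subChar X Y hYX η) = mult (fun y : ↥Y => ψ.1 (Subgroup.inclusion hYT y)) η := by
  have h3 := Cfsg.Agent.Lib.Helper81.NSylF.mult_transfer (Subgroup.subgroupOfEquivOfLe hYX)
    (fun y : ↥Y => ψ.1 (Subgroup.inclusion hYT y)) (subChar X Y hYX η)
  have h4 : irrComp (Subgroup.subgroupOfEquivOfLe hYX).symm (subChar X Y hYX η) = η :=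
    irrComp_symm' (Subgroup.subgroupOfEquivOfLe hYX).symm η
  rw [h4] at h3
  rw [← h3]
  rfl

theorem subChar_injective {Y X : Subgroup G} (hYX : Y ≤ X) (η η' : IrrCharacter ↥Y)
    (h : subChar X Y hYX η = subChar X Y hYX η') : η = η' :=
  irrComp_injective _ h

theorem subChar_surj {Y X : Subgroup G} (hYX : Y ≤ X) (θ : IrrCharacter ↥(Y.subgroupOf X)) :
    ∃ η : IrrCharacter ↥Y, subChar X Y hYX η = θ :=
  ⟨irrComp (Subgroup.subgroupOfEquivOfLe hYX).symm θ,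
    irrComp_symm' (Subgroup.subgroupOfEquivOfLe hYX) θ⟩

theorem normal_sub {Y X : Subgroup G} (hn : ∀ g ∈ X, ∀ y ∈ Y, g * y * g⁻¹ ∈ Y) :
    (Y.subgroupOf X).Normal := by
  constructor
  intro n hn' g
  rw [Subgroup.mem_subgroupOf] at hn' ⊢
  exact hn g g.2 n hn'

/-- Conjugate characters in the ambient sense and inside the larger subgroup. -/
theorem sub_conj_iff {Y X : Subgroup G} (hYX : Y ≤ X)
    (hn : ∀ g ∈ X, ∀ y ∈ Y, g * y * g⁻¹ ∈ Y) (g : ↥X) (η η' : IrrCharacter ↥Y) :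
    haveI := normal_sub hn
    conjI (Y.subgroupOf X) g (subChar X Y hYX η) = subChar X Y hYX η' ↔
      IsConjCharOf Y (g : G) η.1 η'.1 := by
  haveI := normal_sub hn
  constructor
  · intro h y y' hy
    have h1 := congrArg (fun θ : IrrCharacter ↥(Y.subgroupOf X) =>
      θ.1 ⟨⟨y', hYX y'.2⟩, y'.2⟩) h
    rw [conjI_apply, subChar_apply, subChar_apply] at h1
    rw [← h1]
    refine congrArg η.1 (Subtype.ext ?_)
    show ((MulAut.conjNormal g⁻¹ (⟨⟨y', hYX y'.2⟩, y'.2⟩ : ↥(Y.subgroupOf X)) :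
      ↥(Y.subgroupOf X)) : G) = y
    rw [MulAut.conjNormal_apply]
    show ((g⁻¹ : ↥X) : G) * y' * (((g⁻¹)⁻¹ : ↥X) : G) = y
    rw [hy]
    simp only [Subgroup.coe_inv, inv_inv]
    group
  · intro h
    apply Subtype.ext
    funext z
    rw [conjI_apply, subChar_apply, subChar_apply]
    symm
    apply h
    show ((z : ↥X) : G) = g * ((MulAut.conjNormal g⁻¹ z : ↥(Y.subgroupOf X)) : G) * (g : G)⁻¹
    rw [MulAut.conjNormal_apply]
    show ((z : ↥X) : G) = g * (((g⁻¹ : ↥X) : G) * z * (((g⁻¹)⁻¹ : ↥X) : G)) * (g : G)⁻¹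
    simp only [Subgroup.coe_inv, inv_inv]
    group

variable {Y X : Subgroup G} (hYX : Y ≤ X) (hn : ∀ g ∈ X, ∀ y ∈ Y, g * y * g⁻¹ ∈ Y)

include hn in
/-- Lying over is stable under conjugation. -/
theorem ov_conj (χ : IrrCharacter ↥X) (η η' : IrrCharacter ↥Y) (g : G) (hg : g ∈ X)
    (hc : IsConjCharOf Y g η.1 η'.1) (h : Ov hYX χ η) : Ov hYX χ η' := by
  classical
  haveI := normal_sub hn
  let _ : Fintype ↥Y := Fintype.ofFinite _
  let _ : Fintype ↥(Y.subgroupOf X) := Fintype.ofFinite _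
  rw [ov_iff] at h ⊢
  rw [← mult_sub hYX χ.1 η] at h
  rw [← mult_sub hYX χ.1 η']
  have hres : IsCharacter ↥(Y.subgroupOf X) (fun n : ↥(Y.subgroupOf X) => χ.1 n) :=
    Cfsg.Agent.Lib.CT.Ops.isCharacter_restrict _ (irr_isCharacter χ)
  have h1 := (sub_conj_iff hYX hn ⟨g, hg⟩ η η').2 hc
  have h2 := multC_res_conjI (Y.subgroupOf X) χ.1 (irr_conj χ) ⟨g, hg⟩ (subChar X Y hYX η)
  rw [h1] at h2
  have h3 : (mult (fun n : ↥(Y.subgroupOf X) => χ.1 n) (subChar X Y hYX η') : ℂ) =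
      (mult (fun n : ↥(Y.subgroupOf X) => χ.1 n) (subChar X Y hYX η) : ℂ) := by
    rw [mult_cast hres, mult_cast hres]
    exact h2
  intro h0
  apply h
  rw [h0] at h3
  exact_mod_cast h3.symm

include hn in
/-- Clifford: the characters under a given one are conjugate. -/
theorem ov_orbit (χ : IrrCharacter ↥X) (η η' : IrrCharacter ↥Y) (h : Ov hYX χ η)
    (h' : Ov hYX χ η') : ∃ g ∈ X, IsConjCharOf Y g η.1 η'.1 := by
  classical
  haveI := normal_sub hn
  let _ : Fintype ↥Y := Fintype.ofFinite _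
  let _ : Fintype ↥X := Fintype.ofFinite _
  let _ : Fintype ↥(Y.subgroupOf X) := Fintype.ofFinite _
  have : Finite (IrrCharacter ↥X) := finite_irr
  let _ : Fintype (IrrCharacter ↥X) := Fintype.ofFinite _
  rw [ov_iff] at h h'
  rw [← mult_sub hYX χ.1 η] at h
  rw [← mult_sub hYX χ.1 η'] at h'
  have hres : IsCharacter ↥(Y.subgroupOf X) (fun n : ↥(Y.subgroupOf X) => χ.1 n) :=
    Cfsg.Agent.Lib.CT.Ops.isCharacter_restrict _ (irr_isCharacter χ)
  have h1 : multC (fun n : ↥(Y.subgroupOf X) => χ.1 n) (subChar X Y hYX η) ≠ 0 := by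
    rw [← mult_cast hres]
    exact Nat.cast_ne_zero.2 h
  have h1' : multC (fun n : ↥(Y.subgroupOf X) => χ.1 n) (subChar X Y hYX η') ≠ 0 := by
    rw [← mult_cast hres]
    exact Nat.cast_ne_zero.2 h'
  obtain ⟨g, hg⟩ := clifford_conj (Y.subgroupOf X) χ _ _ h1 h1'
  exact ⟨g, g.2, (sub_conj_iff hYX hn g η η').1 hg⟩

/-- Every irreducible character of a subgroup lies under one of the larger subgroup. -/
theorem exists_ov_up (η : IrrCharacter ↥Y) : ∃ χ : IrrCharacter ↥X, Ov hYX χ η := by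
  classical
  let _ : Fintype ↥Y := Fintype.ofFinite _
  let _ : Fintype ↥X := Fintype.ofFinite _
  let _ : Fintype ↥(Y.subgroupOf X) := Fintype.ofFinite _
  obtain ⟨χ, hχ⟩ := exists_over (Y.subgroupOf X) (subChar X Y hYX η)
  refine ⟨χ, ?_⟩
  rw [ov_iff, ← mult_sub hYX χ.1 η]
  exact hχ

/-- Every irreducible character has a constituent on a subgroup. -/
theorem exists_ov_down (χ : IrrCharacter ↥X) : ∃ η : IrrCharacter ↥Y, Ov hYX χ η := by
  classical
  let _ : Fintype ↥Y := Fintype.ofFinite _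
  let _ : Fintype ↥X := Fintype.ofFinite _
  have : Finite (IrrCharacter ↥Y) := finite_irr
  let _ : Fintype (IrrCharacter ↥Y) := Fintype.ofFinite _
  have hch : IsCharacter ↥Y (fun y : ↥Y => χ.1 (Subgroup.inclusion hYX y)) :=
    Cfsg.Agent.Lib.CT.Ops.isCharacter_comp_hom (Subgroup.inclusion hYX) (irr_isCharacter χ)
  have hne : charDegree (fun y : ↥Y => χ.1 (Subgroup.inclusion hYX y)) ≠ 0 := by
    rw [charDegree_comp (Subgroup.inclusion hYX) χ.1]
    exact (deg_pos χ).ne'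
  obtain ⟨η, hη⟩ := exists_constituent hch hne
  exact ⟨η, (ov_iff hYX χ η).2 hη⟩


/-- Lying over is transitive. -/
theorem ov_trans {Z : Subgroup G} (hZY : Z ≤ Y) (χ : IrrCharacter ↥X) (η : IrrCharacter ↥Y)
    (ζ : IrrCharacter ↥Z) (h1 : Ov hYX χ η) (h2 : Ov hZY η ζ) : Ov (hZY.trans hYX) χ ζ := by
  classical
  let _ : Fintype ↥Y := Fintype.ofFinite _
  let _ : Fintype ↥Z := Fintype.ofFinite _
  have : Finite (IrrCharacter ↥Y) := finite_irr
  let _ : Fintype (IrrCharacter ↥Y) := Fintype.ofFinite _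
  rw [ov_iff] at h1 h2 ⊢
  have hch : IsCharacter ↥Y (fun y : ↥Y => χ.1 (Subgroup.inclusion hYX y)) :=
    Cfsg.Agent.Lib.CT.Ops.isCharacter_comp_hom (Subgroup.inclusion hYX) (irr_isCharacter χ)
  have h3 := mult_comp (Subgroup.inclusion hZY) hch ζ
  have h4 : (fun z : ↥Z => (fun y : ↥Y => χ.1 (Subgroup.inclusion hYX y))
      (Subgroup.inclusion hZY z)) =
      fun z : ↥Z => χ.1 (Subgroup.inclusion (hZY.trans hYX) z) := rfl
  rw [h4] at h3
  rw [h3]
  intro h0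
  have h5 := (Finset.sum_eq_zero_iff.1 h0) η (Finset.mem_univ _)
  rcases Nat.mul_eq_zero.1 h5 with h6 | h6
  · exact h1 h6
  · exact h2 h6

/-- A character over `ζ` lies over an intermediate character over `ζ`. -/
theorem ov_mid {Z : Subgroup G} (hZY : Z ≤ Y) (χ : IrrCharacter ↥X) (ζ : IrrCharacter ↥Z)
    (h : Ov (hZY.trans hYX) χ ζ) : ∃ η : IrrCharacter ↥Y, Ov hYX χ η ∧ Ov hZY η ζ := by
  classical
  let _ : Fintype ↥Y := Fintype.ofFinite _
  let _ : Fintype ↥Z := Fintype.ofFinite _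
  have : Finite (IrrCharacter ↥Y) := finite_irr
  let _ : Fintype (IrrCharacter ↥Y) := Fintype.ofFinite _
  rw [ov_iff] at h
  have hch : IsCharacter ↥Y (fun y : ↥Y => χ.1 (Subgroup.inclusion hYX y)) :=
    Cfsg.Agent.Lib.CT.Ops.isCharacter_comp_hom (Subgroup.inclusion hYX) (irr_isCharacter χ)
  have h3 := mult_comp (Subgroup.inclusion hZY) hch ζ
  have h4 : (fun z : ↥Z => (fun y : ↥Y => χ.1 (Subgroup.inclusion hYX y))
      (Subgroup.inclusion hZY z)) =
      fun z : ↥Z => χ.1 (Subgroup.inclusion (hZY.trans hYX) z) := rfl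
  rw [h4] at h3
  rw [h3] at h
  obtain ⟨η, -, hη⟩ := Finset.exists_ne_zero_of_sum_ne_zero h
  refine ⟨η, (ov_iff hYX χ η).2 ?_, (ov_iff hZY η ζ).2 ?_⟩
  · intro h0
    exact hη (by rw [h0, zero_mul])
  · intro h0
    exact hη (by rw [h0, mul_zero])

include hn in
/-- The degree of a character below divides, with quotient dividing the index. -/
theorem ov_deg_dvd (χ : IrrCharacter ↥X) (η : IrrCharacter ↥Y) (h : Ov hYX χ η) :
    charDegree η.1 ∣ charDegree χ.1 ∧ charDegree χ.1 / charDegree η.1 ∣ Y.relIndex X := by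
  classical
  haveI := normal_sub hn
  let _ : Fintype ↥Y := Fintype.ofFinite _
  let _ : Fintype ↥X := Fintype.ofFinite _
  let _ : Fintype ↥(Y.subgroupOf X) := Fintype.ofFinite _
  rw [ov_iff, ← mult_sub hYX χ.1 η] at h
  have hres : IsCharacter ↥(Y.subgroupOf X) (fun n : ↥(Y.subgroupOf X) => χ.1 n) :=
    Cfsg.Agent.Lib.CT.Ops.isCharacter_restrict _ (irr_isCharacter χ)
  have hcon : classInner (fun n : ↥(Y.subgroupOf X) => χ.1 n) (subChar X Y hYX η).1 ≠ 0 := by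
    rw [classInner_eq_mult hres]
    exact Nat.cast_ne_zero.2 h
  have hd : (subChar X Y hYX η).1 1 = (charDegree η.1 : ℂ) := by
    rw [subChar_apply, ← deg_cast η]
    rfl
  exact Cfsg.Agent.S0887.result (Y.subgroupOf X) χ.1 χ.2 (subChar X Y hYX η).1
    (subChar X Y hYX η).2 hcon (charDegree χ.1) (charDegree η.1) (deg_cast χ) hd

include hn in
/-- The index of the stabilizer of a character below divides the degree. -/
theorem ov_stab_dvd (χ : IrrCharacter ↥X) (η : IrrCharacter ↥Y) (h : Ov hYX χ η)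
    (T : Subgroup G) (hT : ∀ g, g ∈ T ↔ g ∈ X ∧ IsConjCharOf Y g η.1 η.1) :
    T.relIndex X ∣ charDegree χ.1 := by
  classical
  haveI := normal_sub hn
  let _ : Fintype ↥Y := Fintype.ofFinite _
  let _ : Fintype ↥X := Fintype.ofFinite _
  let _ : Fintype ↥(Y.subgroupOf X) := Fintype.ofFinite _
  have : Finite (IrrCharacter ↥X) := finite_irr
  let _ : Fintype (IrrCharacter ↥X) := Fintype.ofFinite _
  have : Finite (IrrCharacter ↥(Y.subgroupOf X)) := finite_irr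
  let _ : Fintype (IrrCharacter ↥(Y.subgroupOf X)) := Fintype.ofFinite _
  rw [ov_iff, ← mult_sub hYX χ.1 η] at h
  have h1 := degree_over (Y.subgroupOf X) χ (subChar X Y hYX η) h
  have hI : ∀ g : ↥X, g ∈ T.subgroupOf X ↔
      conjI (Y.subgroupOf X) g (subChar X Y hYX η) = subChar X Y hYX η := by
    intro g
    rw [sub_conj_iff hYX hn g η η, Subgroup.mem_subgroupOf, hT]
    exact ⟨fun h => h.2, fun h => ⟨g.2, h⟩⟩
  have h2 := orb_card (Y.subgroupOf X) (subChar X Y hYX η) (T.subgroupOf X) hI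
  rw [h2] at h1
  rw [h1]
  exact Dvd.dvd.mul_left (Dvd.intro _ rfl) _

end amb

section cc

variable {G : Type u} [Group G] [Finite G] {Y T X : Subgroup G} (hYT : Y ≤ T) (hTX : T ≤ X)
  (hn : ∀ g ∈ X, ∀ y ∈ Y, g * y * g⁻¹ ∈ Y) (η : IrrCharacter ↥Y)
  (hT : ∀ g, g ∈ T ↔ g ∈ X ∧ IsConjCharOf Y g η.1 η.1)

include hn hT in
theorem cc_setup :
    ∀ g : ↥X, g ∈ T.subgroupOf X ↔ ∀ n : ↥(Y.subgroupOf X),
      (subChar X Y (hYT.trans hTX) η).1 ⟨g * n * g⁻¹,
        (normal_sub hn).conj_mem (n : ↥X) n.2 g⟩ = (subChar X Y (hYT.trans hTX) η).1 n := by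
  intro g
  rw [Subgroup.mem_subgroupOf, hT]
  constructor
  · rintro ⟨-, h⟩ n
    rw [subChar_apply, subChar_apply]
    exact h ⟨((n : ↥X) : G), n.2⟩ _ rfl
  · intro h
    refine ⟨g.2, fun y y' hy => ?_⟩
    have h1 := h ⟨⟨y, (hYT.trans hTX) y.2⟩, y.2⟩
    rw [subChar_apply, subChar_apply] at h1
    rw [← h1]
    exact congrArg η.1 (Subtype.ext hy)

include hn hT in
/-- Clifford correspondence, going down. -/
theorem cc_down (χ : IrrCharacter ↥X) (h : Ov (hYT.trans hTX) χ η) :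
    ∃ ψ : IrrCharacter ↥T, Ov hTX χ ψ ∧ Ov hYT ψ η := by
  classical
  haveI hN := normal_sub hn
  let _ : Fintype ↥Y := Fintype.ofFinite _
  let _ : Fintype ↥T := Fintype.ofFinite _
  let _ : Fintype ↥X := Fintype.ofFinite _
  let _ : Fintype ↥(Y.subgroupOf X) := Fintype.ofFinite _
  let _ : Fintype ↥(T.subgroupOf X) := Fintype.ofFinite _
  have hNT : Y.subgroupOf X ≤ T.subgroupOf X := fun g hg => hYT hg
  rw [ov_iff, ← mult_sub (hYT.trans hTX) χ.1 η] at h
  obtain ⟨ψ', h1, h2⟩ := Cfsg.Agent.Lib.Helper81.NSylB.cp_exists (Y.subgroupOf X)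
    (subChar X Y (hYT.trans hTX) η) (T.subgroupOf X) (cc_setup hYT hTX hn η hT) hNT χ h
  obtain ⟨ψ, rfl⟩ := subChar_surj hTX ψ'
  refine ⟨ψ, ?_, ?_⟩
  · rw [ov_iff, ← mult_sub hTX χ.1 ψ]
    exact h1
  · rw [ov_iff, ← mult_sub2 hYT hTX (hYT.trans hTX) hNT ψ η]
    exact h2

include hn hT in
/-- Clifford correspondence: induction, multiplicity one and uniqueness. -/
theorem cc_main (χ : IrrCharacter ↥X) (ψ : IrrCharacter ↥T) (h1 : Ov hTX χ ψ)
    (h2 : Ov hYT ψ η) :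
    charDegree χ.1 = T.relIndex X * charDegree ψ.1 ∧
      ∀ ψ' : IrrCharacter ↥T, Ov hTX χ ψ' → Ov hYT ψ' η → ψ' = ψ := by
  classical
  haveI hN := normal_sub hn
  let _ : Fintype ↥Y := Fintype.ofFinite _
  let _ : Fintype ↥T := Fintype.ofFinite _
  let _ : Fintype ↥X := Fintype.ofFinite _
  let _ : Fintype ↥(Y.subgroupOf X) := Fintype.ofFinite _
  let _ : Fintype ↥(T.subgroupOf X) := Fintype.ofFinite _
  have hNT : Y.subgroupOf X ≤ T.subgroupOf X := fun g hg => hYT hg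
  rw [ov_iff, ← mult_sub hTX χ.1 ψ] at h1
  rw [ov_iff, ← mult_sub2 hYT hTX (hYT.trans hTX) hNT ψ η] at h2
  obtain ⟨hind, -, huniq⟩ := Cfsg.Agent.Lib.Helper81.NSylB.cp_main (Y.subgroupOf X)
    (subChar X Y (hYT.trans hTX) η) (T.subgroupOf X) (cc_setup hYT hTX hn η hT) hNT χ
    (subChar X T hTX ψ) h1 h2
  constructor
  · have h3 : χ.1 1 = ((T.subgroupOf X).index : ℂ) * (subChar X T hTX ψ).1 1 := by
      rw [← hind, Cfsg.Agent.Lib.CT.FrobRec.indFun_one]
    have h4 : (subChar X T hTX ψ).1 1 = ψ.1 1 := by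
      rw [subChar_apply]
      rfl
    rw [h4, deg_cast χ, deg_cast ψ] at h3
    have h5 : (T.subgroupOf X).index = T.relIndex X := rfl
    rw [h5] at h3
    exact_mod_cast h3
  · intro ψ' h1' h2'
    rw [ov_iff, ← mult_sub hTX χ.1 ψ'] at h1'
    rw [ov_iff, ← mult_sub2 hYT hTX (hYT.trans hTX) hNT ψ' η] at h2'
    exact subChar_injective hTX _ _ (huniq (subChar X T hTX ψ') h1' h2')

include hn hT in
/-- Clifford correspondence: the character above is determined. -/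
theorem cc_unique (ψ : IrrCharacter ↥T) (h2 : Ov hYT ψ η) (χ χ' : IrrCharacter ↥X)
    (h : Ov hTX χ ψ) (h' : Ov hTX χ' ψ) : χ = χ' := by
  classical
  haveI hN := normal_sub hn
  let _ : Fintype ↥Y := Fintype.ofFinite _
  let _ : Fintype ↥T := Fintype.ofFinite _
  let _ : Fintype ↥X := Fintype.ofFinite _
  let _ : Fintype ↥(Y.subgroupOf X) := Fintype.ofFinite _
  let _ : Fintype ↥(T.subgroupOf X) := Fintype.ofFinite _
  have hNT : Y.subgroupOf X ≤ T.subgroupOf X := fun g hg => hYT hg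
  rw [ov_iff, ← mult_sub hTX χ.1 ψ] at h
  rw [ov_iff, ← mult_sub hTX χ'.1 ψ] at h'
  rw [ov_iff, ← mult_sub2 hYT hTX (hYT.trans hTX) hNT ψ η] at h2
  exact Cfsg.Agent.Lib.Helper81.NSylB.cp_unique (Y.subgroupOf X)
    (subChar X Y (hYT.trans hTX) η) (T.subgroupOf X) (cc_setup hYT hTX hn η hT) hNT
    (subChar X T hTX ψ) h2 χ χ' h h'

include hn hT in
/-- Clifford correspondence, counting form. -/
theorem cc_count :
    Nat.card {χ : IrrCharacter ↥X // Ov (hYT.trans hTX) χ η} =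
      Nat.card {ψ : IrrCharacter ↥T // Ov hYT ψ η} := by
  apply card_rel _ _ (fun χ ψ => Ov hTX χ ψ)
  · intro χ hχ
    obtain ⟨ψ, h1, h2⟩ := cc_down hYT hTX hn η hT χ hχ
    exact ⟨ψ, h2, h1⟩
  · intro ψ hψ
    obtain ⟨χ, hχ⟩ := exists_ov_up hTX ψ
    exact ⟨χ, ov_trans hTX hYT χ ψ η hχ hψ, hχ⟩
  · intro χ ψ ψ' _ hψ hψ' h h'
    exact ((cc_main hYT hTX hn η hT χ ψ' h' hψ').2 ψ h hψ)
  · intro χ χ' ψ _ _ hψ h h'
    exact cc_unique hYT hTX hn η hT ψ hψ χ χ' h h'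

include hn hT in
/-- Clifford correspondence, counting characters of degree prime to `p`. -/
theorem cc_count_p (p : ℕ) [Fact p.Prime] (hp : ¬ p ∣ T.relIndex X) :
    Nat.card {χ : IrrCharacter ↥X // ¬ p ∣ charDegree χ.1 ∧ Ov (hYT.trans hTX) χ η} =
      Nat.card {ψ : IrrCharacter ↥T // ¬ p ∣ charDegree ψ.1 ∧ Ov hYT ψ η} := by
  have hpp : p.Prime := Fact.out
  apply card_rel _ _ (fun χ ψ => Ov hTX χ ψ)
  · rintro χ ⟨hd, hχ⟩
    obtain ⟨ψ, h1, h2⟩ := cc_down hYT hTX hn η hT χ hχ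
    refine ⟨ψ, ⟨?_, h2⟩, h1⟩
    intro hdvd
    apply hd
    rw [(cc_main hYT hTX hn η hT χ ψ h1 h2).1]
    exact Dvd.dvd.mul_left hdvd _
  · rintro ψ ⟨hd, hψ⟩
    obtain ⟨χ, hχ⟩ := exists_ov_up hTX ψ
    refine ⟨χ, ⟨?_, ov_trans hTX hYT χ ψ η hχ hψ⟩, hχ⟩
    rw [(cc_main hYT hTX hn η hT χ ψ hχ hψ).1]
    intro hdvd
    rcases (Nat.Prime.dvd_mul hpp).1 hdvd with h | h
    · exact hp h
    · exact hd h
  · rintro χ ψ ψ' _ ⟨_, hψ⟩ ⟨_, hψ'⟩ h h'
    exact ((cc_main hYT hTX hn η hT χ ψ' h' hψ').2 ψ h hψ)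
  · rintro χ χ' ψ _ _ ⟨_, hψ⟩ h h'
    exact cc_unique hYT hTX hn η hT ψ hψ χ χ' h h'

end cc

section act

variable {G : Type u} [Group G] (W Y : Subgroup G) (hW : ∀ g ∈ W, ∀ y ∈ Y, g * y * g⁻¹ ∈ Y)

/-- The conjugate of a character of `Y` by an element of a subgroup normalising `Y`. -/
noncomputable def cj (w : ↥W) (η : IrrCharacter ↥Y) : IrrCharacter ↥Y :=
  irrComp (conjE Y ((w : G)⁻¹) (fun u => norm_iff W Y hW _ (W.inv_mem w.2) u)) η

theorem cj_apply (w : ↥W) (η : IrrCharacter ↥Y) (y : ↥Y) :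
    (cj W Y hW w η).1 y =
      η.1 (conjE Y ((w : G)⁻¹) (fun u => norm_iff W Y hW _ (W.inv_mem w.2) u) y) := rfl

theorem cj_iff (w : ↥W) (η η' : IrrCharacter ↥Y) :
    cj W Y hW w η = η' ↔ IsConjCharOf Y (w : G) η.1 η'.1 := by
  constructor
  · rintro rfl y y' hy
    rw [cj_apply]
    refine congrArg η.1 (Subtype.ext ?_)
    rw [conjE_coe, hy]
    group
  · intro h
    apply Subtype.ext
    funext y
    rw [cj_apply]
    symm
    apply h
    rw [conjE_coe]
    group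

/-- The conjugation action of a subgroup normalising `Y` on the irreducible characters of
`Y`. -/
@[instance_reducible]
noncomputable def cjAct : MulAction ↥W (IrrCharacter ↥Y) where
  smul w η := cj W Y hW w η
  one_smul η := by
    show cj W Y hW 1 η = η
    rw [cj_iff]
    intro y y' hy
    refine congrArg η.1 (Subtype.ext ?_)
    rw [hy]
    simp
  mul_smul w w' η := by
    show cj W Y hW (w * w') η = cj W Y hW w (cj W Y hW w' η)
    rw [cj_iff]
    intro y y' hy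
    rw [cj_apply, cj_apply]
    refine congrArg η.1 (Subtype.ext ?_)
    rw [conjE_coe, conjE_coe, hy, Subgroup.coe_mul]
    group

include hW in
/-- Orbit counting for the conjugation action on the irreducible characters of `Y`. -/
theorem amb_count [Finite G] {𝒳 : Type*} [Finite 𝒳] (R : 𝒳 → IrrCharacter ↥Y → Prop)
    (h : ∀ χ η η', R χ η → (R χ η' ↔ ∃ w ∈ W, IsConjCharOf Y w η.1 η'.1)) :
    ∑ᶠ η : IrrCharacter ↥Y, Nat.card {χ // R χ η} *
        Nat.card {w : ↥W // IsConjCharOf Y (w : G) η.1 η.1} =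
      Nat.card {χ // ∃ η, R χ η} * Nat.card ↥W := by
  letI := cjAct W Y hW
  have : Finite (IrrCharacter ↥Y) := finite_irr
  have h' : ∀ χ (ω ω' : IrrCharacter ↥Y), R χ ω → (R χ ω' ↔ ∃ a : ↥W, a • ω = ω') := by
    intro χ ω ω' hR
    rw [h χ ω ω' hR]
    constructor
    · rintro ⟨w, hw, hc⟩
      exact ⟨⟨w, hw⟩, (cj_iff W Y hW ⟨w, hw⟩ ω ω').2 hc⟩
    · rintro ⟨a, ha⟩
      exact ⟨a, a.2, (cj_iff W Y hW a ω ω').1 ha⟩
  have h1 := orbit_count (A := ↥W) R h'
  rw [← h1]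
  apply finsum_congr
  intro η
  congr 1
  apply Nat.card_congr
  apply Equiv.subtypeEquivRight
  intro w
  exact (cj_iff W Y hW w η η).symm

end act

end Cfsg.Agent.Lib.Helper81.McKJ
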