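import Cfsg.Agent.Lib.Helper81.RMStmt
import Cfsg.Agent.Lib.Helper81.McKJ

/-!
# Bridge between the `S4581` piece statements (`RMStmt`) and the Clifford library

`tauIrr τ` is the irreducible character of `U` given by `τ : ↥U →* ℤˣ`; `Over` is `McKJ.Ov`
with respect to it, and `ConjRel` is `conjI` / `IsConjCharOf`.
-/

set_option autoImplicit false

namespace Cfsg.Agent.Lib.Helper81.RMBridge

open Cfsg
open Cfsg.Agent.Lib.Helper81.RMStmt Cfsg.Agent.Lib.Helper81.Cliff Cfsg.Agent.Lib.Helper81.McKJ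

universe u

variable {G : Type u} [Group G]

/-- the linear character `K → ℂˣ` given by `τ : K →* ℤˣ` -/
def tauC {K : Type u} [Group K] (τ : K →* ℤˣ) : K →* ℂˣ :=
  (Units.map (Int.castRingHom ℂ).toMonoidHom).comp τ

theorem tauC_apply {K : Type u} [Group K] (τ : K →* ℤˣ) (k : K) :
    ((tauC τ k : ℂˣ) : ℂ) = (((τ k : ℤˣ) : ℤ) : ℂ) := rfl

/-- the irreducible character given by `τ : K →* ℤˣ` -/
noncomputable def tauIrr {K : Type u} [Group K] (τ : K →* ℤˣ) : IrrCharacter K :=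
  ⟨fun k => (((τ k : ℤˣ) : ℤ) : ℂ), Cfsg.Agent.Lib.CT.LinChar.isIrrCharacter_of_hom (tauC τ)⟩

theorem tauIrr_apply {K : Type u} [Group K] (τ : K →* ℤˣ) (k : K) :
    (tauIrr τ).1 k = (((τ k : ℤˣ) : ℤ) : ℂ) := rfl

theorem tauIrr_one {K : Type u} [Group K] (k : K) : (tauIrr (1 : K →* ℤˣ)).1 k = 1 := by
  simp [tauIrr_apply]

theorem tauIrr_conj {K : Type u} [Group K] (τ : K →* ℤˣ) (k : K) :
    (starRingEnd ℂ) ((tauIrr τ).1 k) = (tauIrr τ).1 k := by
  rw [tauIrr_apply]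
  exact Complex.conj_eq_iff_im.2 (Complex.intCast_im _)

theorem tauIrr_im {K : Type u} [Group K] (τ : K →* ℤˣ) (k : K) : ((tauIrr τ).1 k).im = 0 := by
  rw [tauIrr_apply]
  exact Complex.intCast_im _

theorem tauIrr_injective {K : Type u} [Group K] : Function.Injective (tauIrr (K := K)) := by
  intro τ τ' h
  ext k
  have h1 := congrFun (congrArg Subtype.val h) k
  rw [tauIrr_apply, tauIrr_apply] at h1
  exact_mod_cast h1

theorem tauIrr_sq {K : Type u} [Group K] (τ : K →* ℤˣ) (k : K) :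
    (tauIrr τ).1 k * (tauIrr τ).1 k = 1 := by
  rw [tauIrr_apply]
  have h : ((τ k : ℤˣ) : ℤ) * ((τ k : ℤˣ) : ℤ) = 1 := Int.units_coe_mul_self (τ k)
  exact_mod_cast h

/-- `Over` is `McKJ.Ov` with respect to `tauIrr τ` -/
theorem over_iff_ov [Finite G] (U H : Subgroup G) (hUH : U ≤ H) (τ : ↥U →* ℤˣ)
    (χ : IrrCharacter ↥H) : Over U H hUH τ χ.1 ↔ Ov hUH χ (tauIrr τ) := by
  unfold Over Ov
  have h : (fun u : ↥U => χ.1 (Subgroup.inclusion hUH u) * (((τ u : ℤˣ) : ℤ) : ℂ)) =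
      fun u : ↥U => χ.1 (Subgroup.inclusion hUH u) * (starRingEnd ℂ) ((tauIrr τ).1 u) := by
    funext u
    rw [tauIrr_conj, tauIrr_apply]
  rw [h]

/-- `ConjRel` in terms of the Prelude's `IsConjCharOf` -/
theorem conjRel_iff_isConjCharOf (U : Subgroup G) [hU : U.Normal] (n : G) (τ τ' : ↥U →* ℤˣ) :
    ConjRel U n τ τ' ↔ IsConjCharOf U n (tauIrr τ).1 (tauIrr τ').1 := by
  constructor
  · intro h k k' hk
    rw [tauIrr_apply, tauIrr_apply, ← h k]
    congr 4
    exact Subtype.ext hk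
  · intro h k
    have h1 := h k ⟨n * (k : G) * n⁻¹, hU.conj_mem (k : G) k.2 n⟩ rfl
    rw [tauIrr_apply, tauIrr_apply] at h1
    exact_mod_cast h1

/-- `ConjRel` in terms of `Cliff.conjI` -/
theorem conjRel_iff_conjI (U : Subgroup G) [hU : U.Normal] (n : G) (τ τ' : ↥U →* ℤˣ) :
    ConjRel U n τ τ' ↔ conjI U n (tauIrr τ) = tauIrr τ' := by
  constructor
  · intro h
    apply Subtype.ext
    funext k
    rw [conjI_apply, tauIrr_apply, tauIrr_apply]
    have h1 := h (MulAut.conjNormal n⁻¹ k)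
    rw [← h1]
    congr 4
    simp [mul_assoc]
  · intro h k
    have h1 := congrFun (congrArg Subtype.val h) ⟨n * (k : G) * n⁻¹, hU.conj_mem (k : G) k.2 n⟩
    rw [conjI_apply, tauIrr_apply, tauIrr_apply] at h1
    have h2 : (MulAut.conjNormal n⁻¹ (⟨n * (k : G) * n⁻¹, hU.conj_mem (k : G) k.2 n⟩ : ↥U)) = k := by
      apply Subtype.ext
      simp [mul_assoc]
    rw [h2] at h1
    exact_mod_cast h1.symm

end Cfsg.Agent.Lib.Helper81.RMBridge
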