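import Mathlib
import Cfsg.Prelude.Def_Characters
import Cfsg.Agent.Lib.Helper81.CliffCorr
import Cfsg.Agent.Lib.CT.Wedderburn
import Cfsg.Agent.Lib.CT.FrobRec
import Cfsg.Agent.Lib.CT.LinChar

set_option autoImplicit false
set_option linter.style.haveILetI false
set_option linter.unusedSectionVars false
set_option maxHeartbeats 1000000

/-!
# Real induced characters from an inverted linear character

`D` is an abelian normal subgroup of `G` with a complement `H`.  If a linear character of `D`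
is sent to its inverse by some element of `G`, the induced character from the (split) extension
to its stabilizer is a real irreducible character whose degree is the index of the stabilizer.

* `no_inverted_hom`: if the real irreducible characters of `G` have degree prime to `p` and
  `D` is generated by its commutators with a `p`-subgroup `Q`, no nontrivial linear character
  of `D` is inverted by an element of `G`.
* `sq_centralizes`, `odd_card`: consequences for the action of `G` on `D`.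
-/

namespace Cfsg.Agent.Lib.Helper81.RealB

open Cfsg
open Cfsg.Agent.Lib.Helper81.Irr Cfsg.Agent.Lib.Helper81.Expand Cfsg.Agent.Lib.Helper81.Cliff
  Cfsg.Agent.Lib.Helper81.CliffCorr Cfsg.Agent.Lib.CT.FrobRec
open scoped IsMulCommutative

universe u

section decomp

variable {G : Type u} [Group G] (D H : Subgroup G) [hDn : D.Normal]

theorem exists_decomp (hDH : D ⊔ H = ⊤) (g : G) : ∃ d : G, d ∈ D ∧ d⁻¹ * g ∈ H := by
  have hg : g ∈ ((D ⊔ H : Subgroup G) : Set G) := by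
    rw [hDH]; exact Subgroup.mem_top g
  rw [Subgroup.normal_mul] at hg
  obtain ⟨d, hd, h, hh, rfl⟩ := Set.mem_mul.1 hg
  refine ⟨d, hd, ?_⟩
  rw [inv_mul_cancel_left]
  exact hh

/-- The `D`-component of an element with respect to the complement `H`. -/
noncomputable def dpart (hDH : D ⊔ H = ⊤) (g : G) : G :=
  Classical.choose (exists_decomp D H hDH g)

theorem dpart_mem (hDH : D ⊔ H = ⊤) (g : G) : dpart D H hDH g ∈ D :=
  (Classical.choose_spec (exists_decomp D H hDH g)).1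

theorem dpart_spec (hDH : D ⊔ H = ⊤) (g : G) : (dpart D H hDH g)⁻¹ * g ∈ H :=
  (Classical.choose_spec (exists_decomp D H hDH g)).2

theorem dpart_unique (hDH : D ⊔ H = ⊤) (hDH' : D ⊓ H = ⊥) {g d : G} (hd : d ∈ D)
    (h : d⁻¹ * g ∈ H) : dpart D H hDH g = d := by
  have h1 : d⁻¹ * dpart D H hDH g ∈ D ⊓ H := by
    refine ⟨D.mul_mem (D.inv_mem hd) (dpart_mem D H hDH g), ?_⟩
    have h2 : d⁻¹ * dpart D H hDH g = (d⁻¹ * g) * ((dpart D H hDH g)⁻¹ * g)⁻¹ := by group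
    rw [h2]
    exact H.mul_mem h (H.inv_mem (dpart_spec D H hDH g))
  rw [hDH', Subgroup.mem_bot] at h1
  exact (inv_mul_eq_one.1 h1).symm

theorem dpart_of_mem (hDH : D ⊔ H = ⊤) (hDH' : D ⊓ H = ⊥) {d : G} (hd : d ∈ D) :
    dpart D H hDH d = d :=
  dpart_unique D H hDH hDH' hd (by rw [inv_mul_cancel]; exact H.one_mem)

theorem dpart_mul (hDH : D ⊔ H = ⊤) (hDH' : D ⊓ H = ⊥) (a b : G) :
    dpart D H hDH (a * b) = dpart D H hDH a *
      (((dpart D H hDH a)⁻¹ * a) * dpart D H hDH b * ((dpart D H hDH a)⁻¹ * a)⁻¹) := by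
  apply dpart_unique D H hDH hDH'
  · exact D.mul_mem (dpart_mem D H hDH a) (hDn.conj_mem _ (dpart_mem D H hDH b) _)
  · have h1 : (dpart D H hDH a *
        (((dpart D H hDH a)⁻¹ * a) * dpart D H hDH b * ((dpart D H hDH a)⁻¹ * a)⁻¹))⁻¹ * (a * b) =
        ((dpart D H hDH a)⁻¹ * a) * ((dpart D H hDH b)⁻¹ * b) := by group
    rw [h1]
    exact H.mul_mem (dpart_spec D H hDH a) (dpart_spec D H hDH b)

theorem dpart_conj (hDH : D ⊔ H = ⊤) (hDH' : D ⊓ H = ⊥) {h : G} (hh : h ∈ H) (a : G) :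
    dpart D H hDH (h * a * h⁻¹) = h * dpart D H hDH a * h⁻¹ := by
  apply dpart_unique D H hDH hDH'
  · exact hDn.conj_mem _ (dpart_mem D H hDH a) _
  · have h1 : (h * dpart D H hDH a * h⁻¹)⁻¹ * (h * a * h⁻¹) =
        h * ((dpart D H hDH a)⁻¹ * a) * h⁻¹ := by group
    rw [h1]
    exact H.mul_mem (H.mul_mem hh (dpart_spec D H hDH a)) (H.inv_mem hh)

end decomp

section main

variable {G : Type u} [Group G] [Finite G]

/-- No nontrivial linear character of `D` is inverted by an element of `G`. -/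
def NoInv (D : Subgroup G) : Prop :=
  ∀ (L : G → ℂˣ), (∀ a ∈ D, ∀ b ∈ D, L (a * b) = L a * L b) →
    ∀ t : G, (∀ d ∈ D, L (t * d * t⁻¹) = (L d)⁻¹) → ∀ d ∈ D, L d = 1

theorem no_inverted_hom (p : ℕ) [Fact p.Prime]
    (hreal : ∀ χ : IrrCharacter G, (∀ g : G, (χ.1 g).im = 0) → ¬ p ∣ charDegree χ.1)
    (D H Q : Subgroup G) [hDn : D.Normal] (hDH : D ⊔ H = ⊤) (hDH' : D ⊓ H = ⊥)
    (hDab : ∀ x ∈ D, ∀ y ∈ D, x * y = y * x) (hQ : IsPGroup p Q)
    (hQD : ∀ D₁ : Subgroup G, (∀ d ∈ D, ∀ x ∈ Q, x * d * x⁻¹ * d⁻¹ ∈ D₁) → D ≤ D₁) :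
    NoInv D := by
  classical
  intro L hL t ht
  let _ : Fintype G := Fintype.ofFinite _
  have hL1 : L 1 = 1 := by
    have h := hL 1 D.one_mem 1 D.one_mem
    rw [mul_one] at h
    have h' : L 1 * L 1 = L 1 * 1 := by rw [mul_one]; exact h.symm
    exact mul_left_cancel h'
  have hLinv : ∀ a ∈ D, L a⁻¹ = (L a)⁻¹ := by
    intro a ha
    have h := hL a ha a⁻¹ (D.inv_mem ha)
    rw [mul_inv_cancel, hL1] at h
    exact eq_inv_of_mul_eq_one_right h.symm
  -- the stabilizer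
  let T : Subgroup G :=
    { carrier := {g | ∀ d ∈ D, L (g * d * g⁻¹) = L d}
      mul_mem' := by
        intro a b ha hb d hd
        have h1 : a * b * d * (a * b)⁻¹ = a * (b * d * b⁻¹) * a⁻¹ := by group
        rw [h1, ha _ (hDn.conj_mem d hd b), hb d hd]
      one_mem' := by
        intro d hd
        rw [one_mul, inv_one, mul_one]
      inv_mem' := by
        intro a ha d hd
        have h1 := ha (a⁻¹ * d * a⁻¹⁻¹) (hDn.conj_mem d hd a⁻¹)
        have h2 : a * (a⁻¹ * d * a⁻¹⁻¹) * a⁻¹ = d := by group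
        rw [h2] at h1
        exact h1.symm }
  have hDT : D ≤ T := by
    intro g hg d hd
    have h1 : g * d * g⁻¹ = d := by rw [hDab g hg d hd]; group
    rw [h1]
  have hcm : ∀ (s : G), ∀ d ∈ D, s⁻¹ * d * s ∈ D := by
    intro s d hd
    have := hDn.conj_mem d hd s⁻¹
    rwa [inv_inv] at this
  -- an element of the complement acting as `t`
  obtain ⟨t', ht'0⟩ : ∃ t' : G, t' = (dpart D H hDH t)⁻¹ * t := ⟨_, rfl⟩
  have ht'H : t' ∈ H := by rw [ht'0]; exact dpart_spec D H hDH t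
  have ht' : ∀ d ∈ D, L (t' * d * t'⁻¹) = (L d)⁻¹ := by
    intro d hd
    have h1 : t' * d * t'⁻¹ = t * d * t⁻¹ := by
      rw [ht'0]
      have h2 := hDab (dpart D H hDH t) (dpart_mem D H hDH t) (t * d * t⁻¹) (hDn.conj_mem d hd t)
      calc (dpart D H hDH t)⁻¹ * t * d * ((dpart D H hDH t)⁻¹ * t)⁻¹
          = (dpart D H hDH t)⁻¹ * ((t * d * t⁻¹) * dpart D H hDH t) := by group
        _ = (dpart D H hDH t)⁻¹ * (dpart D H hDH t * (t * d * t⁻¹)) := by rw [h2]
        _ = t * d * t⁻¹ := by group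
    rw [h1, ht d hd]
  have ht'inv : ∀ d ∈ D, L (t'⁻¹ * d * t') = (L d)⁻¹ := by
    intro d hd
    have h1 := ht' (t'⁻¹ * d * t') (hcm t' d hd)
    have h2 : t' * (t'⁻¹ * d * t') * t'⁻¹ = d := by group
    rw [h2] at h1
    rw [h1, inv_inv]
  have hnorm : ∀ z : G, z ∈ T → t' * z * t'⁻¹ ∈ T := by
    intro z hz d hd
    have hd' : t'⁻¹ * d * t' ∈ D := hcm t' d hd
    have h1 : t' * z * t'⁻¹ * d * (t' * z * t'⁻¹)⁻¹ =
        t' * (z * (t'⁻¹ * d * t') * z⁻¹) * t'⁻¹ := by group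
    rw [h1, ht' _ (hDn.conj_mem _ hd' z), hz _ hd', ht'inv d hd, inv_inv]
  have hnorm' : ∀ z : G, t' * z * t'⁻¹ ∈ T → z ∈ T := by
    intro z hz d hd
    have hd' : t' * d * t'⁻¹ ∈ D := hDn.conj_mem d hd t'
    have h1 : z * d * z⁻¹ =
        t'⁻¹ * ((t' * z * t'⁻¹) * (t' * d * t'⁻¹) * (t' * z * t'⁻¹)⁻¹) * t' := by group
    rw [h1, ht'inv _ (hDn.conj_mem _ hd' _), hz _ hd', ht' d hd, inv_inv]
  -- the characters
  let lam : ↥D →* ℂˣ := MonoidHom.mk' (fun d => L (d : G)) (fun a b => hL a a.2 b b.2)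
  let lamHat : ↥T →* ℂˣ := MonoidHom.mk' (fun y => L (dpart D H hDH (y : G))) (by
    intro a b
    show L (dpart D H hDH ((a : G) * (b : G))) = L (dpart D H hDH a) * L (dpart D H hDH b)
    rw [dpart_mul D H hDH hDH',
      hL _ (dpart_mem D H hDH a) _ (hDn.conj_mem _ (dpart_mem D H hDH b) _)]
    congr 1
    have hha : (dpart D H hDH (a : G))⁻¹ * a ∈ T :=
      T.mul_mem (T.inv_mem (hDT (dpart_mem D H hDH a))) a.2
    exact hha _ (dpart_mem D H hDH b))
  let φ : IrrCharacter ↥D :=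
    ⟨fun d => ((lam d : ℂˣ) : ℂ), Cfsg.Agent.Lib.CT.LinChar.isIrrCharacter_of_hom lam⟩
  let ξ : IrrCharacter ↥T :=
    ⟨fun y => ((lamHat y : ℂˣ) : ℂ), Cfsg.Agent.Lib.CT.LinChar.isIrrCharacter_of_hom lamHat⟩
  let _ : Fintype ↥D := Fintype.ofFinite _
  let _ : Fintype ↥T := Fintype.ofFinite _
  have : Finite (IrrCharacter G) := finite_irr
  let _ : Fintype (IrrCharacter G) := Fintype.ofFinite _
  have : Finite (IrrCharacter ↥D) := finite_irr
  let _ : Fintype (IrrCharacter ↥D) := Fintype.ofFinite _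
  have : Finite (IrrCharacter ↥T) := finite_irr
  let _ : Fintype (IrrCharacter ↥T) := Fintype.ofFinite _
  have hI : ∀ g : G, g ∈ T ↔ conjI D g φ = φ := by
    intro g
    constructor
    · intro hg
      apply Subtype.ext
      funext k
      rw [conjI_apply]
      show ((L ((MulAut.conjNormal g⁻¹ k : ↥D) : G) : ℂˣ) : ℂ) = ((L (k : G) : ℂˣ) : ℂ)
      rw [MulAut.conjNormal_apply, (T.inv_mem hg) (k : G) k.2]
    · intro hg
      have h1 : g⁻¹ ∈ T := by
        intro d hd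
        have h2 := congrFun (congrArg Subtype.val hg) ⟨d, hd⟩
        rw [conjI_apply] at h2
        have h3 : ((L ((MulAut.conjNormal g⁻¹ (⟨d, hd⟩ : ↥D) : ↥D) : G) : ℂˣ) : ℂ) =
            ((L d : ℂˣ) : ℂ) := h2
        rw [MulAut.conjNormal_apply] at h3
        exact Units.ext h3
      have := T.inv_mem h1
      rwa [inv_inv] at this
  have hξ : resTo hDT ξ.1 = φ.1 := by
    funext d
    rw [resTo_apply]
    show ((L (dpart D H hDH ((Subgroup.inclusion hDT d : ↥T) : G)) : ℂˣ) : ℂ) =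
      ((L (d : G) : ℂˣ) : ℂ)
    rw [Subgroup.coe_inclusion, dpart_of_mem D H hDH hDH' d.2]
  obtain ⟨χ, hχ, -, -, hdeg⟩ := induced_isIrr D φ T hI hDT ξ hξ
  have hφdeg : charDegree φ.1 = 1 := by
    have h1 := deg_cast φ
    have h2 : φ.1 1 = 1 := by
      show ((lam 1 : ℂˣ) : ℂ) = 1
      rw [map_one, Units.val_one]
    rw [h2] at h1
    exact_mod_cast h1.symm
  -- the induced character is real
  have hξinv : ∀ y : ↥T, (starRingEnd ℂ) (ξ.1 y) =
      (((L (dpart D H hDH (y : G)))⁻¹ : ℂˣ) : ℂ) := by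
    intro y
    rw [← Cfsg.Agent.Lib.CT.Wedderburn.char_apply_inv (irr_isCharacter ξ) y]
    show ((lamHat y⁻¹ : ℂˣ) : ℂ) = _
    rw [map_inv]
    rfl
  have hkey : ∀ z : G, (starRingEnd ℂ) (extendByZero T ξ.1 z) =
      extendByZero T ξ.1 (t' * z * t'⁻¹) := by
    intro z
    by_cases hz : z ∈ T
    · rw [extendByZero_apply_of_mem T ξ.1 hz, extendByZero_apply_of_mem T ξ.1 (hnorm z hz),
        hξinv]
      show _ = ((L (dpart D H hDH (t' * z * t'⁻¹)) : ℂˣ) : ℂ)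
      rw [dpart_conj D H hDH hDH' ht'H, ht' _ (dpart_mem D H hDH z)]
    · rw [extendByZero_apply_of_not_mem T ξ.1 hz,
        extendByZero_apply_of_not_mem T ξ.1 (fun h => hz (hnorm' z h)), map_zero]
  have hχreal : ∀ g : G, (χ.1 g).im = 0 := by
    intro g
    rw [← Complex.conj_eq_iff_im, ← hχ, indFun_apply, map_mul, map_inv₀, map_natCast, map_sum]
    congr 1
    rw [Finset.sum_congr rfl (fun x _ => hkey (x⁻¹ * g * x))]
    refine Fintype.sum_equiv (Equiv.mulRight t'⁻¹) _ _ (fun x => ?_)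
    congr 1
    simp only [Equiv.coe_mulRight]
    group
  have hTidx : ¬ p ∣ T.index := by
    have h1 := hreal χ hχreal
    rw [hdeg, hφdeg, mul_one] at h1
    exact h1
  -- a conjugate of `Q` lies in the stabilizer
  obtain ⟨q, hq⟩ := hQ.nonempty_fixed_point_of_prime_not_dvd_card (G ⧸ T)
    (by rw [← Subgroup.index_eq_card]; exact hTidx)
  obtain ⟨g, rfl⟩ := QuotientGroup.mk_surjective q
  have hg : ∀ x ∈ Q, g⁻¹ * x * g ∈ T := by
    intro x hx
    have h1 := MulAction.mem_fixedPoints.1 hq ⟨x, hx⟩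
    have h2 : ((x * g : G) : G ⧸ T) = (g : G ⧸ T) := h1
    rw [QuotientGroup.eq] at h2
    have h3 : g⁻¹ * x * g = ((x * g)⁻¹ * g)⁻¹ := by group
    rw [h3]
    exact T.inv_mem h2
  let D₁ : Subgroup G :=
    { carrier := {d | d ∈ D ∧ L (g⁻¹ * d * g) = 1}
      mul_mem' := by
        rintro a b ⟨ha, ha1⟩ ⟨hb, hb1⟩
        refine ⟨D.mul_mem ha hb, ?_⟩
        have h1 : g⁻¹ * (a * b) * g = (g⁻¹ * a * g) * (g⁻¹ * b * g) := by group
        rw [h1, hL _ (hcm g a ha) _ (hcm g b hb), ha1, hb1, one_mul]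
      one_mem' := by
        refine ⟨D.one_mem, ?_⟩
        rw [mul_one, inv_mul_cancel]
        exact hL1
      inv_mem' := by
        rintro a ⟨ha, ha1⟩
        refine ⟨D.inv_mem ha, ?_⟩
        have h1 : g⁻¹ * a⁻¹ * g = (g⁻¹ * a * g)⁻¹ := by group
        rw [h1, hLinv _ (hcm g a ha), ha1, inv_one] }
  have hD₁ : D ≤ D₁ := by
    apply hQD D₁
    intro d hd x hx
    refine ⟨D.mul_mem (hDn.conj_mem d hd x) (D.inv_mem hd), ?_⟩
    have h1 : g⁻¹ * (x * d * x⁻¹ * d⁻¹) * g =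
        ((g⁻¹ * x * g) * (g⁻¹ * d * g) * (g⁻¹ * x * g)⁻¹) * (g⁻¹ * d * g)⁻¹ := by group
    rw [h1, hL _ (hDn.conj_mem _ (hcm g d hd) _) _ (D.inv_mem (hcm g d hd)),
      hg x hx _ (hcm g d hd), hLinv _ (hcm g d hd), mul_inv_cancel]
  intro d hd
  have h1 := (hD₁ (hDn.conj_mem d hd g)).2
  have h2 : g⁻¹ * (g * d * g⁻¹) * g = d := by group
  rw [h2] at h1
  exact h1

/-- An element whose square centralizes `D` centralizes `D`. -/
theorem sq_centralizes (D : Subgroup G) [hDn : D.Normal]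
    (hDab : ∀ x ∈ D, ∀ y ∈ D, x * y = y * x) (hNI : NoInv D) (t : G)
    (ht : t * t ∈ Subgroup.centralizer (D : Set G)) : t ∈ Subgroup.centralizer (D : Set G) := by
  classical
  by_contra hcon
  rw [Subgroup.mem_centralizer_iff] at hcon
  push_neg at hcon
  obtain ⟨u, hu, hut⟩ := hcon
  haveI : IsMulCommutative ↥D := ⟨⟨fun a b => Subtype.ext (hDab a a.2 b b.2)⟩⟩
  have hc : (⟨t * u * t⁻¹ * u⁻¹, D.mul_mem (hDn.conj_mem u hu t) (D.inv_mem hu)⟩ : ↥D) ≠ 1 := by
    intro h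
    have h1 : t * u * t⁻¹ * u⁻¹ = 1 := congrArg Subtype.val h
    apply hut
    have h2 : t * u * t⁻¹ = u := mul_inv_eq_one.1 h1
    calc u * t = t * u * t⁻¹ * t := by rw [h2]
      _ = t * u := by group
  obtain ⟨μ, hμ⟩ := CommGroup.exists_apply_ne_one_of_hasEnoughRootsOfUnity ↥D ℂ hc
  let M : G → ℂˣ := fun g => if h : g ∈ D then μ ⟨g, h⟩ else 1
  have hM : ∀ a (ha : a ∈ D), M a = μ ⟨a, ha⟩ := fun a ha => dif_pos ha
  have hMmul : ∀ a ∈ D, ∀ b ∈ D, M (a * b) = M a * M b := by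
    intro a ha b hb
    rw [hM a ha, hM b hb, hM _ (D.mul_mem ha hb), ← map_mul]
    rfl
  let L : G → ℂˣ := fun g => M (t * g * t⁻¹) * (M g)⁻¹
  have hLmul : ∀ a ∈ D, ∀ b ∈ D, L (a * b) = L a * L b := by
    intro a ha b hb
    show M (t * (a * b) * t⁻¹) * (M (a * b))⁻¹ =
      M (t * a * t⁻¹) * (M a)⁻¹ * (M (t * b * t⁻¹) * (M b)⁻¹)
    have h1 : t * (a * b) * t⁻¹ = (t * a * t⁻¹) * (t * b * t⁻¹) := by group
    rw [h1, hMmul _ (hDn.conj_mem a ha t) _ (hDn.conj_mem b hb t), hMmul a ha b hb, mul_inv,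
      mul_mul_mul_comm]
  have hLt : ∀ d ∈ D, L (t * d * t⁻¹) = (L d)⁻¹ := by
    intro d hd
    show M (t * (t * d * t⁻¹) * t⁻¹) * (M (t * d * t⁻¹))⁻¹ = (M (t * d * t⁻¹) * (M d)⁻¹)⁻¹
    have h2 := Subgroup.mem_centralizer_iff.1 ht d hd
    have h3 : t * (t * d * t⁻¹) * t⁻¹ = d := by
      calc t * (t * d * t⁻¹) * t⁻¹ = (t * t * d) * t⁻¹ * t⁻¹ := by group
        _ = d * (t * t) * t⁻¹ * t⁻¹ := by rw [h2]
        _ = d := by group
    rw [h3, mul_inv, inv_inv, mul_comm]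
  have h := hNI L hLmul t hLt u hu
  apply hμ
  have h3 : μ ⟨t * u * t⁻¹ * u⁻¹, D.mul_mem (hDn.conj_mem u hu t) (D.inv_mem hu)⟩ =
      M (t * u * t⁻¹) * (M u)⁻¹ := by
    rw [hM _ (hDn.conj_mem u hu t), hM u hu, ← map_inv, ← map_mul]
    rfl
  rw [h3]
  exact h

/-- `D` has odd order. -/
theorem odd_card (D : Subgroup G) [hDn : D.Normal]
    (hDab : ∀ x ∈ D, ∀ y ∈ D, x * y = y * x) (hNI : NoInv D) : Odd (Nat.card ↥D) := by
  classical
  by_contra hcon
  rw [Nat.not_odd_iff_even] at hcon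
  have h2 : 2 ∣ Nat.card ↥D := hcon.two_dvd
  haveI : IsMulCommutative ↥D := ⟨⟨fun a b => Subtype.ext (hDab a a.2 b b.2)⟩⟩
  obtain ⟨e⟩ := CommGroup.monoidHom_mulEquiv_of_hasEnoughRootsOfUnity ↥D ℂ
  haveI : Fact (Nat.Prime 2) := ⟨Nat.prime_two⟩
  obtain ⟨d₀, hd₀⟩ := exists_prime_orderOf_dvd_card' 2 h2
  obtain ⟨μ, hμ0⟩ : ∃ μ : ↥D →* ℂˣ, μ = e.symm d₀ := ⟨_, rfl⟩
  have hμ2 : μ * μ = 1 := by
    have h1 : d₀ * d₀ = 1 := by rw [← pow_two, ← hd₀, pow_orderOf_eq_one]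
    rw [hμ0, ← map_mul, h1, map_one]
  have hμ1 : μ ≠ 1 := by
    intro h
    have h1 : d₀ = 1 := by
      have h3 := congrArg e h
      rw [hμ0, MulEquiv.apply_symm_apply, map_one] at h3
      exact h3
    rw [h1, orderOf_one] at hd₀
    norm_num at hd₀
  let M : G → ℂˣ := fun g => if h : g ∈ D then μ ⟨g, h⟩ else 1
  have hM : ∀ a (ha : a ∈ D), M a = μ ⟨a, ha⟩ := fun a ha => dif_pos ha
  have hMmul : ∀ a ∈ D, ∀ b ∈ D, M (a * b) = M a * M b := by
    intro a ha b hb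
    rw [hM a ha, hM b hb, hM _ (D.mul_mem ha hb), ← map_mul]
    rfl
  have hMt : ∀ d ∈ D, M (1 * d * 1⁻¹) = (M d)⁻¹ := by
    intro d hd
    rw [one_mul, inv_one, mul_one, hM d hd]
    have h1 : μ ⟨d, hd⟩ * μ ⟨d, hd⟩ = 1 := by
      have h3 := congrArg (fun f : ↥D →* ℂˣ => f ⟨d, hd⟩) hμ2
      exact h3
    exact eq_inv_of_mul_eq_one_left h1
  have h := hNI M hMmul 1 hMt
  apply hμ1
  ext x
  have h1 := h (x : G) x.2
  rw [hM _ x.2] at h1
  rw [h1]
  rfl

/-- If a subgroup contains every element whose square it contains, it contains every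
`2`-element. -/
theorem mem_of_sq_closed (C : Subgroup G) (hsq : ∀ t : G, t * t ∈ C → t ∈ C) (s : G) (k : ℕ)
    (hk : orderOf s = 2 ^ k) : s ∈ C := by
  have key : ∀ j : ℕ, ∀ s : G, s ^ (2 ^ j) ∈ C → s ∈ C := by
    intro j
    induction j with
    | zero =>
      intro s hs
      rwa [pow_zero, pow_one] at hs
    | succ j ih =>
      intro s hs
      apply ih
      apply hsq
      rw [← pow_add, ← two_mul, ← pow_succ']
      exact hs
  apply key k
  rw [← hk, pow_orderOf_eq_one]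
  exact C.one_mem

end main

end Cfsg.Agent.Lib.Helper81.RealB
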