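import Mathlib

set_option autoImplicit false
set_option linter.style.haveILetI false
set_option linter.unusedSectionVars false

/-!
# Averaging over a group acting coprimely on an abelian normal subgroup

`N` is an abelian normal subgroup of `G` and `Q` a finite subgroup.  The endomorphism
`avg N Q` of `N` sends `n` to the product of its `Q`-conjugates.  Its kernel `Dk N Q`,
viewed inside `G`, plays the role of `[N, Q]` when the orders are coprime:

* `Dk_conj_mem`, `Dk_normal`: it is normalized by the normalizer of `Q`;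
* `Dk_inf_normalizer`: it meets the normalizer of `Q` trivially;
* `le_Dk_sup_normalizer`: `N` lies in the join of `Dk N Q` and the normalizer of `Q`;
* `Dk_le_of_comm`: it is generated by its commutators with `Q`.
-/

namespace Cfsg.Agent.Lib.Helper81.RealC

open scoped IsMulCommutative

universe u

variable {G : Type u} [Group G] (N Q : Subgroup G) [hN : N.Normal] [hNc : IsMulCommutative ↥N]
  [Fintype ↥Q]

/-- The averaging endomorphism of `N`: the product of the conjugation maps by the elements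
of `Q`. -/
noncomputable def avg : ↥N →* ↥N :=
  ∏ x : ↥Q, (MulAut.conjNormal (x : G) : ↥N ≃* ↥N).toMonoidHom

theorem avg_apply (n : ↥N) : avg N Q n = ∏ x : ↥Q, MulAut.conjNormal (x : G) n := by
  unfold avg
  rw [MonoidHom.finsetProd_apply]
  rfl

theorem avg_conj_mem (x₀ : ↥Q) (n : ↥N) :
    avg N Q (MulAut.conjNormal (x₀ : G) n) = avg N Q n := by
  rw [avg_apply, avg_apply]
  refine Fintype.prod_equiv (Equiv.mulRight x₀) _ _ (fun x => ?_)
  apply Subtype.ext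
  simp only [MulAut.conjNormal_apply, Equiv.coe_mulRight, Subgroup.coe_mul]
  group

/-- Conjugation by an element of the normalizer, as a permutation of `Q`. -/
def conjEquiv (h : G) (hh : h ∈ Subgroup.normalizer (Q : Set G)) : ↥Q ≃ ↥Q where
  toFun x := ⟨h⁻¹ * x * h, by
    have h1 := (Subgroup.mem_normalizer_iff.1 (Subgroup.inv_mem _ hh) (x : G)).1 x.2
    rwa [inv_inv] at h1⟩
  invFun x := ⟨h * x * h⁻¹, (Subgroup.mem_normalizer_iff.1 hh (x : G)).1 x.2⟩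
  left_inv x := by
    apply Subtype.ext
    show h * (h⁻¹ * (x : G) * h) * h⁻¹ = x
    group
  right_inv x := by
    apply Subtype.ext
    show h⁻¹ * (h * (x : G) * h⁻¹) * h = x
    group

theorem avg_conj_normalizer (h : G) (hh : h ∈ Subgroup.normalizer (Q : Set G)) (n : ↥N) :
    avg N Q (MulAut.conjNormal h n) = MulAut.conjNormal h (avg N Q n) := by
  rw [avg_apply, avg_apply, map_prod]
  refine Fintype.prod_equiv (conjEquiv Q h hh) _ _ (fun x => ?_)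
  apply Subtype.ext
  simp only [MulAut.conjNormal_apply, conjEquiv, Equiv.coe_fn_mk]
  group

theorem conj_avg (x₀ : ↥Q) (n : ↥N) :
    MulAut.conjNormal (x₀ : G) (avg N Q n) = avg N Q n := by
  rw [← avg_conj_normalizer N Q (x₀ : G) (Subgroup.le_normalizer x₀.2), avg_conj_mem]

theorem avg_fixed (n : ↥N) (hn : ∀ x : ↥Q, MulAut.conjNormal (x : G) n = n) :
    avg N Q n = n ^ Nat.card ↥Q := by
  rw [avg_apply, Finset.prod_congr rfl (fun x _ => hn x), Finset.prod_const, Finset.card_univ,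
    Nat.card_eq_fintype_card]

/-- The kernel of the averaging map, as a subgroup of `G`. -/
noncomputable def Dk : Subgroup G := (avg N Q).ker.map N.subtype

theorem mem_Dk {g : G} : g ∈ Dk N Q ↔ ∃ h : g ∈ N, avg N Q ⟨g, h⟩ = 1 := by
  constructor
  · rintro ⟨n, hn, rfl⟩
    exact ⟨n.2, MonoidHom.mem_ker.1 hn⟩
  · rintro ⟨h, hg⟩
    exact ⟨⟨g, h⟩, MonoidHom.mem_ker.2 hg, rfl⟩

theorem Dk_le : Dk N Q ≤ N := by
  intro g hg
  exact ((mem_Dk N Q).1 hg).1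

theorem Dk_conj_mem (h : G) (hh : h ∈ Subgroup.normalizer (Q : Set G)) {d : G}
    (hd : d ∈ Dk N Q) : h * d * h⁻¹ ∈ Dk N Q := by
  obtain ⟨hdN, hd1⟩ := (mem_Dk N Q).1 hd
  refine (mem_Dk N Q).2 ⟨hN.conj_mem d hdN h, ?_⟩
  have h1 := avg_conj_normalizer N Q h hh ⟨d, hdN⟩
  rw [hd1, map_one] at h1
  have h2 : (⟨h * d * h⁻¹, hN.conj_mem d hdN h⟩ : ↥N) = MulAut.conjNormal h ⟨d, hdN⟩ := by
    apply Subtype.ext
    rw [MulAut.conjNormal_apply]
  rw [h2]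
  exact h1

theorem comm_of_mem {a b : G} (ha : a ∈ N) (hb : b ∈ N) : a * b = b * a :=
  congrArg Subtype.val (mul_comm (⟨a, ha⟩ : ↥N) ⟨b, hb⟩)

theorem Dk_normal (hfr : Subgroup.normalizer (Q : Set G) ⊔ N = ⊤) : (Dk N Q).Normal := by
  refine ⟨fun d hd g => ?_⟩
  have hg : g ∈ ((Subgroup.normalizer (Q : Set G) ⊔ N : Subgroup G) : Set G) := by
    rw [hfr]; exact Subgroup.mem_top g
  rw [Subgroup.mul_normal] at hg
  obtain ⟨h, hh, n, hn, rfl⟩ := Set.mem_mul.1 hg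
  have hdN : d ∈ N := Dk_le N Q hd
  have h1 : h * n * d * (h * n)⁻¹ = h * d * h⁻¹ := by
    have h2 : n * d = d * n := comm_of_mem N hn hdN
    calc h * n * d * (h * n)⁻¹ = h * (n * d) * n⁻¹ * h⁻¹ := by group
      _ = h * (d * n) * n⁻¹ * h⁻¹ := by rw [h2]
      _ = h * d * h⁻¹ := by group
  rw [h1]
  exact Dk_conj_mem N Q h hh hd

variable [Finite ↥N]

theorem fixed_of_normalizer (hcop : Nat.Coprime (Nat.card ↥Q) (Nat.card ↥N)) {d : G}
    (hdN : d ∈ N) (hdn : d ∈ Subgroup.normalizer (Q : Set G)) (x : ↥Q) :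
    MulAut.conjNormal (x : G) (⟨d, hdN⟩ : ↥N) = ⟨d, hdN⟩ := by
  apply Subtype.ext
  rw [MulAut.conjNormal_apply]
  show (x : G) * d * (x : G)⁻¹ = d
  have h1 : (x : G) * d * (x : G)⁻¹ * d⁻¹ ∈ N ⊓ Q := by
    refine ⟨N.mul_mem (hN.conj_mem d hdN x) (N.inv_mem hdN), ?_⟩
    have h2 : d * (x : G)⁻¹ * d⁻¹ ∈ Q :=
      (Subgroup.mem_normalizer_iff.1 hdn _).1 (Q.inv_mem x.2)
    have h3 : (x : G) * d * (x : G)⁻¹ * d⁻¹ = (x : G) * (d * (x : G)⁻¹ * d⁻¹) := by group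
    rw [h3]
    exact Q.mul_mem x.2 h2
  have h4 : N ⊓ Q = ⊥ := (Subgroup.disjoint_of_coprime_natCard hcop.symm).eq_bot
  rw [h4, Subgroup.mem_bot] at h1
  exact mul_inv_eq_one.1 h1

theorem Dk_inf_normalizer (hcop : Nat.Coprime (Nat.card ↥Q) (Nat.card ↥N)) :
    Dk N Q ⊓ Subgroup.normalizer (Q : Set G) = ⊥ := by
  rw [eq_bot_iff]
  rintro d ⟨hd, hdn⟩
  obtain ⟨hdN, hd1⟩ := (mem_Dk N Q).1 hd
  have h2 := avg_fixed N Q ⟨d, hdN⟩ (fixed_of_normalizer N Q hcop hdN hdn)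
  rw [hd1] at h2
  have h3 : (⟨d, hdN⟩ : ↥N) ^ Nat.card ↥N = 1 := pow_card_eq_one'
  have h4 := pow_gcd_eq_one.2 ⟨h2.symm, h3⟩
  rw [show Nat.gcd (Nat.card ↥Q) (Nat.card ↥N) = 1 from hcop, pow_one] at h4
  rw [Subgroup.mem_bot]
  exact congrArg Subtype.val h4

theorem le_Dk_sup_normalizer (hcop : Nat.Coprime (Nat.card ↥Q) (Nat.card ↥N)) :
    N ≤ Dk N Q ⊔ Subgroup.normalizer (Q : Set G) := by
  intro n hn
  have hc : (Nat.card ↥N).Coprime (Nat.card ↥Q) := hcop.symm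
  obtain ⟨c, hc0⟩ : ∃ c : ↥N, c = (powCoprime hc).symm (avg N Q ⟨n, hn⟩) := ⟨_, rfl⟩
  have hcpow : c ^ Nat.card ↥Q = avg N Q ⟨n, hn⟩ := by
    have h1 : powCoprime hc c = avg N Q ⟨n, hn⟩ := by
      rw [hc0, Equiv.apply_symm_apply]
    exact h1
  have hcfix : ∀ x : ↥Q, MulAut.conjNormal (x : G) c = c := by
    intro x
    apply (powCoprime hc).injective
    show (MulAut.conjNormal (x : G) c) ^ Nat.card ↥Q = c ^ Nat.card ↥Q
    rw [← map_pow, hcpow, conj_avg]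
  have havgc : avg N Q c = avg N Q ⟨n, hn⟩ := by
    rw [avg_fixed N Q c hcfix, hcpow]
  have hd : n * (c : G)⁻¹ ∈ Dk N Q := by
    refine (mem_Dk N Q).2 ⟨N.mul_mem hn (N.inv_mem c.2), ?_⟩
    have h1 : (⟨n * (c : G)⁻¹, N.mul_mem hn (N.inv_mem c.2)⟩ : ↥N) = ⟨n, hn⟩ * c⁻¹ := rfl
    rw [h1, map_mul, map_inv, havgc, mul_inv_cancel]
  have hcN : (c : G) ∈ Subgroup.normalizer (Q : Set G) := by
    apply Subgroup.centralizer_le_normalizer (Q : Set G)
    rw [Subgroup.mem_centralizer_iff]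
    intro x hx
    have h1 := congrArg Subtype.val (hcfix ⟨x, hx⟩)
    rw [MulAut.conjNormal_apply] at h1
    have h2 : x * (c : G) * x⁻¹ = c := h1
    calc x * (c : G) = x * (c : G) * x⁻¹ * x := by group
      _ = (c : G) * x := by rw [h2]
  have h3 : n = n * (c : G)⁻¹ * c := by group
  rw [h3]
  exact Subgroup.mul_mem_sup hd hcN

theorem Dk_le_of_comm (hcop : Nat.Coprime (Nat.card ↥Q) (Nat.card ↥N)) (D₁ : Subgroup G)
    (h : ∀ d ∈ Dk N Q, ∀ x ∈ Q, x * d * x⁻¹ * d⁻¹ ∈ D₁) : Dk N Q ≤ D₁ := by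
  intro d hd
  obtain ⟨hdN, hd1⟩ := (mem_Dk N Q).1 hd
  have hc : (Nat.card ↥N).Coprime (Nat.card ↥Q) := hcop.symm
  have h1 : ∏ x : ↥Q, (MulAut.conjNormal (x : G) (⟨d, hdN⟩ : ↥N) * (⟨d, hdN⟩ : ↥N)⁻¹) =
      ((⟨d, hdN⟩ : ↥N) ^ Nat.card ↥Q)⁻¹ := by
    rw [Finset.prod_mul_distrib, ← avg_apply, hd1, one_mul, Finset.prod_const, Finset.card_univ,
      Nat.card_eq_fintype_card, inv_pow]
  have h2 : ∏ x : ↥Q, (MulAut.conjNormal (x : G) (⟨d, hdN⟩ : ↥N) * (⟨d, hdN⟩ : ↥N)⁻¹) ∈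
      D₁.comap N.subtype := by
    apply Subgroup.prod_mem
    intro x _
    rw [Subgroup.mem_comap]
    show ((MulAut.conjNormal (x : G) (⟨d, hdN⟩ : ↥N) : ↥N) : G) * d⁻¹ ∈ D₁
    rw [MulAut.conjNormal_apply]
    exact h d hd x x.2
  rw [h1] at h2
  have h3 : (⟨d, hdN⟩ : ↥N) ^ Nat.card ↥Q ∈ D₁.comap N.subtype := (Subgroup.inv_mem_iff _).1 h2
  have h4 : (⟨d, hdN⟩ : ↥N) = (powCoprime hc).symm ((⟨d, hdN⟩ : ↥N) ^ Nat.card ↥Q) := by
    have h5 : powCoprime hc (⟨d, hdN⟩ : ↥N) = (⟨d, hdN⟩ : ↥N) ^ Nat.card ↥Q := rfl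
    rw [← h5, Equiv.symm_apply_apply]
  rw [powCoprime_symm_apply] at h4
  have h6 : (⟨d, hdN⟩ : ↥N) ∈ D₁.comap N.subtype := by
    rw [h4]
    exact Subgroup.zpow_mem _ h3 _
  exact h6

end Cfsg.Agent.Lib.Helper81.RealC
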