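import Mathlib
import Cfsg.Prelude.Def_Characters
import Cfsg.Agent.Lib.Helper81.RealB
import Cfsg.Agent.Lib.Helper81.RealC
import Cfsg.Agent.Lib.Helper9.CS2
import Cfsg.Agent.Lib.CT.Kernel

set_option autoImplicit false
set_option linter.style.haveILetI false
set_option linter.unusedSectionVars false
set_option maxHeartbeats 1000000

/-!
# Real characters of degree prime to `p`: normal Sylow subgroups

Let the real irreducible characters of `G` have degree prime to `p` and let `G` have a solvable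
normal subgroup of index prime to `p`.

* `main_ind`: if `W ≤ U` are normal subgroups, `W` is generated by `2`-elements and the index
  of `W` in `U` is a power of `p`, then `U` has a normal Sylow `p`-subgroup (normal in `G`).
* `sylow_normal_of_exists`, `exists_solv`, `closure_normal_of_conj`: glue.
-/

namespace Cfsg.Agent.Lib.Helper81.RealD

open Cfsg
open Cfsg.Agent.Lib.Helper81.Irr Cfsg.Agent.Lib.Helper81.CliffCorr Cfsg.Agent.Lib.Helper81.RealB
  Cfsg.Agent.Lib.Helper81.RealC

universe u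

section group

variable {G : Type u} [Group G]

theorem closure_normal_of_conj (T : Set G) (hT : ∀ s ∈ T, ∀ g : G, g * s * g⁻¹ ∈ T) :
    (Subgroup.closure T).Normal := by
  refine ⟨fun n hn g => ?_⟩
  induction hn using Subgroup.closure_induction with
  | mem x hx => exact Subgroup.subset_closure (hT x hx g)
  | one =>
    rw [mul_one, mul_inv_cancel]
    exact Subgroup.one_mem _
  | mul x y _ _ hx hy =>
    have h1 : g * (x * y) * g⁻¹ = (g * x * g⁻¹) * (g * y * g⁻¹) := by group
    rw [h1]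
    exact Subgroup.mul_mem _ hx hy
  | inv x _ hx =>
    have h1 : g * x⁻¹ * g⁻¹ = (g * x * g⁻¹)⁻¹ := by group
    rw [h1]
    exact Subgroup.inv_mem _ hx

theorem orderOf_conj_eq (g s : G) : orderOf (g * s * g⁻¹) = orderOf s := by
  have h1 := orderOf_injective (MulAut.conj g).toMonoidHom (MulEquiv.injective _) s
  exact h1

theorem pow_closure_normal (q : ℕ) :
    (Subgroup.closure {g : G | ∃ k : ℕ, orderOf g = q ^ k}).Normal := by
  apply closure_normal_of_conj
  rintro s ⟨k, hk⟩ g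
  exact ⟨k, by rw [orderOf_conj_eq, hk]⟩

theorem mem_of_pow_mem_of_coprime (W : Subgroup G) {d : G} {m c : ℕ} (h1 : d ^ m ∈ W)
    (h2 : d ^ c = 1) (hcop : Nat.Coprime c m) : d ∈ W := by
  have h := Nat.gcd_eq_gcd_ab c m
  rw [show Nat.gcd c m = 1 from hcop] at h
  have h3 : d = (d ^ m) ^ (Nat.gcdB c m) := by
    calc d = d ^ (((1 : ℕ) : ℤ)) := by rw [Nat.cast_one, zpow_one]
      _ = d ^ ((c : ℤ) * Nat.gcdA c m + (m : ℤ) * Nat.gcdB c m) := by rw [h]
      _ = (d ^ c) ^ (Nat.gcdA c m) * (d ^ m) ^ (Nat.gcdB c m) := by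
        rw [zpow_add, zpow_mul, zpow_mul, zpow_natCast, zpow_natCast]
      _ = (d ^ m) ^ (Nat.gcdB c m) := by rw [h2, one_zpow, one_mul]
  rw [h3]
  exact Subgroup.zpow_mem _ h1 _

variable [Finite G]

theorem exists_solv (p : ℕ) [Fact p.Prime]
    (hsolv : Group.IsSolvable ↥(Subgroup.closure {g : G | ∃ k : ℕ, orderOf g = p ^ k})) :
    ∃ S : Subgroup G, S.Normal ∧ Group.IsSolvable ↥S ∧ ¬ p ∣ S.index := by
  refine ⟨_, pow_closure_normal p, hsolv, ?_⟩
  obtain ⟨P⟩ := (inferInstance : Nonempty (Sylow p G))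
  have h1 : (P : Subgroup G) ≤ Subgroup.closure {g : G | ∃ k : ℕ, orderOf g = p ^ k} := by
    intro x hx
    apply Subgroup.subset_closure
    obtain ⟨k, hk⟩ := (IsPGroup.iff_orderOf.1 P.isPGroup') ⟨x, hx⟩
    exact ⟨k, by rw [← hk, Subgroup.orderOf_mk]⟩
  intro h
  exact P.not_dvd_index (h.trans (Subgroup.index_dvd_of_le h1))

theorem sylow_normal_of_exists (p : ℕ) [Fact p.Prime] (U : Subgroup G)
    (h : ∃ Q : Subgroup G, Q ≤ U ∧ Q.Normal ∧ IsPGroup p Q ∧ ¬ p ∣ Q.relIndex U)
    (Q' : Sylow p ↥U) : (Q' : Subgroup ↥U).Normal := by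
  obtain ⟨Q, _, hQn, hQp, hQi⟩ := h
  have hQ₁p : IsPGroup p ↥(Q.subgroupOf U) := hQp.comap_subtype
  obtain ⟨P₁, hP₁⟩ : ∃ P₁ : Sylow p ↥U, (P₁ : Subgroup ↥U) = Q.subgroupOf U :=
    ⟨hQ₁p.toSylow hQi, IsPGroup.toSylow_coe _ _⟩
  have hP₁n : (P₁ : Subgroup ↥U).Normal := by
    rw [hP₁]
    exact hQn.subgroupOf U
  haveI := Sylow.unique_of_normal P₁ hP₁n
  have h1 : Q' = P₁ := Subsingleton.elim _ _
  rw [h1]
  exact hP₁n

theorem frattini_coprime (p : ℕ) [hp : Fact p.Prime] (N Q : Subgroup G) [hN : N.Normal]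
    (hQ : IsPGroup p Q) (hcop : Nat.Coprime (Nat.card ↥Q) (Nat.card ↥N))
    (hQN : (Q ⊔ N).Normal) : Subgroup.normalizer (Q : Set G) ⊔ N = ⊤ := by
  by_cases hQb : Q = ⊥
  · have h1 : Subgroup.normalizer ((⊥ : Subgroup G) : Set G) = ⊤ :=
      Subgroup.normalizer_eq_top_iff.2 inferInstance
    rw [hQb, h1, top_sup_eq]
  · obtain ⟨a, ha⟩ := IsPGroup.iff_card.1 hQ
    have ha0 : a ≠ 0 := by
      rintro rfl
      rw [pow_zero] at ha
      exact hQb (Subgroup.card_eq_one.1 ha)
    have hpN : ¬ p ∣ Nat.card ↥N := by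
      intro hdvd
      have h1 : p ∣ Nat.gcd (Nat.card ↥Q) (Nat.card ↥N) :=
        Nat.dvd_gcd (by rw [ha]; exact dvd_pow_self p ha0) hdvd
      rw [show Nat.gcd (Nat.card ↥Q) (Nat.card ↥N) = 1 from hcop] at h1
      exact hp.out.one_lt.ne' (Nat.dvd_one.1 h1)
    haveI := hQN
    have hidx : ¬ p ∣ (Q.subgroupOf (Q ⊔ N)).index := by
      have h1 : Nat.card ↥(Q ⊔ N) = Nat.card ↥N * N.relIndex Q := by
        have h2 := Subgroup.card_mul_index (N.subgroupOf (Q ⊔ N))
        rw [Nat.card_congr (Subgroup.subgroupOfEquivOfLe (le_sup_right : N ≤ Q ⊔ N)).toEquiv]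
          at h2
        have h3 : (N.subgroupOf (Q ⊔ N)).index = N.relIndex Q := Subgroup.relIndex_sup_right Q N
        rw [h3] at h2
        exact h2.symm
      have h4 : Nat.card ↥(Q ⊔ N) = Nat.card ↥Q * (Q.subgroupOf (Q ⊔ N)).index := by
        have h2 := Subgroup.card_mul_index (Q.subgroupOf (Q ⊔ N))
        rw [Nat.card_congr (Subgroup.subgroupOfEquivOfLe (le_sup_left : Q ≤ Q ⊔ N)).toEquiv]
          at h2
        exact h2.symm
      obtain ⟨e, he⟩ := Subgroup.relIndex_dvd_card N Q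
      intro hdvd
      have hpos : 0 < N.relIndex Q := by
        rcases Nat.eq_zero_or_pos (N.relIndex Q) with h0 | h0
        · rw [h0, zero_mul] at he
          exact absurd he (Nat.card_pos (α := ↥Q)).ne'
        · exact h0
      have h5 : (Q.subgroupOf (Q ⊔ N)).index * e = Nat.card ↥N := by
        apply Nat.eq_of_mul_eq_mul_left hpos
        calc N.relIndex Q * ((Q.subgroupOf (Q ⊔ N)).index * e)
            = (N.relIndex Q * e) * (Q.subgroupOf (Q ⊔ N)).index := by ring
          _ = Nat.card ↥Q * (Q.subgroupOf (Q ⊔ N)).index := by rw [← he]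
          _ = Nat.card ↥(Q ⊔ N) := h4.symm
          _ = Nat.card ↥N * N.relIndex Q := h1
          _ = N.relIndex Q * Nat.card ↥N := by ring
      apply hpN
      rw [← h5]
      exact Dvd.dvd.mul_right hdvd e
    have hQ₁p : IsPGroup p ↥(Q.subgroupOf (Q ⊔ N)) := hQ.comap_subtype
    obtain ⟨P, hP₀⟩ : ∃ P : Sylow p ↥(Q ⊔ N), (P : Subgroup ↥(Q ⊔ N)) = Q.subgroupOf (Q ⊔ N) :=
      ⟨hQ₁p.toSylow hidx, IsPGroup.toSylow_coe _ _⟩
    have hP : ((P : Subgroup ↥(Q ⊔ N)).map (Q ⊔ N).subtype) = Q := by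
      rw [hP₀]
      exact Subgroup.map_subgroupOf_eq_of_le le_sup_left
    have h1 := Sylow.normalizer_sup_eq_top P
    rw [hP, ← sup_assoc,
      sup_eq_left.2 (Subgroup.le_normalizer : Q ≤ Subgroup.normalizer (Q : Set G))] at h1
    exact h1

end group

section chars

variable {G : Type u} [Group G] [Finite G]

theorem hreal_quotient (p : ℕ)
    (hreal : ∀ χ : IrrCharacter G, (∀ g : G, (χ.1 g).im = 0) → ¬ p ∣ charDegree χ.1)
    (N : Subgroup G) [N.Normal] :
    ∀ χ : IrrCharacter (G ⧸ N), (∀ g : G ⧸ N, (χ.1 g).im = 0) → ¬ p ∣ charDegree χ.1 := by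
  intro χ hχ
  have h1 := hreal (Cfsg.Agent.Lib.CT.Kernel.irrQuotientEquiv N χ).1 (fun g => hχ (g : G ⧸ N))
  have h2 : charDegree (Cfsg.Agent.Lib.CT.Kernel.irrQuotientEquiv N χ).1.1 = charDegree χ.1 := by
    have h3 := deg_cast (Cfsg.Agent.Lib.CT.Kernel.irrQuotientEquiv N χ).1
    have h4 := deg_cast χ
    have h5 : (Cfsg.Agent.Lib.CT.Kernel.irrQuotientEquiv N χ).1.1 1 = χ.1 1 := rfl
    rw [h5, h4] at h3
    exact_mod_cast h3.symm
  rwa [h2] at h1

/-- The structure produced by a normal abelian subgroup `N` of order prime to `|Q|` with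
`Q ⊔ N` normal. -/
theorem skel (p : ℕ) [Fact p.Prime]
    (hreal : ∀ χ : IrrCharacter G, (∀ g : G, (χ.1 g).im = 0) → ¬ p ∣ charDegree χ.1)
    (N Q : Subgroup G) [hN : N.Normal] [hNc : IsMulCommutative ↥N] (hQ : IsPGroup p Q)
    (hcop : Nat.Coprime (Nat.card ↥Q) (Nat.card ↥N)) (hQN : (Q ⊔ N).Normal) :
    ∃ D : Subgroup G, D.Normal ∧ D ≤ N ∧ D ⊓ Subgroup.normalizer (Q : Set G) = ⊥ ∧
      D ⊔ Subgroup.normalizer (Q : Set G) = ⊤ ∧
      (∀ D₁ : Subgroup G, (∀ d ∈ D, ∀ x ∈ Q, x * d * x⁻¹ * d⁻¹ ∈ D₁) → D ≤ D₁) ∧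
      (∀ t : G, t * t ∈ Subgroup.centralizer (D : Set G) →
        t ∈ Subgroup.centralizer (D : Set G)) ∧
      Odd (Nat.card ↥D) := by
  classical
  let _ : Fintype ↥Q := Fintype.ofFinite _
  have hfr := frattini_coprime p N Q hQ hcop hQN
  haveI hDn : (Dk N Q).Normal := Dk_normal N Q hfr
  have hDN : Dk N Q ≤ N := Dk_le N Q
  have hinf := Dk_inf_normalizer N Q hcop
  have hsup : Dk N Q ⊔ Subgroup.normalizer (Q : Set G) = ⊤ := by
    rw [eq_top_iff, ← hfr]
    exact sup_le le_sup_right (le_Dk_sup_normalizer N Q hcop)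
  have hcomm := Dk_le_of_comm N Q hcop
  have hDab : ∀ x ∈ Dk N Q, ∀ y ∈ Dk N Q, x * y = y * x :=
    fun x hx y hy => comm_of_mem N (hDN hx) (hDN hy)
  have hNI : NoInv (Dk N Q) :=
    no_inverted_hom p hreal (Dk N Q) (Subgroup.normalizer (Q : Set G)) Q hsup hinf hDab hQ hcomm
  exact ⟨Dk N Q, hDn, hDN, hinf, hsup, hcomm, sq_centralizes (Dk N Q) hDab hNI,
    odd_card (Dk N Q) hDab hNI⟩

end chars

/-- Main induction: a normal subgroup `U` which is a `p`-extension of a normal subgroup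
generated by `2`-elements has a Sylow `p`-subgroup that is normal in `G`. -/
theorem main_ind (p : ℕ) [hp : Fact p.Prime] : ∀ (n : ℕ) (G : Type u) [Group G] [Finite G],
    Nat.card G = n →
    (∃ S : Subgroup G, S.Normal ∧ Group.IsSolvable ↥S ∧ ¬ p ∣ S.index) →
    (∀ χ : IrrCharacter G, (∀ g : G, (χ.1 g).im = 0) → ¬ p ∣ charDegree χ.1) →
    ∀ W U : Subgroup G, W.Normal → U.Normal → W ≤ U →
    (∃ T : Set G, (∀ s ∈ T, ∃ k : ℕ, orderOf s = 2 ^ k) ∧ W = Subgroup.closure T) →
    (∃ a : ℕ, W.relIndex U = p ^ a) →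
    ∃ Q : Subgroup G, Q ≤ U ∧ Q.Normal ∧ IsPGroup p Q ∧ ¬ p ∣ Q.relIndex U := by
  intro n
  induction n using Nat.strong_induction_on with
  | _ n ih =>
  intro G _ _ hn hS hreal W U hWn hUn hWU hT hidx
  classical
  obtain ⟨S, hSn, hSsol, hSidx⟩ := hS
  by_cases hSb : S = ⊥
  · refine ⟨⊥, bot_le, inferInstance, IsPGroup.of_bot, ?_⟩
    rw [Subgroup.relIndex_bot_left]
    intro h
    apply hSidx
    rw [hSb, Subgroup.index_bot]
    exact h.trans (Subgroup.card_subgroup_dvd_card U)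
  · haveI := hSn
    haveI := hSsol
    haveI := hWn
    haveI := hUn
    obtain ⟨r, N₀, hr, -, hN₀n, hN₀ne, hN₀r, hN₀c⟩ :=
      Cfsg.Agent.Lib.Helper9.CS2.exists_abelian_normal_pgroup_le S hSb
    haveI := hN₀n
    haveI := hN₀c
    obtain ⟨π, hπ, hker⟩ : ∃ π : G →* G ⧸ N₀, Function.Surjective π ∧ π.ker = N₀ :=
      ⟨QuotientGroup.mk' N₀, QuotientGroup.mk'_surjective N₀, QuotientGroup.ker_mk' N₀⟩
    have hcard : Nat.card (G ⧸ N₀) < n := by
      have h1 : Nat.card G = Nat.card (G ⧸ N₀) * Nat.card N₀ :=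
        Subgroup.card_eq_card_quotient_mul_card_subgroup N₀
      have h2 : 2 ≤ Nat.card N₀ := by
        have h3 : Nat.card N₀ ≠ 1 := fun h => hN₀ne (Subgroup.card_eq_one.mp h)
        have h4 : 0 < Nat.card N₀ := Nat.card_pos
        omega
      have h5 : 0 < Nat.card (G ⧸ N₀) := Nat.card_pos
      rw [← hn, h1]; nlinarith
    obtain ⟨T, hT2, hWT⟩ := hT
    obtain ⟨a, ha⟩ := hidx
    have hS' : ∃ S' : Subgroup (G ⧸ N₀), S'.Normal ∧ Group.IsSolvable ↥S' ∧ ¬ p ∣ S'.index := by
      refine ⟨S.map π, hSn.map π hπ, ?_, ?_⟩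
      · exact Group.isSolvable_of_surjective (MonoidHom.subgroupMap_surjective π S)
      · intro h
        exact hSidx (h.trans (Subgroup.index_map_dvd S hπ))
    have hT' : ∃ T' : Set (G ⧸ N₀), (∀ s ∈ T', ∃ k : ℕ, orderOf s = 2 ^ k) ∧
        W.map π = Subgroup.closure T' := by
      refine ⟨π '' T, ?_, ?_⟩
      · rintro _ ⟨s, hs, rfl⟩
        obtain ⟨k, hk⟩ := hT2 s hs
        have h1 : orderOf (π s) ∣ 2 ^ k := by
          rw [← hk]; exact orderOf_map_dvd π s
        obtain ⟨j, -, hj⟩ := (Nat.dvd_prime_pow Nat.prime_two).1 h1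
        exact ⟨j, hj⟩
      · rw [hWT, MonoidHom.map_closure]
    have hidx' : ∃ b : ℕ, (W.map π).relIndex (U.map π) = p ^ b := by
      have h1 : (W.map π).relIndex (U.map π) ∣ W.relIndex U := by
        rw [Subgroup.relIndex_map_map, hker]
        have h2 : U ⊔ N₀ = U ⊔ (W ⊔ N₀) := by
          rw [← sup_assoc, sup_eq_left.2 hWU]
        haveI : (W ⊔ N₀).Normal := Subgroup.sup_normal W N₀
        rw [h2, Subgroup.relIndex_sup_right]
        exact Subgroup.relIndex_dvd_of_le_left U le_sup_left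
      rw [ha] at h1
      obtain ⟨b, -, hb⟩ := (Nat.dvd_prime_pow hp.out).1 h1
      exact ⟨b, hb⟩
    obtain ⟨Qb, -, hQbn, hQbp, hQbi⟩ := ih (Nat.card (G ⧸ N₀)) hcard (G ⧸ N₀) rfl hS'
      (hreal_quotient p hreal N₀) (W.map π) (U.map π) (hWn.map π hπ) (hUn.map π hπ)
      (Subgroup.map_mono hWU) hT' hidx'
    obtain ⟨R, hR0⟩ : ∃ R : Subgroup G, R = Qb.comap π := ⟨_, rfl⟩
    haveI hRn : R.Normal := by rw [hR0]; exact hQbn.comap π
    have hN₀R : N₀ ≤ R := by
      rw [hR0]
      exact hker.symm.le.trans (Subgroup.ker_le_comap π Qb)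
    have hRU : ¬ p ∣ R.relIndex U := by
      rw [hR0, Subgroup.relIndex_comap]
      exact hQbi
    obtain ⟨A, hA0⟩ : ∃ A : Subgroup G, A = R ⊓ U := ⟨_, rfl⟩
    haveI hAn : A.Normal := by rw [hA0]; exact Subgroup.normal_inf_normal R U
    have hAU : A ≤ U := by rw [hA0]; exact inf_le_right
    have hAR : A ≤ R := by rw [hA0]; exact inf_le_left
    have hAi : ¬ p ∣ A.relIndex U := by
      rw [hA0, Subgroup.inf_relIndex_right]; exact hRU
    by_cases hrp : r = p
    · have hRp : IsPGroup p R := by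
        rw [hR0]
        apply hQbp.comap_of_ker_isPGroup π
        rw [hker, ← hrp]
        exact hN₀r
      exact ⟨A, hAU, hAn, hRp.to_le hAR, hAi⟩
    · obtain ⟨P⟩ := (inferInstance : Nonempty (Sylow p ↥A))
      obtain ⟨Q, hQ0⟩ : ∃ Q : Subgroup G, Q = (P : Subgroup ↥A).map A.subtype := ⟨_, rfl⟩
      have hQA : Q ≤ A := by rw [hQ0]; exact Subgroup.map_subtype_le _
      have hQp : IsPGroup p Q := by rw [hQ0]; exact P.isPGroup'.map _
      have hQAi : ¬ p ∣ Q.relIndex A := by
        have h1 : Q.subgroupOf A = (P : Subgroup ↥A) := by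
          rw [hQ0]
          exact Subgroup.comap_map_eq_self_of_injective (Subgroup.subtype_injective A) _
        show ¬ p ∣ (Q.subgroupOf A).index
        rw [h1]
        exact P.not_dvd_index
      have hQUi : ¬ p ∣ Q.relIndex U := by
        rw [← Subgroup.relIndex_mul_relIndex Q A U hQA hAU]
        intro h
        rcases (Nat.Prime.dvd_mul hp.out).1 h with h | h
        · exact hQAi h
        · exact hAi h
      haveI : Fact r.Prime := ⟨hr⟩
      have hcop : Nat.Coprime (Nat.card ↥Q) (Nat.card ↥N₀) := by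
        obtain ⟨i, hi⟩ := IsPGroup.iff_card.1 hQp
        obtain ⟨j, hj⟩ := IsPGroup.iff_card.1 hN₀r
        rw [hi, hj]
        exact Nat.Coprime.pow _ _ ((Nat.coprime_primes hp.out hr).2 (fun h => hrp h.symm))
      have hQN : (Q ⊔ N₀).Normal := by
        have hAle : A ≤ Q ⊔ N₀ := by
          obtain ⟨B, hB0⟩ : ∃ B : Subgroup G, B = Q ⊔ (A ⊓ N₀) := ⟨_, rfl⟩
          have h1 : B.relIndex A ∣ Q.relIndex A :=
            Subgroup.relIndex_dvd_of_le_left A (by rw [hB0]; exact le_sup_left)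
          have h2 : B.relIndex A ∣ N₀.relIndex A := by
            have h2' : B.relIndex A ∣ (A ⊓ N₀).relIndex A :=
              Subgroup.relIndex_dvd_of_le_left A (by rw [hB0]; exact le_sup_right)
            rw [Subgroup.inf_relIndex_left] at h2'
            exact h2'
          have h3 : N₀.relIndex A ∣ Nat.card ↥Qb := by
            have h4 : N₀.relIndex (A ⊔ N₀) = N₀.relIndex A := Subgroup.relIndex_sup_right A N₀
            have h5 := Subgroup.relIndex_mul_relIndex N₀ (A ⊔ N₀) R le_sup_right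
              (sup_le hAR hN₀R)
            have h6 : N₀.relIndex R = Nat.card ↥Qb := by
              calc N₀.relIndex R = (Subgroup.comap π ⊥).relIndex R := by
                    rw [MonoidHom.comap_bot, hker]
                _ = (⊥ : Subgroup (G ⧸ N₀)).relIndex (R.map π) := Subgroup.relIndex_comap ⊥ π R
                _ = Nat.card ↥(R.map π) := Subgroup.relIndex_bot_left _
                _ = Nat.card ↥Qb := by
                    rw [hR0, Subgroup.map_comap_eq_self_of_surjective hπ]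
            have h7 : N₀.relIndex (A ⊔ N₀) ∣ N₀.relIndex R := Dvd.intro _ h5
            rw [h4, h6] at h7
            exact h7
          obtain ⟨k, hk⟩ := IsPGroup.iff_card.1 hQbp
          rw [hk] at h3
          obtain ⟨j, -, hj⟩ := (Nat.dvd_prime_pow hp.out).1 (h2.trans h3)
          have hj0 : j = 0 := by
            by_contra hj0
            apply hQAi
            have h8 : p ∣ B.relIndex A := by rw [hj]; exact dvd_pow_self p hj0
            exact h8.trans h1
          rw [hj0, pow_zero] at hj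
          have h8 : A ≤ B := Subgroup.relIndex_eq_one.1 hj
          rw [hB0] at h8
          exact h8.trans (sup_le le_sup_left (inf_le_right.trans le_sup_right))
        have h9 : Q ⊔ N₀ = A ⊔ N₀ :=
          le_antisymm (sup_le (hQA.trans le_sup_left) le_sup_right) (sup_le hAle le_sup_right)
        rw [h9]
        exact Subgroup.sup_normal A N₀
      obtain ⟨D, hDn, hDN, hDinf, hDsup, hDcomm, hDsq, hDodd⟩ :=
        skel p hreal N₀ Q hQp hcop hQN
      haveI := hDn
      have hC2 : ∀ s : G, ∀ k : ℕ, orderOf s = 2 ^ k → s ∈ Subgroup.centralizer (D : Set G) :=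
        fun s k hk => mem_of_sq_closed _ hDsq s k hk
      have hDc : D ≤ Subgroup.centralizer (D : Set G) := by
        intro d hd
        rw [Subgroup.mem_centralizer_iff]
        intro y hy
        exact comm_of_mem N₀ (hDN hy) (hDN hd)
      have hN2 : ∀ s : G, ∀ k : ℕ, orderOf s = 2 ^ k →
          s ∈ Subgroup.normalizer (Q : Set G) := by
        intro s k hk
        have hs : s ∈ ((D ⊔ Subgroup.normalizer (Q : Set G) : Subgroup G) : Set G) := by
          rw [hDsup]; exact Subgroup.mem_top s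
        rw [Subgroup.normal_mul] at hs
        obtain ⟨d, hd, h, hh, hdh⟩ := Set.mem_mul.1 hs
        have hhc : h ∈ Subgroup.centralizer (D : Set G) := by
          have h1 : h = d⁻¹ * s := by rw [← hdh]; group
          rw [h1]
          exact Subgroup.mul_mem _ (Subgroup.inv_mem _ (hDc hd)) (hC2 s k hk)
        have hcomm : Commute d h := Subgroup.mem_centralizer_iff.1 hhc d hd
        have h2 : d ^ (2 ^ k) * h ^ (2 ^ k) = 1 := by
          rw [← hcomm.mul_pow, hdh, ← hk, pow_orderOf_eq_one]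
        have h3 : d ^ (2 ^ k) ∈ D ⊓ Subgroup.normalizer (Q : Set G) := by
          refine ⟨D.pow_mem hd _, ?_⟩
          rw [eq_inv_of_mul_eq_one_left h2]
          exact Subgroup.inv_mem _ (Subgroup.pow_mem _ hh _)
        rw [hDinf, Subgroup.mem_bot] at h3
        have h4 : d ^ Nat.card ↥D = 1 := by
          rw [← orderOf_dvd_iff_pow_eq_one]
          exact Subgroup.orderOf_dvd_natCard D hd
        have h5 := pow_gcd_eq_one.2 ⟨h3, h4⟩
        rw [show Nat.gcd (2 ^ k) (Nat.card ↥D) = 1 from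
          Nat.Coprime.pow_left k (Nat.coprime_two_left.2 hDodd), pow_one] at h5
        rw [← hdh, h5, one_mul]
        exact hh
      have hWN : W ≤ Subgroup.normalizer (Q : Set G) := by
        rw [hWT, Subgroup.closure_le]
        intro s hs
        obtain ⟨k, hk⟩ := hT2 s hs
        exact hN2 s k hk
      have hDU : D ≤ U := by
        apply hDcomm U
        intro d hd x hx
        have h1 : x * d * x⁻¹ * d⁻¹ = x * (d * x⁻¹ * d⁻¹) := by group
        rw [h1]
        have hxU : x ∈ U := hAU (hQA hx)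
        exact U.mul_mem hxU (hUn.conj_mem _ (U.inv_mem hxU) d)
      have hDW : D ≤ W := by
        intro d hd
        have hdU : d ∈ U := hDU hd
        have h1 : d ^ (p ^ a) ∈ W := by
          haveI : (W.subgroupOf U).Normal := hWn.subgroupOf U
          have h2 : ((⟨d, hdU⟩ : ↥U) : ↥U ⧸ W.subgroupOf U) ^
              Nat.card (↥U ⧸ W.subgroupOf U) = 1 := pow_card_eq_one'
          rw [← Subgroup.index_eq_card] at h2
          have h3 : (W.subgroupOf U).index = p ^ a := ha
          rw [h3, ← QuotientGroup.mk_pow, QuotientGroup.eq_one_iff] at h2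
          exact Subgroup.mem_subgroupOf.1 h2
        have h4 : d ^ Nat.card ↥N₀ = 1 := by
          rw [← orderOf_dvd_iff_pow_eq_one]
          exact Subgroup.orderOf_dvd_natCard N₀ (hDN hd)
        have h5 : Nat.Coprime (Nat.card ↥N₀) (p ^ a) := by
          obtain ⟨j, hj⟩ := IsPGroup.iff_card.1 hN₀r
          rw [hj]
          exact Nat.Coprime.pow _ _ ((Nat.coprime_primes hr hp.out).2 hrp)
        exact mem_of_pow_mem_of_coprime W h1 h4 h5
      have hDb : D = ⊥ := by
        rw [eq_bot_iff, ← hDinf]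
        exact le_inf le_rfl (hDW.trans hWN)
      have hQn : Q.Normal := by
        rw [← Subgroup.normalizer_eq_top_iff, ← hDsup, hDb, bot_sup_eq]
      exact ⟨Q, hQA.trans hAU, hQn, hQp, hQUi⟩

end Cfsg.Agent.Lib.Helper81.RealD
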