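import Mathlib
import Cfsg.Prelude.Def_Characters
import Cfsg.Agent.Lib.Helper81.GlaubReal
import Cfsg.Agent.Lib.Helper81.RealD
import Cfsg.Agent.S4519
import Cfsg.Agent.S4866

set_option autoImplicit false
set_option linter.style.haveILetI false
set_option linter.unusedSectionVars false
set_option maxHeartbeats 1000000

/-!
# Real characters of degree prime to `p`: real classes meet the Sylow normalizer

* `exists_real_ext`: an invariant real character of a normal subgroup of odd index has a real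
  extension.
* `exists_conj_inv`: if the real characters of `G` have degree prime to `p`, every real character
  of a normal subgroup of odd index has a conjugate fixed by a given `p`-subgroup.
* `core`: if moreover the normal subgroup `K` has order prime to `p`, every real element of `K`
  is conjugate to an element of the normalizer of a Sylow `p`-subgroup.
-/

namespace Cfsg.Agent.Lib.Helper81.RealE

open Cfsg
open Cfsg.Agent.Lib.Helper81.Irr Cfsg.Agent.Lib.Helper81.Basic Cfsg.Agent.Lib.Helper81.Expand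
  Cfsg.Agent.Lib.Helper81.Mult Cfsg.Agent.Lib.Helper81.Cliff Cfsg.Agent.Lib.Helper81.CliffCorr
  Cfsg.Agent.Lib.Helper81.GlaubCore Cfsg.Agent.Lib.Helper81.Glaub
  Cfsg.Agent.Lib.Helper81.GlaubClass Cfsg.Agent.Lib.Helper81.GlaubReal

universe u

section ext

variable {G : Type u} [Group G] [Finite G]

/-- A real irreducible character of a normal subgroup of odd index which is invariant in `G` has
a real extension to `G`. -/
theorem exists_real_ext (K : Subgroup G) [hKn : K.Normal] (hodd : Odd K.index)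
    (θ : IrrCharacter ↥K) (hθ : ∀ k, (θ.1 k).im = 0) (hinv : ∀ g : G, conjI K g θ = θ) :
    ∃ ξ : IrrCharacter G, (∀ g, (ξ.1 g).im = 0) ∧ ∀ k : ↥K, ξ.1 k = θ.1 k := by
  classical
  let _ : Fintype G := Fintype.ofFinite _
  let _ : Fintype ↥K := Fintype.ofFinite _
  have hn : 0 < Nat.card G := Nat.card_pos
  obtain ⟨k, hk⟩ : ∃ k, k = Nat.card G - 1 := ⟨_, rfl⟩
  have hk1 : k + 1 = Nat.card G := by omega
  have hpow : ∀ g : G, g ^ k = g⁻¹ := by
    intro g
    have h1 : g ^ (k + 1) = 1 := by rw [hk1]; exact pow_card_eq_one'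
    rw [pow_succ] at h1
    exact eq_inv_of_mul_eq_one_left h1
  have hcop : Nat.Coprime k (Nat.card G) := by
    rw [← hk1]
    simp
  have hke : k ^ (2 ^ 1) ≡ 1 [MOD Nat.card G] := by
    rw [← hk1, pow_one]
    apply (Nat.modEq_iff_dvd).2
    refine ⟨1 - (k : ℤ), ?_⟩
    push_cast
    ring
  have hθk : ∀ n : ↥K, (θ : ↥K → ℂ) (n ^ k) = (θ : ↥K → ℂ) n := by
    intro n
    have h1 : n ^ k = n⁻¹ := by
      apply Subtype.ext
      rw [Subgroup.coe_pow, hpow]
      rfl
    rw [h1, Cfsg.Agent.Lib.CT.Wedderburn.char_apply_inv (irr_isCharacter θ)]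
    exact Complex.conj_eq_iff_im.2 (hθ n)
  obtain ⟨χ, ⟨-, hχk, hχres⟩, -⟩ :=
    Cfsg.Agent.S4519.result K hodd k 1 hcop hke (fun g _ => hpow g) θ hθk
  refine ⟨χ, fun g => ?_, ?_⟩
  · have h1 := hχk g
    rw [hpow, Cfsg.Agent.Lib.CT.Wedderburn.char_apply_inv (irr_isCharacter χ)] at h1
    exact Complex.conj_eq_iff_im.1 h1
  · apply hχres
    intro g n
    have h1 := congrFun (congrArg Subtype.val (hinv g⁻¹)) n
    rw [conjI_apply] at h1
    rw [← h1]
    refine congrArg θ.1 ?_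
    apply Subtype.ext
    rw [MulAut.conjNormal_apply, inv_inv]

end ext

section conj

open Cfsg.Agent.Lib.CT.FrobRec

variable {G : Type u} [Group G] [Finite G]

/-- If the real irreducible characters of `G` have degree prime to `p`, every real irreducible
character of a normal subgroup of odd index has a conjugate which is invariant under a given
`p`-subgroup. -/
theorem exists_conj_inv (p : ℕ) [Fact p.Prime]
    (hreal : ∀ χ : IrrCharacter G, (∀ g : G, (χ.1 g).im = 0) → ¬ p ∣ charDegree χ.1)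
    (K : Subgroup G) [hKn : K.Normal] (hodd : Odd K.index) (P : Subgroup G) (hP : IsPGroup p P)
    (θ : IrrCharacter ↥K) (hθ : ∀ k, (θ.1 k).im = 0) :
    ∃ g : G, ∀ y ∈ P, conjI K y (conjI K g θ) = conjI K g θ := by
  classical
  let I : Subgroup G :=
    { carrier := {g | conjI K g θ = θ}
      mul_mem' := by
        intro a b ha hb
        show conjI K (a * b) θ = θ
        rw [conjI_mul, show conjI K b θ = θ from hb]
        exact ha
      one_mem' := conjI_one K θ
      inv_mem' := by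
        intro a ha
        show conjI K a⁻¹ θ = θ
        have h1 : conjI K a⁻¹ (conjI K a θ) = θ := by
          rw [← conjI_mul, inv_mul_cancel, conjI_one]
        rw [show conjI K a θ = θ from ha] at h1
        exact h1 }
  have hI : ∀ g : G, g ∈ I ↔ conjI K g θ = θ := fun g => Iff.rfl
  have hKI : K ≤ I := fun g hg => conjI_of_mem K g hg θ
  let K' : Subgroup ↥I := K.subgroupOf I
  haveI hK'n : K'.Normal := hKn.subgroupOf I
  have hodd' : Odd K'.index := by
    have h1 : K'.index ∣ K.index := Subgroup.relIndex_dvd_index_of_normal K I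
    exact Odd.of_dvd_nat hodd h1
  let e : ↥K' ≃* ↥K := Subgroup.subgroupOfEquivOfLe hKI
  have he : ∀ x : ↥K', ((e x : ↥K) : G) = ((x : ↥I) : G) := fun x => rfl
  let θ' : IrrCharacter ↥K' := irrComp e θ
  have hθ' : ∀ x, (θ'.1 x).im = 0 := fun x => hθ (e x)
  have hinv' : ∀ g : ↥I, conjI K' g θ' = θ' := by
    intro g
    apply Subtype.ext
    funext x
    rw [conjI_apply]
    show θ.1 (e (MulAut.conjNormal g⁻¹ x)) = θ.1 (e x)
    have h1 : e (MulAut.conjNormal g⁻¹ x) = MulAut.conjNormal (g : G)⁻¹ (e x) := by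
      apply Subtype.ext
      rw [he, MulAut.conjNormal_apply, MulAut.conjNormal_apply, he]
      rfl
    rw [h1, ← conjI_apply, show conjI K (g : G) θ = θ from g.2]
  obtain ⟨ξ, hξreal, hξres⟩ := exists_real_ext K' hodd' θ' hθ' hinv'
  have hξ : resTo hKI ξ.1 = θ.1 := by
    funext n
    rw [resTo_apply]
    have h1 := hξres (e.symm n)
    have h2 : ((e.symm n : ↥K') : ↥I) = Subgroup.inclusion hKI n := by
      apply Subtype.ext
      rw [← he, MulEquiv.apply_symm_apply]
      rfl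
    rw [h2] at h1
    rw [h1]
    show θ.1 (e (e.symm n)) = θ.1 n
    rw [MulEquiv.apply_symm_apply]
  let _ : Fintype G := Fintype.ofFinite _
  let _ : Fintype ↥K := Fintype.ofFinite _
  let _ : Fintype ↥I := Fintype.ofFinite _
  have : Finite (IrrCharacter G) := finite_irr
  let _ : Fintype (IrrCharacter G) := Fintype.ofFinite _
  have : Finite (IrrCharacter ↥K) := finite_irr
  let _ : Fintype (IrrCharacter ↥K) := Fintype.ofFinite _
  have : Finite (IrrCharacter ↥I) := finite_irr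
  let _ : Fintype (IrrCharacter ↥I) := Fintype.ofFinite _
  obtain ⟨χ, hχ, -, -, hdeg⟩ := induced_isIrr K θ I hI hKI ξ hξ
  have hχreal : ∀ g : G, (χ.1 g).im = 0 := by
    intro g
    rw [← Complex.conj_eq_iff_im, ← hχ, indFun_apply, map_mul, map_inv₀, map_natCast, map_sum]
    congr 1
    apply Finset.sum_congr rfl
    intro x _
    by_cases hz : x⁻¹ * g * x ∈ I
    · rw [extendByZero_apply_of_mem I ξ.1 hz]
      exact Complex.conj_eq_iff_im.2 (hξreal _)
    · rw [extendByZero_apply_of_not_mem I ξ.1 hz, map_zero]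
  have hIidx : ¬ p ∣ I.index := by
    have h1 := hreal χ hχreal
    rw [hdeg] at h1
    exact fun h => h1 (Dvd.dvd.mul_right h _)
  obtain ⟨q, hq⟩ := hP.nonempty_fixed_point_of_prime_not_dvd_card (G ⧸ I)
    (by rw [← Subgroup.index_eq_card]; exact hIidx)
  obtain ⟨g, rfl⟩ := QuotientGroup.mk_surjective q
  have hg : ∀ x ∈ P, g⁻¹ * x * g ∈ I := by
    intro x hx
    have h1 := MulAction.mem_fixedPoints.1 hq ⟨x, hx⟩
    have h2 : ((x * g : G) : G ⧸ I) = (g : G ⧸ I) := h1
    rw [QuotientGroup.eq] at h2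
    have h3 : g⁻¹ * x * g = ((x * g)⁻¹ * g)⁻¹ := by group
    rw [h3]
    exact I.inv_mem h2
  refine ⟨g, fun y hy => ?_⟩
  have h1 : conjI K (g⁻¹ * y * g) θ = θ := hg y hy
  have h2 : conjI K g (conjI K (g⁻¹ * y * g) θ) = conjI K y (conjI K g θ) := by
    rw [← conjI_mul, ← conjI_mul]
    congr 1
    group
  rw [← h2, h1]

end conj

section setup

variable {G : Type u} [Group G] (K : Subgroup G) [hKn : K.Normal] (P : Subgroup G)

/-- The inclusion of `K ∩ N_G(P)`, as a subgroup of `N_G(P)`, into `K`. -/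
def iota : ↥(K.subgroupOf (Subgroup.normalizer (P : Set G))) →* ↥K :=
  MonoidHom.codRestrict ((Subgroup.normalizer (P : Set G)).subtype.comp
    (K.subgroupOf (Subgroup.normalizer (P : Set G))).subtype) K
    (fun c => Subgroup.mem_subgroupOf.1 c.2)

theorem iota_coe (c : ↥(K.subgroupOf (Subgroup.normalizer (P : Set G)))) :
    ((iota K P c : ↥K) : G) = ((c : ↥(Subgroup.normalizer (P : Set G))) : G) := rfl

theorem iota_injective : Function.Injective (iota K P) := by
  intro c d h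
  apply Subtype.ext
  apply Subtype.ext
  exact congrArg (fun z : ↥K => (z : G)) h

/-- A `p`-subgroup meets a normal subgroup of order prime to `p` trivially. -/
theorem inf_eq_bot [Finite G] (p : ℕ) [Fact p.Prime] (hP : IsPGroup p P)
    (hpK : ¬ p ∣ Nat.card K) : P ⊓ K = ⊥ := by
  have h1 : IsPGroup p ↥(P ⊓ K) := hP.to_le inf_le_left
  obtain ⟨n, hn⟩ := IsPGroup.iff_card.1 h1
  have h2 : Nat.card ↥(P ⊓ K) ∣ Nat.card K := Subgroup.card_dvd_of_le inf_le_right
  rcases Nat.eq_zero_or_pos n with h0 | h0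
  · rw [h0, pow_zero] at hn
    exact Subgroup.card_eq_one.1 hn
  · exfalso
    apply hpK
    rw [hn] at h2
    exact (dvd_pow_self p h0.ne').trans h2

/-- Elements of `K` normalizing `P` centralize `P`. -/
theorem commute_of_mem [Finite G] (p : ℕ) [Fact p.Prime] (hP : IsPGroup p P)
    (hpK : ¬ p ∣ Nat.card K) (k : G) (hk : k ∈ K)
    (hkN : k ∈ Subgroup.normalizer (P : Set G)) (y : G) (hy : y ∈ P) : y * k * y⁻¹ = k := by
  have h1 : y * k * y⁻¹ * k⁻¹ ∈ P ⊓ K := by
    refine ⟨?_, ?_⟩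
    · have h2 : k * y⁻¹ * k⁻¹ ∈ P := (Subgroup.mem_normalizer_iff.1 hkN y⁻¹).1 (P.inv_mem hy)
      have h3 : y * k * y⁻¹ * k⁻¹ = y * (k * y⁻¹ * k⁻¹) := by group
      rw [h3]
      exact P.mul_mem hy h2
    · exact K.mul_mem (hKn.conj_mem k hk y) (K.inv_mem hk)
  rw [inf_eq_bot K P p hP hpK, Subgroup.mem_bot] at h1
  exact mul_inv_eq_one.1 h1

/-- The image of `P` in the automorphism group of `K`. -/
def autImage : Subgroup (MulAut ↥K) := P.map (MulAut.conjNormal : G →* MulAut ↥K)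

theorem autImage_pgroup (p : ℕ) (hP : IsPGroup p P) : IsPGroup p (autImage K P) :=
  hP.map _

theorem iota_range [Finite G] (p : ℕ) [Fact p.Prime] (hP : IsPGroup p P)
    (hpK : ¬ p ∣ Nat.card K) (k : ↥K) :
    k ∈ (iota K P).range ↔ ∀ s ∈ autImage K P, s k = k := by
  constructor
  · rintro ⟨c, rfl⟩ s ⟨y, hy, rfl⟩
    apply Subtype.ext
    rw [MulAut.conjNormal_apply]
    exact commute_of_mem K P p hP hpK _ (iota K P c).2 c.1.2 y hy
  · intro h
    have h1 : (k : G) ∈ Subgroup.normalizer (P : Set G) := by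
      apply Subgroup.centralizer_le_normalizer
      rw [Subgroup.mem_centralizer_iff]
      intro y hy
      have h2 := congrArg Subtype.val (h (MulAut.conjNormal y) ⟨y, hy, rfl⟩)
      rw [MulAut.conjNormal_apply] at h2
      calc y * (k : G) = (y * (k : G) * y⁻¹) * y := by group
        _ = (k : G) * y := by rw [h2]
    exact ⟨⟨⟨(k : G), h1⟩, Subgroup.mem_subgroupOf.2 k.2⟩, Subtype.ext rfl⟩

/-- Invariance under the image of `P` in terms of the conjugation action. -/
theorem inv_iff (θ : IrrCharacter ↥K) :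
    (∀ s ∈ autImage K P, ∀ k, θ.1 (s k) = θ.1 k) ↔ ∀ y ∈ P, conjI K y θ = θ := by
  constructor
  · intro h y hy
    apply Subtype.ext
    funext k
    rw [conjI_apply]
    exact h _ ⟨y⁻¹, P.inv_mem hy, rfl⟩ k
  · rintro h s ⟨y, hy, rfl⟩ k
    have h1 := congrFun (congrArg Subtype.val (h y⁻¹ (P.inv_mem hy))) k
    rw [conjI_apply, inv_inv] at h1
    exact h1

/-- The normalizer of `P` preserves the invariant characters. -/
theorem inv_conj (n : G) (hn : n ∈ Subgroup.normalizer (P : Set G)) (θ : IrrCharacter ↥K)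
    (hθ : ∀ y ∈ P, conjI K y θ = θ) : ∀ y ∈ P, conjI K y (conjI K n θ) = conjI K n θ := by
  intro y hy
  have h1 : n⁻¹ * y * n ∈ P := by
    have h2 := (Subgroup.mem_normalizer_iff.1 (Subgroup.inv_mem _ hn) y).1 hy
    rwa [inv_inv] at h2
  have h3 : conjI K n (conjI K (n⁻¹ * y * n) θ) = conjI K y (conjI K n θ) := by
    rw [← conjI_mul, ← conjI_mul]
    congr 1
    group
  rw [← h3, hθ _ h1]

/-- Equivariance of the multiplicities under the normalizer. -/
theorem mult_conj [Fintype ↥(K.subgroupOf (Subgroup.normalizer (P : Set G)))]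
    (n : ↥(Subgroup.normalizer (P : Set G))) (θ : IrrCharacter ↥K)
    (β : IrrCharacter ↥(K.subgroupOf (Subgroup.normalizer (P : Set G)))) :
    mult (fun c => (conjI K (n : G) θ).1 (iota K P c))
        (conjI (K.subgroupOf (Subgroup.normalizer (P : Set G))) n β) =
      mult (fun c => θ.1 (iota K P c)) β := by
  have h1 := mult_comp_equiv
    (MulAut.conjNormal n⁻¹ : ↥(K.subgroupOf (Subgroup.normalizer (P : Set G))) ≃*
      ↥(K.subgroupOf (Subgroup.normalizer (P : Set G))))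
    (fun c => θ.1 (iota K P c)) β
  have h2 : (fun d : ↥(K.subgroupOf (Subgroup.normalizer (P : Set G))) =>
      θ.1 (iota K P ((MulAut.conjNormal n⁻¹ :
        ↥(K.subgroupOf (Subgroup.normalizer (P : Set G))) ≃*
          ↥(K.subgroupOf (Subgroup.normalizer (P : Set G)))) d))) =
      fun c => (conjI K (n : G) θ).1 (iota K P c) := by
    funext d
    rw [conjI_apply]
    refine congrArg θ.1 ?_
    apply Subtype.ext
    rw [iota_coe, MulAut.conjNormal_apply, MulAut.conjNormal_apply, iota_coe]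
    rfl
  rw [h2] at h1
  exact h1

end setup

section core

variable {G : Type u} [Group G] [Finite G]

/-- Core case: `K` is a normal subgroup of odd index and of order prime to `p`, and the real
irreducible characters of `G` have degree prime to `p`.  Then every real element of `K` is
conjugate to an element of the normalizer of a Sylow `p`-subgroup. -/
theorem core (p : ℕ) [Fact p.Prime]
    (hreal : ∀ χ : IrrCharacter G, (∀ g : G, (χ.1 g).im = 0) → ¬ p ∣ charDegree χ.1)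
    (K : Subgroup G) [hKn : K.Normal] (hodd : Odd K.index) (hpK : ¬ p ∣ Nat.card K)
    (P : Sylow p G) (x : G) (hxK : x ∈ K) (hx : IsConj x x⁻¹) :
    ∃ y ∈ Subgroup.normalizer ((P : Subgroup G) : Set G), IsConj x y := by
  classical
  have hp : p.Prime := Fact.out
  let N : Subgroup G := Subgroup.normalizer ((P : Subgroup G) : Set G)
  let C' : Subgroup ↥N := K.subgroupOf N
  haveI hC'n : C'.Normal := hKn.subgroupOf N
  have hodd' : Odd C'.index :=
    Odd.of_dvd_nat hodd (Subgroup.relIndex_dvd_index_of_normal K N)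
  let _ : Fintype ↥K := Fintype.ofFinite _
  let _ : Fintype ↥C' := Fintype.ofFinite _
  have hPp : IsPGroup p (P : Subgroup G) := P.isPGroup'
  let ι : ↥C' →* ↥K := iota K (P : Subgroup G)
  have hg : Glaub p ι (fun θ : IrrCharacter ↥K =>
      ∀ s ∈ autImage K (P : Subgroup G), ∀ k, θ.1 (s k) = θ.1 k) :=
    glaub_pgroup p (autImage K (P : Subgroup G)) ι (autImage_pgroup K _ p hPp) hpK
      (iota_injective K _) (iota_range K _ p hPp hpK)
  have hg' : Glaub p ι (fun θ : IrrCharacter ↥K =>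
      ∀ y ∈ (P : Subgroup G), conjI K y θ = θ) :=
    glaub_congr p (fun θ => inv_iff K (P : Subgroup G) θ) hg
  obtain ⟨hg1, hg2, hg3⟩ := hg'
  have hconjInv : ∀ θ : IrrCharacter ↥K, (∀ y ∈ (P : Subgroup G), conjI K y θ = θ) →
      ∀ y ∈ (P : Subgroup G), conjI K y (irrConj θ) = irrConj θ := by
    intro θ h y hy
    apply Subtype.ext
    funext k
    rw [conjI_apply]
    show θ.1 (MulAut.conjNormal y⁻¹ k)⁻¹ = θ.1 k⁻¹
    rw [← map_inv, ← conjI_apply, h y hy]
  have hG := Cfsg.Agent.S4866.main K hodd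
  have hNN := Cfsg.Agent.S4866.main C' hodd'
  rw [Cfsg.Agent.S4866.relX_eq K] at hG
  rw [Cfsg.Agent.S4866.relX_eq C'] at hNN
  -- the map on real characters
  have hex : ∀ β : {β : IrrCharacter ↥C' // ∀ c : ↥C', (β.1 c).im = 0},
      ∃ θ : {θ : IrrCharacter ↥K // ∀ k : ↥K, (θ.1 k).im = 0},
        (∀ y ∈ (P : Subgroup G), conjI K y θ.1 = θ.1) ∧
          ¬ p ∣ mult (fun c => θ.1.1 (ι c)) β.1 := by
    intro β
    obtain ⟨θ, hθI, hθm⟩ := hg3 β.1
    have hβ : irrConj β.1 = β.1 := (real_iff_irrConj β.1).1 β.2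
    have h1 := mult_irrConj ι θ β.1
    rw [hβ] at h1
    have h2 : irrConj θ = θ :=
      hg2 (irrConj θ) θ (hconjInv θ hθI) hθI β.1 (by rw [h1]; exact hθm) hθm
    exact ⟨⟨θ, (real_iff_irrConj θ).2 h2⟩, hθI, hθm⟩
  choose f hfI hfm using hex
  have hfrel : ∀ a b : {β : IrrCharacter ↥C' // ∀ c : ↥C', (β.1 c).im = 0},
      (∃ n : ↥N, b = Cfsg.Agent.S4866.actX C' n a) →
        ∃ g : G, f b = Cfsg.Agent.S4866.actX K g (f a) := by
    rintro a b ⟨n, rfl⟩
    refine ⟨(n : G), ?_⟩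
    apply Subtype.ext
    show (f (Cfsg.Agent.S4866.actX C' n a)).1 = conjI K (n : G) (f a).1
    apply hg2 _ _ (hfI _) (inv_conj K (P : Subgroup G) (n : G) n.2 (f a).1 (hfI a))
      (Cfsg.Agent.S4866.actX C' n a).1 (hfm _)
    have h1 := mult_conj K (P : Subgroup G) n (f a).1 a.1
    show ¬ p ∣ mult (fun c => (conjI K (n : G) (f a).1).1 (ι c)) (conjI C' n a.1)
    rw [h1]
    exact hfm a
  have hfsurj : ∀ θ : {θ : IrrCharacter ↥K // ∀ k : ↥K, (θ.1 k).im = 0},
      ∃ β, ∃ g : G, θ = Cfsg.Agent.S4866.actX K g (f β) := by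
    intro θ
    obtain ⟨g, hgθ⟩ := exists_conj_inv p hreal K hodd (P : Subgroup G) hPp θ.1 θ.2
    obtain ⟨θ₁, hθ₁⟩ : ∃ θ₁, θ₁ = conjI K g θ.1 := ⟨_, rfl⟩
    rw [← hθ₁] at hgθ
    have hθ₁real : ∀ k, (θ₁.1 k).im = 0 := by
      intro k
      rw [hθ₁, conjI_apply]
      exact θ.2 _
    have hθ₁c : irrConj θ₁ = θ₁ := (real_iff_irrConj θ₁).1 hθ₁real
    obtain ⟨β, hβ1, hβ2⟩ := hg1 θ₁ hgθ
    have hβm : ¬ p ∣ mult (fun c => θ₁.1 (ι c)) β := not_dvd_of_modEq hp _ hβ1
    have hβreal : irrConj β = β := by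
      by_contra hne
      have h1 := hβ2 (irrConj β) hne
      have h2 := mult_irrConj ι θ₁ β
      rw [hθ₁c] at h2
      rw [h2] at h1
      exact hβm h1
    obtain ⟨β', hβ'⟩ : ∃ β' : {β : IrrCharacter ↥C' // ∀ c : ↥C', (β.1 c).im = 0}, β'.1 = β :=
      ⟨⟨β, (real_iff_irrConj β).2 hβreal⟩, rfl⟩
    have h3 : (f β').1 = θ₁ := hg2 _ _ (hfI β') hgθ β (by rw [← hβ']; exact hfm β') hβm
    refine ⟨β', g⁻¹, ?_⟩
    apply Subtype.ext
    show θ.1 = conjI K g⁻¹ (f β').1
    rw [h3, hθ₁, ← conjI_mul, inv_mul_cancel, conjI_one]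
  have hle : Nat.card (Quot (fun a b : {θ : IrrCharacter ↥K // ∀ k : ↥K, (θ.1 k).im = 0} =>
        ∃ g : G, b = Cfsg.Agent.S4866.actX K g a)) ≤
      Nat.card (Quot (fun a b : {β : IrrCharacter ↥C' // ∀ c : ↥C', (β.1 c).im = 0} =>
        ∃ n : ↥N, b = Cfsg.Agent.S4866.actX C' n a)) := by
    have : Finite (IrrCharacter ↥C') := finite_irr
    apply Nat.card_le_card_of_surjective (Quot.map f hfrel)
    intro q
    obtain ⟨θ, rfl⟩ := Quot.exists_rep q
    obtain ⟨β, g, hθ⟩ := hfsurj θ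
    refine ⟨Quot.mk _ β, ?_⟩
    show Quot.mk _ (f β) = Quot.mk _ θ
    exact Quot.sound ⟨g, hθ⟩
  -- the map on real elements
  have hcent : ∀ c : ↥C', ((c : ↥N) : G) ∈ Subgroup.centralizer ((P : Subgroup G) : Set G) := by
    intro c
    rw [Subgroup.mem_centralizer_iff]
    intro y hy
    have h1 := commute_of_mem K (P : Subgroup G) p hPp hpK _ (Subgroup.mem_subgroupOf.1 c.2)
      c.1.2 y hy
    calc y * ((c : ↥N) : G) = (y * ((c : ↥N) : G) * y⁻¹) * y := by group
      _ = ((c : ↥N) : G) * y := by rw [h1]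
  let h : {c : ↥C' // IsConj c c⁻¹} → {x : ↥K // IsConj x x⁻¹} := fun c =>
    ⟨ι c.1, by
      have h1 := ι.map_isConj c.2
      rwa [map_inv] at h1⟩
  have hhrel : ∀ c d : {c : ↥C' // IsConj c c⁻¹}, (∃ n : ↥N, (d.1 : ↥N) = n * c.1 * n⁻¹) →
      ∃ g : G, ((h d).1 : G) = g * (h c).1 * g⁻¹ := by
    rintro c d ⟨n, hn⟩
    refine ⟨(n : G), ?_⟩
    show ((d.1 : ↥N) : G) = (n : G) * ((c.1 : ↥N) : G) * (n : G)⁻¹
    rw [hn]
    rfl
  have hRG : Equivalence (fun x y : {x : ↥K // IsConj x x⁻¹} =>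
      ∃ g : G, (y.1 : G) = g * x.1 * g⁻¹) := by
    refine ⟨fun x => ⟨1, by simp⟩, ?_, ?_⟩
    · rintro x y ⟨g, hg⟩
      exact ⟨g⁻¹, by rw [hg]; group⟩
    · rintro x y z ⟨g, hg⟩ ⟨g', hg'⟩
      exact ⟨g' * g, by rw [hg', hg]; group⟩
  let Hq : Quot (fun c d : {c : ↥C' // IsConj c c⁻¹} => ∃ n : ↥N, (d.1 : ↥N) = n * c.1 * n⁻¹) →
      Quot (fun x y : {x : ↥K // IsConj x x⁻¹} => ∃ g : G, (y.1 : G) = g * x.1 * g⁻¹) :=
    Quot.map h hhrel
  have hinj : Function.Injective Hq := by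
    intro q q' heq
    obtain ⟨c, rfl⟩ := Quot.exists_rep q
    obtain ⟨d, rfl⟩ := Quot.exists_rep q'
    have h1 : Relation.EqvGen _ (h c) (h d) := Quot.eqvGen_exact heq
    rw [hRG.eqvGen_iff] at h1
    obtain ⟨g, hgd⟩ := h1
    have hgd' : ((d.1 : ↥N) : G) = g * ((c.1 : ↥N) : G) * g⁻¹ := hgd
    obtain ⟨n, hn, hnd⟩ := P.conj_eq_normalizer_conj_of_mem_centralizer ((c.1 : ↥N) : G) g⁻¹
      (hcent c.1) (by rw [inv_inv, ← hgd']; exact hcent d.1)
    apply Quot.sound
    refine ⟨⟨n⁻¹, N.inv_mem hn⟩, ?_⟩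
    apply Subtype.ext
    show ((d.1 : ↥N) : G) = n⁻¹ * ((c.1 : ↥N) : G) * (n⁻¹)⁻¹
    rw [inv_inv, ← hnd, inv_inv]
    exact hgd'
  have hbij : Function.Bijective Hq := by
    apply hinj.bijective_of_nat_card_le
    rw [← hG, ← hNN]
    exact hle
  have hxr : IsConj (⟨x, hxK⟩ : ↥K) (⟨x, hxK⟩ : ↥K)⁻¹ := by
    obtain ⟨c, hc⟩ := isConj_iff.1 hx
    exact (Cfsg.Agent.S4866.inv_conj_iff K hodd ⟨x, hxK⟩).1 ⟨c, hc⟩
  obtain ⟨q, hq⟩ := hbij.2 (Quot.mk _ ⟨⟨x, hxK⟩, hxr⟩)
  obtain ⟨c, rfl⟩ := Quot.exists_rep q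
  have h1 : Relation.EqvGen _ (h c) ⟨⟨x, hxK⟩, hxr⟩ := Quot.eqvGen_exact hq
  rw [hRG.eqvGen_iff] at h1
  obtain ⟨g, hg⟩ := h1
  have hg' : x = g * ((c.1 : ↥N) : G) * g⁻¹ := hg
  exact ⟨((c.1 : ↥N) : G), (c.1 : ↥N).2, (isConj_iff.2 ⟨g, hg'.symm⟩).symm⟩

end core

end Cfsg.Agent.Lib.Helper81.RealE
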