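import Mathlib
import Cfsg.Prelude.Def_Characters
import Cfsg.Agent.Lib.Helper81.RealE
import Cfsg.Agent.Lib.Helper81.NSylF

set_option autoImplicit false
set_option linter.style.haveILetI false
set_option linter.unusedSectionVars false
set_option maxHeartbeats 1000000

/-!
# Real characters over a normal subgroup of odd index, and some Sylow counting

General lemmas used for the correspondence between the real characters of a group and the real
characters of degree prime to `p` of a Sylow normalizer: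

* `stab`: the stabilizer of a character of a normal subgroup;
* `real_unique`, `exists_real_over`, `real_over_degree`, `exists_real_under`: the real characters
  over a real character of a normal subgroup of odd index;
* `index_modEq`: the index of a subgroup containing a Sylow subgroup, modulo `p`;
* `exists_normalizer_mul`: Sylow conjugacy inside a subgroup;
* `le_of_normal_pgroup`: a normal `p`-subgroup lies in every subgroup of index prime to `p`.
-/

namespace Cfsg.Agent.Lib.Helper81.RealF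

open Cfsg
open Cfsg.Agent.Lib.Helper81.Irr Cfsg.Agent.Lib.Helper81.Basic Cfsg.Agent.Lib.Helper81.Expand
  Cfsg.Agent.Lib.Helper81.Mult Cfsg.Agent.Lib.Helper81.Cliff Cfsg.Agent.Lib.Helper81.CliffCorr
  Cfsg.Agent.Lib.Helper81.GlaubCore Cfsg.Agent.Lib.Helper81.Glaub
  Cfsg.Agent.Lib.Helper81.GlaubClass Cfsg.Agent.Lib.Helper81.GlaubReal
  Cfsg.Agent.Lib.Helper81.RealE

universe u

section stab

variable {G : Type u} [Group G] (K : Subgroup G) [hKn : K.Normal]

/-- The stabilizer of an irreducible character of a normal subgroup. -/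
def stab (θ : IrrCharacter ↥K) : Subgroup G where
  carrier := {g | conjI K g θ = θ}
  mul_mem' := by
    intro a b ha hb
    show conjI K (a * b) θ = θ
    rw [conjI_mul, show conjI K b θ = θ from hb]
    exact ha
  one_mem' := conjI_one K θ
  inv_mem' := by
    intro a ha
    show conjI K a⁻¹ θ = θ
    have h1 : conjI K a⁻¹ (conjI K a θ) = θ := by
      rw [← conjI_mul, inv_mul_cancel, conjI_one]
    rw [show conjI K a θ = θ from ha] at h1
    exact h1

theorem mem_stab (θ : IrrCharacter ↥K) (g : G) : g ∈ stab K θ ↔ conjI K g θ = θ := Iff.rfl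

theorem le_stab (θ : IrrCharacter ↥K) : K ≤ stab K θ := fun g hg => conjI_of_mem K g hg θ

theorem irrConj_conjI (g : G) (θ : IrrCharacter ↥K) :
    irrConj (conjI K g θ) = conjI K g (irrConj θ) := by
  apply Subtype.ext
  funext k
  show (conjI K g θ).1 k⁻¹ = (conjI K g (irrConj θ)).1 k
  rw [conjI_apply, conjI_apply, map_inv]
  rfl

theorem irrConj_irrConj {H : Type u} [Group H] (χ : IrrCharacter H) : irrConj (irrConj χ) = χ := by
  apply Subtype.ext
  funext h
  show χ.1 (h⁻¹)⁻¹ = χ.1 h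
  rw [inv_inv]

theorem conjI_real (g : G) (θ : IrrCharacter ↥K) (hθ : ∀ k, (θ.1 k).im = 0) :
    ∀ k, ((conjI K g θ).1 k).im = 0 := by
  intro k
  rw [conjI_apply]
  exact hθ _

theorem conjI_inv_cancel (g : G) (θ : IrrCharacter ↥K) : conjI K g⁻¹ (conjI K g θ) = θ := by
  rw [← conjI_mul, inv_mul_cancel, conjI_one]

theorem conjI_cancel_inv (g : G) (θ : IrrCharacter ↥K) : conjI K g (conjI K g⁻¹ θ) = θ := by
  rw [← conjI_mul, mul_inv_cancel, conjI_one]

end stab

theorem multC_ne_zero_iff {H : Type u} [Group H] [Fintype H] {Ψ : H → ℂ} (hΨ : IsCharacter H Ψ)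
    (χ : IrrCharacter H) : multC Ψ χ ≠ 0 ↔ mult Ψ χ ≠ 0 := by
  rw [← mult_cast hΨ]
  exact Nat.cast_ne_zero

section real_cliff

variable {G : Type u} [Group G] [Finite G]

theorem pow_facts : ∃ k : ℕ, (∀ g : G, g ^ k = g⁻¹) ∧ Nat.Coprime k (Nat.card G) ∧
    k ^ (2 ^ 1) ≡ 1 [MOD Nat.card G] := by
  have hn : 0 < Nat.card G := Nat.card_pos
  obtain ⟨k, hk⟩ : ∃ k, k = Nat.card G - 1 := ⟨_, rfl⟩
  have hk1 : k + 1 = Nat.card G := by omega
  refine ⟨k, ?_, ?_, ?_⟩
  · intro g
    have h1 : g ^ (k + 1) = 1 := by rw [hk1]; exact pow_card_eq_one'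
    rw [pow_succ] at h1
    exact eq_inv_of_mul_eq_one_left h1
  · rw [← hk1]
    simp
  · rw [← hk1, pow_one]
    apply (Nat.modEq_iff_dvd).2
    refine ⟨1 - (k : ℤ), ?_⟩
    push_cast
    ring

theorem real_pow (k : ℕ) (hpow : ∀ g : G, g ^ k = g⁻¹) (χ : IrrCharacter G) :
    (∀ g, (χ.1 g).im = 0) ↔ ∀ g, χ.1 (g ^ k) = χ.1 g := by
  constructor
  · intro h g
    rw [hpow, Cfsg.Agent.Lib.CT.Wedderburn.char_apply_inv (irr_isCharacter χ)]
    exact Complex.conj_eq_iff_im.2 (h g)
  · intro h g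
    have h1 := h g
    rw [hpow, Cfsg.Agent.Lib.CT.Wedderburn.char_apply_inv (irr_isCharacter χ)] at h1
    exact Complex.conj_eq_iff_im.1 h1

/-- At most one real irreducible character lies over a given irreducible character of a normal
subgroup of odd index. -/
theorem real_unique (K : Subgroup G) [hKn : K.Normal] [Fintype ↥K] (hodd : Odd K.index)
    (θ : IrrCharacter ↥K) (χ₁ χ₂ : IrrCharacter G) (h1 : ∀ g, (χ₁.1 g).im = 0)
    (h2 : ∀ g, (χ₂.1 g).im = 0) (hm1 : multC (res K χ₁.1) θ ≠ 0)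
    (hm2 : multC (res K χ₂.1) θ ≠ 0) : χ₁ = χ₂ := by
  classical
  let _ : Fintype G := Fintype.ofFinite _
  have : Finite (IrrCharacter G) := finite_irr
  have : Finite (IrrCharacter ↥K) := finite_irr
  let _ : Fintype (IrrCharacter G) := Fintype.ofFinite _
  let _ : Fintype (IrrCharacter ↥K) := Fintype.ofFinite _
  obtain ⟨k, hpow, hcop, -⟩ := pow_facts (G := G)
  exact Cfsg.Agent.Lib.Helper82.OddGal.unique_fixed_over K hodd k hcop (fun g _ => hpow g) θ χ₁ χ₂
    ((real_pow k hpow χ₁).1 h1) ((real_pow k hpow χ₂).1 h2) hm1 hm2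

open Cfsg.Agent.Lib.CT.FrobRec in
/-- Over a real irreducible character of a normal subgroup of odd index there is a real
irreducible character, of degree the index of the stabilizer times the degree. -/
theorem exists_real_over (K : Subgroup G) [hKn : K.Normal] [Fintype ↥K] (hodd : Odd K.index)
    (θ : IrrCharacter ↥K) (hθ : ∀ k, (θ.1 k).im = 0) :
    ∃ χ : IrrCharacter G, (∀ g, (χ.1 g).im = 0) ∧ multC (res K χ.1) θ ≠ 0 ∧
      charDegree χ.1 = (stab K θ).index * charDegree θ.1 := by
  classical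
  obtain ⟨I, hIdef⟩ : ∃ I : Subgroup G, I = stab K θ := ⟨_, rfl⟩
  have hI : ∀ g : G, g ∈ I ↔ conjI K g θ = θ := fun g => by rw [hIdef]; exact Iff.rfl
  have hKI : K ≤ I := by rw [hIdef]; exact le_stab K θ
  let K' : Subgroup ↥I := K.subgroupOf I
  haveI hK'n : K'.Normal := hKn.subgroupOf I
  have hodd' : Odd K'.index := by
    have h1 : K'.index ∣ K.index := Subgroup.relIndex_dvd_index_of_normal K I
    exact Odd.of_dvd_nat hodd h1
  let e : ↥K' ≃* ↥K := Subgroup.subgroupOfEquivOfLe hKI
  have he : ∀ x : ↥K', ((e x : ↥K) : G) = ((x : ↥I) : G) := fun x => rfl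
  let θ' : IrrCharacter ↥K' := irrComp e θ
  have hθ' : ∀ x, (θ'.1 x).im = 0 := fun x => hθ (e x)
  have hinv' : ∀ g : ↥I, conjI K' g θ' = θ' := by
    intro g
    apply Subtype.ext
    funext x
    rw [conjI_apply]
    show θ.1 (e (MulAut.conjNormal g⁻¹ x)) = θ.1 (e x)
    have h1 : e (MulAut.conjNormal g⁻¹ x) = MulAut.conjNormal (g : G)⁻¹ (e x) := by
      apply Subtype.ext
      rw [he, MulAut.conjNormal_apply, MulAut.conjNormal_apply, he]
      rfl
    rw [h1, ← conjI_apply, (hI (g : G)).1 g.2]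
  obtain ⟨ξ, hξreal, hξres⟩ := exists_real_ext K' hodd' θ' hθ' hinv'
  have hξ : resTo hKI ξ.1 = θ.1 := by
    funext n
    rw [resTo_apply]
    have h1 := hξres (e.symm n)
    have h2 : ((e.symm n : ↥K') : ↥I) = Subgroup.inclusion hKI n := by
      apply Subtype.ext
      rw [← he, MulEquiv.apply_symm_apply]
      rfl
    rw [h2] at h1
    rw [h1]
    show θ.1 (e (e.symm n)) = θ.1 n
    rw [MulEquiv.apply_symm_apply]
  let _ : Fintype G := Fintype.ofFinite _
  let _ : Fintype ↥I := Fintype.ofFinite _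
  have : Finite (IrrCharacter G) := finite_irr
  let _ : Fintype (IrrCharacter G) := Fintype.ofFinite _
  have : Finite (IrrCharacter ↥K) := finite_irr
  let _ : Fintype (IrrCharacter ↥K) := Fintype.ofFinite _
  have : Finite (IrrCharacter ↥I) := finite_irr
  let _ : Fintype (IrrCharacter ↥I) := Fintype.ofFinite _
  obtain ⟨χ, hχ, hm, -, hdeg⟩ := induced_isIrr K θ I hI hKI ξ hξ
  have hχreal : ∀ g : G, (χ.1 g).im = 0 := by
    intro g
    rw [← Complex.conj_eq_iff_im, ← hχ, indFun_apply, map_mul, map_inv₀, map_natCast, map_sum]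
    congr 1
    apply Finset.sum_congr rfl
    intro x _
    by_cases hz : x⁻¹ * g * x ∈ I
    · rw [extendByZero_apply_of_mem I ξ.1 hz]
      exact Complex.conj_eq_iff_im.2 (hξreal _)
    · rw [extendByZero_apply_of_not_mem I ξ.1 hz, map_zero]
  refine ⟨χ, hχreal, ?_, ?_⟩
  · rw [multC_ne_zero_iff (isCharacter_res K (irr_isCharacter χ)), hm]
    exact one_ne_zero
  · rw [hdeg, hIdef]

/-- The degree of a real irreducible character over a real irreducible character of a normal
subgroup of odd index. -/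
theorem real_over_degree (K : Subgroup G) [hKn : K.Normal] [Fintype ↥K] (hodd : Odd K.index)
    (θ : IrrCharacter ↥K) (hθ : ∀ k, (θ.1 k).im = 0) (χ : IrrCharacter G)
    (hχ : ∀ g, (χ.1 g).im = 0) (hm : multC (res K χ.1) θ ≠ 0) :
    charDegree χ.1 = (stab K θ).index * charDegree θ.1 := by
  obtain ⟨χ', hχ', hm', hdeg⟩ := exists_real_over K hodd θ hθ
  rw [real_unique K hodd θ χ χ' hχ hχ' hm hm']
  exact hdeg

/-- A real irreducible character has a real irreducible constituent on a normal subgroup of odd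
index. -/
theorem exists_real_under (K : Subgroup G) [hKn : K.Normal] [Fintype ↥K] (hodd : Odd K.index)
    (χ : IrrCharacter G) (hχ : ∀ g, (χ.1 g).im = 0) :
    ∃ θ : IrrCharacter ↥K, (∀ k, (θ.1 k).im = 0) ∧ multC (res K χ.1) θ ≠ 0 := by
  classical
  let _ : Fintype G := Fintype.ofFinite _
  have : Finite (IrrCharacter G) := finite_irr
  have : Finite (IrrCharacter ↥K) := finite_irr
  let _ : Fintype (IrrCharacter G) := Fintype.ofFinite _
  let _ : Fintype (IrrCharacter ↥K) := Fintype.ofFinite _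
  have hres : IsCharacter ↥K (res K χ.1) := isCharacter_res K (irr_isCharacter χ)
  have hdeg : charDegree (res K χ.1) ≠ 0 := (deg_pos χ).ne'
  obtain ⟨θ₀, hθ₀⟩ := exists_constituent hres hdeg
  have hθ₀C : multC (res K χ.1) θ₀ ≠ 0 := (multC_ne_zero_iff hres θ₀).2 hθ₀
  have hconj0 : multC (res K χ.1) (irrConj θ₀) ≠ 0 := by
    rw [multC_ne_zero_iff hres]
    have h1 := mult_irrConj K.subtype χ θ₀
    rw [(real_iff_irrConj χ).1 hχ] at h1
    have h2 : mult (res K χ.1) (irrConj θ₀) = mult (res K χ.1) θ₀ := h1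
    rw [h2]
    exact hθ₀
  obtain ⟨h, hh⟩ := clifford_conj K χ θ₀ (irrConj θ₀) hθ₀C hconj0
  have hclosed : ∀ θ, θ ∈ orb K θ₀ → irrConj θ ∈ orb K θ₀ := by
    intro θ hθ
    rw [mem_orb] at hθ ⊢
    obtain ⟨g, rfl⟩ := hθ
    refine ⟨g * h, ?_⟩
    rw [irrConj_conjI, conjI_mul, hh]
  let σ : Equiv.Perm (IrrCharacter ↥K) :=
    { toFun := irrConj
      invFun := irrConj
      left_inv := irrConj_irrConj
      right_inv := irrConj_irrConj }
  have hσ : σ ^ 2 ^ 1 = 1 := by
    rw [pow_one, pow_two]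
    apply Equiv.ext
    intro θ
    exact irrConj_irrConj θ
  let F : IrrCharacter ↥K → ℕ := fun θ => if θ ∈ orb K θ₀ then 1 else 0
  have hF : ∀ θ, F (σ θ) = F θ := by
    intro θ
    show (if irrConj θ ∈ orb K θ₀ then 1 else 0) = if θ ∈ orb K θ₀ then 1 else 0
    by_cases hθ : θ ∈ orb K θ₀
    · rw [if_pos hθ, if_pos (hclosed θ hθ)]
    · have h1 : irrConj θ ∉ orb K θ₀ := by
        intro h2
        apply hθ
        have h3 := hclosed _ h2
        rwa [irrConj_irrConj] at h3
      rw [if_neg hθ, if_neg h1]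
  have hsum : ∑ θ, F θ = (orb K θ₀).card := by
    show ∑ θ, (if θ ∈ orb K θ₀ then 1 else 0) = (orb K θ₀).card
    rw [Finset.sum_ite_mem, Finset.univ_inter, Finset.sum_const, smul_eq_mul, mul_one]
  have hodd' : Odd (∑ θ, F θ) := by
    rw [hsum, orb_card K θ₀ (stab K θ₀) (fun g => Iff.rfl)]
    exact Odd.of_dvd_nat hodd (Subgroup.index_dvd_of_le (le_stab K θ₀))
  obtain ⟨θ, hθfix, hθF⟩ := Cfsg.Agent.Lib.Helper82.OddGal.exists_fixed_of_odd_sum σ 1 hσ F hF hodd'
  have hθorb : θ ∈ orb K θ₀ := by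
    by_contra hne
    apply hθF
    show (if θ ∈ orb K θ₀ then 1 else 0) = 0
    rw [if_neg hne]
  rw [mem_orb] at hθorb
  obtain ⟨g, rfl⟩ := hθorb
  refine ⟨conjI K g θ₀, (real_iff_irrConj _).2 hθfix, ?_⟩
  rw [multC_res_conjI K χ.1 (irr_conj χ) g θ₀]
  exact hθ₀C

end real_cliff

section sylow

variable {G : Type u} [Group G] [Finite G] (p : ℕ) [Fact p.Prime]

/-- The index of a subgroup containing a Sylow `p`-subgroup is congruent modulo `p` to the index
of its intersection with the Sylow normalizer in the Sylow normalizer. -/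
theorem index_modEq (P : Sylow p G) (I : Subgroup G) (hPI : (P : Subgroup G) ≤ I) :
    I.index ≡ I.relIndex (Subgroup.normalizer ((P : Subgroup G) : Set G)) [MOD p] := by
  have h1' : Nat.card (Sylow p G) ≡ 1 [MOD p] := card_sylow_modEq_one p G
  rw [Sylow.card_eq_index_normalizer P] at h1'
  have h1 : (Subgroup.normalizer ((P : Subgroup G) : Set G)).index ≡ 1 [MOD p] := h1'
  have h2' : Nat.card (Sylow p ↥I) ≡ 1 [MOD p] := card_sylow_modEq_one p ↥I
  rw [Sylow.card_eq_index_normalizer (P.subtype hPI)] at h2'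
  have h2 : (Subgroup.normalizer (((P.subtype hPI : Sylow p ↥I) : Subgroup ↥I) : Set ↥I)).index ≡
      1 [MOD p] := h2'
  have h3 : Subgroup.normalizer (((P.subtype hPI : Sylow p ↥I) : Subgroup ↥I) : Set ↥I) =
      (Subgroup.normalizer ((P : Subgroup G) : Set G)).subgroupOf I := by
    rw [Sylow.coe_subtype]
    exact (Subgroup.subgroupOf_normalizer_eq hPI).symm
  rw [h3] at h2
  have h4 : (Subgroup.normalizer ((P : Subgroup G) : Set G)).relIndex I * I.index =
      I.relIndex (Subgroup.normalizer ((P : Subgroup G) : Set G)) *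
        (Subgroup.normalizer ((P : Subgroup G) : Set G)).index := by
    rw [← Subgroup.inf_relIndex_right, Subgroup.relIndex_mul_index inf_le_right,
      ← Subgroup.inf_relIndex_left (H := Subgroup.normalizer ((P : Subgroup G) : Set G)) (K := I),
      Subgroup.relIndex_mul_index inf_le_left]
  have h5 : (Subgroup.normalizer ((P : Subgroup G) : Set G)).relIndex I * I.index ≡
      1 * I.index [MOD p] := Nat.ModEq.mul_right _ h2
  have h6 : I.relIndex (Subgroup.normalizer ((P : Subgroup G) : Set G)) *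
      (Subgroup.normalizer ((P : Subgroup G) : Set G)).index ≡
      I.relIndex (Subgroup.normalizer ((P : Subgroup G) : Set G)) * 1 [MOD p] :=
    Nat.ModEq.mul_left _ h1
  rw [one_mul] at h5
  rw [mul_one] at h6
  rw [h4] at h5
  exact h5.symm.trans h6

/-- Sylow conjugacy inside a subgroup: if `P` and a conjugate of `P` lie in `I`, the conjugating
element is a product of an element of the normalizer of `P` and an element of `I`. -/
theorem exists_normalizer_mul (P : Sylow p G) (I : Subgroup G) (hPI : (P : Subgroup G) ≤ I)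
    (g : G) (hg : ∀ y ∈ (P : Subgroup G), g⁻¹ * y * g ∈ I) :
    ∃ n ∈ Subgroup.normalizer ((P : Subgroup G) : Set G), ∃ i ∈ I, g = n * i := by
  have h2 : ((g⁻¹ • P : Sylow p G) : Subgroup G) ≤ I := by
    intro x hx
    rw [Sylow.coe_subgroup_smul, Subgroup.mem_smul_pointwise_iff_exists] at hx
    obtain ⟨s, hs, rfl⟩ := hx
    rw [MulAut.smul_def, MulAut.conj_apply, inv_inv]
    exact hg s hs
  obtain ⟨h, hh⟩ := MulAction.exists_smul_eq ↥I ((g⁻¹ • P).subtype h2) (P.subtype hPI)
  simp_rw [Sylow.smul_subtype, Subgroup.smul_def, smul_smul] at hh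
  have h5 : ((h : G) * g⁻¹) ∈ Subgroup.normalizer ((P : Subgroup G) : Set G) :=
    Sylow.smul_eq_iff_mem_normalizer.mp (Sylow.subtype_injective hh)
  refine ⟨((h : G) * g⁻¹)⁻¹, Subgroup.inv_mem _ h5, (h : G), h.2, ?_⟩
  group

/-- A normal `p`-subgroup lies in every subgroup of index prime to `p`. -/
theorem le_of_normal_pgroup (S : Subgroup G) [hSn : S.Normal] (hS : IsPGroup p S)
    (J : Subgroup G) (hJ : ¬ p ∣ J.index) : S ≤ J := by
  obtain ⟨q, hq⟩ := hS.nonempty_fixed_point_of_prime_not_dvd_card (G ⧸ J)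
    (by rw [← Subgroup.index_eq_card]; exact hJ)
  obtain ⟨g, rfl⟩ := QuotientGroup.mk_surjective q
  have hg : ∀ x ∈ S, g⁻¹ * x * g ∈ J := by
    intro x hx
    have h1 := MulAction.mem_fixedPoints.1 hq ⟨x, hx⟩
    have h2 : ((x * g : G) : G ⧸ J) = (g : G ⧸ J) := h1
    rw [QuotientGroup.eq] at h2
    have h3 : g⁻¹ * x * g = ((x * g)⁻¹ * g)⁻¹ := by group
    rw [h3]
    exact J.inv_mem h2
  intro s hs
  have h1 := hg (g * s * g⁻¹) (hSn.conj_mem s hs g)
  have h2 : g⁻¹ * (g * s * g⁻¹) * g = s := by group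
  rw [h2] at h1
  exact h1

end sylow

end Cfsg.Agent.Lib.Helper81.RealF
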