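import Mathlib
import Cfsg.Agent.S4716
import Cfsg.Agent.Lib.Helper75.OTStmt
import Cfsg.Agent.Lib.Helper77.BPAb
import Cfsg.Agent.Lib.Helper16.Transfer

/-!
# Piece K1 of S4889: the case `y = 1` of S4716
-/

set_option autoImplicit false

namespace Cfsg.Agent.Lib.Helper81.OTK1

open Cfsg Cfsg.Agent.Lib.Helper77.LocalRing Cfsg.Agent.Lib.Helper77.BPNormal
  Cfsg.Agent.Lib.Helper77.BPEquiv Cfsg.Agent.Lib.Helper77.BPEquiv2
  Cfsg.Agent.Lib.Helper77.BPConjMax Cfsg.Agent.Lib.Helper77.BPFix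
  Cfsg.Agent.Lib.Helper77.BPSub Cfsg.Agent.Lib.Helper77.BPSubpair
  Cfsg.Agent.Lib.Helper77.BPUp Cfsg.Agent.Lib.Helper77.BPInd
  Cfsg.Agent.Lib.Helper77.BPFus Cfsg.Agent.Lib.Helper77.BPMax2
  Cfsg.Agent.Lib.Helper77.BPTransport Cfsg.Agent.Lib.Helper77.BPCyc
  Cfsg.Agent.Lib.Helper33.Conj Cfsg.Agent.Lib.Helper16.ZR Cfsg.Agent.Lib.Helper16.BPLocal
  Cfsg.Agent.Lib.Helper16.Defect Cfsg.Agent.Lib.CT.Wedderburn

universe u

/-- Transport of a set of irreducible characters along an equality of subgroups, keeping the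
induced block, the rank and the defect. -/
theorem transport_defect {G : Type u} [Group G] {M : Ideal AlgInt} {p : ℕ}
    (B : Set (IrrCharacter G)) {K K' : Subgroup G} (h : K = K')
    (b : Set (IrrCharacter K)) :
    ∃ b' : Set (IrrCharacter K'),
      (IsInducedBlock M K b B → IsInducedBlock M K' b' B) ∧
      blockRank p b' = blockRank p b ∧ blockDefect p b' = blockDefect p b := by
  subst h
  exact ⟨b, id, rfl, rfl⟩

theorem main : Cfsg.Agent.Lib.Helper75.OTStmt.K1.{u} := by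
  intro G _ _ p _ M hM B hB hh
  have hK : Subgroup.centralizer (((⊥ : Subgroup G) : Set G)) =
      Subgroup.centralizer ({(1 : G)} : Set G) := by
    congr 1
  have hbot := isBrauerPairOf_bot hM B hB
  have hind := (isBrauerPairOf_iff_isInducedBlock hM ⊥ hbot.1.1 _ B).mp hbot
  obtain ⟨b₁, hb1, hb3, hb4⟩ :=
    transport_defect (p := p) (M := M) B hK (pull (botIso G) '' B)
  rw [blockRank_pull] at hb3
  rw [Cfsg.Agent.Lib.Helper16.Transfer.blockDefect_pull] at hb4
  have h := Cfsg.Agent.S4716.result p M hM B hB (blockDefect p B) rfl hh 1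
    ⟨0, by rw [orderOf_one, pow_zero]⟩ b₁ (hb1 hind) hb4
  rwa [hb3] at h

end Cfsg.Agent.Lib.Helper81.OTK1
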