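import Mathlib
import Cfsg.Agent.Lib.Helper25.BSWSpec
import Cfsg.Agent.Lib.CT.ClassMult

/-!
# Piece ConfigIFormula of S3282: the class-multiplication formula off the conjugates of `K`
-/

set_option autoImplicit false
set_option linter.style.haveILetI false

namespace Cfsg.Agent.Lib.Helper81.BSWConfigIFormula

open Cfsg Cfsg.Agent.Lib.Helper25.BSWSpec
open scoped ComplexConjugate

universe u

set_option maxHeartbeats 1600000 in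
theorem main : Cfsg.Agent.Lib.Helper25.BSWSpec.ConfigIFormula.{u} := by
  intro hDual G _ _ t K s k _ _ v σ o hB hk hV ho hσ1 hσinv hσreal Λ Γ₁ Γ₂ Θ δ ε δ₁ δ₂ hC hε hδ₁
    hδ₂ hΛ1 hΓ₁1 hΓ₂1 hΘ1 hcard
  classical
  obtain ⟨hcardK, hsum0, -, -⟩ := hDual G t K s k hB hk
  subst hε hδ₁ hδ₂
  have hδsq : (δ : ℂ) * (δ : ℂ) = 1 := by
    rcases hC.hδ with h | h <;> rw [h] <;> norm_num
  -- the non-real characters of `K`
  obtain ⟨N, hN⟩ : ∃ N : Finset (↥K →* ℂˣ), N = Finset.univ.filter (fun φ => φ⁻¹ ≠ φ) := ⟨_, rfl⟩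
  have hmemN : ∀ φ : ↥K →* ℂˣ, φ ∈ N ↔ φ⁻¹ ≠ φ := by
    intro φ
    rw [hN, Finset.mem_filter]
    exact ⟨fun h => h.2, fun h => ⟨Finset.mem_univ _, h⟩⟩
  have hreal : ∀ φ : ↥K →* ℂˣ, φ⁻¹ = φ ↔ φ = 1 ∨ φ = σ := by
    intro φ
    constructor
    · exact hσreal φ
    · rintro (rfl | rfl)
      · exact inv_one (G := ↥K →* ℂˣ)
      · exact hσinv
  have hcompl : Finset.univ.filter (fun φ : ↥K →* ℂˣ => ¬ φ⁻¹ ≠ φ) = {1, σ} := by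
    ext φ
    simp only [Finset.mem_filter, Finset.mem_univ, true_and, not_not, Finset.mem_insert,
      Finset.mem_singleton]
    exact hreal φ
  have hsplit : ∀ g : (↥K →* ℂˣ) → ℂ, ∑ φ, g φ = g 1 + g σ + ∑ φ ∈ N, g φ := by
    intro g
    rw [← Finset.sum_filter_add_sum_filter_not Finset.univ (fun φ : ↥K →* ℂˣ => φ⁻¹ ≠ φ) g,
      hcompl, Finset.sum_pair (Ne.symm hσ1), hN]
    ring
  have hNcard : (N.card : ℂ) = (k : ℂ) - 2 := by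
    have h1 := Finset.card_filter_add_card_filter_not (s := (Finset.univ : Finset (↥K →* ℂˣ)))
      (fun φ : ↥K →* ℂˣ => φ⁻¹ ≠ φ)
    rw [hcompl, Finset.card_pair (Ne.symm hσ1), Finset.card_univ, hcardK, ← hN] at h1
    have h2 : ((N.card + 2 : ℕ) : ℂ) = (k : ℂ) := by rw [h1]
    push_cast at h2
    linear_combination h2
  -- the fibres of `Θ`
  have hinvN : ∀ φ₀ ∈ N, φ₀⁻¹ ∈ N := by
    intro φ₀ hφ₀
    rw [hmemN] at hφ₀ ⊢
    have h2 : φ₀⁻¹⁻¹ = φ₀ := inv_inv φ₀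
    rw [h2]
    exact Ne.symm hφ₀
  have hΘinv : ∀ φ₀ ∈ N, Θ φ₀⁻¹ = Θ φ₀ := fun φ₀ hφ₀ =>
    (hC.hΘ φ₀ ((hmemN φ₀).mp hφ₀)).2.2.2.2
  have hfib : ∀ φ₀ ∈ N, ∀ h : (↥K →* ℂˣ) → ℂ,
      ∑ φ ∈ N, (if Θ φ₀ = Θ φ then h φ else 0) = h φ₀ + h φ₀⁻¹ := by
    intro φ₀ hφ₀ h
    rw [← Finset.sum_filter]
    have hset : N.filter (fun φ => Θ φ₀ = Θ φ) = {φ₀, φ₀⁻¹} := by
      ext φ
      simp only [Finset.mem_filter, Finset.mem_insert, Finset.mem_singleton]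
      constructor
      · rintro ⟨hφ, heq⟩
        exact hC.hΘinj φ₀ φ ((hmemN φ₀).mp hφ₀) ((hmemN φ).mp hφ) heq
      · rintro (rfl | rfl)
        · exact ⟨hφ₀, rfl⟩
        · exact ⟨hinvN φ₀ hφ₀, (hΘinv φ₀ hφ₀).symm⟩
    rw [hset, Finset.sum_pair (Ne.symm ((hmemN φ₀).mp hφ₀))]
  -- values on `K`
  have hval : ∀ (ψ : IrrCharacter G) (x : ↥K), x ≠ 1 → ψ.1 (x : G) =
      (if ψ = o then 1 else 0) - (δ : ℂ) * (if ψ = Λ then 1 else 0)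
        - (δ : ℂ) * ((σ x : ℂˣ) : ℂ) * (if ψ = Γ₁ then 1 else 0)
        - (δ : ℂ) * ((σ x : ℂˣ) : ℂ) * (if ψ = Γ₂ then 1 else 0)
        - (δ : ℂ) * ∑ φ ∈ N, (if ψ = Θ φ then ((φ x : ℂˣ) : ℂ) else 0) := by
    intro ψ x hx
    rw [hV.val ψ x hx, hsplit]
    have h1 := hsum0 x hx
    rw [hsplit] at h1
    have hc1 : (((1 : ↥K →* ℂˣ) x : ℂˣ) : ℂ) = 1 := by simp
    rw [hc1] at h1
    have hNsum : ∀ φ ∈ N, (v φ ψ : ℂ) * ((φ x : ℂˣ) : ℂ) =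
        (-(if ψ = o then 1 else 0) + (δ : ℂ) * (if ψ = Λ then 1 else 0)) * ((φ x : ℂˣ) : ℂ)
          + (-(δ : ℂ)) * (if ψ = Θ φ then ((φ x : ℂˣ) : ℂ) else 0) := by
      intro φ hφ
      rw [hC.hv φ ((hmemN φ).mp hφ) ψ]
      push_cast
      split_ifs <;> ring
    rw [Finset.sum_congr rfl hNsum, Finset.sum_add_distrib, ← Finset.mul_sum, ← Finset.mul_sum,
      hV.one ψ, hC.hσ ψ]
    have h2 : ∑ φ ∈ N, ((φ x : ℂˣ) : ℂ) = -1 - ((σ x : ℂˣ) : ℂ) := by linear_combination h1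
    rw [h2]
    push_cast
    split_ifs <;> ring
  refine ⟨?_, ?_⟩
  · intro x hx hx1
    have h := hval Λ ⟨x, hx⟩ (fun h => hx1 (congrArg Subtype.val h))
    rw [if_neg hC.hΛo, if_pos rfl, if_neg (Ne.symm hC.hΓ₁Λ), if_neg (Ne.symm hC.hΓ₂Λ),
      Finset.sum_eq_zero (fun φ hφ =>
        if_neg (Ne.symm (hC.hΘ φ ((hmemN φ).mp hφ)).2.1))] at h
    rw [h]
    ring
  intro z hz
  -- the involution `t` as an element of `K`
  have htt : t * t = 1 := by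
    have h := pow_orderOf_eq_one t
    rwa [hB.ht, sq] at h
  have ht1 : t ≠ 1 := by
    intro h
    have h2 := hB.ht
    rw [h, orderOf_one] at h2
    exact absurd h2 (by norm_num)
  obtain ⟨tK, htK⟩ : ∃ tK : ↥K, (tK : G) = t := ⟨⟨t, hB.htK⟩, rfl⟩
  have htK1 : tK ≠ 1 := by
    intro h
    apply ht1
    rw [← htK, h]
    rfl
  have htKsq : tK * tK = 1 := by
    apply Subtype.ext
    show (tK : G) * (tK : G) = 1
    rw [htK, htt]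
  have hcsq : ∀ φ : ↥K →* ℂˣ, ((φ tK : ℂˣ) : ℂ) * ((φ tK : ℂˣ) : ℂ) = 1 := by
    intro φ
    have h : φ tK * φ tK = 1 := by rw [← map_mul, htKsq, map_one]
    have h2 := congrArg (fun u : ℂˣ => (u : ℂ)) h
    simpa using h2
  have hcinv : ∀ φ : ↥K →* ℂˣ, (((φ⁻¹) tK : ℂˣ) : ℂ) = ((φ tK : ℂˣ) : ℂ) := by
    intro φ
    rw [MonoidHom.inv_apply, Units.val_inv_eq_inv_val]
    exact inv_eq_of_mul_eq_one_left (hcsq φ)
  -- values at `t`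
  have hvalt : ∀ ψ : IrrCharacter G, ψ.1 t =
      (if ψ = o then 1 else 0) - (δ : ℂ) * (if ψ = Λ then 1 else 0)
        - (δ : ℂ) * ((σ tK : ℂˣ) : ℂ) * (if ψ = Γ₁ then 1 else 0)
        - (δ : ℂ) * ((σ tK : ℂˣ) : ℂ) * (if ψ = Γ₂ then 1 else 0)
        - (δ : ℂ) * ∑ φ ∈ N, (if ψ = Θ φ then ((φ tK : ℂˣ) : ℂ) else 0) := by
    intro ψ
    rw [← htK]
    exact hval ψ tK htK1
  obtain ⟨g, hg⟩ : ∃ g : IrrCharacter G → ℂ, ∀ ψ, g ψ = conj (ψ.1 z) / ψ.1 1 := ⟨_, fun _ => rfl⟩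
  have hΘne : ∀ φ ∈ N, Θ φ ≠ o ∧ Θ φ ≠ Λ ∧ Θ φ ≠ Γ₁ ∧ Θ φ ≠ Γ₂ := by
    intro φ hφ
    have h := hC.hΘ φ ((hmemN φ).mp hφ)
    exact ⟨h.1, h.2.1, h.2.2.1, h.2.2.2.1⟩
  have hpt : ∀ ψ : IrrCharacter G, ψ.1 t * ψ.1 t * conj (ψ.1 z) / ψ.1 1 =
      (if ψ = o then g o else 0) + (if ψ = Λ then g Λ else 0) + (if ψ = Γ₁ then g Γ₁ else 0)
        + (if ψ = Γ₂ then g Γ₂ else 0) + ∑ φ ∈ N, (if ψ = Θ φ then 2 * g (Θ φ) else 0) := by
    intro ψ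
    rw [mul_div_assoc, ← hg ψ, hvalt ψ]
    by_cases h1 : ψ = o
    · subst h1
      rw [if_pos rfl, if_neg (Ne.symm hC.hΛo), if_neg (Ne.symm hC.hΓ₁o),
        if_neg (Ne.symm hC.hΓ₂o),
        Finset.sum_eq_zero (fun φ hφ => if_neg (Ne.symm (hΘne φ hφ).1)),
        if_pos rfl, if_neg (Ne.symm hC.hΛo), if_neg (Ne.symm hC.hΓ₁o),
        if_neg (Ne.symm hC.hΓ₂o),
        Finset.sum_eq_zero (fun φ hφ => if_neg (Ne.symm (hΘne φ hφ).1))]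
      ring
    by_cases h2 : ψ = Λ
    · subst h2
      rw [if_neg h1, if_pos rfl, if_neg (Ne.symm hC.hΓ₁Λ), if_neg (Ne.symm hC.hΓ₂Λ),
        Finset.sum_eq_zero (fun φ hφ => if_neg (Ne.symm (hΘne φ hφ).2.1)),
        if_neg h1, if_pos rfl, if_neg (Ne.symm hC.hΓ₁Λ), if_neg (Ne.symm hC.hΓ₂Λ),
        Finset.sum_eq_zero (fun φ hφ => if_neg (Ne.symm (hΘne φ hφ).2.1))]
      linear_combination (g ψ) * hδsq
    by_cases h3 : ψ = Γ₁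
    · subst h3
      rw [if_neg h1, if_neg h2, if_pos rfl, if_neg hC.hΓ,
        Finset.sum_eq_zero (fun φ hφ => if_neg (Ne.symm (hΘne φ hφ).2.2.1)),
        if_neg h1, if_neg h2, if_pos rfl, if_neg hC.hΓ,
        Finset.sum_eq_zero (fun φ hφ => if_neg (Ne.symm (hΘne φ hφ).2.2.1))]
      linear_combination (g ψ * ((σ tK : ℂˣ) : ℂ) * ((σ tK : ℂˣ) : ℂ)) * hδsq
        + (g ψ) * hcsq σ
    by_cases h4 : ψ = Γ₂
    · subst h4
      rw [if_neg h1, if_neg h2, if_neg h3, if_pos rfl,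
        Finset.sum_eq_zero (fun φ hφ => if_neg (Ne.symm (hΘne φ hφ).2.2.2)),
        if_neg h1, if_neg h2, if_neg h3, if_pos rfl,
        Finset.sum_eq_zero (fun φ hφ => if_neg (Ne.symm (hΘne φ hφ).2.2.2))]
      linear_combination (g ψ * ((σ tK : ℂˣ) : ℂ) * ((σ tK : ℂˣ) : ℂ)) * hδsq
        + (g ψ) * hcsq σ
    by_cases h5 : ∃ φ₀ ∈ N, ψ = Θ φ₀
    · obtain ⟨φ₀, hφ₀, rfl⟩ := h5
      rw [if_neg h1, if_neg h2, if_neg h3, if_neg h4, hfib φ₀ hφ₀, hcinv,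
        if_neg h1, if_neg h2, if_neg h3, if_neg h4, hfib φ₀ hφ₀ (fun φ => 2 * g (Θ φ)),
        hΘinv φ₀ hφ₀]
      linear_combination (4 * g (Θ φ₀) * ((φ₀ tK : ℂˣ) : ℂ) * ((φ₀ tK : ℂˣ) : ℂ)) * hδsq
        + (4 * g (Θ φ₀)) * hcsq φ₀
    · push Not at h5
      rw [if_neg h1, if_neg h2, if_neg h3, if_neg h4,
        Finset.sum_eq_zero (fun φ hφ => if_neg (h5 φ hφ)),
        if_neg h1, if_neg h2, if_neg h3, if_neg h4,
        Finset.sum_eq_zero (fun φ hφ => if_neg (h5 φ hφ))]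
      ring
  have hS : ∑ ψ : IrrCharacter G, ψ.1 t * ψ.1 t * conj (ψ.1 z) / ψ.1 1 =
      g o + g Λ + g Γ₁ + g Γ₂ + 2 * ∑ φ ∈ N, g (Θ φ) := by
    rw [Finset.sum_congr rfl (fun ψ _ => hpt ψ)]
    rw [Finset.sum_add_distrib, Finset.sum_add_distrib, Finset.sum_add_distrib,
      Finset.sum_add_distrib, Finset.sum_comm]
    simp only [Finset.sum_ite_eq', Finset.mem_univ, if_true]
    rw [Finset.mul_sum]
  -- the relations off the conjugates of `K`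
  have hoz : o.1 z = 1 := ho z
  have hoffN : ∀ φ ∈ N, (Θ φ).1 z = Λ.1 z - (δ : ℂ) := by
    intro φ hφ
    have h := hV.off φ z hz
    have h1 : ∑ ψ : IrrCharacter G, (v φ ψ : ℂ) * ψ.1 z
        = -o.1 z + (δ : ℂ) * Λ.1 z + (-(δ : ℂ)) * (Θ φ).1 z := by
      have h2 : ∀ ψ : IrrCharacter G, (v φ ψ : ℂ) * ψ.1 z =
          (if ψ = o then -ψ.1 z else 0) + (if ψ = Λ then (δ : ℂ) * ψ.1 z else 0)
            + (if ψ = Θ φ then (-(δ : ℂ)) * ψ.1 z else 0) := by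
        intro ψ
        rw [hC.hv φ ((hmemN φ).mp hφ) ψ]
        push_cast
        split_ifs <;> ring
      rw [Finset.sum_congr rfl (fun ψ _ => h2 ψ), Finset.sum_add_distrib,
        Finset.sum_add_distrib]
      simp only [Finset.sum_ite_eq', Finset.mem_univ, if_true]
    rw [h1, hoz] at h
    linear_combination (-(δ : ℂ)) * h + (Λ.1 z - (Θ φ).1 z) * hδsq
  have hoffσ : Γ₁.1 z + Γ₂.1 z = Λ.1 z - (δ : ℂ) := by
    have h := hV.off σ z hz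
    have h1 : ∑ ψ : IrrCharacter G, (v σ ψ : ℂ) * ψ.1 z
        = -o.1 z + (δ : ℂ) * Λ.1 z + (-(δ : ℂ)) * Γ₁.1 z + (-(δ : ℂ)) * Γ₂.1 z := by
      have h2 : ∀ ψ : IrrCharacter G, (v σ ψ : ℂ) * ψ.1 z =
          (if ψ = o then -ψ.1 z else 0) + (if ψ = Λ then (δ : ℂ) * ψ.1 z else 0)
            + (if ψ = Γ₁ then (-(δ : ℂ)) * ψ.1 z else 0)
            + (if ψ = Γ₂ then (-(δ : ℂ)) * ψ.1 z else 0) := by
        intro ψ
        rw [hC.hσ ψ]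
        push_cast
        split_ifs <;> ring
      rw [Finset.sum_congr rfl (fun ψ _ => h2 ψ), Finset.sum_add_distrib,
        Finset.sum_add_distrib, Finset.sum_add_distrib]
      simp only [Finset.sum_ite_eq', Finset.mem_univ, if_true]
    rw [h1, hoz] at h
    linear_combination (-(δ : ℂ)) * h + (Λ.1 z - (Γ₁.1 z + Γ₂.1 z)) * hδsq
  -- the count
  have hpc : (pairCount t z : ℂ) = (Nat.card G : ℂ) * ∑ χ : IrrCharacter G,
      χ.1 t * χ.1 t * conj (χ.1 z) / χ.1 1 := by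
    rw [← Cfsg.Agent.Lib.CT.ClassMult.conj_pair_count t t z]
    unfold pairCount
    rw [Nat.card_eq_fintype_card, Fintype.card_subtype]
  have hkδ : ((k : ℂ) - (δ : ℂ)) ≠ 0 := by
    have h : ((k : ℤ) - δ) ≠ 0 := by
      rcases hC.hδ with h | h <;> rw [h] <;> omega
    exact_mod_cast h
  have h2kδ : (2 * (k : ℂ) - (δ : ℂ)) ≠ 0 := by
    have h : (2 * (k : ℤ) - δ) ≠ 0 := by
      rcases hC.hδ with h | h <;> rw [h] <;> omega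
    exact_mod_cast h
  have hcardC : (Nat.card G : ℂ) = 2 * (k : ℂ) * ((k : ℂ) - (δ : ℂ)) * (2 * (k : ℂ) - (δ : ℂ)) := by
    exact_mod_cast hcard
  have hconjδ : conj (δ : ℂ) = (δ : ℂ) := map_intCast (starRingEnd ℂ) δ
  have hgo : g o = 1 := by
    rw [hg, hoz, ho 1, map_one, div_one]
  have hgΛ : g Λ = conj (Λ.1 z) / (2 * (k : ℂ) - (δ : ℂ)) := by
    rw [hg, hΛ1]
  have hgΓ : g Γ₁ + g Γ₂ = (conj (Λ.1 z) - (δ : ℂ)) / ((k : ℂ) - (δ : ℂ)) := by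
    rw [hg, hg, hΓ₁1, hΓ₂1, ← add_div, ← map_add, hoffσ, map_sub, hconjδ]
  have hgΘ : ∑ φ ∈ N, g (Θ φ) =
      ((k : ℂ) - 2) * ((conj (Λ.1 z) - (δ : ℂ)) / (2 * ((k : ℂ) - (δ : ℂ)))) := by
    have h : ∀ φ ∈ N, g (Θ φ) = (conj (Λ.1 z) - (δ : ℂ)) / (2 * ((k : ℂ) - (δ : ℂ))) := by
      intro φ hφ
      rw [hg, hΘ1 φ ((hmemN φ).mp hφ), hoffN φ hφ, map_sub, hconjδ]
    rw [Finset.sum_congr rfl h, Finset.sum_const, nsmul_eq_mul, hNcard]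
  rw [hpc, hS, hgo, hgΛ, add_assoc (1 + _), hgΓ, hgΘ, hcardC]
  field_simp
  ring

end Cfsg.Agent.Lib.Helper81.BSWConfigIFormula
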