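import Mathlib
import Cfsg.Agent.Lib.Helper25.BSWSpec

/-!
# Piece PClosed of S3282: `p`-closure by Burnside transfer and induction
-/

set_option autoImplicit false
set_option linter.style.haveILetI false

namespace Cfsg.Agent.Lib.Helper81.BSWPClosed

universe u

/-- A finite group all of whose nontrivial elements have order divisible by `p` is a
`p`-group. -/
theorem isPGroup_of_forall_dvd {H : Type u} [Group H] [Finite H] {p : ℕ} (hp : p.Prime)
    (h : ∀ y : H, y ≠ 1 → p ∣ orderOf y) : IsPGroup p H := by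
  haveI : Fact p.Prime := ⟨hp⟩
  have hcard : Nat.card H = p ^ (Nat.card H).primeFactorsList.length := by
    apply Nat.eq_prime_pow_of_unique_prime_dvd Nat.card_pos.ne'
    intro r hr hdvd
    haveI : Fact r.Prime := ⟨hr⟩
    obtain ⟨x, hx⟩ := exists_prime_orderOf_dvd_card' r hdvd
    have hx1 : x ≠ 1 := by
      rintro rfl
      rw [orderOf_one] at hx
      exact hr.one_lt.ne hx
    have h2 := h x hx1
    rw [hx] at h2
    exact ((Nat.prime_dvd_prime_iff_eq hp hr).mp h2).symm
  exact IsPGroup.of_card hcard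

/-- The abstract form: a finite group whose nontrivial `p'`-elements have abelian TI
centralizers which control their own fusion is `p`-closed. -/
theorem pclosed_aux (p : ℕ) (hp : p.Prime) : ∀ n : ℕ, ∀ (L : Type u) [Group L] [Finite L],
    Nat.card L = n →
    (∀ y : L, y ≠ 1 → ¬ p ∣ orderOf y →
      (∀ w : L, w ≠ 1 → w * y = y * w → ∀ x : L, (x * w = w * x ↔ x * y = y * x)) ∧
      (∀ l : L, (l * y * l⁻¹) * y = y * (l * y * l⁻¹) → l * y = y * l)) →
    ∃ P : Subgroup L, IsPGroup p ↥P ∧ ∀ x : L, (∃ i : ℕ, orderOf x = p ^ i) → x ∈ P := by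
  intro n
  induction n using Nat.strong_induction_on with
  | _ n ih =>
  intro L _ _ hLn hL
  by_cases hall : ∀ y : L, y ≠ 1 → p ∣ orderOf y
  · exact ⟨⊤, (isPGroup_of_forall_dvd hp hall).to_subgroup ⊤, fun x _ => Subgroup.mem_top x⟩
  · push Not at hall
    obtain ⟨y, hy1, hyp⟩ := hall
    have hoy : orderOf y ≠ 1 := fun h => hy1 (orderOf_eq_one_iff.mp h)
    obtain ⟨r, hr, hry⟩ := Nat.exists_prime_and_dvd hoy
    have hrp : r ≠ p := by
      rintro rfl
      exact hyp hry
    haveI : Fact r.Prime := ⟨hr⟩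
    have hrL : r ∣ Nat.card L := hry.trans (orderOf_dvd_natCard y)
    obtain ⟨R⟩ : Nonempty (Sylow r L) := inferInstance
    have hRne : (R : Subgroup L) ≠ ⊥ := R.ne_bot_of_dvd_card hrL
    have hRp' : ∀ v ∈ (R : Subgroup L), ¬ p ∣ orderOf v := by
      intro v hv hpv
      obtain ⟨k, hk⟩ := (IsPGroup.iff_orderOf.mp R.2) ⟨v, hv⟩
      rw [Subgroup.orderOf_mk] at hk
      rw [hk] at hpv
      exact hrp ((Nat.prime_dvd_prime_iff_eq hp hr).mp (hp.dvd_of_dvd_pow hpv)).symm
    haveI : Nontrivial (R : Subgroup L) := (Subgroup.nontrivial_iff_ne_bot _).mpr hRne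
    obtain ⟨z, hzR, hzc, hz1⟩ : ∃ z : L, ∃ hz : z ∈ (R : Subgroup L),
        (⟨z, hz⟩ : (R : Subgroup L)) ∈ Subgroup.center (R : Subgroup L) ∧ z ≠ 1 := by
      haveI := IsPGroup.center_nontrivial R.2
      obtain ⟨⟨⟨z, hz⟩, hzc⟩, hne⟩ := exists_ne (1 : Subgroup.center (R : Subgroup L))
      refine ⟨z, hz, hzc, fun h => hne ?_⟩
      apply Subtype.ext
      apply Subtype.ext
      exact h
    have hzcomm : ∀ a ∈ (R : Subgroup L), a * z = z * a := by
      intro a ha
      have h := Subgroup.mem_center_iff.mp hzc ⟨a, ha⟩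
      exact congrArg Subtype.val h
    have hα := (hL z hz1 (hRp' z hzR)).1
    have hRab : ∀ a ∈ (R : Subgroup L), ∀ b ∈ (R : Subgroup L), a * b = b * a := by
      intro a ha b hb
      by_cases hb1 : b = 1
      · rw [hb1, mul_one, one_mul]
      · exact (hα b hb1 (hzcomm b hb) a).mpr (hzcomm a ha)
    have hNC : Subgroup.normalizer ((R : Subgroup L) : Set L)
        ≤ Subgroup.centralizer ((R : Subgroup L) : Set L) := by
      intro l hl
      rw [Subgroup.mem_centralizer_iff]
      intro v hv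
      by_cases hv1 : v = 1
      · rw [hv1, mul_one, one_mul]
      · have hconj : l * v * l⁻¹ ∈ (R : Subgroup L) :=
          (Subgroup.mem_normalizer_iff.mp hl v).mp hv
        exact ((hL v hv1 (hRp' v hv)).2 l (hRab _ hconj v hv)).symm
    have hcompl := MonoidHom.ker_transferSylow_isComplement' R hNC
    obtain ⟨M, hMdef⟩ : ∃ M : Subgroup L, M = (MonoidHom.transferSylow R hNC).ker := ⟨_, rfl⟩
    rw [← hMdef] at hcompl
    haveI : M.Normal := by
      rw [hMdef]
      infer_instance
    have hMidx : M.index = Nat.card (R : Subgroup L) := hcompl.symm.index_eq_card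
    have hMcard : Nat.card M * Nat.card (R : Subgroup L) = Nat.card L := hcompl.card_mul_card
    have hRcard1 : 1 < Nat.card (R : Subgroup L) := Finite.one_lt_card
    have hMlt : Nat.card M < n := by
      rw [← hLn, ← hMcard]
      have : 0 < Nat.card M := Nat.card_pos
      nlinarith
    obtain ⟨P, hPp, hPall⟩ := ih (Nat.card M) hMlt M rfl (by
      intro y hy1 hyp
      have hy1' : (y : L) ≠ 1 := fun h => hy1 (Subtype.ext h)
      have hyp' : ¬ p ∣ orderOf (y : L) := by rwa [Subgroup.orderOf_coe]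
      obtain ⟨h1, h2⟩ := hL (y : L) hy1' hyp'
      refine ⟨fun w hw1 hwy x => ?_, fun l hl => ?_⟩
      · have h3 := h1 (w : L) (fun h => hw1 (Subtype.ext h)) (congrArg Subtype.val hwy) (x : L)
        constructor
        · intro h
          exact Subtype.ext (h3.mp (congrArg Subtype.val h))
        · intro h
          exact Subtype.ext (h3.mpr (congrArg Subtype.val h))
      · exact Subtype.ext (h2 (l : L) (congrArg Subtype.val hl)))
    refine ⟨P.map M.subtype, hPp.map M.subtype, ?_⟩
    rintro x ⟨i, hi⟩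
    have hxM : x ∈ M := by
      have h1 : x ^ M.index ∈ M := Subgroup.pow_index_mem M x
      have hcop : (M.index).Coprime (orderOf x) := by
        rw [hMidx, hi]
        obtain ⟨k, hk⟩ := IsPGroup.iff_card.mp R.2
        rw [hk]
        exact Nat.Coprime.pow _ _ ((Nat.coprime_primes hr hp).mpr hrp)
      obtain ⟨m, hm⟩ := exists_pow_eq_self_of_coprime hcop
      rw [← hm]
      exact M.pow_mem h1 m
    refine ⟨⟨x, hxM⟩, hPall ⟨x, hxM⟩ ⟨i, ?_⟩, rfl⟩
    rw [← hi]
    exact Subgroup.orderOf_mk x hxM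

theorem main : Cfsg.Agent.Lib.Helper25.BSWSpec.PClosed.{u} := by
  intro G _ _ p hp L hL
  obtain ⟨P, hPp, hPall⟩ := pclosed_aux p hp (Nat.card L) L rfl (by
    intro y hy1 hyp
    have hy1' : (y : G) ≠ 1 := fun h => hy1 (Subtype.ext h)
    have hyp' : ¬ p ∣ orderOf (y : G) := by rwa [Subgroup.orderOf_coe]
    obtain ⟨h1, h2, -⟩ := hL (y : G) y.2 hy1' hyp'
    refine ⟨fun w hw1 hwy x => ?_, fun l hl => ?_⟩
    · have h3 := h1 (w : G) w.2 (fun h => hw1 (Subtype.ext h)) (congrArg Subtype.val hwy)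
        (x : G) x.2
      constructor
      · intro h
        exact Subtype.ext (h3.mp (congrArg Subtype.val h))
      · intro h
        exact Subtype.ext (h3.mpr (congrArg Subtype.val h))
    · exact Subtype.ext (h2 (l : G) l.2 (congrArg Subtype.val hl)))
  refine ⟨P.map L.subtype, ?_, hPp.map L.subtype, ?_⟩
  · rintro _ ⟨x, -, rfl⟩
    exact x.2
  · rintro x hx ⟨i, hi⟩
    refine ⟨⟨x, hx⟩, hPall ⟨x, hx⟩ ⟨i, ?_⟩, rfl⟩
    rw [← hi]
    exact Subgroup.orderOf_mk x hx

end Cfsg.Agent.Lib.Helper81.BSWPClosed
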