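import Mathlib
import Cfsg.Agent.Lib.Helper76.BrRBStmt2
import Cfsg.Agent.Lib.CT.Ops
import Cfsg.Agent.S4468
import Cfsg.Agent.Lib.Helper52.FTPERFNN
import Cfsg.Agent.Lib.Helper52.FTPERFPERF

/-!
# S4504 piece PERF: the normal closure of `P` is perfect (second seat; adapted from
`Helper52.FTPERFPERF`)
-/

set_option autoImplicit false

namespace Cfsg.Agent.Lib.Helper81.BrRBPERF

open Cfsg

universe u

theorem main : Cfsg.Agent.Lib.Helper76.BrRB.PERF.{u} := by
  intro G _ _ p _ P hPcard hPnn ζ hζchar hfaith hdeg
  have hp : p.Prime := Fact.out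
  by_contra hne
  have hexp : ∀ x ∈ (P : Subgroup G), x ^ p = 1 := by
    intro x hx
    have := Subgroup.orderOf_dvd_natCard (P : Subgroup G) hx
    rw [hPcard] at this
    exact orderOf_dvd_iff_pow_eq_one.mp this
  have hab := Cfsg.Agent.Lib.Helper52.FTPERFPERF.ab_pow_eq_one (P : Subgroup G) p hexp
  have hpg : IsPGroup p (Abelianization ↥(Subgroup.normalClosure ((P : Subgroup G) : Set G))) := by
    intro a
    exact ⟨1, by rw [pow_one]; exact hab a⟩
  obtain ⟨k, hk⟩ := IsPGroup.iff_card.mp hpg
  have hvp : (Nat.card G).factorization p = 1 := by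
    have h1 := P.card_eq_multiplicity
    rw [hPcard] at h1
    have h2 : p ^ 1 = p ^ (Nat.card G).factorization p := by
      rw [pow_one]
      exact h1
    exact (Nat.pow_right_injective hp.two_le h2).symm
  have hidx : (commutator ↥(Subgroup.normalClosure ((P : Subgroup G) : Set G))).index = p ^ k := by
    rw [Subgroup.index_eq_card]
    exact hk
  have hLG : Nat.card ↥(Subgroup.normalClosure ((P : Subgroup G) : Set G)) ∣ Nat.card G :=
    Subgroup.card_subgroup_dvd_card _
  have hk1 : k ≤ 1 := by
    have h1 : p ^ k ∣ Nat.card G := by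
      rw [← hidx]
      exact (Subgroup.index_dvd_card _).trans hLG
    rw [← hvp]
    exact (hp.pow_dvd_iff_le_factorization Nat.card_pos.ne').mp h1
  interval_cases k
  · apply hne
    rw [pow_zero] at hidx
    exact Subgroup.index_eq_one.mp hidx
  · rw [pow_one] at hidx
    have hcop : (Nat.card ↥(commutator ↥(Subgroup.normalClosure ((P : Subgroup G) : Set G)))).Coprime
        p := by
      rw [Nat.coprime_comm, Nat.Prime.coprime_iff_not_dvd hp]
      intro hdiv
      have h1 : p ^ 2 ∣ Nat.card G := by
        have h2 := Subgroup.card_mul_index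
          (commutator ↥(Subgroup.normalClosure ((P : Subgroup G) : Set G)))
        rw [hidx] at h2
        have h3 : p ^ 2 ∣ Nat.card ↥(Subgroup.normalClosure ((P : Subgroup G) : Set G)) := by
          rw [← h2, sq]
          exact Nat.mul_dvd_mul hdiv (dvd_refl p)
        exact h3.trans hLG
      have := (hp.pow_dvd_iff_le_factorization Nat.card_pos.ne').mp h1
      omega
    have hsolv : IsPSolvable p ↥(Subgroup.normalClosure ((P : Subgroup G) : Set G)) := by
      refine ⟨2, ![⊥, commutator ↥(Subgroup.normalClosure ((P : Subgroup G) : Set G)), ⊤],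
        rfl, rfl, ?_, ?_, ?_⟩
      · rw [Fin.monotone_iff_le_succ]
        intro i
        fin_cases i
        · exact bot_le
        · exact le_top
      · intro i
        fin_cases i
        · exact Subgroup.normal_bot
        · change (commutator ↥(Subgroup.normalClosure ((P : Subgroup G) : Set G))).Normal
          infer_instance
        · exact Subgroup.normal_top
      · intro i
        fin_cases i
        · right
          change ((⊥ : Subgroup ↥(Subgroup.normalClosure ((P : Subgroup G) : Set G))).relIndex
            (commutator ↥(Subgroup.normalClosure ((P : Subgroup G) : Set G)))).Coprime p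
          rw [Subgroup.relIndex_bot_left]
          exact hcop
        · left
          refine ⟨1, ?_⟩
          change (commutator ↥(Subgroup.normalClosure ((P : Subgroup G) : Set G))).relIndex ⊤
            = p ^ 1
          rw [Subgroup.relIndex_top_right, hidx, pow_one]
    have hχ : IsCharacter ↥(Subgroup.normalClosure ((P : Subgroup G) : Set G))
        (fun l : ↥(Subgroup.normalClosure ((P : Subgroup G) : Set G)) => ζ (l : G)) :=
      Cfsg.Agent.Lib.CT.Ops.isCharacter_restrict _ hζchar
    have hfaith' : ∀ l : ↥(Subgroup.normalClosure ((P : Subgroup G) : Set G)),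
        ζ (l : G) = ζ ((1 : ↥(Subgroup.normalClosure ((P : Subgroup G) : Set G))) : G) → l = 1 :=
      fun l h => Subtype.ext (hfaith l h)
    have hdeg' : charDegree (fun l : ↥(Subgroup.normalClosure ((P : Subgroup G) : Set G)) =>
        ζ (l : G)) = charDegree ζ := rfl
    have hres := Cfsg.Agent.S4468.result
      (fun l : ↥(Subgroup.normalClosure ((P : Subgroup G) : Set G)) => ζ (l : G)) hχ hfaith'
      (charDegree ζ) hdeg' p hp hsolv (by omega) (P.subtype Subgroup.le_normalClosure)
      (Cfsg.Agent.Lib.Helper52.FTPERFNN.main G p P hPnn)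
    have h1 := hres.1
    have h2 := hp.two_le
    omega

end Cfsg.Agent.Lib.Helper81.BrRBPERF
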