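import Mathlib
import Cfsg.Agent.Lib.Helper30.CTIStmt

/-!
# S4064 piece MAB (sub-assembly): `M` is abelian
-/

set_option autoImplicit false
set_option linter.style.haveILetI false

namespace Cfsg.Agent.Lib.Helper81.CTIMAB

open Cfsg.Agent.Lib.Helper30.CTIStmt

universe u

theorem mem_cent_singleton {G : Type u} [Group G] (y z : G) :
    z ∈ Subgroup.centralizer ({y} : Set G) ↔ y * z = z * y := by
  rw [Subgroup.mem_centralizer_iff]
  constructor
  · intro h
    exact h y (Set.mem_singleton y)
  · intro h w hw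
    rw [Set.mem_singleton_iff] at hw
    rw [hw]
    exact h

theorem main : Cfsg.Agent.Lib.Helper30.CTIStmt.MAB.{u} := by
  intro hSQAB hVCARD G _ _ M V hCTI hZD hcv hV hk
  obtain ⟨k, hk2, hVcard, hMcard⟩ := hk
  have hVM : V ≤ M := fun y hy => ((hV y).1 hy).1
  have hinvol : ∀ v ∈ V, v ≠ 1 → orderOf v = 2 := by
    intro v hv hv1
    exact orderOf_eq_prime ((hV v).1 hv).2 hv1
  rcases hMcard with hM | hM
  · have hVeq : V = M := Subgroup.eq_of_le_of_card_ge hVM (by rw [hM, hVcard])
    intro x hx y hy
    by_cases hx1 : x = 1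
    · rw [hx1, one_mul, mul_one]
    · exact hcv x hx (hinvol x (hVeq ▸ hx) hx1) y hy
  · obtain ⟨hHtop, -, -⟩ := hZD.se
    obtain ⟨g, hg⟩ : ∃ g : G, g ∉ NM M := by
      by_contra hcon
      push Not at hcon
      exact hHtop ((Subgroup.eq_top_iff' _).2 hcon)
    have hne : ((1 : G) : G ⧸ NM M) ≠ ((g : G) : G ⧸ NM M) := by
      intro h
      rw [QuotientGroup.eq] at h
      apply hg
      simpa using h
    obtain ⟨u, hu2, hu⟩ := hZD.swap _ _ hne
    have huH : u ∉ NM M := by
      intro h
      apply hg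
      rw [MulAction.Quotient.smul_mk, QuotientGroup.eq] at hu
      have h2 : u * ((u * 1)⁻¹ * g) ∈ NM M := (NM M).mul_mem h hu
      have e : u * ((u * 1)⁻¹ * g) = g := by group
      rwa [e] at h2
    have hDle : DU (NM M) u ≤ NM M := inf_le_left
    have hDcard : Nat.card (DU (NM M) u) = 2 ^ k - 1 := by
      rw [hZD.dcard u hu2 huH]
      have h1 := hVCARD G M V hV hZD.invM
      omega
    apply hSQAB G M V (DU (NM M) u) k hM hVcard hDcard hV
    · intro v hv m hm
      by_cases hv1 : v = 1
      · rw [hv1, one_mul, mul_one]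
      · exact hcv v (hVM hv) (hinvol v hv hv1) m hm
    · intro d hd m hm
      exact (Subgroup.mem_normalizer_iff.1 (hDle hd) m).1 hm
    · intro d hd hd1 m hm hm1 hcomm
      apply hd1
      have hdM : d ∈ M := hZD.cc m hm hm1 ((mem_cent_singleton m d).2 hcomm.symm)
      have h1 : d ∈ DU (NM M) u ⊓ M := ⟨hd, hdM⟩
      rw [hZD.dM u hu2 huH] at h1
      exact Subgroup.mem_bot.1 h1
    · intro y hy d hd
      obtain ⟨v, hvV, hv1⟩ : ∃ v ∈ V, v ≠ 1 := by
        by_contra hcon
        push Not at hcon
        have h1 : V = ⊥ := (Subgroup.eq_bot_iff_forall V).2 hcon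
        rw [h1, Subgroup.card_bot] at hVcard
        have h2 : 2 ^ 2 ≤ 2 ^ k := Nat.pow_le_pow_right (by norm_num) hk2
        omega
      have hvM := hVM hvV
      have hv2 := hinvol v hvV hv1
      have hdN : d ∈ Subgroup.normalizer
          ((Subgroup.centralizer ({y} : Set G) : Subgroup G) : Set G) := by
        by_contra hcon
        apply hv1
        refine hCTI y d hcon v ?_ ?_
        · show v ∈ Subgroup.centralizer ({y} : Set G)
          rw [mem_cent_singleton]
          exact (hcv v hvM hv2 y hy).symm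
        · show d * v * d⁻¹ ∈ Subgroup.centralizer ({y} : Set G)
          rw [mem_cent_singleton]
          have hdv : d * v * d⁻¹ ∈ M := (Subgroup.mem_normalizer_iff.1 (hDle hd) v).1 hvM
          have hdv2 : orderOf (d * v * d⁻¹) = 2 := by
            have h1 := MulEquiv.orderOf_eq (MulAut.conj d) v
            rw [MulAut.conj_apply] at h1
            rw [h1, hv2]
          exact (hcv _ hdv hdv2 y hy).symm
      have hyC : y ∈ Subgroup.centralizer ({y} : Set G) := (mem_cent_singleton y y).2 rfl
      have h3 : d * y * d⁻¹ ∈ Subgroup.centralizer ({y} : Set G) :=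
        (Subgroup.mem_normalizer_iff.1 hdN y).1 hyC
      exact (mem_cent_singleton y _).1 h3

end Cfsg.Agent.Lib.Helper81.CTIMAB
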