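import Mathlib
import Cfsg.Prelude.Def_Characters
import Cfsg.Prelude.Def_BlockLocal
import Cfsg.Agent.Lib.Helper81.McKJ

set_option autoImplicit false
set_option linter.style.haveILetI false
set_option linter.unusedSectionVars false
set_option maxHeartbeats 1000000

/-!
# The decomposition over invariant characters of an intermediate normal subgroup
-/

namespace Cfsg.Agent.Lib.Helper81.McKK

open Cfsg
open Cfsg.Agent.Lib.Helper81.Irr Cfsg.Agent.Lib.Helper81.Basic Cfsg.Agent.Lib.Helper81.Expand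
  Cfsg.Agent.Lib.Helper81.Mult Cfsg.Agent.Lib.Helper81.Cliff Cfsg.Agent.Lib.Helper81.CliffCorr
  Cfsg.Agent.Lib.Helper81.Glaub
  Cfsg.Agent.Lib.Helper81.McKE
  Cfsg.Agent.Lib.Helper81.McKF Cfsg.Agent.Lib.Helper81.McKG Cfsg.Agent.Lib.Helper81.McKI
  Cfsg.Agent.Lib.Helper81.McKJ
open scoped ComplexConjugate

universe u

section grp

variable {G : Type u} [Group G] [Finite G]

/-- A `p`-subgroup of `T` is conjugate in `T` into any subgroup of `T` of index prime to `p`. -/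
theorem exists_conj_into (p : ℕ) [Fact p.Prime] (Q H T : Subgroup G) (hQT : Q ≤ T)
    (hQ : IsPGroup p Q) (hH : ¬ p ∣ H.relIndex T) :
    ∃ t ∈ T, ∀ q ∈ Q, t⁻¹ * q * t ∈ H := by
  classical
  let α := ↥T ⧸ H.subgroupOf T
  let _ : MulAction ↥Q α := MulAction.compHom α (Subgroup.inclusion hQT)
  have hα : ¬ p ∣ Nat.card α := hH
  obtain ⟨a, ha⟩ := hQ.nonempty_fixed_point_of_prime_not_dvd_card α hα
  obtain ⟨t, rfl⟩ := QuotientGroup.mk_surjective a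
  refine ⟨t, t.2, fun q hq => ?_⟩
  have h1 := ha ⟨q, hq⟩
  have h2 : ((Subgroup.inclusion hQT ⟨q, hq⟩ * t : ↥T) : α) = (t : α) := h1
  rw [QuotientGroup.eq, Subgroup.mem_subgroupOf] at h2
  have h3 := H.inv_mem h2
  have e : (((Subgroup.inclusion hQT ⟨q, hq⟩ * t)⁻¹ * t : ↥T) : G)⁻¹ = (t : G)⁻¹ * q * t := by
    simp only [Subgroup.coe_mul, Subgroup.coe_inv, Subgroup.coe_inclusion]
    group
  rw [e] at h3
  exact h3

/-- In a finite group an element conjugating a subgroup into itself normalises it. -/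
theorem conj_mem_iff_of_finite (S : Subgroup G) (c : G) (h : ∀ s ∈ S, c * s * c⁻¹ ∈ S) (s : G) :
    c * s * c⁻¹ ∈ S ↔ s ∈ S := by
  have hpow : ∀ n : ℕ, ∀ s ∈ S, c ^ n * s * (c ^ n)⁻¹ ∈ S := by
    intro n
    induction n with
    | zero => intro s hs; simpa using hs
    | succ n ih =>
      intro s hs
      have h1 := h _ (ih s hs)
      have e : c * (c ^ n * s * (c ^ n)⁻¹) * c⁻¹ = c ^ (n + 1) * s * (c ^ (n + 1))⁻¹ := by
        rw [pow_succ']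
        group
      rwa [e] at h1
  constructor
  · intro hs
    have hpos : 0 < orderOf c := orderOf_pos c
    have h1 := hpow (orderOf c - 1) _ hs
    have e : c ^ (orderOf c - 1) = c⁻¹ := by
      rw [eq_inv_iff_mul_eq_one, ← pow_succ, Nat.sub_add_cancel hpos, pow_orderOf_eq_one]
    rw [e] at h1
    have e2 : c⁻¹ * (c * s * c⁻¹) * c⁻¹⁻¹ = s := by group
    rwa [e2] at h1
  · exact h s

/-- The stabilizer in `X` of a character of a subgroup normalised by `X`. -/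
def stabSub (X Y : Subgroup G) (hn : ∀ g ∈ X, ∀ y ∈ Y, g * y * g⁻¹ ∈ Y)
    (η : IrrCharacter ↥Y) : Subgroup G where
  carrier := {g | g ∈ X ∧ IsConjCharOf Y g η.1 η.1}
  mul_mem' := by
    rintro g h ⟨hg, hg'⟩ ⟨hh, hh'⟩
    refine ⟨X.mul_mem hg hh, fun y y' hy => ?_⟩
    have h1 := hh' y ⟨h * y * h⁻¹, hn h hh y y.2⟩ rfl
    have h2 := hg' ⟨h * y * h⁻¹, hn h hh y y.2⟩ y' (by rw [hy]; group)
    exact h2.trans h1
  one_mem' := by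
    refine ⟨X.one_mem, fun y y' hy => ?_⟩
    have : y' = y := Subtype.ext (by rw [hy]; simp)
    rw [this]
  inv_mem' := by
    rintro g ⟨hg, hg'⟩
    refine ⟨X.inv_mem hg, fun y y' hy => ?_⟩
    exact (hg' y' y (by rw [hy]; group)).symm

theorem mem_stabSub (X Y : Subgroup G) (hn : ∀ g ∈ X, ∀ y ∈ Y, g * y * g⁻¹ ∈ Y)
    (η : IrrCharacter ↥Y) (g : G) :
    g ∈ stabSub X Y hn η ↔ g ∈ X ∧ IsConjCharOf Y g η.1 η.1 := Iff.rfl

theorem stabSub_le (X Y : Subgroup G) (hn : ∀ g ∈ X, ∀ y ∈ Y, g * y * g⁻¹ ∈ Y)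
    (η : IrrCharacter ↥Y) : stabSub X Y hn η ≤ X := fun _ hg => hg.1

theorem self_conj (Y : Subgroup G) (η : IrrCharacter ↥Y) (y₀ : G) (hy₀ : y₀ ∈ Y) :
    IsConjCharOf Y y₀ η.1 η.1 := by
  intro y y' hy
  have : y' = (⟨y₀, hy₀⟩ : ↥Y) * y * (⟨y₀, hy₀⟩ : ↥Y)⁻¹ := Subtype.ext hy
  rw [this, irr_conj]

theorem le_stabSub (X Y : Subgroup G) (hn : ∀ g ∈ X, ∀ y ∈ Y, g * y * g⁻¹ ∈ Y)
    (hYX : Y ≤ X) (η : IrrCharacter ↥Y) : Y ≤ stabSub X Y hn η :=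
  fun y hy => ⟨hYX hy, self_conj Y η y hy⟩

/-- Simultaneous conjugation preserves lying over. -/
theorem ov_conj_both {L K : Subgroup G} (hLK : L ≤ K) (g : G)
    (hgL : ∀ l, g * l * g⁻¹ ∈ L ↔ l ∈ L) (η η' : IrrCharacter ↥K) (ν ν' : IrrCharacter ↥L)
    (hη : IsConjCharOf K g η.1 η'.1) (hν : IsConjCharOf L g ν.1 ν'.1) (h : Ov hLK η ν) :
    Ov hLK η' ν' := by
  unfold Ov at h ⊢
  have e : ∑ᶠ y : ↥L, η'.1 (Subgroup.inclusion hLK y) * (starRingEnd ℂ) (ν'.1 y) =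
      ∑ᶠ y : ↥L, η.1 (Subgroup.inclusion hLK y) * (starRingEnd ℂ) (ν.1 y) := by
    rw [← finsum_comp_equiv (conjE L g hgL).toEquiv]
    apply finsum_congr
    intro l
    have h1 : η'.1 (Subgroup.inclusion hLK (conjE L g hgL l)) =
        η.1 (Subgroup.inclusion hLK l) := hη _ _ rfl
    have h2 : ν'.1 (conjE L g hgL l) = ν.1 l := hν _ _ rfl
    show η'.1 (Subgroup.inclusion hLK (conjE L g hgL l)) *
      (starRingEnd ℂ) (ν'.1 (conjE L g hgL l)) = _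
    rw [h1, h2]
  rw [e]
  exact h

end grp

section dl

variable {G : Type u} [Group G] [Finite G] (p : ℕ) [Fact p.Prime] {L K X : Subgroup G}
  (S N₁ : Subgroup G) (hLK : L ≤ K) (hKX : K ≤ X) (hSX : S ≤ X)
  (hnK : ∀ g ∈ X, ∀ k ∈ K, g * k * g⁻¹ ∈ K) (hS : IsPGroup p S) (hSyl : ¬ p ∣ S.relIndex X)
  (hN₁ : ∀ g, g ∈ N₁ ↔ g ∈ X ∧ ∀ y, y ∈ K ⊔ S ↔ g * y * g⁻¹ ∈ K ⊔ S)
  (ν : IrrCharacter ↥L)

include hSX hnK hS hSyl in
/-- A character of degree prime to `p` lies over a character of `K` invariant under `K ⊔ S`. -/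
theorem dl_exists (χ : IrrCharacter ↥X) (hχ : ¬ p ∣ charDegree χ.1) :
    ∃ η : IrrCharacter ↥K, Ov hKX χ η ∧ ∀ g ∈ K ⊔ S, IsConjCharOf K g η.1 η.1 := by
  obtain ⟨η₀, h0⟩ := exists_ov_down hKX χ
  have hdvd := ov_stab_dvd hKX hnK χ η₀ h0 (stabSub X K hnK η₀) (mem_stabSub X K hnK η₀)
  have hp' : ¬ p ∣ (stabSub X K hnK η₀).relIndex X := fun h => hχ (h.trans hdvd)
  obtain ⟨x, hx, hxS⟩ := exists_conj_into p S (stabSub X K hnK η₀) X hSX hS hp'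
  letI := cjAct X K hnK
  have hc : IsConjCharOf K x η₀.1 ((⟨x, hx⟩ : ↥X) • η₀).1 :=
    (cj_iff X K hnK ⟨x, hx⟩ η₀ _).1 rfl
  refine ⟨(⟨x, hx⟩ : ↥X) • η₀, ov_conj hKX hnK χ η₀ _ x hx hc h0, ?_⟩
  have hle : K ⊔ S ≤ stabSub X K hnK ((⟨x, hx⟩ : ↥X) • η₀) := by
    apply sup_le (le_stabSub X K hnK hKX _)
    intro s hs
    refine ⟨hSX hs, ?_⟩
    have hmem : x⁻¹ * s * x ∈ X := X.mul_mem (X.mul_mem (X.inv_mem hx) (hSX hs)) hx
    have hfix : (⟨x⁻¹ * s * x, hmem⟩ : ↥X) • η₀ = η₀ :=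
      (cj_iff X K hnK ⟨x⁻¹ * s * x, hmem⟩ η₀ η₀).2 (hxS s hs).2
    have e : (⟨s, hSX hs⟩ : ↥X) * ⟨x, hx⟩ = ⟨x, hx⟩ * ⟨x⁻¹ * s * x, hmem⟩ := by
      apply Subtype.ext
      show s * x = x * (x⁻¹ * s * x)
      group
    have h1 : (⟨s, hSX hs⟩ : ↥X) • ((⟨x, hx⟩ : ↥X) • η₀) = (⟨x, hx⟩ : ↥X) • η₀ := by
      rw [← mul_smul, e, mul_smul, hfix]
    exact (cj_iff X K hnK ⟨s, hSX hs⟩ _ _).1 h1
  intro g hg
  exact (hle hg).2

include hSX hnK hS hSyl hN₁ in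
/-- Two invariant characters of `K` under the same character of degree prime to `p` are
conjugate under the normalizer of `K ⊔ S`. -/
theorem dl_orbit (χ : IrrCharacter ↥X) (η η' : IrrCharacter ↥K) (h : Ov hKX χ η)
    (h' : Ov hKX χ η') (hP : ∀ g ∈ K ⊔ S, IsConjCharOf K g η.1 η.1)
    (hP' : ∀ g ∈ K ⊔ S, IsConjCharOf K g η'.1 η'.1) :
    ∃ w ∈ N₁, IsConjCharOf K w η.1 η'.1 := by
  obtain ⟨g, hg, hc⟩ := ov_orbit hKX hnK χ η η' h h'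
  letI := cjAct X K hnK
  have hgη : (⟨g, hg⟩ : ↥X) • η = η' := (cj_iff X K hnK ⟨g, hg⟩ η η').2 hc
  have hST : S ≤ stabSub X K hnK η := fun s hs => ⟨hSX hs, hP s (Subgroup.mem_sup_right hs)⟩
  have hTX := stabSub_le X K hnK η
  have hQT : S.map (MulAut.conj g⁻¹).toMonoidHom ≤ stabSub X K hnK η := by
    rintro _ ⟨s, hs, rfl⟩
    have hmem : g⁻¹ * s * g ∈ X := X.mul_mem (X.mul_mem (X.inv_mem hg) (hSX hs)) hg
    have e0 : (MulAut.conj g⁻¹).toMonoidHom s = g⁻¹ * s * g := by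
      show g⁻¹ * s * g⁻¹⁻¹ = _
      rw [inv_inv]
    rw [e0]
    refine ⟨hmem, ?_⟩
    have hsη' : (⟨s, hSX hs⟩ : ↥X) • η' = η' :=
      (cj_iff X K hnK ⟨s, hSX hs⟩ η' η').2 (hP' s (Subgroup.mem_sup_right hs))
    have e : (⟨g⁻¹ * s * g, hmem⟩ : ↥X) = (⟨g, hg⟩ : ↥X)⁻¹ * ⟨s, hSX hs⟩ * ⟨g, hg⟩ := rfl
    have h1 : (⟨g⁻¹ * s * g, hmem⟩ : ↥X) • η = η := by
      rw [e, mul_smul, mul_smul, hgη, hsη', ← hgη, inv_smul_smul]
    exact (cj_iff X K hnK ⟨g⁻¹ * s * g, hmem⟩ η η).1 h1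
  have hpST : ¬ p ∣ S.relIndex (stabSub X K hnK η) := by
    intro hd
    apply hSyl
    rw [← Subgroup.relIndex_mul_relIndex S (stabSub X K hnK η) X hST hTX]
    exact Dvd.dvd.mul_right hd _
  obtain ⟨t, ht, htQ⟩ := exists_conj_into p (S.map (MulAut.conj g⁻¹).toMonoidHom) S
    (stabSub X K hnK η) hQT (hS.map _) hpST
  have hcS0 : ∀ s ∈ S, (t⁻¹ * g⁻¹) * s * (t⁻¹ * g⁻¹)⁻¹ ∈ S := by
    intro s hs
    have h1 := htQ _ (Subgroup.mem_map_of_mem (MulAut.conj g⁻¹).toMonoidHom hs)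
    have e0 : (MulAut.conj g⁻¹).toMonoidHom s = g⁻¹ * s * g := by
      show g⁻¹ * s * g⁻¹⁻¹ = _
      rw [inv_inv]
    rw [e0] at h1
    have e : t⁻¹ * g⁻¹ * s * (t⁻¹ * g⁻¹)⁻¹ = t⁻¹ * (g⁻¹ * s * g) * t := by group
    rw [e]
    exact h1
  have hcS := conj_mem_iff_of_finite S (t⁻¹ * g⁻¹) hcS0
  have hcX : t⁻¹ * g⁻¹ ∈ X := X.mul_mem (X.inv_mem (hTX ht)) (X.inv_mem hg)
  have hcK := norm_iff X K hnK (t⁻¹ * g⁻¹) hcX
  have hcP := norm_sup_iff K S (t⁻¹ * g⁻¹) hcK hcS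
  have hcN : t⁻¹ * g⁻¹ ∈ N₁ := (hN₁ _).2 ⟨hcX, fun y => (hcP y).symm⟩
  have hwN : g * t ∈ N₁ := by
    have e : g * t = (t⁻¹ * g⁻¹)⁻¹ := by group
    rw [e]
    exact N₁.inv_mem hcN
  refine ⟨g * t, hwN, ?_⟩
  have htη : (⟨t, hTX ht⟩ : ↥X) • η = η := (cj_iff X K hnK ⟨t, hTX ht⟩ η η).2 ht.2
  have h1 : ((⟨g, hg⟩ : ↥X) * ⟨t, hTX ht⟩) • η = η' := by
    rw [mul_smul, htη, hgη]
  exact (cj_iff X K hnK (⟨g, hg⟩ * ⟨t, hTX ht⟩) η η').1 h1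

include hSX hnK hS hSyl hN₁ in
/-- The decomposition of the characters of degree prime to `p` over `ν` along the invariant
characters of `K`. -/
theorem dl_main :
    ∑ᶠ η : IrrCharacter ↥K,
        Nat.card {χ : IrrCharacter ↥X // ¬ p ∣ charDegree χ.1 ∧ Ov (hLK.trans hKX) χ ν ∧
          Ov hKX χ η ∧ ∀ g ∈ K ⊔ S, IsConjCharOf K g η.1 η.1} *
        Nat.card {w : ↥N₁ // IsConjCharOf K (w : G) η.1 η.1} =
      Nat.card {χ : IrrCharacter ↥X // ¬ p ∣ charDegree χ.1 ∧ Ov (hLK.trans hKX) χ ν} *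
        Nat.card ↥N₁ := by
  have hN₁X : N₁ ≤ X := fun g hg => ((hN₁ g).1 hg).1
  have hW : ∀ g ∈ N₁, ∀ y ∈ K, g * y * g⁻¹ ∈ K := fun g hg y hy => hnK g (hN₁X hg) y hy
  have : Finite (IrrCharacter ↥X) := finite_irr
  have h1 := amb_count N₁ K hW (fun (χ : IrrCharacter ↥X) (η : IrrCharacter ↥K) =>
    ¬ p ∣ charDegree χ.1 ∧ Ov (hLK.trans hKX) χ ν ∧
      Ov hKX χ η ∧ ∀ g ∈ K ⊔ S, IsConjCharOf K g η.1 η.1) (by
    rintro χ η η' ⟨hd, hν, hη, hP⟩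
    constructor
    · rintro ⟨-, -, hη', hP'⟩
      exact dl_orbit p S N₁ hKX hSX hnK hS hSyl hN₁ χ η η' hη hη' hP hP'
    · rintro ⟨w, hw, hc⟩
      refine ⟨hd, hν, ov_conj hKX hnK χ η η' w (hN₁X hw) hc hη, ?_⟩
      intro g hg y y' hy
      -- conjugate back by `w`
      have hwK := norm_iff X K hnK w (hN₁X hw)
      have hwP : w⁻¹ * g * w ∈ K ⊔ S := by
        have h2 := ((hN₁ w).1 hw).2 (w⁻¹ * g * w)
        rw [h2]
        have e : w * (w⁻¹ * g * w) * w⁻¹ = g := by group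
        rw [e]
        exact hg
      have hy1 : w⁻¹ * (y : G) * w ∈ K := by
        have h3 := hnK w⁻¹ (X.inv_mem (hN₁X hw)) y y.2
        rwa [inv_inv] at h3
      have hy2 : w⁻¹ * (y' : G) * w ∈ K := by
        have h3 := hnK w⁻¹ (X.inv_mem (hN₁X hw)) y' y'.2
        rwa [inv_inv] at h3
      have e1 : η'.1 y = η.1 ⟨w⁻¹ * y * w, hy1⟩ := hc _ _ (by
        show (y : G) = w * (w⁻¹ * y * w) * w⁻¹
        group)
      have e2 : η'.1 y' = η.1 ⟨w⁻¹ * y' * w, hy2⟩ := hc _ _ (by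
        show (y' : G) = w * (w⁻¹ * y' * w) * w⁻¹
        group)
      rw [e1, e2]
      apply hP (w⁻¹ * g * w) hwP
      show w⁻¹ * (y' : G) * w = (w⁻¹ * g * w) * (w⁻¹ * y * w) * (w⁻¹ * g * w)⁻¹
      rw [hy]
      group)
  rw [h1]
  congr 1
  apply Nat.card_congr
  apply Equiv.subtypeEquivRight
  intro χ
  constructor
  · rintro ⟨η, hd, hν, -, -⟩
    exact ⟨hd, hν⟩
  · rintro ⟨hd, hν⟩
    obtain ⟨η, h2, h3⟩ := dl_exists p S hKX hSX hnK hS hSyl χ hd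
    exact ⟨η, hd, hν, h2, h3⟩

end dl

section dlcor

open Classical

variable {G : Type u} [Group G] [Finite G]

/-- The number of irreducible characters of `X` of degree prime to `p` over `η`. -/
noncomputable def cntP (p : ℕ) {Y X : Subgroup G} (hYX : Y ≤ X) (η : IrrCharacter ↥Y) : ℕ :=
  Nat.card {χ : IrrCharacter ↥X // ¬ p ∣ charDegree χ.1 ∧ Ov hYX χ η}

variable (p : ℕ) [Fact p.Prime] {L K X : Subgroup G}
  (S N₁ : Subgroup G) (hLK : L ≤ K) (hKX : K ≤ X) (hSX : S ≤ X)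
  (hnK : ∀ g ∈ X, ∀ k ∈ K, g * k * g⁻¹ ∈ K) (hS : IsPGroup p S) (hSyl : ¬ p ∣ S.relIndex X)
  (hN₁ : ∀ g, g ∈ N₁ ↔ g ∈ X ∧ ∀ y, y ∈ K ⊔ S ↔ g * y * g⁻¹ ∈ K ⊔ S)
  (ν : IrrCharacter ↥L) (hnL : ∀ g ∈ X, ∀ l ∈ L, g * l * g⁻¹ ∈ L)
  (hνinv : ∀ g ∈ X, IsConjCharOf L g ν.1 ν.1)

include hnK hnL hνinv in
theorem dl_term (η : IrrCharacter ↥K) :
    Nat.card {χ : IrrCharacter ↥X // ¬ p ∣ charDegree χ.1 ∧ Ov (hLK.trans hKX) χ ν ∧
        Ov hKX χ η ∧ ∀ g ∈ K ⊔ S, IsConjCharOf K g η.1 η.1} =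
      if ((∀ g ∈ K ⊔ S, IsConjCharOf K g η.1 η.1) ∧ Ov hLK η ν) then cntP p hKX η else 0 := by
  by_cases hc : (∀ g ∈ K ⊔ S, IsConjCharOf K g η.1 η.1) ∧ Ov hLK η ν
  · rw [if_pos hc]
    unfold cntP
    apply Nat.card_congr
    apply Equiv.subtypeEquivRight
    intro χ
    constructor
    · rintro ⟨hd, -, hη, -⟩
      exact ⟨hd, hη⟩
    · rintro ⟨hd, hη⟩
      exact ⟨hd, ov_trans hKX hLK χ η ν hη hc.2, hη, hc.1⟩
  · rw [if_neg hc]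
    have : IsEmpty {χ : IrrCharacter ↥X // ¬ p ∣ charDegree χ.1 ∧ Ov (hLK.trans hKX) χ ν ∧
        Ov hKX χ η ∧ ∀ g ∈ K ⊔ S, IsConjCharOf K g η.1 η.1} := by
      constructor
      rintro ⟨χ, -, hν, hη, hP⟩
      apply hc
      refine ⟨hP, ?_⟩
      obtain ⟨η₁, h1, h2⟩ := ov_mid hKX hLK χ ν hν
      obtain ⟨g, hg, hcj⟩ := ov_orbit hKX hnK χ η₁ η h1 hη
      exact ov_conj_both hLK g (norm_iff X L hnL g hg) η₁ η ν ν hcj (hνinv g hg) h2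
    exact Nat.card_of_isEmpty

include hSX hnK hS hSyl hN₁ hnL hνinv in
/-- The decomposition, in terms of the counts over the invariant characters of `K`. -/
theorem dl_cor :
    ∑ᶠ η : IrrCharacter ↥K,
        (if ((∀ g ∈ K ⊔ S, IsConjCharOf K g η.1 η.1) ∧ Ov hLK η ν) then cntP p hKX η else 0) *
        Nat.card {w : ↥N₁ // IsConjCharOf K (w : G) η.1 η.1} =
      cntP p (hLK.trans hKX) ν * Nat.card ↥N₁ := by
  have h1 := dl_main p S N₁ hLK hKX hSX hnK hS hSyl hN₁ ν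
  unfold cntP at h1 ⊢
  rw [← h1]
  apply finsum_congr
  intro η
  rw [dl_term p S hLK hKX hnK ν hnL hνinv η]
  rfl

end dlcor

end Cfsg.Agent.Lib.Helper81.McKK
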