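import Mathlib
import Cfsg.Prelude.Def_Characters
import Cfsg.Prelude.Def_BlockLocal
import Cfsg.Prelude.Def_CharExt
import Cfsg.Agent.Lib.Helper81.McKK
import Cfsg.Agent.Lib.Helper74.DetTools
import Cfsg.Agent.Lib.Helper4.GlauDet
import Cfsg.Agent.S0867

set_option autoImplicit false
set_option linter.style.haveILetI false
set_option linter.unusedSectionVars false
set_option maxHeartbeats 1000000

/-!
# Canonical extensions, the Glauberman correspondence and central values, for subgroups of an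
ambient group
-/

namespace Cfsg.Agent.Lib.Helper81.McKL

open Cfsg
open Cfsg.Agent.Lib.Helper81.Irr Cfsg.Agent.Lib.Helper81.Basic Cfsg.Agent.Lib.Helper81.Expand
  Cfsg.Agent.Lib.Helper81.Mult Cfsg.Agent.Lib.Helper81.Cliff Cfsg.Agent.Lib.Helper81.CliffCorr
  Cfsg.Agent.Lib.Helper81.GlaubCore Cfsg.Agent.Lib.Helper81.Glaub
  Cfsg.Agent.Lib.Helper81.McKE
  Cfsg.Agent.Lib.Helper81.McKF Cfsg.Agent.Lib.Helper81.McKG Cfsg.Agent.Lib.Helper81.McKI
  Cfsg.Agent.Lib.Helper81.McKJ Cfsg.Agent.Lib.Helper81.McKK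
open Cfsg.Agent.Lib.Helper74.SubConj
open scoped ComplexConjugate

universe u

section glaub

variable {G : Type u} [Group G] [Finite G] (p : ℕ) [Fact p.Prime] (K₀ S C₀ : Subgroup G)
  [Fintype ↥K₀] [Fintype ↥C₀]
  (hSK₀ : ∀ s ∈ S, ∀ k ∈ K₀, s * k * s⁻¹ ∈ K₀) (hpK₀ : ¬ p ∣ Nat.card K₀) (hS : IsPGroup p S)
  (hC₀ : ∀ g, g ∈ C₀ ↔ g ∈ K₀ ∧ ∀ s ∈ S, s * g * s⁻¹ = g) (hC₀K₀ : C₀ ≤ K₀)

include hSK₀ hpK₀ hS hC₀ in
/-- The Glauberman correspondence for a `p`-subgroup normalising a subgroup of order prime to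
`p`. -/
theorem glaub_amb : Glaub p (Subgroup.inclusion hC₀K₀)
    (fun θ : IrrCharacter ↥K₀ => ∀ s ∈ S, IsConjCharOf K₀ s θ.1 θ.1) := by
  have hA : IsPGroup p (conjHom K₀ S hSK₀).range :=
    hS.of_surjective (conjHom K₀ S hSK₀).rangeRestrict
      (conjHom K₀ S hSK₀).rangeRestrict_surjective
  have hrange : ∀ g : ↥K₀, g ∈ (Subgroup.inclusion hC₀K₀).range ↔
      ∀ a ∈ (conjHom K₀ S hSK₀).range, a g = g := by
    intro g
    constructor
    · rintro ⟨c, rfl⟩ _ ⟨s, rfl⟩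
      apply Subtype.ext
      show (s : G) * (c : G) * (s : G)⁻¹ = c
      exact ((hC₀ c).1 c.2).2 s s.2
    · intro h
      have hg : (g : G) ∈ C₀ := by
        refine (hC₀ g).2 ⟨g.2, fun s hs => ?_⟩
        exact congrArg Subtype.val (h (conjHom K₀ S hSK₀ ⟨s, hs⟩) ⟨_, rfl⟩)
      exact ⟨⟨g, hg⟩, Subtype.ext rfl⟩
  have h1 := glaub_pgroup p (conjHom K₀ S hSK₀).range (Subgroup.inclusion hC₀K₀) hA hpK₀
    (Subgroup.inclusion_injective hC₀K₀) hrange
  refine glaub_congr p (fun θ => ?_) h1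
  constructor
  · intro h s hs y y' hy
    have h2 := h (conjHom K₀ S hSK₀ ⟨s, hs⟩) ⟨_, rfl⟩ y
    rw [← h2]
    exact congrArg θ.1 (Subtype.ext hy)
  · rintro h _ ⟨s, rfl⟩ k
    exact h s s.2 k _ rfl

end glaub

section can

variable {G : Type u} [Group G] [Finite G] (p : ℕ) [Fact p.Prime] {K M : Subgroup G}
  (hKM : K ≤ M) (hn : ∀ m ∈ M, ∀ k ∈ K, m * k * m⁻¹ ∈ K) (hpK : ¬ p ∣ Nat.card K)
  (hidx : ∃ a : ℕ, K.relIndex M = p ^ a)

/-- `Θ` is the canonical extension of `θ`: it extends `θ` and its determinantal order is prime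
to `p`. -/
def IsCan (Θ : IrrCharacter ↥M) (θ : IrrCharacter ↥K) : Prop :=
  (∀ k : ↥K, Θ.1 (Subgroup.inclusion hKM k) = θ.1 k) ∧ ¬ p ∣ detOrder Θ.1

include hn hpK hidx in
theorem can_core (θ : IrrCharacter ↥K) (hinv : ∀ m ∈ M, IsConjCharOf K m θ.1 θ.1) :
    ∃ Θ : IrrCharacter ↥M, IsCan p hKM Θ θ ∧ ∀ Θ' : IrrCharacter ↥M, IsCan p hKM Θ' θ → Θ' = Θ := by
  have hp : p.Prime := Fact.out
  haveI hN := normal_sub hn
  have hinv' : ∀ (g : ↥M) (n : ↥(K.subgroupOf M)),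
      (subChar M K hKM θ).1 ⟨g * n * g⁻¹, hN.conj_mem (n : ↥M) n.2 g⟩ =
        (subChar M K hKM θ).1 n := by
    intro g n
    rw [subChar_apply, subChar_apply]
    exact hinv g g.2 ⟨((n : ↥M) : G), n.2⟩ _ rfl
  have hd : (subChar M K hKM θ).1 1 = (charDegree θ.1 : ℂ) := by
    rw [subChar_apply, ← deg_cast θ]
    rfl
  have hcard : Nat.card ↥(K.subgroupOf M) = Nat.card ↥K :=
    Nat.card_congr (Subgroup.subgroupOfEquivOfLe hKM).toEquiv
  have ho : detOrder (subChar M K hKM θ).1 ∣ Nat.card ↥K := by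
    rw [← hcard]
    exact Cfsg.Agent.Lib.Helper4.GlauDet.detOrder_dvd_card (subChar M K hKM θ).2
  have hdK : charDegree θ.1 ∣ Nat.card ↥K :=
    Cfsg.Agent.Lib.Helper80.Integrality.charDegree_dvd_card θ
  obtain ⟨a, ha⟩ := hidx
  have hcop : Nat.Coprime (K.subgroupOf M).index
      (detOrder (subChar M K hKM θ).1 * charDegree θ.1) := by
    have hi : (K.subgroupOf M).index = p ^ a := ha
    rw [hi]
    apply Nat.Coprime.pow_left
    rw [Nat.Prime.coprime_iff_not_dvd hp]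
    intro h
    rcases (Nat.Prime.dvd_mul hp).1 h with h | h
    · exact hpK (h.trans ho)
    · exact hpK (h.trans hdK)
  obtain ⟨χ, ⟨hχ, hres, hdet⟩, huniq⟩ := Cfsg.Agent.S0867.result (K.subgroupOf M)
    (subChar M K hKM θ).1 (subChar M K hKM θ).2 hinv' (charDegree θ.1) hd hcop
  refine ⟨⟨χ, hχ⟩, ⟨fun k => ?_, ?_⟩, ?_⟩
  · have h1 := hres ⟨Subgroup.inclusion hKM k, k.2⟩
    rw [subChar_apply] at h1
    exact h1
  · rw [hdet]
    exact fun h => hpK (h.trans ho)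
  · rintro Θ' ⟨h1, h2⟩
    apply Subtype.ext
    apply huniq Θ'.1 Θ'.2
    · intro n
      rw [subChar_apply]
      exact h1 ⟨((n : ↥M) : G), n.2⟩
    · have hi : (K.subgroupOf M).index = p ^ a := ha
      rw [hi]
      apply Nat.Coprime.pow_left
      rw [Nat.Prime.coprime_iff_not_dvd hp]
      exact h2

include hn hpK hidx in
theorem can_exists (θ : IrrCharacter ↥K) (hinv : ∀ m ∈ M, IsConjCharOf K m θ.1 θ.1) :
    ∃ Θ : IrrCharacter ↥M, IsCan p hKM Θ θ := by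
  obtain ⟨Θ, h, -⟩ := can_core p hKM hn hpK hidx θ hinv
  exact ⟨Θ, h⟩

/-- A character with an extension is invariant. -/
theorem inv_of_ext (Θ : IrrCharacter ↥M) (θ : IrrCharacter ↥K)
    (h : ∀ k : ↥K, Θ.1 (Subgroup.inclusion hKM k) = θ.1 k) :
    ∀ m ∈ M, IsConjCharOf K m θ.1 θ.1 := by
  intro m hm y y' hy
  rw [← h, ← h]
  have e : Subgroup.inclusion hKM y' =
      (⟨m, hm⟩ : ↥M) * Subgroup.inclusion hKM y * (⟨m, hm⟩ : ↥M)⁻¹ := Subtype.ext hy
  rw [e, irr_conj]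

include hn hpK hidx in
theorem can_unique (θ : IrrCharacter ↥K) (Θ Θ' : IrrCharacter ↥M) (h : IsCan p hKM Θ θ)
    (h' : IsCan p hKM Θ' θ) : Θ = Θ' := by
  obtain ⟨Θ₀, -, hu⟩ := can_core p hKM hn hpK hidx θ (inv_of_ext hKM Θ θ h.1)
  rw [hu Θ h, hu Θ' h']

/-- The conjugate of a canonical extension is the canonical extension of the conjugate. -/
theorem can_conj (w : G) (hwM : ∀ m, w * m * w⁻¹ ∈ M ↔ m ∈ M)
    (hwK : ∀ k, w * k * w⁻¹ ∈ K ↔ k ∈ K) (Θ Θ₁ : IrrCharacter ↥M) (θ θ₁ : IrrCharacter ↥K)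
    (h : IsCan p hKM Θ θ) (hΘ : IsConjCharOf M w Θ.1 Θ₁.1) (hθ : IsConjCharOf K w θ.1 θ₁.1) :
    IsCan p hKM Θ₁ θ₁ := by
  have hwM' : ∀ m, w⁻¹ * m * w⁻¹⁻¹ ∈ M ↔ m ∈ M := by
    intro m
    rw [← hwM (w⁻¹ * m * w⁻¹⁻¹)]
    have e : w * (w⁻¹ * m * w⁻¹⁻¹) * w⁻¹ = m := by group
    rw [e]
  constructor
  · intro k
    have hk : w⁻¹ * (k : G) * w ∈ K := by
      rw [← hwK]
      have e : w * (w⁻¹ * (k : G) * w) * w⁻¹ = k := by group
      rw [e]
      exact k.2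
    have h1 : θ₁.1 k = θ.1 ⟨w⁻¹ * k * w, hk⟩ := hθ _ _ (by
      show (k : G) = w * (w⁻¹ * k * w) * w⁻¹
      group)
    have h2 : Θ₁.1 (Subgroup.inclusion hKM k) =
        Θ.1 (Subgroup.inclusion hKM ⟨w⁻¹ * k * w, hk⟩) := hΘ _ _ (by
      show (k : G) = w * (w⁻¹ * k * w) * w⁻¹
      group)
    rw [h2, h1, h.1]
  · have e : Θ₁.1 = fun x : ↥M => Θ.1 (conjE M w⁻¹ hwM' x) := by
      funext x
      apply hΘ
      rw [conjE_coe]
      group
    rw [e, Cfsg.Agent.Lib.Helper74.DetTools.detOrder_comp_mulEquiv (conjE M w⁻¹ hwM') Θ.2]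
    exact h.2

include hpK in
/-- Central `p`-elements lie in the kernel of a canonical extension. -/
theorem can_kernel (Θ : IrrCharacter ↥M) (θ : IrrCharacter ↥K) (h : IsCan p hKM Θ θ) (s : G)
    (hsM : s ∈ M) (hsc : ∀ m ∈ M, m * s = s * m) (hsp : ∃ k : ℕ, s ^ (p ^ k) = 1) :
    ∀ m : ↥M, Θ.1 (⟨s, hsM⟩ * m) = Θ.1 m := by
  have hp : p.Prime := Fact.out
  obtain ⟨d, ρ, hirr, hρ⟩ := id Θ.2
  have hcomm : ∀ g : ↥M, g * (⟨s, hsM⟩ : ↥M) = ⟨s, hsM⟩ * g := fun g =>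
    Subtype.ext (hsc g g.2)
  obtain ⟨c, hc⟩ : ∃ c : ℂ, ρ ⟨s, hsM⟩ = c • (1 : Module.End ℂ (Fin d → ℂ)) := by
    haveI := hirr
    refine Cfsg.Agent.Lib.Helper80.Schur.schur_scalar ρ (ρ ⟨s, hsM⟩) ?_
    intro g
    rw [← map_mul, ← map_mul, hcomm g]
  -- the degree
  have hd1 : Θ.1 1 = (d : ℂ) := by
    rw [← hρ, Representation.char_one, Module.finrank_fin_fun]
  have hdeg : charDegree Θ.1 = d := by
    have := deg_cast Θ
    rw [hd1] at this
    exact_mod_cast this.symm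
  have hdθ : charDegree Θ.1 = charDegree θ.1 := by
    have h1 : Θ.1 1 = θ.1 1 := h.1 1
    have h2 : ((charDegree Θ.1 : ℕ) : ℂ) = (charDegree θ.1 : ℂ) := by
      rw [← deg_cast Θ, ← deg_cast θ, h1]
    exact_mod_cast h2
  have hdpos : 0 < d := by
    rw [← hdeg]
    exact deg_pos Θ
  have hpd : ¬ p ∣ d := by
    rw [← hdeg, hdθ]
    exact fun hh => hpK (hh.trans (Cfsg.Agent.Lib.Helper80.Integrality.charDegree_dvd_card θ))
  -- the scalar has `p`-power order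
  obtain ⟨k, hk⟩ := hsp
  have hone : (1 : Module.End ℂ (Fin d → ℂ)) ≠ 0 := by
    haveI : Nonempty (Fin d) := ⟨⟨0, hdpos⟩⟩
    exact one_ne_zero
  have hck : c ^ (p ^ k) = 1 := by
    have h1 : ρ ((⟨s, hsM⟩ : ↥M) ^ (p ^ k)) = 1 := by
      have e : (⟨s, hsM⟩ : ↥M) ^ (p ^ k) = 1 := Subtype.ext (by
        rw [Subgroup.coe_pow]
        exact hk)
      rw [e, map_one]
    rw [map_pow, hc, smul_pow, one_pow] at h1
    have h2 := congrArg (fun f : Module.End ℂ (Fin d → ℂ) => f (fun _ => (1 : ℂ)) ⟨0, hdpos⟩) h1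
    simpa using h2
  -- the determinant
  have hdet : detChar Θ.1 ⟨s, hsM⟩ = c ^ d := by
    rw [Cfsg.Agent.Lib.Helper15.DetChar.detChar_eq_of_rep' Θ.2 ρ hρ]
    show LinearMap.det (ρ ⟨s, hsM⟩) = c ^ d
    rw [hc, LinearMap.det_smul, Module.finrank_fin_fun, map_one, mul_one]
  have hco : c ^ (d * detOrder Θ.1) = 1 := by
    rw [pow_mul, ← hdet]
    exact Cfsg.Agent.Lib.Helper74.DetTools.detChar_pow_detOrder Θ.1 _
  have hc1 : c = 1 := by
    have h1 : orderOf c ∣ p ^ k := orderOf_dvd_of_pow_eq_one hck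
    have h2 : orderOf c ∣ d * detOrder Θ.1 := orderOf_dvd_of_pow_eq_one hco
    have hcop : Nat.Coprime (p ^ k) (d * detOrder Θ.1) := by
      apply Nat.Coprime.pow_left
      rw [Nat.Prime.coprime_iff_not_dvd hp]
      intro hh
      rcases (Nat.Prime.dvd_mul hp).1 hh with h3 | h3
      · exact hpd h3
      · exact h.2 h3
    have h3 : orderOf c = 1 := Nat.eq_one_of_dvd_coprimes hcop h1 h2
    exact orderOf_eq_one_iff.1 h3
  intro m
  rw [← hρ]
  unfold Representation.character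
  rw [map_mul, hc, hc1, one_smul, one_mul]

end can

section central

variable {G : Type u} [Group G] [Finite G]

/-- An irreducible character lies over a character of a central subgroup exactly when it
restricts to a multiple of it. -/
theorem central_values {Z Y : Subgroup G} (hZY : Z ≤ Y) (hc : ∀ z ∈ Z, ∀ y ∈ Y, y * z = z * y)
    (η : IrrCharacter ↥Y) (ν : IrrCharacter ↥Z) :
    Ov hZY η ν ↔ ∀ z : ↥Z, η.1 (Subgroup.inclusion hZY z) = η.1 1 * ν.1 z := by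
  classical
  let _ : Fintype ↥Z := Fintype.ofFinite _
  have : Finite (IrrCharacter ↥Z) := finite_irr
  let _ : Fintype (IrrCharacter ↥Z) := Fintype.ofFinite _
  have hν1 : ν.1 1 = 1 := Cfsg.Agent.Lib.Helper81.SemiChar.abelian_linear (fun a b =>
    Subtype.ext (hc b b.2 a (hZY a.2))) ν
  have hnZ : ∀ g ∈ Y, ∀ z ∈ Z, g * z * g⁻¹ ∈ Z := by
    intro g hg z hz
    have e : g * z * g⁻¹ = z := by
      rw [hc z hz g hg]
      group
    rw [e]
    exact hz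
  have hcZ : (Nat.card ↥Z : ℂ) ≠ 0 := Nat.cast_ne_zero.2 Nat.card_pos.ne'
  constructor
  · intro h z
    have hch : IsCharacter ↥Z (fun z : ↥Z => η.1 (Subgroup.inclusion hZY z)) :=
      Cfsg.Agent.Lib.CT.Ops.isCharacter_comp_hom (Subgroup.inclusion hZY) (irr_isCharacter η)
    have huniq : ∀ ω : IrrCharacter ↥Z, ω ≠ ν →
        mult (fun z : ↥Z => η.1 (Subgroup.inclusion hZY z)) ω = 0 := by
      intro ω hω
      by_contra hm
      have hov : Ov hZY η ω := (ov_iff hZY η ω).2 hm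
      obtain ⟨g, hg, hcj⟩ := ov_orbit hZY hnZ η ν ω h hov
      apply hω
      apply Subtype.ext
      funext z'
      exact hcj z' z' (by
        rw [hc z' z'.2 g hg]
        group)
    have hexp : ∀ z : ↥Z, η.1 (Subgroup.inclusion hZY z) =
        (mult (fun z : ↥Z => η.1 (Subgroup.inclusion hZY z)) ν : ℂ) * ν.1 z := by
      intro z
      have h0 := char_expand hch z
      rw [Finset.sum_eq_single ν] at h0
      · exact h0
      · intro ω _ hω
        rw [huniq ω hω]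
        simp
      · intro h
        exact absurd (Finset.mem_univ _) h
    have h1 := hexp 1
    rw [hν1, mul_one, map_one] at h1
    rw [hexp z, h1]
  · intro h
    unfold Ov
    rw [finsum_eq_sum_of_fintype]
    have h2 := Cfsg.Agent.Lib.CT.NormOne.inner_self_eq_one_of_irr ν.2
    unfold classInner at h2
    have h3 : ∑ z : ↥Z, ν.1 z * (starRingEnd ℂ) (ν.1 z) = (Nat.card ↥Z : ℂ) := by
      rw [inv_mul_eq_iff_eq_mul₀ hcZ, mul_one] at h2
      exact h2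
    have h1 : ∑ z : ↥Z, η.1 (Subgroup.inclusion hZY z) * (starRingEnd ℂ) (ν.1 z) =
        η.1 1 * (Nat.card ↥Z : ℂ) := by
      rw [← h3, Finset.mul_sum]
      apply Finset.sum_congr rfl
      intro z _
      rw [h z]
      ring
    rw [h1]
    refine mul_ne_zero ?_ hcZ
    rw [deg_cast]
    exact Nat.cast_ne_zero.2 (deg_pos η).ne'

end central

section lin

variable {G : Type u} [Group G] [Finite G]

/-- A character of degree prime to `p` restricts irreducibly to a normal subgroup of `p`-power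
index. -/
theorem res_irr_of_pprime (p : ℕ) [Fact p.Prime] {K M : Subgroup G} (hKM : K ≤ M)
    (hn : ∀ m ∈ M, ∀ k ∈ K, m * k * m⁻¹ ∈ K) (hidx : ∃ a : ℕ, K.relIndex M = p ^ a)
    (η : IrrCharacter ↥M) (hη : ¬ p ∣ charDegree η.1) :
    ∃ θ : IrrCharacter ↥K, ∀ k : ↥K, η.1 (Subgroup.inclusion hKM k) = θ.1 k := by
  classical
  have hp : p.Prime := Fact.out
  let _ : Fintype ↥M := Fintype.ofFinite _
  let _ : Fintype ↥K := Fintype.ofFinite _
  obtain ⟨θ, hθ⟩ := exists_ov_down hKM η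
  obtain ⟨h1, h2⟩ := ov_deg_dvd hKM hn η θ hθ
  obtain ⟨a, ha⟩ := hidx
  rw [ha] at h2
  obtain ⟨j, -, hj⟩ := (Nat.dvd_prime_pow hp).1 h2
  obtain ⟨q, hq⟩ := h1
  have hθpos := deg_pos θ
  have hq' : charDegree η.1 / charDegree θ.1 = q := by
    rw [hq]
    exact Nat.mul_div_cancel_left q hθpos
  have hj0 : j = 0 := by
    by_contra hne
    apply hη
    rw [hq, ← hq', hj]
    exact Dvd.dvd.mul_left (dvd_pow_self p hne) _
  rw [hj0, pow_zero] at hj
  have hdeg : charDegree η.1 ≤ charDegree θ.1 := by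
    rw [hq, ← hq', hj, mul_one]
  exact ⟨θ, Cfsg.Agent.Lib.Helper81.McKD.res_eq_of_deg (Subgroup.inclusion hKM) η θ ((ov_iff hKM η θ).1 hθ) hdeg⟩

/-- Gallagher: two extensions of an irreducible character differ by a linear character. -/
theorem gal_lin {K M : Subgroup G} (hKM : K ≤ M) (hn : ∀ m ∈ M, ∀ k ∈ K, m * k * m⁻¹ ∈ K)
    (Θ η : IrrCharacter ↥M) (θ : IrrCharacter ↥K)
    (hΘ : ∀ k : ↥K, Θ.1 (Subgroup.inclusion hKM k) = θ.1 k)
    (hη : ∀ k : ↥K, η.1 (Subgroup.inclusion hKM k) = θ.1 k) :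
    ∃ b : ↥M →* ℂˣ, (∀ k : ↥K, b (Subgroup.inclusion hKM k) = 1) ∧
      ∀ m, η.1 m = ((b m : ℂˣ) : ℂ) * Θ.1 m := by
  classical
  haveI := normal_sub hn
  let _ : Fintype ↥M := Fintype.ofFinite _
  let _ : Fintype ↥K := Fintype.ofFinite _
  let Q := ↥M ⧸ K.subgroupOf M
  let _ : Fintype Q := Fintype.ofFinite _
  let π : ↥M →* Q := QuotientGroup.mk' (K.subgroupOf M)
  have hπ : Function.Surjective π := QuotientGroup.mk'_surjective _
  have hker : ∀ y : ↥M, π y = 1 ↔ y ∈ (Subgroup.inclusion hKM).range := by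
    intro y
    show (QuotientGroup.mk y : Q) = 1 ↔ _
    rw [QuotientGroup.eq_one_iff, Subgroup.mem_subgroupOf]
    constructor
    · intro hy
      exact ⟨⟨y, hy⟩, Subtype.ext rfl⟩
    · rintro ⟨k, rfl⟩
      exact k.2
  have hmult : mult (fun n : ↥K => η.1 (Subgroup.inclusion hKM n)) θ ≠ 0 := by
    have e : (fun n : ↥K => η.1 (Subgroup.inclusion hKM n)) = θ.1 := funext hη
    rw [e, Cfsg.Agent.Lib.Helper81.McKB.mult_self]
    exact one_ne_zero
  obtain ⟨β, hβ⟩ := Cfsg.Agent.Lib.Helper81.NSylA.gal_surj π hπ (Subgroup.inclusion hKM) hker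
    Θ.1 (irr_isCharacter Θ) θ hΘ η hmult
  have hval : ∀ m, η.1 m = Θ.1 m * β.1 (π m) := by
    intro m
    rw [hβ]
    rfl
  have hθ0 : θ.1 1 ≠ 0 := by
    rw [deg_cast]
    exact Nat.cast_ne_zero.2 (deg_pos θ).ne'
  have hβ1 : β.1 1 = 1 := by
    have h1 := hval 1
    have h2 : η.1 1 = θ.1 1 := hη 1
    have h3 : Θ.1 1 = θ.1 1 := hΘ 1
    rw [h2, h3, map_one] at h1
    have h4 : θ.1 1 * 1 = θ.1 1 * β.1 1 := by rw [mul_one]; exact h1
    exact (mul_left_cancel₀ hθ0 h4).symm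
  obtain ⟨f, hf⟩ := Cfsg.Agent.Lib.CT.LinChar.exists_hom_of_isCharacter β.1
    (irr_isCharacter β) hβ1
  refine ⟨f.comp π, fun k => ?_, fun m => ?_⟩
  · show f (π (Subgroup.inclusion hKM k)) = 1
    rw [(hker _).2 ⟨k, rfl⟩, map_one]
  · rw [hval m, mul_comm, hf]
    rfl

/-- Gallagher: the linear character relating two extensions is unique. -/
theorem lin_unique {K M : Subgroup G} (hKM : K ≤ M)
    (Θ : IrrCharacter ↥M) (θ : IrrCharacter ↥K)
    (hΘ : ∀ k : ↥K, Θ.1 (Subgroup.inclusion hKM k) = θ.1 k) (b b₂ : ↥M →* ℂˣ)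
    (hb : ∀ k : ↥K, b (Subgroup.inclusion hKM k) = 1)
    (hb₂ : ∀ k : ↥K, b₂ (Subgroup.inclusion hKM k) = 1)
    (h : ∀ m, ((b m : ℂˣ) : ℂ) * Θ.1 m = ((b₂ m : ℂˣ) : ℂ) * Θ.1 m) : b = b₂ := by
  classical
  let _ : Fintype ↥M := Fintype.ofFinite _
  let _ : Fintype ↥(K.subgroupOf M) := Fintype.ofFinite _
  have : Finite (IrrCharacter ↥(K.subgroupOf M)) := finite_irr
  let _ : Fintype (IrrCharacter ↥(K.subgroupOf M)) := Fintype.ofFinite _
  have hφ : res (K.subgroupOf M) Θ.1 = (subChar M K hKM θ).1 := by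
    funext n
    rw [subChar_apply]
    exact hΘ ⟨((n : ↥M) : G), n.2⟩
  have key := gallagher_lin (K.subgroupOf M) Θ (subChar M K hKM θ) hφ
    (fun x => (((b₂ * b⁻¹) x : ℂˣ) : ℂ))
    (Cfsg.Agent.Lib.CT.LinChar.isCharacter_of_hom (b₂ * b⁻¹)) (by simp) (by
      intro m hm
      have h1 := hb ⟨((m : ↥M) : G), hm⟩
      have h2 := hb₂ ⟨((m : ↥M) : G), hm⟩
      have e : Subgroup.inclusion hKM ⟨((m : ↥M) : G), hm⟩ = m := Subtype.ext rfl
      rw [e] at h1 h2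
      show (((b₂ m * (b m)⁻¹ : ℂˣ)) : ℂ) = 1
      rw [h1, h2]
      simp) (by
      intro x
      show (((b₂ x * (b x)⁻¹ : ℂˣ)) : ℂ) * Θ.1 x = Θ.1 x
      have h1 := h x
      have hbx : ((b x : ℂˣ) : ℂ) ≠ 0 := Units.ne_zero _
      calc (((b₂ x * (b x)⁻¹ : ℂˣ)) : ℂ) * Θ.1 x
          = ((b x : ℂˣ) : ℂ)⁻¹ * (((b₂ x : ℂˣ) : ℂ) * Θ.1 x) := by
            push_cast
            ring
        _ = Θ.1 x := by
            rw [← h1]
            field_simp)
  apply MonoidHom.ext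
  intro x
  have h1 := key x
  have h2 : b₂ x * (b x)⁻¹ = 1 := Units.ext h1
  exact (mul_inv_eq_one.1 h2).symm

/-- Extension of a linear character across a factorisation. -/
theorem lin_extend (K₀ M' M : Subgroup G) (hM'M : M' ≤ M) (hK₀M : K₀ ≤ M)
    (hfac : ∀ m ∈ M, ∃ k ∈ K₀, ∃ m' ∈ M', m = k * m')
    (hnorm : ∀ h ∈ M', ∀ n ∈ K₀, h * n * h⁻¹ ∈ K₀) (b' : ↥M' →* ℂˣ)
    (hb' : ∀ x (_ : x ∈ K₀) (hxM' : x ∈ M'), b' ⟨x, hxM'⟩ = 1) :
    ∃ b : ↥M →* ℂˣ, (∀ k : ↥K₀, b (Subgroup.inclusion hK₀M k) = 1) ∧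
      ∀ m' : ↥M', b (Subgroup.inclusion hM'M m') = b' m' := by
  obtain ⟨F, hF⟩ := glue_hom K₀ M' M hfac hnorm (1 : ↥K₀ →* ℂˣ) b'
    (fun x hxN hxH => by rw [hb' x hxN hxH]; rfl) (fun h n => by simp)
  refine ⟨F, fun k => ?_, fun m' => ?_⟩
  · have h1 := hF (Subgroup.inclusion hK₀M k) k 1 (by simp)
    rw [h1]
    simp
  · have h1 := hF (Subgroup.inclusion hM'M m') 1 m' (by simp)
    rw [h1]
    simp

/-- A linear character trivial on `K₀` is determined by its restriction to a supplement. -/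
theorem lin_res_unique (K₀ M' M : Subgroup G) (hM'M : M' ≤ M) (hK₀M : K₀ ≤ M)
    (hfac : ∀ m ∈ M, ∃ k ∈ K₀, ∃ m' ∈ M', m = k * m') (b b₂ : ↥M →* ℂˣ)
    (hb : ∀ k : ↥K₀, b (Subgroup.inclusion hK₀M k) = 1)
    (hb₂ : ∀ k : ↥K₀, b₂ (Subgroup.inclusion hK₀M k) = 1)
    (h : ∀ m' : ↥M', b (Subgroup.inclusion hM'M m') = b₂ (Subgroup.inclusion hM'M m')) :
    b = b₂ := by
  apply MonoidHom.ext
  intro m
  obtain ⟨k, hk, m', hm', e⟩ := hfac m m.2
  have e2 : m = Subgroup.inclusion hK₀M ⟨k, hk⟩ * Subgroup.inclusion hM'M ⟨m', hm'⟩ :=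
    Subtype.ext e
  rw [e2, map_mul, map_mul, hb, hb₂, h]

end lin

end Cfsg.Agent.Lib.Helper81.McKL
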