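import Mathlib
import Cfsg.Prelude.Def_Characters
import Cfsg.Prelude.Def_BlockLocal
import Cfsg.Prelude.Def_CharExt
import Cfsg.Agent.Lib.Helper81.McKL

set_option autoImplicit false
set_option linter.style.haveILetI false
set_option linter.unusedSectionVars false
set_option maxHeartbeats 1000000

/-!
# The central case: group-theoretic preparations
-/

namespace Cfsg.Agent.Lib.Helper81.McKM

open Cfsg
open Cfsg.Agent.Lib.Helper81.Irr Cfsg.Agent.Lib.Helper81.Basic Cfsg.Agent.Lib.Helper81.Expand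
  Cfsg.Agent.Lib.Helper81.Mult Cfsg.Agent.Lib.Helper81.Cliff Cfsg.Agent.Lib.Helper81.CliffCorr
  Cfsg.Agent.Lib.Helper81.GlaubCore Cfsg.Agent.Lib.Helper81.Glaub
  Cfsg.Agent.Lib.Helper81.McKE
  Cfsg.Agent.Lib.Helper81.McKF Cfsg.Agent.Lib.Helper81.McKG Cfsg.Agent.Lib.Helper81.McKH
  Cfsg.Agent.Lib.Helper81.McKI
  Cfsg.Agent.Lib.Helper81.McKJ Cfsg.Agent.Lib.Helper81.McKK Cfsg.Agent.Lib.Helper81.McKL
open scoped ComplexConjugate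

universe u

section general

variable {G : Type u} [Group G] [Finite G] (p : ℕ) [Fact p.Prime]

/-- The index of a normal factor in a product with a `p`-group is a power of `p`. -/
theorem relIndex_ppow (K S M : Subgroup G) (hKM : K ≤ M)
    (hfac : ∀ m ∈ M, ∃ k ∈ K, ∃ s ∈ S, m = k * s)
    (hnorm : ∀ s ∈ S, ∀ k ∈ K, s * k * s⁻¹ ∈ K) (hS : IsPGroup p S) :
    ∃ a : ℕ, K.relIndex M = p ^ a := by
  have hp : p.Prime := Fact.out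
  have hle : M ≤ K ⊔ S := by
    intro m hm
    obtain ⟨k, hk, s, hs, rfl⟩ := hfac m hm
    exact Subgroup.mul_mem _ (Subgroup.mem_sup_left hk) (Subgroup.mem_sup_right hs)
  have h1 : Nat.card ↥M ∣ Nat.card ↥(K ⊔ S) := Subgroup.card_dvd_of_le hle
  have h2 := card_sup_dvd K S hnorm
  have h3 := Subgroup.card_mul_index (K.subgroupOf M)
  have hcard : Nat.card ↥(K.subgroupOf M) = Nat.card ↥K :=
    Nat.card_congr (Subgroup.subgroupOfEquivOfLe hKM).toEquiv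
  rw [hcard] at h3
  have h4 : Nat.card ↥K * K.relIndex M ∣ Nat.card ↥K * Nat.card ↥S := by
    have h5 : Nat.card ↥K * K.relIndex M = Nat.card ↥M := h3
    rw [h5]
    exact h1.trans h2
  have h6 : K.relIndex M ∣ Nat.card ↥S := Nat.dvd_of_mul_dvd_mul_left Nat.card_pos h4
  obtain ⟨n, hn⟩ := IsPGroup.iff_card.1 hS
  rw [hn] at h6
  obtain ⟨a, -, ha⟩ := (Nat.dvd_prime_pow hp).1 h6
  exact ⟨a, ha⟩

/-- The Frattini argument for a normal subgroup containing a `p`-subgroup of index prime to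
`p`. -/
theorem frattini_arg (X M S N : Subgroup G) (hMX : M ≤ X) (hSM : S ≤ M)
    (hnM : ∀ g ∈ X, ∀ m ∈ M, g * m * g⁻¹ ∈ M) (hS : IsPGroup p S)
    (hSyl : ¬ p ∣ S.relIndex X)
    (hN : ∀ g, g ∈ N ↔ g ∈ X ∧ ∀ s, s ∈ S ↔ g * s * g⁻¹ ∈ S) :
    ∀ g ∈ X, ∃ m ∈ M, ∃ n ∈ N, g = m * n := by
  intro g hg
  have hQM : S.map (MulAut.conj g).toMonoidHom ≤ M := by
    rintro _ ⟨s, hs, rfl⟩
    exact hnM g hg s (hSM hs)
  have hpSM : ¬ p ∣ S.relIndex M := by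
    intro hd
    apply hSyl
    rw [← Subgroup.relIndex_mul_relIndex S M X hSM hMX]
    exact Dvd.dvd.mul_right hd _
  obtain ⟨t, ht, htQ⟩ := exists_conj_into p (S.map (MulAut.conj g).toMonoidHom) S M hQM
    (hS.map _) hpSM
  have hcS0 : ∀ s ∈ S, (t⁻¹ * g) * s * (t⁻¹ * g)⁻¹ ∈ S := by
    intro s hs
    have h1 := htQ _ (Subgroup.mem_map_of_mem (MulAut.conj g).toMonoidHom hs)
    have e0 : (MulAut.conj g).toMonoidHom s = g * s * g⁻¹ := rfl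
    rw [e0] at h1
    have e : t⁻¹ * g * s * (t⁻¹ * g)⁻¹ = t⁻¹ * (g * s * g⁻¹) * t := by group
    rw [e]
    exact h1
  have hcS := conj_mem_iff_of_finite S (t⁻¹ * g) hcS0
  have hcX : t⁻¹ * g ∈ X := X.mul_mem (X.inv_mem (hMX ht)) hg
  refine ⟨t, ht, t⁻¹ * g, (hN _).2 ⟨hcX, fun s => (hcS s).symm⟩, ?_⟩
  group

end general

section core

variable {G : Type u} [Group G] [Finite G] (p : ℕ) [Fact p.Prime]
  (X Z K₀ S M N : Subgroup G)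
  (hZM : Z ≤ M) (hMX : M ≤ X) (hZc : ∀ z ∈ Z, ∀ x ∈ X, x * z = z * x)
  (hK₀M : K₀ ≤ M) (hSM : S ≤ M)
  (hfacM : ∀ m ∈ M, ∃ k ∈ K₀, ∃ s ∈ S, m = k * s)
  (hnM : ∀ g ∈ X, ∀ m ∈ M, g * m * g⁻¹ ∈ M) (hnK₀ : ∀ g ∈ X, ∀ k ∈ K₀, g * k * g⁻¹ ∈ K₀)
  (hpK₀ : ¬ p ∣ Nat.card K₀) (hS : IsPGroup p S) (hSyl : ¬ p ∣ S.relIndex X)
  (hN : ∀ g, g ∈ N ↔ g ∈ X ∧ ∀ s, s ∈ S ↔ g * s * g⁻¹ ∈ S)

include hN in
theorem hNX : N ≤ X := fun g hg => ((hN g).1 hg).1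

include hMX hSM hN in
theorem hSN : S ≤ N := by
  intro s hs
  refine (hN s).2 ⟨hMX (hSM hs), fun t => ?_⟩
  constructor
  · intro ht
    exact S.mul_mem (S.mul_mem hs ht) (S.inv_mem hs)
  · intro ht
    have e : t = s⁻¹ * (s * t * s⁻¹) * s := by group
    rw [e]
    exact S.mul_mem (S.mul_mem (S.inv_mem hs) ht) hs

include hN in
theorem hNS : ∀ g ∈ N, ∀ s ∈ S, g * s * g⁻¹ ∈ S := fun g hg s hs => (((hN g).1 hg).2 s).1 hs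

include hMX hSM hnK₀ hpK₀ hS hN in
/-- `K₀ ⊓ N` centralises `S`. -/
theorem cent (c : G) (hc : c ∈ K₀ ⊓ N) (s : G) (hs : s ∈ S) : s * c * s⁻¹ = c := by
  have h1 : c * s * c⁻¹ * s⁻¹ ∈ S := S.mul_mem (hNS X S N hN c hc.2 s hs) (S.inv_mem hs)
  have h2 : c * s * c⁻¹ * s⁻¹ ∈ K₀ := by
    have e : c * s * c⁻¹ * s⁻¹ = c * (s * c⁻¹ * s⁻¹) := by group
    rw [e]
    exact K₀.mul_mem hc.1 (hnK₀ s (hMX (hSM hs)) _ (K₀.inv_mem hc.1))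
  have h3 := inter_trivial p K₀ S hpK₀ hS _ h2 h1
  have h4 : c * s = s * c := by
    calc c * s = (c * s * c⁻¹ * s⁻¹) * (s * c) := by group
      _ = s * c := by rw [h3, one_mul]
  rw [← h4]
  group

include hMX hK₀M hnK₀ hpK₀ hS hN in
/-- The characterisation of `K₀ ⊓ N` as a centralizer. -/
theorem mem_C₀ (hSM : S ≤ M) (g : G) : g ∈ K₀ ⊓ N ↔ g ∈ K₀ ∧ ∀ s ∈ S, s * g * s⁻¹ = g := by
  constructor
  · intro hg
    exact ⟨hg.1, fun s hs => cent p X K₀ S M N hMX hSM hnK₀ hpK₀ hS hN g hg s hs⟩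
  · rintro ⟨hk, hcent⟩
    refine ⟨hk, (hN g).2 ⟨hMX (hK₀M hk), fun s => ?_⟩⟩
    have hcomm : ∀ t ∈ S, g * t * g⁻¹ = t := by
      intro t ht
      have h1 := hcent t ht
      have h2 : t * g = g * t := by
        calc t * g = (t * g * t⁻¹) * t := by group
          _ = g * t := by rw [h1]
      rw [← h2]
      group
    constructor
    · intro hs
      rw [hcomm s hs]
      exact hs
    · intro hs
      have h2 := hcomm _ hs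
      have h3 : g * s * g⁻¹ = s := mul_left_cancel (mul_right_cancel h2)
      rw [← h3]
      exact hs

include hMX hSM hfacM hN in
theorem facM' : ∀ m ∈ M ⊓ N, ∃ c ∈ K₀ ⊓ N, ∃ s ∈ S, m = c * s := by
  intro m hm
  obtain ⟨k, hk, s, hs, e⟩ := hfacM m hm.1
  refine ⟨k, ⟨hk, ?_⟩, s, hs, e⟩
  have e2 : k = m * s⁻¹ := by
    rw [e]
    group
  rw [e2]
  exact N.mul_mem hm.2 (N.inv_mem (hSN X S M N hMX hSM hN hs))

include hMX hSM hfacM hN in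
theorem facMM' : ∀ m ∈ M, ∃ k ∈ K₀, ∃ m' ∈ M ⊓ N, m = k * m' := by
  intro m hm
  obtain ⟨k, hk, s, hs, e⟩ := hfacM m hm
  exact ⟨k, hk, s, ⟨hSM hs, hSN X S M N hMX hSM hN hs⟩, e⟩

include hnM hN in
theorem normM' : ∀ g ∈ N, ∀ m ∈ M ⊓ N, g * m * g⁻¹ ∈ M ⊓ N := by
  intro g hg m hm
  exact ⟨hnM g (hNX X S N hN hg) m hm.1, N.mul_mem (N.mul_mem hg hm.2) (N.inv_mem hg)⟩

include hnK₀ hN in
theorem normC₀ : ∀ g ∈ N, ∀ c ∈ K₀ ⊓ N, g * c * g⁻¹ ∈ K₀ ⊓ N := by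
  intro g hg c hc
  exact ⟨hnK₀ g (hNX X S N hN hg) c hc.1, N.mul_mem (N.mul_mem hg hc.2) (N.inv_mem hg)⟩

include hK₀M hMX hSM hnK₀ hpK₀ hS hfacM in
theorem idxM : ∃ a : ℕ, K₀.relIndex M = p ^ a :=
  relIndex_ppow p K₀ S M hK₀M hfacM (fun s hs => hnK₀ s (hMX (hSM hs))) hS

include hK₀M hMX hSM hnK₀ hpK₀ hS hfacM hN in
theorem idxM' : ∃ a : ℕ, (K₀ ⊓ N).relIndex (M ⊓ N) = p ^ a :=
  relIndex_ppow p (K₀ ⊓ N) S (M ⊓ N) (inf_le_inf_right N hK₀M)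
    (facM' X K₀ S M N hMX hSM hfacM hN)
    (fun s hs => normC₀ X K₀ S N hnK₀ hN s (hSN X S M N hMX hSM hN hs)) hS

include hZM hMX hZc hK₀M hSM hfacM hpK₀ hS in
/-- A central element of `M` is the product of central elements of `K₀` and of `S`. -/
theorem central_split (z : G) (hz : z ∈ Z) :
    ∃ c ∈ K₀, ∃ s ∈ S, z = c * s ∧ c ∈ Z ∧ s ∈ Z := by
  have hp : p.Prime := Fact.out
  obtain ⟨k, hk, s₀, hs₀, e⟩ := hfacM z (hZM hz)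
  have hcomm : Commute k s₀ := by
    have h1 := hZc z hz s₀ (hMX (hSM hs₀))
    rw [e] at h1
    have h2 : s₀ * k * s₀ = k * s₀ * s₀ := by rw [← mul_assoc] at h1; exact h1
    exact (mul_right_cancel h2).symm
  obtain ⟨n, hn⟩ := IsPGroup.iff_card.1 hS
  have hs₀P : s₀ ^ (p ^ n) = 1 := by
    have h1 : (⟨s₀, hs₀⟩ : ↥S) ^ (p ^ n) = 1 := by
      rw [← hn]
      exact pow_card_eq_one'
    exact congrArg Subtype.val h1
  have hkn : k ^ Nat.card ↥K₀ = 1 := by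
    have h1 : (⟨k, hk⟩ : ↥K₀) ^ Nat.card ↥K₀ = 1 := pow_card_eq_one'
    exact congrArg Subtype.val h1
  have hzP : z ^ (p ^ n) ∈ K₀ := by
    rw [e, hcomm.mul_pow, hs₀P, mul_one]
    exact K₀.pow_mem hk _
  have hzK : z ^ Nat.card ↥K₀ ∈ S := by
    rw [e, hcomm.mul_pow, hkn, one_mul]
    exact S.pow_mem hs₀ _
  have hcop : IsCoprime ((p ^ n : ℕ) : ℤ) ((Nat.card ↥K₀ : ℕ) : ℤ) := by
    rw [Nat.isCoprime_iff_coprime]
    apply Nat.Coprime.pow_left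
    rw [Nat.Prime.coprime_iff_not_dvd hp]
    exact hpK₀
  obtain ⟨a, b, hab⟩ := hcop
  refine ⟨(z ^ (p ^ n)) ^ a, K₀.zpow_mem hzP a, (z ^ Nat.card ↥K₀) ^ b, S.zpow_mem hzK b, ?_,
    Z.zpow_mem (Z.pow_mem hz _) a, Z.zpow_mem (Z.pow_mem hz _) b⟩
  rw [← zpow_natCast z (p ^ n), ← zpow_natCast z (Nat.card ↥K₀), ← zpow_mul, ← zpow_mul,
    ← zpow_add, mul_comm _ a, mul_comm _ b, hab, zpow_one]

end core

section rho

variable {G : Type u} [Group G] [Finite G] (p : ℕ) [Fact p.Prime]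
  (X Z K₀ S M N : Subgroup G)
  (hZM : Z ≤ M) (hMX : M ≤ X) (hZc : ∀ z ∈ Z, ∀ x ∈ X, x * z = z * x)
  (hK₀M : K₀ ≤ M) (hSM : S ≤ M)
  (hfacM : ∀ m ∈ M, ∃ k ∈ K₀, ∃ s ∈ S, m = k * s)
  (hnM : ∀ g ∈ X, ∀ m ∈ M, g * m * g⁻¹ ∈ M) (hnK₀ : ∀ g ∈ X, ∀ k ∈ K₀, g * k * g⁻¹ ∈ K₀)
  (hpK₀ : ¬ p ∣ Nat.card K₀) (hS : IsPGroup p S) (hSyl : ¬ p ∣ S.relIndex X)
  (hN : ∀ g, g ∈ N ↔ g ∈ X ∧ ∀ s, s ∈ S ↔ g * s * g⁻¹ ∈ S)

/-- The multiplicity of `θ'` in the restriction of `θ` is prime to `p`, stated without a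
choice of finiteness instance. -/
def PMult {C K : Subgroup G} (hCK : C ≤ K) (θ : IrrCharacter ↥K) (θ' : IrrCharacter ↥C) : Prop :=
  ∀ inst : Fintype ↥C, ¬ p ∣ @mult _ _ inst (fun c : ↥C => θ.1 (Subgroup.inclusion hCK c)) θ'

theorem pmult_iff {C K : Subgroup G} [inst : Fintype ↥C] (hCK : C ≤ K) (θ : IrrCharacter ↥K)
    (θ' : IrrCharacter ↥C) :
    PMult p hCK θ θ' ↔ ¬ p ∣ mult (fun c : ↥C => θ.1 (Subgroup.inclusion hCK c)) θ' := by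
  constructor
  · intro h
    exact h inst
  · intro h inst'
    have e : inst' = inst := Subsingleton.elim _ _
    rw [e]
    exact h

include hZM hMX hZc hSM hN in
theorem hZN : Z ≤ N := by
  intro z hz
  refine (hN z).2 ⟨hMX (hZM hz), fun s => ?_⟩
  constructor
  · intro hs
    have h1 := hZc z hz s (hMX (hSM hs))
    have e : z * s * z⁻¹ = s := by
      rw [← h1]
      group
    rw [e]
    exact hs
  · intro hs
    have h1 := hZc z hz _ (hMX (hSM hs))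
    have e : s = z * s * z⁻¹ := by
      have h2 : z * s * z⁻¹ * z = z * (z * s * z⁻¹) := h1
      have h3 : z * s = z * (z * s * z⁻¹) := by
        rw [← h2]
        group
      exact mul_left_cancel h3
    rw [e]
    exact hs

/-- The correspondence between the characters of degree prime to `p` of `M` and of `M ⊓ N`. -/
def Rho (η : IrrCharacter ↥M) (η' : IrrCharacter ↥(M ⊓ N)) : Prop :=
  ∃ (θ : IrrCharacter ↥K₀) (θ' : IrrCharacter ↥(K₀ ⊓ N)) (Θ : IrrCharacter ↥M)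
    (Θ' : IrrCharacter ↥(M ⊓ N)) (b : ↥M →* ℂˣ),
    IsCan p hK₀M Θ θ ∧ IsCan p (inf_le_inf_right N hK₀M) Θ' θ' ∧
    PMult p (inf_le_left : K₀ ⊓ N ≤ K₀) θ θ' ∧
    (∀ k : ↥K₀, b (Subgroup.inclusion hK₀M k) = 1) ∧
    (∀ m, η.1 m = ((b m : ℂˣ) : ℂ) * Θ.1 m) ∧
    (∀ m' : ↥(M ⊓ N), η'.1 m' =
      ((b (Subgroup.inclusion inf_le_left m') : ℂˣ) : ℂ) * Θ'.1 m')

theorem rho_res (η : IrrCharacter ↥M) (η' : IrrCharacter ↥(M ⊓ N))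
    (h : Rho p K₀ M N hK₀M η η') :
    ∃ (θ : IrrCharacter ↥K₀) (θ' : IrrCharacter ↥(K₀ ⊓ N)),
      (∀ k : ↥K₀, η.1 (Subgroup.inclusion hK₀M k) = θ.1 k) ∧
      (∀ c : ↥(K₀ ⊓ N), η'.1 (Subgroup.inclusion (inf_le_inf_right N hK₀M) c) = θ'.1 c) ∧
      PMult p inf_le_left θ θ' := by
  obtain ⟨θ, θ', Θ, Θ', b, hΘ, hΘ', hm, hb, hη, hη'⟩ := h
  refine ⟨θ, θ', fun k => ?_, fun c => ?_, hm⟩
  · rw [hη, hb, hΘ.1]
    simp
  · rw [hη', hΘ'.1]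
    have e : Subgroup.inclusion inf_le_left
        (Subgroup.inclusion (inf_le_inf_right N hK₀M) c) =
        Subgroup.inclusion hK₀M ⟨c, c.2.1⟩ := Subtype.ext rfl
    rw [e, hb]
    simp

include hK₀M hpK₀ in
theorem rho_deg (η : IrrCharacter ↥M) (η' : IrrCharacter ↥(M ⊓ N))
    (h : Rho p K₀ M N hK₀M η η') :
    ¬ p ∣ charDegree η.1 ∧ ¬ p ∣ charDegree η'.1 := by
  obtain ⟨θ, θ', h1, h2, -⟩ := rho_res p K₀ M N hK₀M η η' h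
  have e1 : charDegree η.1 = charDegree θ.1 := by
    have h3 : η.1 1 = θ.1 1 := h1 1
    have h4 : ((charDegree η.1 : ℕ) : ℂ) = (charDegree θ.1 : ℂ) := by
      rw [← deg_cast η, ← deg_cast θ, h3]
    exact_mod_cast h4
  have e2 : charDegree η'.1 = charDegree θ'.1 := by
    have h3 : η'.1 1 = θ'.1 1 := h2 1
    have h4 : ((charDegree η'.1 : ℕ) : ℂ) = (charDegree θ'.1 : ℂ) := by
      rw [← deg_cast η', ← deg_cast θ', h3]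
    exact_mod_cast h4
  rw [e1, e2]
  constructor
  · exact fun hh => hpK₀ (hh.trans (Cfsg.Agent.Lib.Helper80.Integrality.charDegree_dvd_card θ))
  · exact fun hh => hpK₀ ((hh.trans
      (Cfsg.Agent.Lib.Helper80.Integrality.charDegree_dvd_card θ')).trans
      (Subgroup.card_dvd_of_le inf_le_left))

include hMX hSM hK₀M hnK₀ hpK₀ hS hN in
theorem gl_exists_right (θ : IrrCharacter ↥K₀) (hinv : ∀ s ∈ S, IsConjCharOf K₀ s θ.1 θ.1) :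
    ∃ θ' : IrrCharacter ↥(K₀ ⊓ N), PMult p inf_le_left θ θ' := by
  have hp : p.Prime := Fact.out
  let _ : Fintype ↥K₀ := Fintype.ofFinite _
  let _ : Fintype ↥(K₀ ⊓ N) := Fintype.ofFinite _
  have hgl := glaub_amb p K₀ S (K₀ ⊓ N) (fun s hs => hnK₀ s (hMX (hSM hs))) hpK₀ hS
    (mem_C₀ p X K₀ S M N hMX hK₀M hnK₀ hpK₀ hS hN hSM) inf_le_left
  obtain ⟨β, hβ, -⟩ := hgl.1 θ hinv
  refine ⟨β, (pmult_iff p inf_le_left θ β).2 ?_⟩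
  intro hd
  have hd' : ((mult (fun c : ↥(K₀ ⊓ N) => θ.1 (Subgroup.inclusion inf_le_left c)) β : ℕ) : ℤ) ≡
      0 [ZMOD p] := by
    rw [Int.modEq_zero_iff_dvd]
    exact_mod_cast hd
  have h1 : (1 : ℤ) ≡ 0 [ZMOD p] ∨ (-1 : ℤ) ≡ 0 [ZMOD p] := by
    rcases hβ with h | h
    · exact Or.inl (h.symm.trans hd')
    · exact Or.inr (h.symm.trans hd')
  have h2 : (p : ℤ) ∣ 1 := by
    rcases h1 with h | h
    · exact (Int.modEq_zero_iff_dvd.1 h)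
    · have := Int.modEq_zero_iff_dvd.1 h
      exact (dvd_neg.1 this)
  have h3 : p ∣ 1 := by exact_mod_cast h2
  exact hp.one_lt.ne' (Nat.dvd_one.1 h3)

include hMX hSM hK₀M hnK₀ hpK₀ hS hN in
theorem gl_unique_right (θ : IrrCharacter ↥K₀) (hinv : ∀ s ∈ S, IsConjCharOf K₀ s θ.1 θ.1)
    (θ' θ'' : IrrCharacter ↥(K₀ ⊓ N)) (h' : PMult p inf_le_left θ θ')
    (h'' : PMult p inf_le_left θ θ'') : θ' = θ'' := by
  let _ : Fintype ↥K₀ := Fintype.ofFinite _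
  let _ : Fintype ↥(K₀ ⊓ N) := Fintype.ofFinite _
  have hgl := glaub_amb p K₀ S (K₀ ⊓ N) (fun s hs => hnK₀ s (hMX (hSM hs))) hpK₀ hS
    (mem_C₀ p X K₀ S M N hMX hK₀M hnK₀ hpK₀ hS hN hSM) inf_le_left
  obtain ⟨β, -, hβ⟩ := hgl.1 θ hinv
  have e1 : θ' = β := by
    by_contra hne
    exact (pmult_iff p inf_le_left θ θ').1 h' (hβ θ' hne)
  have e2 : θ'' = β := by
    by_contra hne
    exact (pmult_iff p inf_le_left θ θ'').1 h'' (hβ θ'' hne)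
  rw [e1, e2]

include hMX hSM hK₀M hnK₀ hpK₀ hS hN in
theorem gl_exists_left (θ' : IrrCharacter ↥(K₀ ⊓ N)) :
    ∃ θ : IrrCharacter ↥K₀, (∀ s ∈ S, IsConjCharOf K₀ s θ.1 θ.1) ∧
      PMult p inf_le_left θ θ' := by
  let _ : Fintype ↥K₀ := Fintype.ofFinite _
  let _ : Fintype ↥(K₀ ⊓ N) := Fintype.ofFinite _
  have hgl := glaub_amb p K₀ S (K₀ ⊓ N) (fun s hs => hnK₀ s (hMX (hSM hs))) hpK₀ hS
    (mem_C₀ p X K₀ S M N hMX hK₀M hnK₀ hpK₀ hS hN hSM) inf_le_left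
  obtain ⟨θ, h1, h2⟩ := hgl.2.2 θ'
  exact ⟨θ, h1, (pmult_iff p inf_le_left θ θ').2 h2⟩

include hMX hSM hK₀M hnK₀ hpK₀ hS hN in
theorem gl_unique_left (θ₁ θ₂ : IrrCharacter ↥K₀)
    (hinv₁ : ∀ s ∈ S, IsConjCharOf K₀ s θ₁.1 θ₁.1) (hinv₂ : ∀ s ∈ S, IsConjCharOf K₀ s θ₂.1 θ₂.1)
    (θ' : IrrCharacter ↥(K₀ ⊓ N)) (h₁ : PMult p inf_le_left θ₁ θ')
    (h₂ : PMult p inf_le_left θ₂ θ') : θ₁ = θ₂ := by
  let _ : Fintype ↥K₀ := Fintype.ofFinite _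
  let _ : Fintype ↥(K₀ ⊓ N) := Fintype.ofFinite _
  have hgl := glaub_amb p K₀ S (K₀ ⊓ N) (fun s hs => hnK₀ s (hMX (hSM hs))) hpK₀ hS
    (mem_C₀ p X K₀ S M N hMX hK₀M hnK₀ hpK₀ hS hN hSM) inf_le_left
  exact hgl.2.1 θ₁ θ₂ hinv₁ hinv₂ θ' ((pmult_iff p inf_le_left θ₁ θ').1 h₁)
    ((pmult_iff p inf_le_left θ₂ θ').1 h₂)

include hMX hK₀M hSM hnK₀ hfacM in
/-- An `S`-invariant character of `K₀` is `M`-invariant. -/
theorem inv_M (θ : IrrCharacter ↥K₀) (hinv : ∀ s ∈ S, IsConjCharOf K₀ s θ.1 θ.1) :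
    ∀ m ∈ M, IsConjCharOf K₀ m θ.1 θ.1 := by
  have hn : ∀ g ∈ M, ∀ y ∈ K₀, g * y * g⁻¹ ∈ K₀ := fun g hg => hnK₀ g (hMX hg)
  intro m hm
  obtain ⟨k, hk, s, hs, rfl⟩ := hfacM m hm
  have h1 : k ∈ stabSub M K₀ hn θ := le_stabSub M K₀ hn hK₀M θ hk
  have h2 : s ∈ stabSub M K₀ hn θ := ⟨hSM hs, hinv s hs⟩
  exact ((stabSub M K₀ hn θ).mul_mem h1 h2).2

include hMX hSM hK₀M hnK₀ hfacM hpK₀ hS hN in
/-- Every character of `K₀ ⊓ N` is invariant in `M ⊓ N`. -/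
theorem inv_M' (θ' : IrrCharacter ↥(K₀ ⊓ N)) :
    ∀ m ∈ M ⊓ N, IsConjCharOf (K₀ ⊓ N) m θ'.1 θ'.1 := by
  have hn : ∀ g ∈ M ⊓ N, ∀ y ∈ K₀ ⊓ N, g * y * g⁻¹ ∈ K₀ ⊓ N :=
    fun g hg => normC₀ X K₀ S N hnK₀ hN g hg.2
  intro m hm
  obtain ⟨c, hc, s, hs, rfl⟩ := facM' X K₀ S M N hMX hSM hfacM hN m hm
  have h1 : c ∈ stabSub (M ⊓ N) (K₀ ⊓ N) hn θ' :=
    le_stabSub (M ⊓ N) (K₀ ⊓ N) hn (inf_le_inf_right N hK₀M) θ' hc
  have h2 : s ∈ stabSub (M ⊓ N) (K₀ ⊓ N) hn θ' := by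
    refine ⟨⟨hSM hs, hSN X S M N hMX hSM hN hs⟩, fun y y' hy => ?_⟩
    have e : y' = y := Subtype.ext (by
      rw [hy]
      exact cent p X K₀ S M N hMX hSM hnK₀ hpK₀ hS hN y y.2 s hs)
    rw [e]
  exact ((stabSub (M ⊓ N) (K₀ ⊓ N) hn θ').mul_mem h1 h2).2

end rho

end Cfsg.Agent.Lib.Helper81.McKM
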