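import Mathlib
import Cfsg.Prelude.Def_Characters
import Cfsg.Prelude.Def_BlockLocal
import Cfsg.Prelude.Def_CharExt
import Cfsg.Agent.Lib.Helper81.McKM

set_option autoImplicit false
set_option linter.style.haveILetI false
set_option linter.unusedSectionVars false
set_option maxHeartbeats 1000000

/-!
# The central case: the correspondence of characters of degree prime to `p`
-/

namespace Cfsg.Agent.Lib.Helper81.McKN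

open Cfsg
open Cfsg.Agent.Lib.Helper81.Irr Cfsg.Agent.Lib.Helper81.Basic Cfsg.Agent.Lib.Helper81.Expand
  Cfsg.Agent.Lib.Helper81.Mult Cfsg.Agent.Lib.Helper81.Cliff Cfsg.Agent.Lib.Helper81.CliffCorr
  Cfsg.Agent.Lib.Helper81.GlaubCore Cfsg.Agent.Lib.Helper81.Glaub
  Cfsg.Agent.Lib.Helper81.McKE
  Cfsg.Agent.Lib.Helper81.McKF Cfsg.Agent.Lib.Helper81.McKG Cfsg.Agent.Lib.Helper81.McKH
  Cfsg.Agent.Lib.Helper81.McKI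
  Cfsg.Agent.Lib.Helper81.McKJ Cfsg.Agent.Lib.Helper81.McKK Cfsg.Agent.Lib.Helper81.McKL
  Cfsg.Agent.Lib.Helper81.McKM
open scoped ComplexConjugate

universe u

section rho

variable {G : Type u} [Group G] [Finite G] (p : ℕ) [Fact p.Prime]
  (X Z K₀ S M N : Subgroup G)
  (hZM : Z ≤ M) (hMX : M ≤ X) (hZc : ∀ z ∈ Z, ∀ x ∈ X, x * z = z * x)
  (hK₀M : K₀ ≤ M) (hSM : S ≤ M)
  (hfacM : ∀ m ∈ M, ∃ k ∈ K₀, ∃ s ∈ S, m = k * s)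
  (hnM : ∀ g ∈ X, ∀ m ∈ M, g * m * g⁻¹ ∈ M) (hnK₀ : ∀ g ∈ X, ∀ k ∈ K₀, g * k * g⁻¹ ∈ K₀)
  (hpK₀ : ¬ p ∣ Nat.card K₀) (hS : IsPGroup p S) (hSyl : ¬ p ∣ S.relIndex X)
  (hN : ∀ g, g ∈ N ↔ g ∈ X ∧ ∀ s, s ∈ S ↔ g * s * g⁻¹ ∈ S)

include hMX hSM hfacM hnK₀ hpK₀ hS hN in
theorem rho_right_unique (η : IrrCharacter ↥M) (η' η'' : IrrCharacter ↥(M ⊓ N))
    (h : Rho p K₀ M N hK₀M η η') (h₂ : Rho p K₀ M N hK₀M η η'') : η' = η'' := by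
  obtain ⟨θ, θ', Θ, Θ', b, hΘ, hΘ', hm, hb, hη, hη'⟩ := h
  obtain ⟨θ₂, θ₂', Θ₂, Θ₂', b₂, hΘ₂, hΘ₂', hm₂, hb₂, hη₂, hη₂'⟩ := h₂
  have hnMK : ∀ m ∈ M, ∀ k ∈ K₀, m * k * m⁻¹ ∈ K₀ := fun m hm => hnK₀ m (hMX hm)
  have hnM'C : ∀ m ∈ M ⊓ N, ∀ k ∈ K₀ ⊓ N, m * k * m⁻¹ ∈ K₀ ⊓ N :=
    fun g hg => normC₀ X K₀ S N hnK₀ hN g hg.2
  have hpC : ¬ p ∣ Nat.card ↥(K₀ ⊓ N) :=
    fun h => hpK₀ (h.trans (Subgroup.card_dvd_of_le inf_le_left))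
  have hidx := idxM p X K₀ S M hMX hK₀M hSM hfacM hnK₀ hpK₀ hS
  have hidx' := idxM' p X K₀ S M N hMX hK₀M hSM hfacM hnK₀ hpK₀ hS hN
  have e1 : θ = θ₂ := by
    apply Subtype.ext
    funext k
    have h1 : η.1 (Subgroup.inclusion hK₀M k) = θ.1 k := by
      rw [hη, hb, hΘ.1]
      simp
    have h2 : η.1 (Subgroup.inclusion hK₀M k) = θ₂.1 k := by
      rw [hη₂, hb₂, hΘ₂.1]
      simp
    exact h1.symm.trans h2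
  subst e1
  have e2 : Θ = Θ₂ := can_unique p hK₀M hnMK hpK₀ hidx θ Θ Θ₂ hΘ hΘ₂
  subst e2
  have e3 : b = b₂ := lin_unique hK₀M Θ θ hΘ.1 b b₂ hb hb₂
    (fun m => (hη m).symm.trans (hη₂ m))
  subst e3
  have hinv : ∀ s ∈ S, IsConjCharOf K₀ s θ.1 θ.1 :=
    fun s hs => inv_of_ext hK₀M Θ θ hΘ.1 s (hSM hs)
  have e4 : θ' = θ₂' :=
    gl_unique_right p X K₀ S M N hMX hK₀M hSM hnK₀ hpK₀ hS hN θ hinv θ' θ₂' hm hm₂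
  subst e4
  have e5 : Θ' = Θ₂' :=
    can_unique p (inf_le_inf_right N hK₀M) hnM'C hpC hidx' θ' Θ' Θ₂' hΘ' hΘ₂'
  subst e5
  apply Subtype.ext
  funext m'
  rw [hη', hη₂']

include hMX hSM hfacM hnK₀ hpK₀ hS hN in
theorem rho_left_unique (η₁ η₂ : IrrCharacter ↥M) (η' : IrrCharacter ↥(M ⊓ N))
    (h : Rho p K₀ M N hK₀M η₁ η') (h₂ : Rho p K₀ M N hK₀M η₂ η') : η₁ = η₂ := by
  obtain ⟨θ, θ', Θ, Θ', b, hΘ, hΘ', hm, hb, hη, hη'⟩ := h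
  obtain ⟨θ₂, θ₂', Θ₂, Θ₂', b₂, hΘ₂, hΘ₂', hm₂, hb₂, hη₂, hη₂'⟩ := h₂
  have hnMK : ∀ m ∈ M, ∀ k ∈ K₀, m * k * m⁻¹ ∈ K₀ := fun m hm => hnK₀ m (hMX hm)
  have hnM'C : ∀ m ∈ M ⊓ N, ∀ k ∈ K₀ ⊓ N, m * k * m⁻¹ ∈ K₀ ⊓ N :=
    fun g hg => normC₀ X K₀ S N hnK₀ hN g hg.2
  have hpC : ¬ p ∣ Nat.card ↥(K₀ ⊓ N) :=
    fun h => hpK₀ (h.trans (Subgroup.card_dvd_of_le inf_le_left))
  have hidx := idxM p X K₀ S M hMX hK₀M hSM hfacM hnK₀ hpK₀ hS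
  have hidx' := idxM' p X K₀ S M N hMX hK₀M hSM hfacM hnK₀ hpK₀ hS hN
  have hbc : ∀ (b : ↥M →* ℂˣ), (∀ k : ↥K₀, b (Subgroup.inclusion hK₀M k) = 1) →
      ∀ k : ↥(K₀ ⊓ N), (b.comp (Subgroup.inclusion (inf_le_left : M ⊓ N ≤ M)))
        (Subgroup.inclusion (inf_le_inf_right N hK₀M) k) = 1 := by
    intro b hb k
    have e : Subgroup.inclusion inf_le_left
        (Subgroup.inclusion (inf_le_inf_right N hK₀M) k) =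
        Subgroup.inclusion hK₀M ⟨k, k.2.1⟩ := Subtype.ext rfl
    show b (Subgroup.inclusion inf_le_left
        (Subgroup.inclusion (inf_le_inf_right N hK₀M) k)) = 1
    rw [e, hb]
  have e1 : θ' = θ₂' := by
    apply Subtype.ext
    funext k
    have h1 : η'.1 (Subgroup.inclusion (inf_le_inf_right N hK₀M) k) = θ'.1 k := by
      rw [hη', hΘ'.1]
      have := hbc b hb k
      rw [MonoidHom.comp_apply] at this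
      rw [this]
      simp
    have h2 : η'.1 (Subgroup.inclusion (inf_le_inf_right N hK₀M) k) = θ₂'.1 k := by
      rw [hη₂', hΘ₂'.1]
      have := hbc b₂ hb₂ k
      rw [MonoidHom.comp_apply] at this
      rw [this]
      simp
    exact h1.symm.trans h2
  subst e1
  have e2 : Θ' = Θ₂' :=
    can_unique p (inf_le_inf_right N hK₀M) hnM'C hpC hidx' θ' Θ' Θ₂' hΘ' hΘ₂'
  subst e2
  have e3' : b.comp (Subgroup.inclusion (inf_le_left : M ⊓ N ≤ M)) =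
      b₂.comp (Subgroup.inclusion (inf_le_left : M ⊓ N ≤ M)) :=
    lin_unique (inf_le_inf_right N hK₀M) Θ' θ' hΘ'.1 _ _ (hbc b hb) (hbc b₂ hb₂)
      (fun m' => (hη' m').symm.trans (hη₂' m'))
  have e3 : b = b₂ := lin_res_unique K₀ (M ⊓ N) M inf_le_left hK₀M
    (facMM' X K₀ S M N hMX hSM hfacM hN) b b₂ hb hb₂ (fun m' => DFunLike.congr_fun e3' m')
  subst e3
  have hinv : ∀ s ∈ S, IsConjCharOf K₀ s θ.1 θ.1 :=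
    fun s hs => inv_of_ext hK₀M Θ θ hΘ.1 s (hSM hs)
  have hinv₂ : ∀ s ∈ S, IsConjCharOf K₀ s θ₂.1 θ₂.1 :=
    fun s hs => inv_of_ext hK₀M Θ₂ θ₂ hΘ₂.1 s (hSM hs)
  have e4 : θ = θ₂ :=
    gl_unique_left p X K₀ S M N hMX hK₀M hSM hnK₀ hpK₀ hS hN θ θ₂ hinv hinv₂ θ' hm hm₂
  subst e4
  have e5 : Θ = Θ₂ := can_unique p hK₀M hnMK hpK₀ hidx θ Θ Θ₂ hΘ hΘ₂
  subst e5
  apply Subtype.ext
  funext m
  rw [hη, hη₂]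

include hnM hnK₀ hN in
/-- The correspondence commutes with conjugation by elements of `N`. -/
theorem rho_conj (w : G) (hw : w ∈ N) (η η₁ : IrrCharacter ↥M)
    (η' η₁' : IrrCharacter ↥(M ⊓ N)) (h : Rho p K₀ M N hK₀M η η')
    (hc : IsConjCharOf M w η.1 η₁.1) (hc' : IsConjCharOf (M ⊓ N) w η'.1 η₁'.1) :
    Rho p K₀ M N hK₀M η₁ η₁' := by
  obtain ⟨θ, θ', Θ, Θ', b, hΘ, hΘ', hm, hb, hη, hη'⟩ := h
  have hwX : w ∈ X := hNX X S N hN hw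
  have hWK : ∀ g ∈ N, ∀ y ∈ K₀, g * y * g⁻¹ ∈ K₀ := fun g hg => hnK₀ g (hNX X S N hN hg)
  have hWM : ∀ g ∈ N, ∀ y ∈ M, g * y * g⁻¹ ∈ M := fun g hg => hnM g (hNX X S N hN hg)
  have hWC := normC₀ X K₀ S N hnK₀ hN
  have hWM' := normM' X S M N hnM hN
  have hwM := norm_iff N M hWM w hw
  have hwK := norm_iff N K₀ hWK w hw
  have hwM' := norm_iff N (M ⊓ N) hWM' w hw
  have hwC := norm_iff N (K₀ ⊓ N) hWC w hw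
  have hwiM := norm_iff N M hWM w⁻¹ (N.inv_mem hw)
  have hwiK := norm_iff N K₀ hWK w⁻¹ (N.inv_mem hw)
  have hwiM' := norm_iff N (M ⊓ N) hWM' w⁻¹ (N.inv_mem hw)
  have hwiC := norm_iff N (K₀ ⊓ N) hWC w⁻¹ (N.inv_mem hw)
  have hθ₁ : IsConjCharOf K₀ w θ.1 (cj N K₀ hWK ⟨w, hw⟩ θ).1 :=
    (cj_iff N K₀ hWK ⟨w, hw⟩ θ _).1 rfl
  have hθ₁' : IsConjCharOf (K₀ ⊓ N) w θ'.1 (cj N (K₀ ⊓ N) hWC ⟨w, hw⟩ θ').1 :=
    (cj_iff N (K₀ ⊓ N) hWC ⟨w, hw⟩ θ' _).1 rfl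
  have hΘ₁ : IsConjCharOf M w Θ.1 (cj N M hWM ⟨w, hw⟩ Θ).1 :=
    (cj_iff N M hWM ⟨w, hw⟩ Θ _).1 rfl
  have hΘ₁' : IsConjCharOf (M ⊓ N) w Θ'.1 (cj N (M ⊓ N) hWM' ⟨w, hw⟩ Θ').1 :=
    (cj_iff N (M ⊓ N) hWM' ⟨w, hw⟩ Θ' _).1 rfl
  refine ⟨cj N K₀ hWK ⟨w, hw⟩ θ, cj N (K₀ ⊓ N) hWC ⟨w, hw⟩ θ', cj N M hWM ⟨w, hw⟩ Θ,
    cj N (M ⊓ N) hWM' ⟨w, hw⟩ Θ', b.comp (conjE M w⁻¹ hwiM).toMonoidHom,
    can_conj p hK₀M w hwM hwK Θ _ θ _ hΘ hΘ₁ hθ₁,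
    can_conj p (inf_le_inf_right N hK₀M) w hwM' hwC Θ' _ θ' _ hΘ' hΘ₁' hθ₁', ?_, ?_, ?_, ?_⟩
  · intro inst
    have h1 := mult_comp_equiv (conjE (K₀ ⊓ N) w⁻¹ hwiC)
      (fun c : ↥(K₀ ⊓ N) => θ.1 (Subgroup.inclusion inf_le_left c)) θ'
    have h2 : (fun d : ↥(K₀ ⊓ N) => (fun c : ↥(K₀ ⊓ N) =>
        θ.1 (Subgroup.inclusion inf_le_left c)) (conjE (K₀ ⊓ N) w⁻¹ hwiC d)) =
        fun c : ↥(K₀ ⊓ N) => (cj N K₀ hWK ⟨w, hw⟩ θ).1 (Subgroup.inclusion inf_le_left c) := by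
      funext d
      symm
      apply hθ₁
      show (d : G) = w * (w⁻¹ * d * w⁻¹⁻¹) * w⁻¹
      group
    have h3 : irrComp (conjE (K₀ ⊓ N) w⁻¹ hwiC) θ' = cj N (K₀ ⊓ N) hWC ⟨w, hw⟩ θ' := rfl
    rw [h2, h3] at h1
    rw [h1]
    exact hm inst
  · intro k
    show b (conjE M w⁻¹ hwiM (Subgroup.inclusion hK₀M k)) = 1
    have e : conjE M w⁻¹ hwiM (Subgroup.inclusion hK₀M k) =
        Subgroup.inclusion hK₀M (conjE K₀ w⁻¹ hwiK k) := Subtype.ext rfl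
    rw [e, hb]
  · intro m
    have h1 : η₁.1 m = η.1 (conjE M w⁻¹ hwiM m) := hc _ _ (by
      show (m : G) = w * (w⁻¹ * m * w⁻¹⁻¹) * w⁻¹
      group)
    rw [h1, hη]
    rfl
  · intro m'
    have h1 : η₁'.1 m' = η'.1 (conjE (M ⊓ N) w⁻¹ hwiM' m') := hc' _ _ (by
      show (m' : G) = w * (w⁻¹ * m' * w⁻¹⁻¹) * w⁻¹
      group)
    rw [h1, hη']
    rfl

include hMX hSM hfacM hnM hnK₀ hpK₀ hS hN in
/-- Corresponding characters have the same stabilizer in `N`. -/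
theorem rho_stab (η : IrrCharacter ↥M) (η' : IrrCharacter ↥(M ⊓ N))
    (h : Rho p K₀ M N hK₀M η η') (w : G) (hw : w ∈ N) :
    IsConjCharOf M w η.1 η.1 ↔ IsConjCharOf (M ⊓ N) w η'.1 η'.1 := by
  have hWM : ∀ g ∈ N, ∀ y ∈ M, g * y * g⁻¹ ∈ M := fun g hg => hnM g (hNX X S N hN hg)
  have hWM' := normM' X S M N hnM hN
  constructor
  · intro hfix
    have h1 := rho_conj p X K₀ S M N hK₀M hnM hnK₀ hN w hw η η η'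
      (cj N (M ⊓ N) hWM' ⟨w, hw⟩ η') h hfix ((cj_iff N (M ⊓ N) hWM' ⟨w, hw⟩ η' _).1 rfl)
    have h2 := rho_right_unique p X K₀ S M N hMX hK₀M hSM hfacM hnK₀ hpK₀ hS hN η η' _ h h1
    exact (cj_iff N (M ⊓ N) hWM' ⟨w, hw⟩ η' η').1 h2.symm
  · intro hfix
    have h1 := rho_conj p X K₀ S M N hK₀M hnM hnK₀ hN w hw η (cj N M hWM ⟨w, hw⟩ η) η' η' h
      ((cj_iff N M hWM ⟨w, hw⟩ η _).1 rfl) hfix
    have h2 := rho_left_unique p X K₀ S M N hMX hK₀M hSM hfacM hnK₀ hpK₀ hS hN η _ η' h h1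
    exact (cj_iff N M hWM ⟨w, hw⟩ η η).1 h2.symm

include hZM hMX hZc hSM hfacM hnK₀ hpK₀ hS hN in
/-- Values of corresponding characters on the central subgroup. -/
theorem rho_vals (η : IrrCharacter ↥M) (η' : IrrCharacter ↥(M ⊓ N))
    (h : Rho p K₀ M N hK₀M η η') (z : G) (hz : z ∈ Z) (hzM' : z ∈ M ⊓ N) :
    η.1 ⟨z, hZM hz⟩ * η'.1 1 = η'.1 ⟨z, hzM'⟩ * η.1 1 := by
  obtain ⟨θ, θ', Θ, Θ', b, hΘ, hΘ', hm, hb, hη, hη'⟩ := h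
  obtain ⟨c, hc, s, hs, e, hcZ, hsZ⟩ :=
    central_split p X Z K₀ S M hZM hMX hZc hK₀M hSM hfacM hpK₀ hS z hz
  have hZN' := hZN X Z S M N hZM hMX hZc hSM hN
  have hSN' := hSN X S M N hMX hSM hN
  have hcN : c ∈ N := hZN' hcZ
  have hpC : ¬ p ∣ Nat.card ↥(K₀ ⊓ N) :=
    fun h => hpK₀ (h.trans (Subgroup.card_dvd_of_le inf_le_left))
  have hsp : ∃ k : ℕ, s ^ (p ^ k) = 1 := by
    obtain ⟨k, hk⟩ := hS ⟨s, hs⟩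
    exact ⟨k, by simpa using congrArg Subtype.val hk⟩
  have hscM : ∀ m ∈ M, m * s = s * m := fun m hm => hZc s hsZ m (hMX hm)
  have hscM' : ∀ m ∈ M ⊓ N, m * s = s * m := fun m hm => hZc s hsZ m (hMX hm.1)
  have ezG : z = s * c := by
    rw [e]
    exact hZc s hsZ c (hMX (hK₀M hc))
  have ezM : (⟨z, hZM hz⟩ : ↥M) = ⟨s, hSM hs⟩ * Subgroup.inclusion hK₀M ⟨c, hc⟩ :=
    Subtype.ext ezG
  have h1 : η.1 ⟨z, hZM hz⟩ = ((b ⟨s, hSM hs⟩ : ℂˣ) : ℂ) * θ.1 ⟨c, hc⟩ := by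
    rw [hη, ezM, map_mul, hb, mul_one,
      can_kernel p hK₀M hpK₀ Θ θ hΘ s (hSM hs) hscM hsp, hΘ.1]
  have ezM' : (⟨z, hzM'⟩ : ↥(M ⊓ N)) = ⟨s, ⟨hSM hs, hSN' hs⟩⟩ *
      Subgroup.inclusion (inf_le_inf_right N hK₀M) ⟨c, ⟨hc, hcN⟩⟩ := Subtype.ext ezG
  have h2 : η'.1 ⟨z, hzM'⟩ = ((b ⟨s, hSM hs⟩ : ℂˣ) : ℂ) * θ'.1 ⟨c, ⟨hc, hcN⟩⟩ := by
    rw [hη']
    have eb : Subgroup.inclusion inf_le_left (⟨z, hzM'⟩ : ↥(M ⊓ N)) =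
        ⟨s, hSM hs⟩ * Subgroup.inclusion hK₀M ⟨c, hc⟩ := Subtype.ext ezG
    rw [eb, map_mul, hb, mul_one, ezM',
      can_kernel p (inf_le_inf_right N hK₀M) hpC Θ' θ' hΘ' s ⟨hSM hs, hSN' hs⟩ hscM' hsp,
      hΘ'.1]
  have h3 : η.1 1 = θ.1 1 := by
    have h5 := hΘ.1 1
    rw [map_one] at h5
    rw [hη, map_one, h5]
    simp
  have h4 : η'.1 1 = θ'.1 1 := by
    have h5 := hΘ'.1 1
    rw [map_one] at h5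
    rw [hη', map_one, map_one, h5]
    simp
  have hiv : θ.1 ⟨c, hc⟩ * θ'.1 1 = θ'.1 ⟨c, ⟨hc, hcN⟩⟩ * θ.1 1 := by
    have hZ₁C : Z ⊓ (K₀ ⊓ N) ≤ K₀ ⊓ N := inf_le_right
    obtain ⟨ω, hω⟩ := exists_ov_down hZ₁C θ'
    let inst : Fintype ↥(K₀ ⊓ N) := Fintype.ofFinite _
    have hθθ' : Ov (inf_le_left : K₀ ⊓ N ≤ K₀) θ θ' := by
      rw [ov_iff]
      intro h0
      exact (hm inst) (by rw [h0]; exact dvd_zero p)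
    have hθω := ov_trans (inf_le_left : K₀ ⊓ N ≤ K₀) hZ₁C θ θ' ω hθθ' hω
    have hcv1 := (central_values (hZ₁C.trans inf_le_left)
      (fun z hz y hy => hZc z hz.1 y (hMX (hK₀M hy))) θ ω).1 hθω ⟨c, ⟨hcZ, hc, hcN⟩⟩
    have hcv2 := (central_values hZ₁C
      (fun z hz y hy => hZc z hz.1 y (hMX (hK₀M hy.1))) θ' ω).1 hω ⟨c, ⟨hcZ, hc, hcN⟩⟩
    have e1 : θ.1 ⟨c, hc⟩ = θ.1 1 * ω.1 ⟨c, ⟨hcZ, hc, hcN⟩⟩ := hcv1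
    have e2 : θ'.1 ⟨c, ⟨hc, hcN⟩⟩ = θ'.1 1 * ω.1 ⟨c, ⟨hcZ, hc, hcN⟩⟩ := hcv2
    rw [e1, e2]
    ring
  rw [h1, h2, h3, h4]
  linear_combination ((b ⟨s, hSM hs⟩ : ℂˣ) : ℂ) * hiv

include hZM hMX hZc hSM hfacM hnK₀ hpK₀ hS hN in
/-- Corresponding characters lie over the same characters of the central subgroup. -/
theorem rho_over (lam : IrrCharacter ↥Z) (η : IrrCharacter ↥M) (η' : IrrCharacter ↥(M ⊓ N))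
    (h : Rho p K₀ M N hK₀M η η') (hZM' : Z ≤ M ⊓ N) :
    Ov hZM η lam ↔ Ov hZM' η' lam := by
  have hcM : ∀ z ∈ Z, ∀ y ∈ M, y * z = z * y := fun z hz y hy => hZc z hz y (hMX hy)
  have hcM' : ∀ z ∈ Z, ∀ y ∈ M ⊓ N, y * z = z * y := fun z hz y hy => hZc z hz y (hMX hy.1)
  rw [central_values hZM hcM η lam, central_values hZM' hcM' η' lam]
  have hη0 : η.1 1 ≠ 0 := by
    rw [deg_cast]
    exact Nat.cast_ne_zero.2 (deg_pos η).ne'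
  have hη0' : η'.1 1 ≠ 0 := by
    rw [deg_cast]
    exact Nat.cast_ne_zero.2 (deg_pos η').ne'
  constructor
  · intro hv z
    have h1 := rho_vals p X Z K₀ S M N hZM hMX hZc hK₀M hSM hfacM hnK₀ hpK₀ hS hN η η' h z z.2
      (hZM' z.2)
    have h2 : η.1 ⟨z, hZM z.2⟩ = η.1 1 * lam.1 z := hv z
    rw [h2] at h1
    have h3 : η'.1 ⟨z, hZM' z.2⟩ * η.1 1 = (η'.1 1 * lam.1 z) * η.1 1 := by
      rw [← h1]
      ring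
    exact mul_right_cancel₀ hη0 h3
  · intro hv z
    have h1 := rho_vals p X Z K₀ S M N hZM hMX hZc hK₀M hSM hfacM hnK₀ hpK₀ hS hN η η' h z z.2
      (hZM' z.2)
    have h2 : η'.1 ⟨z, hZM' z.2⟩ = η'.1 1 * lam.1 z := hv z
    rw [h2] at h1
    have h3 : η.1 ⟨z, hZM z.2⟩ * η'.1 1 = (η.1 1 * lam.1 z) * η'.1 1 := by
      rw [h1]
      ring
    exact mul_right_cancel₀ hη0' h3

include hMX hSM hfacM hnK₀ hpK₀ hS hN in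
theorem rho_exists_right (η : IrrCharacter ↥M) (hη : ¬ p ∣ charDegree η.1) :
    ∃ η' : IrrCharacter ↥(M ⊓ N), Rho p K₀ M N hK₀M η η' := by
  have hnMK : ∀ m ∈ M, ∀ k ∈ K₀, m * k * m⁻¹ ∈ K₀ := fun m hm => hnK₀ m (hMX hm)
  have hnM'C : ∀ m ∈ M ⊓ N, ∀ k ∈ K₀ ⊓ N, m * k * m⁻¹ ∈ K₀ ⊓ N :=
    fun g hg => normC₀ X K₀ S N hnK₀ hN g hg.2
  have hpC : ¬ p ∣ Nat.card ↥(K₀ ⊓ N) :=
    fun h => hpK₀ (h.trans (Subgroup.card_dvd_of_le inf_le_left))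
  have hidx := idxM p X K₀ S M hMX hK₀M hSM hfacM hnK₀ hpK₀ hS
  have hidx' := idxM' p X K₀ S M N hMX hK₀M hSM hfacM hnK₀ hpK₀ hS hN
  obtain ⟨θ, hθ⟩ := res_irr_of_pprime p hK₀M hnMK hidx η hη
  have hinvM := inv_of_ext hK₀M η θ hθ
  obtain ⟨Θ, hΘ⟩ := can_exists p hK₀M hnMK hpK₀ hidx θ hinvM
  obtain ⟨b, hb, hηb⟩ := gal_lin hK₀M hnMK Θ η θ hΘ.1 hθ
  obtain ⟨θ', hm⟩ := gl_exists_right p X K₀ S M N hMX hK₀M hSM hnK₀ hpK₀ hS hN θ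
    (fun s hs => hinvM s (hSM hs))
  obtain ⟨Θ', hΘ'⟩ := can_exists p (inf_le_inf_right N hK₀M) hnM'C hpC hidx' θ'
    (inv_M' p X K₀ S M N hMX hK₀M hSM hfacM hnK₀ hpK₀ hS hN θ')
  have hirr : IsIrrCharacter ↥(M ⊓ N) ((fun m' : ↥(M ⊓ N) =>
      (((b.comp (Subgroup.inclusion (inf_le_left : M ⊓ N ≤ M))) m' : ℂˣ) : ℂ)) * Θ'.1) :=
    Cfsg.Agent.Lib.CT.LinChar.isIrrCharacter_linear_mul
      (Cfsg.Agent.Lib.CT.LinChar.isCharacter_of_hom _) (by simp) Θ'.2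
  exact ⟨⟨_, hirr⟩, θ, θ', Θ, Θ', b, hΘ, hΘ', hm, hb, hηb, fun m' => rfl⟩

include hMX hSM hfacM hnK₀ hpK₀ hS hN in
theorem rho_exists_left (η' : IrrCharacter ↥(M ⊓ N)) (hη' : ¬ p ∣ charDegree η'.1) :
    ∃ η : IrrCharacter ↥M, Rho p K₀ M N hK₀M η η' := by
  have hnMK : ∀ m ∈ M, ∀ k ∈ K₀, m * k * m⁻¹ ∈ K₀ := fun m hm => hnK₀ m (hMX hm)
  have hnM'C : ∀ m ∈ M ⊓ N, ∀ k ∈ K₀ ⊓ N, m * k * m⁻¹ ∈ K₀ ⊓ N :=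
    fun g hg => normC₀ X K₀ S N hnK₀ hN g hg.2
  have hpC : ¬ p ∣ Nat.card ↥(K₀ ⊓ N) :=
    fun h => hpK₀ (h.trans (Subgroup.card_dvd_of_le inf_le_left))
  have hidx := idxM p X K₀ S M hMX hK₀M hSM hfacM hnK₀ hpK₀ hS
  have hidx' := idxM' p X K₀ S M N hMX hK₀M hSM hfacM hnK₀ hpK₀ hS hN
  obtain ⟨θ', hθ'⟩ := res_irr_of_pprime p (inf_le_inf_right N hK₀M) hnM'C hidx' η' hη'
  obtain ⟨Θ', hΘ'⟩ := can_exists p (inf_le_inf_right N hK₀M) hnM'C hpC hidx' θ'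
    (inv_of_ext (inf_le_inf_right N hK₀M) η' θ' hθ')
  obtain ⟨b', hb', hη'b⟩ := gal_lin (inf_le_inf_right N hK₀M) hnM'C Θ' η' θ' hΘ'.1 hθ'
  obtain ⟨b, hb, hbb'⟩ := lin_extend K₀ (M ⊓ N) M inf_le_left hK₀M
    (facMM' X K₀ S M N hMX hSM hfacM hN) (fun h hh => hnK₀ h (hMX hh.1)) b'
    (fun x hxK hxM' => hb' ⟨x, ⟨hxK, hxM'.2⟩⟩)
  obtain ⟨θ, hinvS, hm⟩ := gl_exists_left p X K₀ S M N hMX hK₀M hSM hnK₀ hpK₀ hS hN θ'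
  have hinvM := inv_M X K₀ S M hMX hK₀M hSM hfacM hnK₀ θ hinvS
  obtain ⟨Θ, hΘ⟩ := can_exists p hK₀M hnMK hpK₀ hidx θ hinvM
  have hirr : IsIrrCharacter ↥M ((fun m : ↥M => ((b m : ℂˣ) : ℂ)) * Θ.1) :=
    Cfsg.Agent.Lib.CT.LinChar.isIrrCharacter_linear_mul
      (Cfsg.Agent.Lib.CT.LinChar.isCharacter_of_hom b) (by simp) Θ.2
  refine ⟨⟨_, hirr⟩, θ, θ', Θ, Θ', b, hΘ, hΘ', hm, hb, fun m => rfl, fun m' => ?_⟩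
  rw [hη'b, hbb']

end rho

end Cfsg.Agent.Lib.Helper81.McKN
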