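import Mathlib
import Cfsg.Prelude.Def_Characters
import Cfsg.Prelude.Def_BlockLocal
import Cfsg.Prelude.Def_CharExt
import Cfsg.Agent.Lib.Helper81.McKN

set_option autoImplicit false
set_option linter.style.haveILetI false
set_option linter.unusedSectionVars false
set_option maxHeartbeats 1000000

/-!
# The central case: the count of characters of degree prime to `p`
-/

namespace Cfsg.Agent.Lib.Helper81.McKO

open Cfsg
open Cfsg.Agent.Lib.Helper81.Irr Cfsg.Agent.Lib.Helper81.Basic Cfsg.Agent.Lib.Helper81.Expand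
  Cfsg.Agent.Lib.Helper81.Mult Cfsg.Agent.Lib.Helper81.Cliff Cfsg.Agent.Lib.Helper81.CliffCorr
  Cfsg.Agent.Lib.Helper81.GlaubCore Cfsg.Agent.Lib.Helper81.Glaub
  Cfsg.Agent.Lib.Helper81.McKE
  Cfsg.Agent.Lib.Helper81.McKF Cfsg.Agent.Lib.Helper81.McKG Cfsg.Agent.Lib.Helper81.McKH
  Cfsg.Agent.Lib.Helper81.McKI
  Cfsg.Agent.Lib.Helper81.McKJ Cfsg.Agent.Lib.Helper81.McKK Cfsg.Agent.Lib.Helper81.McKL
  Cfsg.Agent.Lib.Helper81.McKM Cfsg.Agent.Lib.Helper81.McKN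
open scoped ComplexConjugate

universe u

section mid

variable {G : Type u} [Group G] [Finite G] (p : ℕ) [Fact p.Prime]

theorem deg_conj {Y : Subgroup G} {g : G} {η η' : IrrCharacter ↥Y}
    (h : IsConjCharOf Y g η.1 η'.1) : charDegree η'.1 = charDegree η.1 := by
  unfold charDegree
  rw [h 1 1 (by simp)]

/-- Characters over `lam` of degree prime to `p`, through a normal subgroup of index prime
to `p`. -/
theorem mid_iff {Z M X : Subgroup G} (hZM : Z ≤ M) (hMX : M ≤ X)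
    (hnM : ∀ g ∈ X, ∀ m ∈ M, g * m * g⁻¹ ∈ M) (hidx : ¬ p ∣ M.relIndex X)
    (lam : IrrCharacter ↥Z) (χ : IrrCharacter ↥X) :
    (¬ p ∣ charDegree χ.1 ∧ Ov (hZM.trans hMX) χ lam) ↔
      ∃ η : IrrCharacter ↥M, Ov hMX χ η ∧ ¬ p ∣ charDegree η.1 ∧ Ov hZM η lam := by
  constructor
  · rintro ⟨hd, hov⟩
    obtain ⟨η, h1, h2⟩ := ov_mid hMX hZM χ lam hov
    exact ⟨η, h1, fun h => hd (h.trans (ov_deg_dvd hMX hnM χ η h1).1), h2⟩
  · rintro ⟨η, h1, hd, h2⟩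
    refine ⟨?_, ov_trans hMX hZM χ η lam h1 h2⟩
    obtain ⟨hdvd, hq⟩ := ov_deg_dvd hMX hnM χ η h1
    intro h
    have e : charDegree χ.1 = charDegree η.1 * (charDegree χ.1 / charDegree η.1) :=
      (Nat.mul_div_cancel' hdvd).symm
    rw [e] at h
    rcases (Nat.Prime.dvd_mul Fact.out).1 h with h | h
    · exact hd h
    · exact hidx (h.trans hq)

end mid

section core

variable {G : Type u} [Group G] [Finite G] (p : ℕ) [Fact p.Prime]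
  (X Z K₀ S M N : Subgroup G)
  (hZM : Z ≤ M) (hMX : M ≤ X) (hZc : ∀ z ∈ Z, ∀ x ∈ X, x * z = z * x)
  (hK₀M : K₀ ≤ M) (hSM : S ≤ M)
  (hfacM : ∀ m ∈ M, ∃ k ∈ K₀, ∃ s ∈ S, m = k * s)
  (hnM : ∀ g ∈ X, ∀ m ∈ M, g * m * g⁻¹ ∈ M) (hnK₀ : ∀ g ∈ X, ∀ k ∈ K₀, g * k * g⁻¹ ∈ K₀)
  (hpK₀ : ¬ p ∣ Nat.card K₀) (hS : IsPGroup p S) (hSyl : ¬ p ∣ S.relIndex X)
  (hN : ∀ g, g ∈ N ↔ g ∈ X ∧ ∀ s, s ∈ S ↔ g * s * g⁻¹ ∈ S)

include hMX hK₀M hSM hfacM hnM hnK₀ hpK₀ hS hSyl hN in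
/-- The local count: corresponding characters of `M` and `M ⊓ N` have the same number of
characters above them. -/
theorem core_local (η : IrrCharacter ↥M) (η' : IrrCharacter ↥(M ⊓ N))
    (h : Rho p K₀ M N hK₀M η η') :
    Nat.card {χ : IrrCharacter ↥X // Ov hMX χ η} =
      Nat.card {ψ : IrrCharacter ↥N // Ov (inf_le_right : M ⊓ N ≤ N) ψ η'} := by
  cases nonempty_fintype G
  classical
  have hNX := hNX X S N hN
  have hMΓ : M ≤ stabSub X M hnM η := le_stabSub X M hnM hMX η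
  have hΓX : stabSub X M hnM η ≤ X := stabSub_le X M hnM η
  have hmemΓ := mem_stabSub X M hnM η
  have e1 := cc_count hMΓ hΓX hnM η hmemΓ
  have hnM' := normM' X S M N hnM hN
  have hM'T : M ⊓ N ≤ N ⊓ stabSub X M hnM η := fun g hg => ⟨hg.2, hMΓ hg.1⟩
  have hstab := rho_stab p X K₀ S M N hMX hK₀M hSM hfacM hnM hnK₀ hpK₀ hS hN η η' h
  have hT' : ∀ g, g ∈ N ⊓ stabSub X M hnM η ↔
      g ∈ N ∧ IsConjCharOf (M ⊓ N) g η'.1 η'.1 := by
    intro g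
    constructor
    · rintro ⟨hgN, hgΓ⟩
      exact ⟨hgN, (hstab g hgN).1 ((hmemΓ g).1 hgΓ).2⟩
    · rintro ⟨hgN, hc⟩
      exact ⟨hgN, (hmemΓ g).2 ⟨hNX hgN, (hstab g hgN).2 hc⟩⟩
  have e2 := cc_count hM'T (inf_le_left : N ⊓ stabSub X M hnM η ≤ N) hnM' η' hT'
  obtain ⟨θ, θ', hθ, hθ', hP⟩ := rho_res p K₀ M N hK₀M η η' h
  have hSylΓ : ¬ p ∣ S.relIndex (stabSub X M hnM η) := by
    intro hd
    apply hSyl
    rw [← Subgroup.relIndex_mul_relIndex S (stabSub X M hnM η) X (hSM.trans hMΓ) hΓX]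
    exact Dvd.dvd.mul_right hd _
  have hNΓ : ∀ g, g ∈ N ⊓ stabSub X M hnM η ↔
      g ∈ stabSub X M hnM η ∧ ∀ s, s ∈ S ↔ g * s * g⁻¹ ∈ S := by
    intro g
    constructor
    · rintro ⟨hgN, hgΓ⟩
      exact ⟨hgΓ, ((hN g).1 hgN).2⟩
    · rintro ⟨hgΓ, hs⟩
      exact ⟨(hN g).2 ⟨hΓX hgΓ, hs⟩, hgΓ⟩
  have hnMΓ : ∀ g ∈ stabSub X M hnM η, ∀ m ∈ M, g * m * g⁻¹ ∈ M :=
    fun g hg => hnM g (hΓX hg)
  have hFrat := frattini_arg p (stabSub X M hnM η) M S (N ⊓ stabSub X M hnM η) hMΓ hSM hnMΓ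
    hS hSylΓ hNΓ
  have e3 := star p (stabSub X M hnM η) M K₀ S (N ⊓ stabSub X M hnM η) (M ⊓ N) (K₀ ⊓ N)
    hK₀M hSM hMΓ hfacM hnMΓ (fun g hg => hnK₀ g (hΓX hg)) hpK₀ hS hSylΓ hNΓ
    (fun g => ⟨fun hg => ⟨hg.1, hg.2, hMΓ hg.1⟩, fun hg => ⟨hg.1, hg.2.1⟩⟩)
    (fun g => ⟨fun hg => ⟨hg.1, hg.2, hMΓ (hK₀M hg.1)⟩, fun hg => ⟨hg.1, hg.2.1⟩⟩)
    η (fun g hg => ((hmemΓ g).1 hg).2) θ hθ η' (fun g hg => ((hT' g).1 hg).2) θ'
    (inf_le_inf_right N hK₀M) hθ' inf_le_left ((pmult_iff p _ θ θ').1 hP) hFrat hM'T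
  exact e1.trans (((Nat.card_congr (Equiv.subtypeEquivRight (fun χ => ov_iff hMΓ χ η))).trans
    (e3.trans (Nat.card_congr (Equiv.subtypeEquivRight
      (fun ψ => ov_iff hM'T ψ η'))).symm)).trans e2.symm)

include hZM hMX hZc hK₀M hSM hfacM hnM hnK₀ hpK₀ hS hSyl hN in
/-- The central case of the relative count. -/
theorem core_count (lam : IrrCharacter ↥Z) (hZN : Z ≤ N) :
    cntP p (hZM.trans hMX) lam = cntP p hZN lam := by
  classical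
  have hNX := hNX X S N hN
  have hSN := hSN X S M N hMX hSM hN
  have hZM' : Z ≤ M ⊓ N := le_inf hZM hZN
  have hM'N : M ⊓ N ≤ N := inf_le_right
  have hnM' := normM' X S M N hnM hN
  have hW : ∀ g ∈ N, ∀ y ∈ M, g * y * g⁻¹ ∈ M := fun g hg => hnM g (hNX hg)
  have hidx : ¬ p ∣ M.relIndex X := by
    intro hd
    apply hSyl
    rw [← Subgroup.relIndex_mul_relIndex S M X hSM hMX]
    exact Dvd.dvd.mul_left hd _
  have hSylN : ¬ p ∣ S.relIndex N := by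
    intro hd
    apply hSyl
    rw [← Subgroup.relIndex_mul_relIndex S N X hSN hNX]
    exact Dvd.dvd.mul_right hd _
  have hidx' : ¬ p ∣ (M ⊓ N).relIndex N := by
    intro hd
    apply hSylN
    rw [← Subgroup.relIndex_mul_relIndex S (M ⊓ N) N (le_inf hSM hSN) hM'N]
    exact Dvd.dvd.mul_left hd _
  have : Finite (IrrCharacter ↥X) := finite_irr
  have : Finite (IrrCharacter ↥N) := finite_irr
  have : Finite (IrrCharacter ↥M) := finite_irr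
  have : Finite (IrrCharacter ↥(M ⊓ N)) := finite_irr
  have hconj : ∀ g ∈ X, ∀ l ∈ Z, g * l * g⁻¹ = l := by
    intro g hg l hl
    rw [hZc l hl g hg]
    group
  have hlam : ∀ g ∈ X, IsConjCharOf Z g lam.1 lam.1 := by
    intro g hg z z' hz
    have e : z' = z := by
      apply Subtype.ext
      rw [hz, hconj g hg z z.2]
    rw [e]
  have hZnorm : ∀ g ∈ X, ∀ l, g * l * g⁻¹ ∈ Z ↔ l ∈ Z := by
    intro g hg l
    constructor
    · intro h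
      have h2 := hconj g⁻¹ (X.inv_mem hg) _ h
      have e : g⁻¹ * (g * l * g⁻¹) * g⁻¹⁻¹ = l := by group
      rw [e] at h2
      rw [h2]
      exact h
    · intro h
      rw [hconj g hg l h]
      exact h
  have hA := amb_count N M hW (fun (χ : IrrCharacter ↥X) (η : IrrCharacter ↥M) =>
    Ov hMX χ η ∧ ¬ p ∣ charDegree η.1 ∧ Ov hZM η lam) (by
    rintro χ η η' ⟨h1, hd, h2⟩
    constructor
    · rintro ⟨h1', -, -⟩
      obtain ⟨g, hg, hc⟩ := ov_orbit hMX hnM χ η η' h1 h1'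
      obtain ⟨m, hm, n, hn, rfl⟩ := frattini_arg p X M S N hMX hSM hnM hS hSyl hN g hg
      refine ⟨n, hn, ?_⟩
      intro y y' hy
      have hmem : m * (y' : G) * m⁻¹ ∈ M := M.mul_mem (M.mul_mem hm y'.2) (M.inv_mem hm)
      have e1 := hc y ⟨m * y' * m⁻¹, hmem⟩ (by
        show m * (y' : G) * m⁻¹ = m * n * y * (m * n)⁻¹
        rw [hy]
        group)
      rw [← e1]
      exact (self_conj M η' m hm y' ⟨m * y' * m⁻¹, hmem⟩ rfl).symm
    · rintro ⟨w, hw, hc⟩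
      refine ⟨ov_conj hMX hnM χ η η' w (hNX hw) hc h1, ?_, ?_⟩
      · rw [deg_conj hc]
        exact hd
      · exact ov_conj_both hZM w (hZnorm w (hNX hw)) η η' lam lam hc (hlam w (hNX hw)) h2)
  have hA' := amb_count N (M ⊓ N) hnM'
    (fun (ψ : IrrCharacter ↥N) (η' : IrrCharacter ↥(M ⊓ N)) =>
      Ov hM'N ψ η' ∧ ¬ p ∣ charDegree η'.1 ∧ Ov hZM' η' lam) (by
    rintro ψ η η' ⟨h1, hd, h2⟩
    constructor
    · rintro ⟨h1', -, -⟩
      exact ov_orbit hM'N hnM' ψ η η' h1 h1'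
    · rintro ⟨w, hw, hc⟩
      refine ⟨ov_conj hM'N hnM' ψ η η' w hw hc h1, ?_, ?_⟩
      · rw [deg_conj hc]
        exact hd
      · exact ov_conj_both hZM' w (hZnorm w (hNX hw)) η η' lam lam hc (hlam w (hNX hw)) h2)
  have hX : cntP p (hZM.trans hMX) lam = Nat.card {χ : IrrCharacter ↥X //
      ∃ η : IrrCharacter ↥M, Ov hMX χ η ∧ ¬ p ∣ charDegree η.1 ∧ Ov hZM η lam} :=
    Nat.card_congr (Equiv.subtypeEquivRight (fun χ => mid_iff p hZM hMX hnM hidx lam χ))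
  have hN' : cntP p hZN lam = Nat.card {ψ : IrrCharacter ↥N //
      ∃ η' : IrrCharacter ↥(M ⊓ N), Ov hM'N ψ η' ∧ ¬ p ∣ charDegree η'.1 ∧ Ov hZM' η' lam} :=
    Nat.card_congr (Equiv.subtypeEquivRight (fun ψ => mid_iff p hZM' hM'N hnM' hidx' lam ψ))
  have hC := sum_rel (fun η : IrrCharacter ↥M => ¬ p ∣ charDegree η.1 ∧ Ov hZM η lam)
    (fun η' : IrrCharacter ↥(M ⊓ N) => ¬ p ∣ charDegree η'.1 ∧ Ov hZM' η' lam)
    (Rho p K₀ M N hK₀M)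
    (by
      rintro η ⟨hd, hov⟩
      obtain ⟨η', hρ⟩ := rho_exists_right p X K₀ S M N hMX hK₀M hSM hfacM hnK₀ hpK₀ hS hN η hd
      exact ⟨η', ⟨(rho_deg p K₀ M N hK₀M hpK₀ η η' hρ).2,
        (rho_over p X Z K₀ S M N hZM hMX hZc hK₀M hSM hfacM hnK₀ hpK₀ hS hN lam η η' hρ
          hZM').1 hov⟩, hρ⟩)
    (by
      rintro η' ⟨hd, hov⟩
      obtain ⟨η, hρ⟩ := rho_exists_left p X K₀ S M N hMX hK₀M hSM hfacM hnK₀ hpK₀ hS hN η' hd
      exact ⟨η, ⟨(rho_deg p K₀ M N hK₀M hpK₀ η η' hρ).1,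
        (rho_over p X Z K₀ S M N hZM hMX hZc hK₀M hSM hfacM hnK₀ hpK₀ hS hN lam η η' hρ
          hZM').2 hov⟩, hρ⟩)
    (fun η η' η'' _ _ _ h h' =>
      rho_right_unique p X K₀ S M N hMX hK₀M hSM hfacM hnK₀ hpK₀ hS hN η η' η'' h h')
    (fun η₁ η₂ η' _ _ _ h h' =>
      rho_left_unique p X K₀ S M N hMX hK₀M hSM hfacM hnK₀ hpK₀ hS hN η₁ η₂ η' h h')
    (fun η : IrrCharacter ↥M => Nat.card {χ : IrrCharacter ↥X //
        Ov hMX χ η ∧ ¬ p ∣ charDegree η.1 ∧ Ov hZM η lam} *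
      Nat.card {w : ↥N // IsConjCharOf M (w : G) η.1 η.1})
    (fun η' : IrrCharacter ↥(M ⊓ N) => Nat.card {ψ : IrrCharacter ↥N //
        Ov hM'N ψ η' ∧ ¬ p ∣ charDegree η'.1 ∧ Ov hZM' η' lam} *
      Nat.card {w : ↥N // IsConjCharOf (M ⊓ N) (w : G) η'.1 η'.1})
    (by
      intro η hη
      have : IsEmpty {χ : IrrCharacter ↥X //
          Ov hMX χ η ∧ ¬ p ∣ charDegree η.1 ∧ Ov hZM η lam} := ⟨fun ⟨χ, h⟩ => hη h.2⟩
      show Nat.card {χ : IrrCharacter ↥X //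
          Ov hMX χ η ∧ ¬ p ∣ charDegree η.1 ∧ Ov hZM η lam} * _ = 0
      rw [Nat.card_of_isEmpty, zero_mul])
    (by
      intro η' hη'
      have : IsEmpty {ψ : IrrCharacter ↥N //
          Ov hM'N ψ η' ∧ ¬ p ∣ charDegree η'.1 ∧ Ov hZM' η' lam} := ⟨fun ⟨χ, h⟩ => hη' h.2⟩
      show Nat.card {ψ : IrrCharacter ↥N //
          Ov hM'N ψ η' ∧ ¬ p ∣ charDegree η'.1 ∧ Ov hZM' η' lam} * _ = 0
      rw [Nat.card_of_isEmpty, zero_mul])
    (by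
      rintro η η' ⟨hd, hov⟩ ⟨hd', hov'⟩ hρ
      have e1 : Nat.card {χ : IrrCharacter ↥X //
          Ov hMX χ η ∧ ¬ p ∣ charDegree η.1 ∧ Ov hZM η lam} =
          Nat.card {ψ : IrrCharacter ↥N //
            Ov hM'N ψ η' ∧ ¬ p ∣ charDegree η'.1 ∧ Ov hZM' η' lam} := by
        have h0 := core_local p X K₀ S M N hMX hK₀M hSM hfacM hnM hnK₀ hpK₀ hS hSyl hN η η' hρ
        refine (Nat.card_congr (Equiv.subtypeEquivRight (fun χ => ?_))).trans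
          (h0.trans (Nat.card_congr (Equiv.subtypeEquivRight (fun ψ => ?_))))
        · exact ⟨fun h => h.1, fun h => ⟨h, hd, hov⟩⟩
        · exact ⟨fun h => ⟨h, hd', hov'⟩, fun h => h.1⟩
      have e2 : Nat.card {w : ↥N // IsConjCharOf M (w : G) η.1 η.1} =
          Nat.card {w : ↥N // IsConjCharOf (M ⊓ N) (w : G) η'.1 η'.1} :=
        Nat.card_congr (Equiv.subtypeEquivRight (fun w =>
          rho_stab p X K₀ S M N hMX hK₀M hSM hfacM hnM hnK₀ hpK₀ hS hN η η' hρ w w.2))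
      show Nat.card {χ : IrrCharacter ↥X //
          Ov hMX χ η ∧ ¬ p ∣ charDegree η.1 ∧ Ov hZM η lam} *
        Nat.card {w : ↥N // IsConjCharOf M (w : G) η.1 η.1} = Nat.card {ψ : IrrCharacter ↥N //
          Ov hM'N ψ η' ∧ ¬ p ∣ charDegree η'.1 ∧ Ov hZM' η' lam} *
        Nat.card {w : ↥N // IsConjCharOf (M ⊓ N) (w : G) η'.1 η'.1}
      rw [e1, e2])
  have hfin : Nat.card {χ : IrrCharacter ↥X //
      ∃ η : IrrCharacter ↥M, Ov hMX χ η ∧ ¬ p ∣ charDegree η.1 ∧ Ov hZM η lam} *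
      Nat.card ↥N = Nat.card {ψ : IrrCharacter ↥N //
      ∃ η' : IrrCharacter ↥(M ⊓ N), Ov hM'N ψ η' ∧ ¬ p ∣ charDegree η'.1 ∧ Ov hZM' η' lam} *
      Nat.card ↥N := hA.symm.trans (hC.trans hA')
  rw [hX, hN']
  exact Nat.eq_of_mul_eq_mul_right Nat.card_pos hfin

end core

end Cfsg.Agent.Lib.Helper81.McKO
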