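import Mathlib
import Cfsg.Prelude.Def_Characters
import Cfsg.Prelude.Def_BlockLocal
import Cfsg.Prelude.Def_CharExt
import Cfsg.Agent.Lib.Helper81.McKO
import Cfsg.Agent.Lib.Helper78.InvRed
import Cfsg.Agent.Lib.Helper78.Gallagher

set_option autoImplicit false
set_option linter.style.haveILetI false
set_option linter.unusedSectionVars false
set_option maxHeartbeats 1000000

/-!
# Transfer of character counts along homomorphisms, and a Gallagher count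
-/

namespace Cfsg.Agent.Lib.Helper81.McKP

open Cfsg
open Cfsg.Agent.Lib.Helper81.Irr Cfsg.Agent.Lib.Helper81.Basic Cfsg.Agent.Lib.Helper81.Expand
  Cfsg.Agent.Lib.Helper81.Mult Cfsg.Agent.Lib.Helper81.Cliff Cfsg.Agent.Lib.Helper81.CliffCorr
  Cfsg.Agent.Lib.Helper81.GlaubCore Cfsg.Agent.Lib.Helper81.Glaub
  Cfsg.Agent.Lib.Helper81.NSylA
  Cfsg.Agent.Lib.Helper81.McKE
  Cfsg.Agent.Lib.Helper81.McKF Cfsg.Agent.Lib.Helper81.McKG Cfsg.Agent.Lib.Helper81.McKH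
  Cfsg.Agent.Lib.Helper81.McKI
  Cfsg.Agent.Lib.Helper81.McKJ Cfsg.Agent.Lib.Helper81.McKK Cfsg.Agent.Lib.Helper81.McKL
  Cfsg.Agent.Lib.Helper81.McKM Cfsg.Agent.Lib.Helper81.McKN Cfsg.Agent.Lib.Helper81.McKO
open scoped ComplexConjugate

universe u

section transfer

variable {Γ Δ : Type u} [Group Γ] [Group Δ] (f : Γ →* Δ)

/-- The homomorphism between corresponding subgroups. -/
def resHom {H : Subgroup Δ} {H' : Subgroup Γ} (hH' : ∀ γ, γ ∈ H' ↔ f γ ∈ H) : ↥H' →* ↥H :=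
  (f.comp H'.subtype).codRestrict H (fun h => (hH' h).1 h.2)

theorem resHom_coe {H : Subgroup Δ} {H' : Subgroup Γ} (hH' : ∀ γ, γ ∈ H' ↔ f γ ∈ H)
    (h : ↥H') : ((resHom f hH' h : ↥H) : Δ) = f h := rfl

theorem resHom_surj {H : Subgroup Δ} {H' : Subgroup Γ} (hH' : ∀ γ, γ ∈ H' ↔ f γ ∈ H)
    (hH : ∀ h ∈ H, ∃ γ, f γ = h) : Function.Surjective (resHom f hH') := by
  rintro ⟨h, hh⟩
  obtain ⟨γ, rfl⟩ := hH h hh
  exact ⟨⟨γ, (hH' γ).2 hh⟩, rfl⟩

variable [Finite Γ] [Finite Δ]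
  {Y H : Subgroup Δ} {Y' H' : Subgroup Γ} (hYH : Y ≤ H) (hY'H' : Y' ≤ H')
  (hY' : ∀ γ, γ ∈ Y' ↔ f γ ∈ Y) (hH' : ∀ γ, γ ∈ H' ↔ f γ ∈ H) (hH : ∀ h ∈ H, ∃ γ, f γ = h)

include hH in
theorem ov_transfer (χ' : IrrCharacter ↥H') (χ : IrrCharacter ↥H) (η' : IrrCharacter ↥Y')
    (η : IrrCharacter ↥Y) (hχ : ∀ h : ↥H', χ'.1 h = χ.1 (resHom f hH' h))
    (hη : ∀ y : ↥Y', η'.1 y = η.1 (resHom f hY' y)) :
    Ov hY'H' χ' η' ↔ Ov hYH χ η := by
  classical
  let _ : Fintype ↥Y' := Fintype.ofFinite _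
  let _ : Fintype ↥Y := Fintype.ofFinite _
  have hY : ∀ y ∈ Y, ∃ γ, f γ = y := fun y hy => hH y (hYH hy)
  unfold Ov
  rw [finsum_eq_sum_of_fintype, finsum_eq_sum_of_fintype]
  have e : ∑ y : ↥Y', χ'.1 (Subgroup.inclusion hY'H' y) * conj (η'.1 y) =
      (Nat.card (resHom f hY').ker : ℂ) *
        ∑ y : ↥Y, χ.1 (Subgroup.inclusion hYH y) * conj (η.1 y) := by
    rw [← sum_comp_surj (resHom f hY') (resHom_surj f hY' hY)
      (fun y => χ.1 (Subgroup.inclusion hYH y) * conj (η.1 y))]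
    apply Finset.sum_congr rfl
    intro y _
    rw [hχ, hη]
    rfl
  rw [e]
  constructor
  · intro h h0
    apply h
    rw [h0, mul_zero]
  · intro h
    exact mul_ne_zero (ker_card_ne_zero _) h

include hY' in
/-- A character over an inflated character is constant on the kernel. -/
theorem ker_const (χ' : IrrCharacter ↥H') (η' : IrrCharacter ↥Y') (η : IrrCharacter ↥Y)
    (hη : ∀ y : ↥Y', η'.1 y = η.1 (resHom f hY' y)) (hov : Ov hY'H' χ' η') :
    ∀ a : ↥H', f a = 1 → χ'.1 a = χ'.1 1 := by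
  classical
  have hAY' : f.ker ≤ Y' := by
    intro a ha
    rw [hY', MonoidHom.mem_ker.1 ha]
    exact Y.one_mem
  have hAH' : f.ker ≤ H' := hAY'.trans hY'H'
  have hn : ∀ g ∈ H', ∀ a ∈ f.ker, g * a * g⁻¹ ∈ f.ker := by
    intro g _ a ha
    rw [MonoidHom.mem_ker] at ha ⊢
    rw [map_mul, map_mul, ha, mul_one, map_inv, mul_inv_cancel]
  let _ : Fintype ↥f.ker := Fintype.ofFinite _
  have : Finite (IrrCharacter ↥f.ker) := finite_irr
  let _ : Fintype (IrrCharacter ↥f.ker) := Fintype.ofFinite _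
  have h1 : Ov hAY' η' (trivChar ↥f.ker) := by
    unfold Ov
    rw [finsum_eq_sum_of_fintype]
    have e : ∀ a : ↥f.ker, η'.1 (Subgroup.inclusion hAY' a) *
        conj ((trivChar ↥f.ker).1 a) = η.1 1 := by
      intro a
      rw [hη]
      have e1 : resHom f hY' (Subgroup.inclusion hAY' a) = 1 := by
        apply Subtype.ext
        exact MonoidHom.mem_ker.1 a.2
      rw [e1]
      show η.1 1 * conj (1 : ℂ) = η.1 1
      rw [map_one, mul_one]
    rw [Finset.sum_congr rfl (fun a _ => e a), Finset.sum_const, nsmul_eq_mul]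
    apply mul_ne_zero
    · exact Nat.cast_ne_zero.2 (Finset.card_pos.2 ⟨1, Finset.mem_univ _⟩).ne'
    · exact Cfsg.Agent.Lib.CT.Wedderburn.irr_apply_one_ne_zero η.2
  have h2 : Ov hAH' χ' (trivChar ↥f.ker) := ov_trans hY'H' hAY' χ' η' (trivChar ↥f.ker) hov h1
  have h3 : ∀ θ : IrrCharacter ↥f.ker, Ov hAH' χ' θ → θ = trivChar ↥f.ker := by
    intro θ hθ
    obtain ⟨g, hg, hc⟩ := ov_orbit hAH' hn χ' (trivChar ↥f.ker) θ h2 hθ
    apply Subtype.ext
    funext a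
    have hmem : g⁻¹ * (a : Γ) * g ∈ f.ker := by
      have := hn g⁻¹ (H'.inv_mem hg) a a.2
      rwa [inv_inv] at this
    have := hc ⟨g⁻¹ * a * g, hmem⟩ a (by
      show (a : Γ) = g * (g⁻¹ * a * g) * g⁻¹
      group)
    rw [this]
    rfl
  have hch : IsCharacter ↥f.ker (fun a : ↥f.ker => χ'.1 (Subgroup.inclusion hAH' a)) :=
    Cfsg.Agent.Lib.CT.Ops.isCharacter_comp_hom (Subgroup.inclusion hAH') (irr_isCharacter χ')
  have h4 : ∀ a : ↥f.ker, χ'.1 (Subgroup.inclusion hAH' a) =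
      χ'.1 (Subgroup.inclusion hAH' 1) := by
    intro a
    rw [char_expand hch a, char_expand hch 1]
    apply Finset.sum_congr rfl
    intro θ _
    by_cases hm : mult (fun a : ↥f.ker => χ'.1 (Subgroup.inclusion hAH' a)) θ = 0
    · rw [hm]
      simp
    · have hθ : Ov hAH' χ' θ := (ov_iff hAH' χ' θ).2 hm
      rw [h3 θ hθ]
      rfl
  intro a ha
  have ha' : (a : Γ) ∈ f.ker := MonoidHom.mem_ker.2 ha
  have := h4 ⟨a, ha'⟩
  exact this

include hY' hH' hH in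
/-- Transfer of the counts of characters of degree prime to `p` along a homomorphism. -/
theorem transfer (η : IrrCharacter ↥Y) (η' : IrrCharacter ↥Y')
    (hη : ∀ y : ↥Y', η'.1 y = η.1 (resHom f hY' y)) (p : ℕ) :
    cntP p hY'H' η' = cntP p hYH η := by
  unfold cntP
  have hsurj := resHom_surj f hH' hH
  apply card_rel (fun χ' : IrrCharacter ↥H' => ¬ p ∣ charDegree χ'.1 ∧ Ov hY'H' χ' η')
    (fun χ : IrrCharacter ↥H => ¬ p ∣ charDegree χ.1 ∧ Ov hYH χ η)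
    (fun χ' χ => ∀ h : ↥H', χ'.1 h = χ.1 (resHom f hH' h))
  · rintro χ' ⟨hd, hov⟩
    obtain ⟨χ, hχ, hval⟩ := Cfsg.Agent.Lib.Helper78.InvRed.exists_descend_irr (resHom f hH')
      hsurj χ'.2 (fun a ha => ker_const f hY'H' hY' χ' η' η hη hov a (by
        have := congrArg Subtype.val ha
        exact this))
    have hR : ∀ h : ↥H', χ'.1 h = χ (resHom f hH' h) := fun h => (hval h).symm
    refine ⟨⟨χ, hχ⟩, ⟨?_, ?_⟩, hR⟩
    · have e : charDegree χ = charDegree χ'.1 := by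
        unfold charDegree
        rw [hR 1, map_one]
      rw [e]
      exact hd
    · exact (ov_transfer f hYH hY'H' hY' hH' hH χ' ⟨χ, hχ⟩ η' η hR hη).1 hov
  · rintro χ ⟨hd, hov⟩
    refine ⟨⟨fun h => χ.1 (resHom f hH' h), isIrrCharacter_comp χ.2 _ hsurj⟩, ⟨?_, ?_⟩,
      fun h => rfl⟩
    · have e : charDegree (fun h => χ.1 (resHom f hH' h)) = charDegree χ.1 := by
        unfold charDegree
        show ⌊(χ.1 (resHom f hH' 1)).re⌋₊ = ⌊(χ.1 1).re⌋₊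
        rw [map_one]
      rw [e]
      exact hd
    · exact (ov_transfer f hYH hY'H' hY' hH' hH ⟨fun h => χ.1 (resHom f hH' h),
        isIrrCharacter_comp χ.2 _ hsurj⟩ χ η' η (fun h => rfl) hη).2 hov
  · intro χ' χ₁ χ₂ _ _ _ r1 r2
    apply Subtype.ext
    funext h
    obtain ⟨h', rfl⟩ := hsurj h
    rw [← r1 h', ← r2 h']
  · intro χ₁ χ₂ χ _ _ _ r1 r2
    apply Subtype.ext
    funext h
    rw [r1 h, r2 h]

end transfer

section gal

variable {G : Type u} [Group G] [Finite G] {Y X : Subgroup G} (hYX : Y ≤ X)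
  (hn : ∀ g ∈ X, ∀ y ∈ Y, g * y * g⁻¹ ∈ Y)

theorem ind_iff [Fintype ↥X] [Fintype ↥(Y.subgroupOf X)] (β : IrrCharacter ↥X)
    (φ : IrrCharacter ↥Y) :
    classInner (indFun (Y.subgroupOf X) (subChar X Y hYX φ).1) β.1 ≠ 0 ↔ Ov hYX β φ := by
  classical
  let _ : Fintype ↥Y := Fintype.ofFinite _
  rw [Cfsg.Agent.Lib.CT.FrobRec.frobenius_reciprocity _ _ _ (fun g h => irr_conj β g h),
    Cfsg.Agent.Lib.CT.Clifford.classInner_conj_symm, ov_iff, ← mult_sub hYX β.1 φ]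
  have hres : IsCharacter ↥(Y.subgroupOf X) (fun n : ↥(Y.subgroupOf X) => β.1 n) :=
    Cfsg.Agent.Lib.CT.Ops.isCharacter_restrict _ (irr_isCharacter β)
  rw [classInner_eq_mult hres]
  simp

include hn in
/-- Gallagher: the count of characters of degree prime to `p` over `φ Θ`. -/
theorem gal_count (φ : IrrCharacter ↥Y) (hφ : ∀ g ∈ X, IsConjCharOf Y g φ.1 φ.1)
    (Θ : IrrCharacter ↥X) (ν : IrrCharacter ↥Y)
    (hν : ∀ y : ↥Y, ν.1 y = φ.1 y * Θ.1 (Subgroup.inclusion hYX y)) (p : ℕ) [Fact p.Prime] :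
    cntP p hYX ν = if p ∣ charDegree Θ.1 then 0 else cntP p hYX φ := by
  cases nonempty_fintype G
  classical
  haveI := normal_sub hn
  have hp : p.Prime := Fact.out
  have hφinv : ∀ (g : ↥X) (n : ↥(Y.subgroupOf X)),
      (subChar X Y hYX φ).1 ⟨g * n * g⁻¹, (normal_sub hn).conj_mem (n : ↥X) n.2 g⟩ =
        (subChar X Y hYX φ).1 n := by
    intro g n
    rw [subChar_apply, subChar_apply]
    exact hφ g g.2 _ _ rfl
  have hfun : (fun n : ↥(Y.subgroupOf X) => (subChar X Y hYX φ).1 n * Θ.1 n) =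
      (subChar X Y hYX ν).1 := by
    funext n
    rw [subChar_apply, subChar_apply, hν]
    rfl
  have hprod : IsIrrCharacter ↥(Y.subgroupOf X)
      (fun n : ↥(Y.subgroupOf X) => (subChar X Y hYX φ).1 n * Θ.1 n) := by
    rw [hfun]
    exact (subChar X Y hYX ν).2
  obtain ⟨k1, k2, k3⟩ := Cfsg.Agent.Lib.Helper78.Gallagher.gallagher_core (Y.subgroupOf X)
    (normal_sub hn) (subChar X Y hYX φ).1 (subChar X Y hYX φ).2 hφinv Θ.1 Θ.2 hprod
  rw [hfun] at k1 k3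
  have hdeg : ∀ (β ψ : IrrCharacter ↥X), β.1 * Θ.1 = ψ.1 →
      charDegree ψ.1 = charDegree β.1 * charDegree Θ.1 := by
    intro β ψ h
    have h1 : ψ.1 1 = β.1 1 * Θ.1 1 := by
      rw [← h]
      rfl
    rw [deg_cast, deg_cast, deg_cast] at h1
    exact_mod_cast h1
  by_cases hd : p ∣ charDegree Θ.1
  · rw [if_pos hd]
    unfold cntP
    have : IsEmpty {χ : IrrCharacter ↥X // ¬ p ∣ charDegree χ.1 ∧ Ov hYX χ ν} := by
      constructor
      rintro ⟨ψ, hdψ, hov⟩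
      obtain ⟨β, -, hβ⟩ := k3 ψ ((ind_iff hYX ψ ν).2 hov)
      apply hdψ
      rw [hdeg β ψ hβ]
      exact Dvd.dvd.mul_left hd _
    exact Nat.card_of_isEmpty
  · rw [if_neg hd]
    unfold cntP
    apply card_rel (fun ψ : IrrCharacter ↥X => ¬ p ∣ charDegree ψ.1 ∧ Ov hYX ψ ν)
      (fun β : IrrCharacter ↥X => ¬ p ∣ charDegree β.1 ∧ Ov hYX β φ)
      (fun ψ β => β.1 * Θ.1 = ψ.1)
    · rintro ψ ⟨hdψ, hov⟩
      obtain ⟨β, hβ1, hβ⟩ := k3 ψ ((ind_iff hYX ψ ν).2 hov)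
      refine ⟨β, ⟨?_, (ind_iff hYX β φ).1 hβ1⟩, hβ⟩
      intro h
      apply hdψ
      rw [hdeg β ψ hβ]
      exact Dvd.dvd.mul_right h _
    · rintro β ⟨hdβ, hov⟩
      obtain ⟨hirr, hover⟩ := k1 β ((ind_iff hYX β φ).2 hov)
      refine ⟨⟨β.1 * Θ.1, hirr⟩, ⟨?_, (ind_iff hYX ⟨β.1 * Θ.1, hirr⟩ ν).1 hover⟩, rfl⟩
      rw [hdeg β ⟨β.1 * Θ.1, hirr⟩ rfl]
      intro h
      rcases (Nat.Prime.dvd_mul hp).1 h with h | h
      · exact hdβ h
      · exact hd h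
    · rintro ψ β β' _ ⟨_, h1⟩ ⟨_, h2⟩ r1 r2
      exact k2 β β' ((ind_iff hYX β φ).2 h1) ((ind_iff hYX β' φ).2 h2) (r1.trans r2.symm)
    · rintro ψ ψ' β _ _ _ r1 r2
      exact Subtype.ext (r1.symm.trans r2)

end gal

end Cfsg.Agent.Lib.Helper81.McKP
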