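import Mathlib
import Cfsg.Prelude.Def_Characters
import Cfsg.Prelude.Def_BlockLocal
import Cfsg.Prelude.Def_CharExt
import Cfsg.Agent.Lib.Helper81.McKP
import Cfsg.Agent.Lib.Helper78.ProjLift
import Cfsg.Agent.Lib.Helper78.ProjExt
import Cfsg.Agent.Lib.CT.LinChar

set_option autoImplicit false
set_option linter.style.haveILetI false
set_option linter.unusedSectionVars false
set_option maxHeartbeats 1000000

/-!
# Reduction of an invariant character to a central linear character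
-/

namespace Cfsg.Agent.Lib.Helper81.McKQ

open Cfsg
open Cfsg.Agent.Lib.Helper81.Irr Cfsg.Agent.Lib.Helper81.Basic Cfsg.Agent.Lib.Helper81.Expand
  Cfsg.Agent.Lib.Helper81.Mult Cfsg.Agent.Lib.Helper81.Cliff Cfsg.Agent.Lib.Helper81.CliffCorr
  Cfsg.Agent.Lib.Helper81.GlaubCore Cfsg.Agent.Lib.Helper81.Glaub
  Cfsg.Agent.Lib.Helper81.NSylA
  Cfsg.Agent.Lib.Helper81.McKE
  Cfsg.Agent.Lib.Helper81.McKF Cfsg.Agent.Lib.Helper81.McKG Cfsg.Agent.Lib.Helper81.McKH
  Cfsg.Agent.Lib.Helper81.McKI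
  Cfsg.Agent.Lib.Helper81.McKJ Cfsg.Agent.Lib.Helper81.McKK Cfsg.Agent.Lib.Helper81.McKL
  Cfsg.Agent.Lib.Helper81.McKM Cfsg.Agent.Lib.Helper81.McKN Cfsg.Agent.Lib.Helper81.McKO
  Cfsg.Agent.Lib.Helper81.McKP
  Cfsg.Agent.Lib.Helper78.ProjLift Cfsg.Agent.Lib.Helper78.ProjExt
open scoped ComplexConjugate

universe u

section quot

/-- Passing to the quotient by the kernel of an invariant linear character: its subgroup becomes
central, and the counts are preserved. -/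
theorem quot_red {Γ : Type u} [Group Γ] [Finite Γ] (Y : Subgroup Γ)
    (hnY : ∀ g : Γ, ∀ y ∈ Y, g * y * g⁻¹ ∈ Y)
    (φ : IrrCharacter ↥Y) (hφ1 : φ.1 1 = 1) (hφinv : ∀ g : Γ, IsConjCharOf Y g φ.1 φ.1) :
    ∃ (Gs : Type u) (_ : Group Gs) (_ : Finite Gs) (q : Γ →* Gs)
      (lam : IrrCharacter ↥(Y.map q)),
      Function.Surjective q ∧ q.ker ≤ Y ∧ (∀ z ∈ Y.map q, ∀ g : Gs, g * z = z * g) ∧
      ∀ (p : ℕ) (H : Subgroup Γ) (h : Y ≤ H), cntP p h φ = cntP p (Subgroup.map_mono h) lam := by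
  classical
  obtain ⟨f, hf⟩ := Cfsg.Agent.Lib.CT.LinChar.exists_hom_of_isCharacter φ.1
    (irr_isCharacter φ) hφ1
  have hKmem : ∀ g : Γ, g ∈ f.ker.map Y.subtype ↔ ∃ h : g ∈ Y, φ.1 ⟨g, h⟩ = 1 := by
    intro g
    constructor
    · rintro ⟨y, hy, rfl⟩
      refine ⟨y.2, ?_⟩
      have h1 : φ.1 y = ((f y : ℂˣ) : ℂ) := hf y
      have h2 : f y = 1 := MonoidHom.mem_ker.1 hy
      rw [h2] at h1
      exact h1
    · rintro ⟨h, h1⟩
      refine ⟨⟨g, h⟩, MonoidHom.mem_ker.2 ?_, rfl⟩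
      apply Units.ext
      have h2 : φ.1 ⟨g, h⟩ = ((f ⟨g, h⟩ : ℂˣ) : ℂ) := hf _
      rw [← h2]
      exact h1
  have hKn : (f.ker.map Y.subtype).Normal := by
    constructor
    intro k hk g
    obtain ⟨hkY, hk1⟩ := (hKmem k).1 hk
    refine (hKmem _).2 ⟨hnY g k hkY, ?_⟩
    rw [hφinv g ⟨k, hkY⟩ ⟨g * k * g⁻¹, hnY g k hkY⟩ rfl]
    exact hk1
  have hq : Function.Surjective (QuotientGroup.mk' (f.ker.map Y.subtype)) :=
    QuotientGroup.mk'_surjective _
  have hker : (QuotientGroup.mk' (f.ker.map Y.subtype)).ker = f.ker.map Y.subtype :=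
    QuotientGroup.ker_mk' _
  have hKY : f.ker.map Y.subtype ≤ Y := fun g hg => ((hKmem g).1 hg).1
  have hmemmap : ∀ (H : Subgroup Γ), Y ≤ H → ∀ γ, γ ∈ H ↔
      QuotientGroup.mk' (f.ker.map Y.subtype) γ ∈
        H.map (QuotientGroup.mk' (f.ker.map Y.subtype)) := by
    intro H hYH γ
    constructor
    · exact fun h => Subgroup.mem_map_of_mem _ h
    · intro h
      have h1 : γ ∈ (H.map (QuotientGroup.mk' (f.ker.map Y.subtype))).comap
          (QuotientGroup.mk' (f.ker.map Y.subtype)) := h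
      rwa [Subgroup.comap_map_eq_self (by rw [hker]; exact hKY.trans hYH)] at h1
  have hYm := hmemmap Y le_rfl
  have hsurjmap : ∀ (H : Subgroup Γ),
      ∀ h ∈ H.map (QuotientGroup.mk' (f.ker.map Y.subtype)),
        ∃ γ, QuotientGroup.mk' (f.ker.map Y.subtype) γ = h := by
    rintro H _ ⟨y, -, rfl⟩
    exact ⟨y, rfl⟩
  obtain ⟨lam, hlamirr, hlamval⟩ := Cfsg.Agent.Lib.Helper78.InvRed.exists_descend_irr
    (resHom (QuotientGroup.mk' (f.ker.map Y.subtype)) hYm)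
    (resHom_surj _ hYm (hsurjmap Y)) φ.2 (by
      intro a ha
      have h1 : QuotientGroup.mk' (f.ker.map Y.subtype) (a : Γ) = 1 :=
        congrArg Subtype.val ha
      have h2 : (a : Γ) ∈ f.ker.map Y.subtype := by
        rw [← hker]
        exact MonoidHom.mem_ker.2 h1
      obtain ⟨h0, h3⟩ := (hKmem _).1 h2
      rw [hφ1]
      exact h3)
  refine ⟨Γ ⧸ f.ker.map Y.subtype, inferInstance, inferInstance,
    QuotientGroup.mk' (f.ker.map Y.subtype), ⟨lam, hlamirr⟩, hq, hker.le.trans hKY, ?_, ?_⟩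
  · rintro _ ⟨y, hy, rfl⟩ g
    obtain ⟨γ, rfl⟩ := hq g
    rw [← map_mul, ← map_mul]
    show ((γ * y : Γ) : Γ ⧸ f.ker.map Y.subtype) = ((y * γ : Γ) : Γ ⧸ f.ker.map Y.subtype)
    rw [QuotientGroup.eq]
    have hc : γ⁻¹ * y * γ ∈ Y := by
      have := hnY γ⁻¹ y hy
      rwa [inv_inv] at this
    have e : (γ * y)⁻¹ * (y * γ) =
        (((⟨y, hy⟩ : ↥Y)⁻¹ * (⟨γ⁻¹ * y * γ, hc⟩ : ↥Y) : ↥Y) : Γ) := by
      show (γ * y)⁻¹ * (y * γ) = y⁻¹ * (γ⁻¹ * y * γ)
      group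
    rw [e]
    refine ⟨(⟨y, hy⟩ : ↥Y)⁻¹ * (⟨γ⁻¹ * y * γ, hc⟩ : ↥Y), MonoidHom.mem_ker.2 ?_, rfl⟩
    rw [map_mul, map_inv]
    have h1 : f ⟨γ⁻¹ * y * γ, hc⟩ = f ⟨y, hy⟩ := by
      apply Units.ext
      rw [← hf, ← hf]
      exact hφinv γ⁻¹ ⟨y, hy⟩ ⟨γ⁻¹ * y * γ, hc⟩ (by
        show γ⁻¹ * y * γ = γ⁻¹ * y * γ⁻¹⁻¹
        rw [inv_inv])
    rw [h1, inv_mul_cancel]
  · intro p H h
    exact transfer (QuotientGroup.mk' (f.ker.map Y.subtype)) (Subgroup.map_mono h) h hYm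
      (hmemmap H h) (hsurjmap H) ⟨lam, hlamirr⟩ φ (fun y => (hlamval y).symm) p

end quot

section lift

/-- Passing to the lifting group: an invariant character is replaced by an invariant linear
character. -/
theorem lift_red {G : Type u} [Group G] [Finite G] (X L : Subgroup G) (hLX : L ≤ X)
    (hnL : ∀ g ∈ X, ∀ l ∈ L, g * l * g⁻¹ ∈ L)
    (ν : IrrCharacter ↥L) (hνinv : ∀ g ∈ X, IsConjCharOf L g ν.1 ν.1) :
    ∃ (Γ : Type u) (_ : Group Γ) (_ : Finite Γ) (π : Γ →* G) (φ : IrrCharacter ↥(L.comap π))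
      (d : ℕ),
      π.range = X ∧ φ.1 1 = 1 ∧ (∀ γ : Γ, IsConjCharOf (L.comap π) γ φ.1 φ.1) ∧
      ∀ (p : ℕ) [Fact p.Prime] (H : Subgroup G) (hLH : L ≤ H) (_ : H ≤ X),
        cntP p hLH ν = if p ∣ d then 0 else cntP p (Subgroup.comap_mono hLH) φ := by
  classical
  haveI hLn : (L.subgroupOf X).Normal := normal_sub hnL
  obtain ⟨d, σ, hσirr, hσ⟩ := (subChar X L hLX ν).2
  haveI := hσirr
  have hinvσ : ∀ (x : ↥X) (n : ↥(L.subgroupOf X)),
      σ.character ⟨x * n * x⁻¹, hLn.conj_mem (n : ↥X) n.2 x⟩ = σ.character n := by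
    intro x n
    rw [hσ, subChar_apply, subChar_apply]
    exact hνinv x x.2 _ _ rfl
  have hsurj : Function.Surjective (proj (L.subgroupOf X) σ) :=
    proj_surjective _ σ (conjNormal_inv _ σ hinvσ)
  haveI hfin : Finite (liftGroup (L.subgroupOf X) σ) := finite_liftGroup _ σ
  have hrange : ∀ γ : liftGroup (L.subgroupOf X) σ,
      (X.subtype.comp (proj (L.subgroupOf X) σ)) γ ∈ X := fun γ => (proj (L.subgroupOf X) σ γ).2
  have hLm : ∀ γ, γ ∈ L.comap (X.subtype.comp (proj (L.subgroupOf X) σ)) ↔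
      (X.subtype.comp (proj (L.subgroupOf X) σ)) γ ∈ L := fun γ => Iff.rfl
  have hsurjH : ∀ (H : Subgroup G), H ≤ X → ∀ h ∈ H,
      ∃ γ, (X.subtype.comp (proj (L.subgroupOf X) σ)) γ = h := by
    intro H hHX h hh
    obtain ⟨γ, hγ⟩ := hsurj ⟨h, hHX hh⟩
    exact ⟨γ, congrArg Subtype.val hγ⟩
  have hφirr : IsIrrCharacter ↥(L.comap (X.subtype.comp (proj (L.subgroupOf X) σ)))
      (fun m => phi (L.subgroupOf X) σ m) :=
    Cfsg.Agent.Lib.CT.LinChar.isIrrCharacter_of_hom (phiHom (L.subgroupOf X) σ)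
  refine ⟨liftGroup (L.subgroupOf X) σ, inferInstance, hfin,
    X.subtype.comp (proj (L.subgroupOf X) σ), ⟨fun m => phi (L.subgroupOf X) σ m, hφirr⟩,
    charDegree (fun γ : liftGroup (L.subgroupOf X) σ => (tau (L.subgroupOf X) σ).character γ),
    ?_, ?_, ?_, ?_⟩
  · ext g
    constructor
    · rintro ⟨γ, rfl⟩
      exact hrange γ
    · intro hg
      obtain ⟨γ, hγ⟩ := hsurjH X le_rfl g hg
      exact ⟨γ, hγ⟩
  · exact phi_one (L.subgroupOf X) σ
  · intro γ k k' hk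
    have hmem : γ * k.1 * γ⁻¹ ∈
        ((L.subgroupOf X).comap (proj (L.subgroupOf X) σ) :
          Subgroup (liftGroup (L.subgroupOf X) σ)) := by
      rw [← hk]
      exact k'.2
    have e : k' = ⟨γ * k.1 * γ⁻¹, hmem⟩ := Subtype.ext hk
    rw [e]
    exact phi_conj (L.subgroupOf X) σ γ k hmem
  · intro p _ H hLH hHX
    have hHm : ∀ γ, γ ∈ H.comap (X.subtype.comp (proj (L.subgroupOf X) σ)) ↔
        (X.subtype.comp (proj (L.subgroupOf X) σ)) γ ∈ H := fun γ => Iff.rfl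
    have hνirr : IsIrrCharacter ↥(L.comap (X.subtype.comp (proj (L.subgroupOf X) σ)))
        (fun m => ν.1 (resHom (X.subtype.comp (proj (L.subgroupOf X) σ)) hLm m)) :=
      isIrrCharacter_comp ν.2 _ (resHom_surj _ hLm (hsurjH L hLX))
    have T1 := transfer (X.subtype.comp (proj (L.subgroupOf X) σ)) hLH
      (Subgroup.comap_mono hLH) hLm hHm (hsurjH H hHX) ν
      ⟨fun m => ν.1 (resHom (X.subtype.comp (proj (L.subgroupOf X) σ)) hLm m), hνirr⟩
      (fun y => rfl) p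
    have hΘirr : IsIrrCharacter ↥(H.comap (X.subtype.comp (proj (L.subgroupOf X) σ)))
        (fun h => (tau (L.subgroupOf X) σ).character (h : liftGroup (L.subgroupOf X) σ)) := by
      have h1 := Cfsg.Agent.Lib.Helper78.InvRed.tau_restrict_irreducible (L.subgroupOf X) σ
        hsurj (H.comap (X.subtype.comp (proj (L.subgroupOf X) σ)))
        (Subgroup.comap_mono (f := X.subtype.comp (proj (L.subgroupOf X) σ)) hLH)
      exact isIrrCharacter_of_irr _ h1
    have hn : ∀ g ∈ H.comap (X.subtype.comp (proj (L.subgroupOf X) σ)),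
        ∀ y ∈ L.comap (X.subtype.comp (proj (L.subgroupOf X) σ)),
          g * y * g⁻¹ ∈ L.comap (X.subtype.comp (proj (L.subgroupOf X) σ)) := by
      intro g _ y hy
      show (X.subtype.comp (proj (L.subgroupOf X) σ)) (g * y * g⁻¹) ∈ L
      rw [map_mul, map_mul, map_inv]
      exact hnL _ (hrange g) _ hy
    have T2 := gal_count (Subgroup.comap_mono (f := X.subtype.comp (proj (L.subgroupOf X) σ)) hLH)
      hn ⟨fun m => phi (L.subgroupOf X) σ m, hφirr⟩ (by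
        intro γ _ k k' hk
        have hmem : (γ : liftGroup (L.subgroupOf X) σ) * k.1 * (γ : liftGroup (L.subgroupOf X) σ)⁻¹ ∈
            ((L.subgroupOf X).comap (proj (L.subgroupOf X) σ) :
              Subgroup (liftGroup (L.subgroupOf X) σ)) := by
          rw [← hk]
          exact k'.2
        have e : k' = ⟨γ * k.1 * γ⁻¹, hmem⟩ := Subtype.ext hk
        rw [e]
        exact phi_conj (L.subgroupOf X) σ γ k hmem)
      ⟨fun h => (tau (L.subgroupOf X) σ).character (h : liftGroup (L.subgroupOf X) σ), hΘirr⟩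
      ⟨fun m => ν.1 (resHom (X.subtype.comp (proj (L.subgroupOf X) σ)) hLm m), hνirr⟩ (by
        intro y
        have h1 := phi_mul_eta (L.subgroupOf X) σ y
        rw [hσ, subChar_apply] at h1
        exact h1.symm) p
    rw [← T1, T2]
    rfl

end lift

end Cfsg.Agent.Lib.Helper81.McKQ
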