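import Mathlib
import Cfsg.Agent.Lib.Helper81.McKQ

set_option autoImplicit false
set_option linter.style.haveILetI false
set_option linter.unusedSectionVars false
set_option maxHeartbeats 1000000

/-!
# The structure of a group with a central subgroup, a normal subgroup of index prime to `p`
over it and a subgroup of `p`-power index over it
-/

namespace Cfsg.Agent.Lib.Helper81.McKR

open Cfsg
open Cfsg.Agent.Lib.Helper81.McKE Cfsg.Agent.Lib.Helper81.McKK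

universe u

section struct

variable {Γ : Type u} [Group Γ] [Finite Γ] (p : ℕ) [Fact p.Prime]

/-- A `p`-subgroup of index prime to `p` inside a subgroup. -/
theorem exists_sylow_in (P : Subgroup Γ) :
    ∃ S : Subgroup Γ, S ≤ P ∧ IsPGroup p S ∧ ¬ p ∣ S.relIndex P := by
  obtain ⟨S₀⟩ : Nonempty (Sylow p ↥P) := inferInstance
  refine ⟨(S₀ : Subgroup ↥P).map P.subtype, Subgroup.map_subtype_le _, S₀.isPGroup'.map _, ?_⟩
  have e : ((S₀ : Subgroup ↥P).map P.subtype).subgroupOf P = S₀ :=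
    Subgroup.comap_map_eq_self_of_injective P.subtype_injective _
  show ¬ p ∣ (((S₀ : Subgroup ↥P).map P.subtype).subgroupOf P).index
  rw [e]
  exact S₀.not_dvd_index

theorem struct (Z K P : Subgroup Γ)
    (hZc : ∀ z ∈ Z, ∀ g : Γ, g * z = z * g) (hZK : Z ≤ K) (hZP : Z ≤ P)
    (hK : ∀ g : Γ, ∀ k ∈ K, g * k * g⁻¹ ∈ K) (hKZ : ¬ p ∣ Z.relIndex K)
    (hPZ : ∃ a : ℕ, Z.relIndex P = p ^ a) (hP : ¬ p ∣ P.index) :
    ∃ K₀ S : Subgroup Γ, K₀ ≤ K ⊔ P ∧ S ≤ K ⊔ P ∧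
      (∀ m ∈ K ⊔ P, ∃ k ∈ K₀, ∃ s ∈ S, m = k * s) ∧
      (∀ g : Γ, ∀ k ∈ K₀, g * k * g⁻¹ ∈ K₀) ∧ ¬ p ∣ Nat.card K₀ ∧ IsPGroup p S ∧
      ¬ p ∣ S.index ∧
      ∀ g : Γ, (∀ s, s ∈ S ↔ g * s * g⁻¹ ∈ S) ↔ (∀ y, y ∈ P ↔ g * y * g⁻¹ ∈ P) := by
  have hp : p.Prime := Fact.out
  have hconj : ∀ z ∈ Z, ∀ g : Γ, g * z * g⁻¹ = z := by
    intro z hz g
    rw [hZc z hz g]
    group
  obtain ⟨S, hSP, hS, hSidx⟩ := exists_sylow_in p P
  obtain ⟨Zp, hZpZ, hZp, hZpidx⟩ := exists_sylow_in p Z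
  have hPfac : ∀ y ∈ P, ∃ s ∈ S, ∃ z ∈ Z, y = s * z := by
    have h1 : (S ⊔ Z).relIndex P ∣ S.relIndex P :=
      Subgroup.relIndex_dvd_of_le_left P le_sup_left
    have h2 : (S ⊔ Z).relIndex P ∣ Z.relIndex P :=
      Subgroup.relIndex_dvd_of_le_left P le_sup_right
    obtain ⟨a, ha⟩ := hPZ
    rw [ha] at h2
    have h3 : ¬ p ∣ (S ⊔ Z).relIndex P := fun h => hSidx (h.trans h1)
    have h4 : (S ⊔ Z).relIndex P = 1 := Nat.Coprime.eq_one_of_dvd
      (Nat.Coprime.pow_right a ((Nat.Prime.coprime_iff_not_dvd hp).2 h3).symm) h2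
    have h5 : P ≤ S ⊔ Z := Subgroup.relIndex_eq_one.1 h4
    intro y hy
    obtain ⟨z, hz, s, hs, rfl⟩ := sup_factor Z S (fun d _ k hk => by
      rw [hconj k hk d]
      exact hk) y (by
        rw [sup_comm]
        exact h5 hy)
    exact ⟨s, hs, z, hz, (hZc z hz s).symm⟩
  have hSn : ∀ y ∈ P, ∀ s ∈ S, y * s * y⁻¹ ∈ S := by
    intro y hy s hs
    obtain ⟨s₁, hs₁, z, hz, rfl⟩ := hPfac y hy
    have hz' : z * s * z⁻¹ = s := by
      rw [← hZc z hz s]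
      group
    have e : s₁ * z * s * (s₁ * z)⁻¹ = s₁ * (z * s * z⁻¹) * s₁⁻¹ := by group
    rw [e, hz']
    exact S.mul_mem (S.mul_mem hs₁ hs) (S.inv_mem hs₁)
  have hQS : ∀ Q : Subgroup Γ, Q ≤ P → IsPGroup p Q → Q ≤ S := by
    intro Q hQP hQ q hq
    obtain ⟨t, ht, h⟩ := exists_conj_into p Q S P hQP hQ hSidx
    have h1 := hSn t ht _ (h q hq)
    have e : t * (t⁻¹ * q * t) * t⁻¹ = q := by group
    rwa [e] at h1
  have hZpK : Zp ≤ K := hZpZ.trans hZK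
  have hZpKidx : ¬ p ∣ Zp.relIndex K := by
    rw [← Subgroup.relIndex_mul_relIndex Zp Z K hZpZ hZK]
    exact fun h => ((Nat.Prime.dvd_mul hp).1 h).elim hZpidx hKZ
  haveI hNn : (Zp.subgroupOf K).Normal := by
    constructor
    intro n hn g
    rw [Subgroup.mem_subgroupOf] at hn ⊢
    show (g : Γ) * n * (g : Γ)⁻¹ ∈ Zp
    rw [hconj _ (hZpZ hn)]
    exact hn
  have hcop : Nat.Coprime (Nat.card (Zp.subgroupOf K)) (Zp.subgroupOf K).index := by
    obtain ⟨b, hb⟩ := IsPGroup.iff_card.1 hZp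
    have e : Nat.card (Zp.subgroupOf K) = Nat.card Zp :=
      Nat.card_congr (Subgroup.subgroupOfEquivOfLe hZpK).toEquiv
    rw [e, hb]
    exact Nat.Coprime.pow_left b ((Nat.Prime.coprime_iff_not_dvd hp).2 hZpKidx)
  obtain ⟨H₀, hH₀⟩ := Subgroup.exists_right_complement'_of_coprime hcop
  have hcardK₀ : Nat.card (H₀.map K.subtype) = Zp.relIndex K := by
    have h1 : Nat.card (H₀.map K.subtype) = Nat.card H₀ :=
      Nat.card_congr (Subgroup.equivMapOfInjective H₀ K.subtype K.subtype_injective).toEquiv.symm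
    rw [h1]
    exact (hH₀.symm.index_eq_card).symm
  have hpK₀ : ¬ p ∣ Nat.card (H₀.map K.subtype) := by
    rw [hcardK₀]
    exact hZpKidx
  have hKfac : ∀ k ∈ K, ∃ z ∈ Zp, ∃ k₀ ∈ H₀.map K.subtype, k = z * k₀ := by
    intro k hk
    have hcompl : Subgroup.IsComplement (↑(Zp.subgroupOf K) : Set ↥K) (H₀ : Set ↥K) := hH₀
    obtain ⟨x, hx, -⟩ := hcompl.existsUnique ⟨k, hk⟩
    refine ⟨((x.1 : ↥K) : Γ), x.1.2, ((x.2 : ↥K) : Γ), ⟨x.2.1, x.2.2, rfl⟩, ?_⟩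
    exact (congrArg Subtype.val hx).symm
  have hpowK₀ : ∀ k ∈ H₀.map K.subtype, k ^ Nat.card (H₀.map K.subtype) = 1 := by
    intro k hk
    have h1 : (⟨k, hk⟩ : ↥(H₀.map K.subtype)) ^ Nat.card (H₀.map K.subtype) = 1 :=
      pow_card_eq_one'
    exact congrArg Subtype.val h1
  have hK₀n : ∀ g : Γ, ∀ k ∈ H₀.map K.subtype, g * k * g⁻¹ ∈ H₀.map K.subtype := by
    intro g k hk
    have hkK : k ∈ K := Subgroup.map_subtype_le _ hk
    obtain ⟨z, hz, k₁, hk₁, e⟩ := hKfac (g * k * g⁻¹) (hK g k hkK)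
    have h1 : (g * k * g⁻¹) ^ Nat.card (H₀.map K.subtype) = 1 := by
      rw [conj_pow, hpowK₀ k hk]
      group
    have hcomm : Commute z k₁ := (hZc z (hZpZ hz) k₁).symm
    have h3 : z ^ Nat.card (H₀.map K.subtype) = 1 := by
      rw [e, hcomm.mul_pow, hpowK₀ k₁ hk₁, mul_one] at h1
      exact h1
    have h4 : z = 1 := by
      obtain ⟨b, hb⟩ := hZp ⟨z, hz⟩
      have hb' : z ^ p ^ b = 1 := congrArg Subtype.val hb
      have h5 : orderOf z ∣ Nat.card (H₀.map K.subtype) := orderOf_dvd_of_pow_eq_one h3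
      have h6 : orderOf z ∣ p ^ b := orderOf_dvd_of_pow_eq_one hb'
      have h7 : Nat.Coprime (p ^ b) (Nat.card (H₀.map K.subtype)) :=
        Nat.Coprime.pow_left b ((Nat.Prime.coprime_iff_not_dvd hp).2 hpK₀)
      have h8 : orderOf z = 1 := Nat.eq_one_of_dvd_coprimes h7 h6 h5
      exact orderOf_eq_one_iff.1 h8
    rw [e, h4, one_mul]
    exact hk₁
  refine ⟨H₀.map K.subtype, S, (Subgroup.map_subtype_le _).trans le_sup_left,
    hSP.trans le_sup_right, ?_, hK₀n, hpK₀, hS, ?_, ?_⟩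
  · intro m hm
    obtain ⟨k, hk, y, hy, rfl⟩ := sup_factor K P (fun d _ k hk => hK d k hk) m hm
    obtain ⟨s, hs, z, hz, rfl⟩ := hPfac y hy
    obtain ⟨z', hz', k₀, hk₀, e⟩ := hKfac (k * z) (K.mul_mem hk (hZK hz))
    refine ⟨k₀, hk₀, z' * s, S.mul_mem (hQS Zp (hZpZ.trans hZP) hZp hz') hs, ?_⟩
    have h1 : s * z = z * s := hZc z hz s
    have h2 : k₀ * z' = z' * k₀ := hZc z' (hZpZ hz') k₀
    calc k * (s * z) = k * z * s := by rw [h1, mul_assoc]
      _ = z' * k₀ * s := by rw [e]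
      _ = k₀ * (z' * s) := by rw [← h2, mul_assoc]
  · rw [← Subgroup.relIndex_mul_index hSP]
    exact fun h => ((Nat.Prime.dvd_mul hp).1 h).elim hSidx hP
  · intro g
    constructor
    · intro h
      have h1 : ∀ y ∈ P, g * y * g⁻¹ ∈ P := by
        intro y hy
        obtain ⟨s, hs, z, hz, rfl⟩ := hPfac y hy
        have e : g * (s * z) * g⁻¹ = (g * s * g⁻¹) * (g * z * g⁻¹) := by group
        rw [e, hconj z hz g]
        exact P.mul_mem (hSP ((h s).1 hs)) (hZP hz)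
      exact fun y => (conj_mem_iff_of_finite P g h1 y).symm
    · intro h
      have h1 : ∀ s ∈ S, g * s * g⁻¹ ∈ S := by
        intro s hs
        apply hQS (S.map (MulAut.conj g).toMonoidHom) ?_ (hS.map _)
        · exact ⟨s, hs, rfl⟩
        · rintro _ ⟨s', hs', rfl⟩
          exact (h s').1 (hSP hs')
      exact fun s => (conj_mem_iff_of_finite S g h1 s).symm

end struct

end Cfsg.Agent.Lib.Helper81.McKR
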