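import Mathlib
import Cfsg.Prelude.Def_Characters
import Cfsg.Prelude.Def_BlockLocal
import Cfsg.Prelude.Def_CharExt
import Cfsg.Agent.Lib.Helper81.McKR

set_option autoImplicit false
set_option linter.style.haveILetI false
set_option linter.unusedSectionVars false
set_option maxHeartbeats 1000000

/-!
# The core case of the relative count, for an invariant character of a normal subgroup
-/

namespace Cfsg.Agent.Lib.Helper81.McKS

open Cfsg
open Cfsg.Agent.Lib.Helper81.Irr Cfsg.Agent.Lib.Helper81.Basic Cfsg.Agent.Lib.Helper81.Expand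
  Cfsg.Agent.Lib.Helper81.Mult Cfsg.Agent.Lib.Helper81.Cliff Cfsg.Agent.Lib.Helper81.CliffCorr
  Cfsg.Agent.Lib.Helper81.McKE
  Cfsg.Agent.Lib.Helper81.McKF Cfsg.Agent.Lib.Helper81.McKG Cfsg.Agent.Lib.Helper81.McKH
  Cfsg.Agent.Lib.Helper81.McKI
  Cfsg.Agent.Lib.Helper81.McKJ Cfsg.Agent.Lib.Helper81.McKK Cfsg.Agent.Lib.Helper81.McKL
  Cfsg.Agent.Lib.Helper81.McKM Cfsg.Agent.Lib.Helper81.McKN Cfsg.Agent.Lib.Helper81.McKO
  Cfsg.Agent.Lib.Helper81.McKP Cfsg.Agent.Lib.Helper81.McKQ Cfsg.Agent.Lib.Helper81.McKR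
open scoped ComplexConjugate

universe u

section corr

variable {Γ Gs : Type u} [Group Γ] [Group Gs]

theorem map_conj_closed (q : Γ →* Gs) (hq : Function.Surjective q) (H : Subgroup Γ)
    (h : ∀ g : Γ, ∀ k ∈ H, g * k * g⁻¹ ∈ H) :
    ∀ g : Gs, ∀ k ∈ H.map q, g * k * g⁻¹ ∈ H.map q := by
  rintro g _ ⟨k, hk, rfl⟩
  obtain ⟨γ, rfl⟩ := hq g
  exact ⟨γ * k * γ⁻¹, h γ k hk, by simp⟩

theorem relIndex_map (q : Γ →* Gs) (H₁ H₂ : Subgroup Γ) (hker : q.ker ≤ H₁) :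
    (H₁.map q).relIndex (H₂.map q) = H₁.relIndex H₂ := by
  rw [← Subgroup.relIndex_comap, Subgroup.comap_map_eq_self hker]

theorem relIndex_comap' {G : Type u} [Group G] (π : Γ →* G) (H₁ H₂ : Subgroup G)
    (h : H₂ ≤ π.range) : (H₁.comap π).relIndex (H₂.comap π) = H₁.relIndex H₂ := by
  rw [Subgroup.relIndex_comap, Subgroup.map_comap_eq, inf_eq_right.2 h]

theorem normalizer_map (q : Γ →* Gs) (hq : Function.Surjective q) (H : Subgroup Γ)
    (hker : q.ker ≤ H) :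
    Subgroup.normalizer ((H.map q : Subgroup Gs) : Set Gs) =
      (Subgroup.normalizer (H : Set Γ)).map q := by
  have h1 := Subgroup.comap_normalizer_eq_of_surjective (H.map q) hq
  rw [Subgroup.comap_map_eq_self hker] at h1
  rw [← h1, Subgroup.map_comap_eq_self_of_surjective hq]

theorem cntP_congr {G : Type u} [Group G] (p : ℕ) {Y X₁ X₂ : Subgroup G} (h : X₁ = X₂)
    (h₁ : Y ≤ X₁) (h₂ : Y ≤ X₂) (η : IrrCharacter ↥Y) : cntP p h₁ η = cntP p h₂ η := by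
  subst h
  rfl

end corr

section core

/-- The core case: `K ⊔ S` is normal in `X`, with `K` of index prime to `p` over `L`. -/
theorem core_amb {G : Type u} [Group G] [Finite G] (p : ℕ) [Fact p.Prime]
    (X L K S N : Subgroup G)
    (hLK : L ≤ K) (hKX : K ≤ X) (hSX : S ≤ X)
    (hnL : ∀ g ∈ X, ∀ l ∈ L, g * l * g⁻¹ ∈ L) (hnK : ∀ g ∈ X, ∀ k ∈ K, g * k * g⁻¹ ∈ K)
    (hKL : ¬ p ∣ L.relIndex K) (hS : IsPGroup p S) (hSyl : ¬ p ∣ S.relIndex X)
    (hnKS : ∀ g ∈ X, ∀ m ∈ K ⊔ S, g * m * g⁻¹ ∈ K ⊔ S)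
    (hN : ∀ g, g ∈ N ↔ g ∈ X ∧ ∀ y, y ∈ L ⊔ S ↔ g * y * g⁻¹ ∈ L ⊔ S)
    (ν : IrrCharacter ↥L) (hνinv : ∀ g ∈ X, IsConjCharOf L g ν.1 ν.1) (hLN : L ≤ N) :
    cntP p (hLK.trans hKX) ν = cntP p hLN ν := by
  have hLX := hLK.trans hKX
  obtain ⟨Γ, _, _, π, φ, d, hrange, hφ1, hφinv, hcnt⟩ := lift_red X L hLX hnL ν hνinv
  have hπX : ∀ γ, π γ ∈ X := fun γ => by
    rw [← hrange]
    exact ⟨γ, rfl⟩
  have hconjhat : ∀ (H : Subgroup G), (∀ g ∈ X, ∀ l ∈ H, g * l * g⁻¹ ∈ H) →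
      ∀ g : Γ, ∀ y ∈ H.comap π, g * y * g⁻¹ ∈ H.comap π := by
    intro H hH g y hy
    show π (g * y * g⁻¹) ∈ H
    rw [map_mul, map_mul, map_inv]
    exact hH _ (hπX g) _ hy
  obtain ⟨Gs, _, _, q, lam, hq, hkerq, hZc, hcnt2⟩ :=
    quot_red (L.comap π) (hconjhat L hnL) φ hφ1 hφinv
  have hPX : L ⊔ S ≤ X := sup_le hLX hSX
  have hNX : N ≤ X := fun g hg => ((hN g).1 hg).1
  have c1 := hcnt p X hLX le_rfl
  have c2 := hcnt p N hLN hNX
  have c3 := hcnt2 p (X.comap π) (Subgroup.comap_mono hLX)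
  have c4 := hcnt2 p (N.comap π) (Subgroup.comap_mono hLN)
  have hXc : X.comap π = ⊤ := eq_top_iff.2 (fun γ _ => hπX γ)
  have hXtop : (X.comap π).map q = ⊤ := by
    rw [hXc, ← MonoidHom.range_eq_map]
    exact MonoidHom.range_eq_top.2 hq
  have hNeq : N = X ⊓ Subgroup.normalizer ((L ⊔ S : Subgroup G) : Set G) := by
    ext g
    rw [hN, Subgroup.mem_inf, Subgroup.mem_normalizer_iff]
  have hkerP : q.ker ≤ (L ⊔ S).comap π := hkerq.trans (Subgroup.comap_mono le_sup_left)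
  have hNnorm : (N.comap π).map q =
      Subgroup.normalizer ((((L ⊔ S).comap π).map q : Subgroup Gs) : Set Gs) := by
    rw [normalizer_map q hq _ hkerP, hNeq, Subgroup.comap_inf,
      Subgroup.comap_normalizer_eq_of_le_range (by rw [hrange]; exact hPX), hXc, top_inf_eq]
  have hnLS : ∀ s ∈ S, ∀ l ∈ L, s * l * s⁻¹ ∈ L := fun s hs => hnL s (hSX hs)
  have hKZ' : ¬ p ∣ ((L.comap π).map q).relIndex ((K.comap π).map q) := by
    rw [relIndex_map q _ _ hkerq, relIndex_comap' π L K (by rw [hrange]; exact hKX)]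
    exact hKL
  have hPZ' : ∃ a : ℕ, ((L.comap π).map q).relIndex (((L ⊔ S).comap π).map q) = p ^ a := by
    rw [relIndex_map q _ _ hkerq, relIndex_comap' π L (L ⊔ S) (by rw [hrange]; exact hPX)]
    exact relIndex_ppow p L S (L ⊔ S) le_sup_left (fun m hm => sup_factor L S hnLS m hm) hnLS hS
  have hPidx' : ¬ p ∣ (((L ⊔ S).comap π).map q).index := by
    have e : (((L ⊔ S).comap π).map q).index = (L ⊔ S).relIndex X := by
      rw [← Subgroup.relIndex_top_right, ← hXtop, relIndex_map q _ _ hkerP,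
        relIndex_comap' π _ _ (by rw [hrange])]
    rw [e]
    intro h
    apply hSyl
    rw [← Subgroup.relIndex_mul_relIndex S (L ⊔ S) X le_sup_right hPX]
    exact Dvd.dvd.mul_left h _
  obtain ⟨K₀, S₀, hK₀M, hS₀M, hfac, hnK₀, hpK₀, hS₀, hS₀idx, hnorm⟩ :=
    struct p ((L.comap π).map q) ((K.comap π).map q) (((L ⊔ S).comap π).map q) hZc
      (Subgroup.map_mono (Subgroup.comap_mono hLK))
      (Subgroup.map_mono (Subgroup.comap_mono le_sup_left))
      (map_conj_closed q hq _ (hconjhat K hnK)) hKZ' hPZ' hPidx'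
  have hMeq : (K.comap π).map q ⊔ ((L ⊔ S).comap π).map q = ((K ⊔ S).comap π).map q := by
    rw [← Subgroup.map_sup, Subgroup.comap_sup_eq_of_le_range π (by rw [hrange]; exact hKX)
      (by rw [hrange]; exact hPX)]
    have e : K ⊔ (L ⊔ S) = K ⊔ S := by
      rw [← sup_assoc, sup_eq_left.2 hLK]
    rw [e]
  have hnM : ∀ g ∈ (⊤ : Subgroup Gs), ∀ m ∈ (K.comap π).map q ⊔ ((L ⊔ S).comap π).map q,
      g * m * g⁻¹ ∈ (K.comap π).map q ⊔ ((L ⊔ S).comap π).map q := by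
    intro g _ m hm
    rw [hMeq] at hm ⊢
    exact map_conj_closed q hq _ (hconjhat (K ⊔ S) hnKS) g m hm
  have hZM : (L.comap π).map q ≤ (K.comap π).map q ⊔ ((L ⊔ S).comap π).map q :=
    (Subgroup.map_mono (Subgroup.comap_mono hLK)).trans le_sup_left
  have hZN : (L.comap π).map q ≤
      Subgroup.normalizer ((((L ⊔ S).comap π).map q : Subgroup Gs) : Set Gs) :=
    (Subgroup.map_mono (Subgroup.comap_mono le_sup_left)).trans Subgroup.le_normalizer
  have hcore := core_count p ⊤ ((L.comap π).map q) K₀ S₀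
    ((K.comap π).map q ⊔ ((L ⊔ S).comap π).map q)
    (Subgroup.normalizer ((((L ⊔ S).comap π).map q : Subgroup Gs) : Set Gs))
    hZM le_top (fun z hz x _ => hZc z hz x) hK₀M hS₀M hfac hnM (fun g _ => hnK₀ g) hpK₀ hS₀
    (by rw [Subgroup.relIndex_top_right]; exact hS₀idx)
    (fun g => by
      rw [Subgroup.mem_normalizer_iff]
      exact ⟨fun h => ⟨Subgroup.mem_top g, (hnorm g).2 h⟩, fun h => (hnorm g).1 h.2⟩) lam hZN
  have key : cntP p (Subgroup.map_mono (f := q) (Subgroup.comap_mono (f := π) hLX)) lam =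
      cntP p (Subgroup.map_mono (f := q) (Subgroup.comap_mono (f := π) hLN)) lam :=
    (cntP_congr p hXtop _ _ lam).trans (hcore.trans (cntP_congr p hNnorm _ _ lam).symm)
  rw [c1, c2, c3, c4, key]

end core

end Cfsg.Agent.Lib.Helper81.McKS
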