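import Mathlib
import Cfsg.Prelude.Def_Characters
import Cfsg.Prelude.Def_BlockLocal
import Cfsg.Prelude.Def_CharExt
import Cfsg.Prelude.Def_Local
import Cfsg.Agent.Lib.Helper81.McKS

set_option autoImplicit false
set_option linter.style.haveILetI false
set_option linter.unusedSectionVars false
set_option maxHeartbeats 1000000

/-!
# The relative count of characters of degree prime to `p` in `p`-solvable groups: the induction
-/

namespace Cfsg.Agent.Lib.Helper81.McKT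

open Cfsg
open Cfsg.Agent.Lib.Helper81.Irr Cfsg.Agent.Lib.Helper81.Basic Cfsg.Agent.Lib.Helper81.Expand
  Cfsg.Agent.Lib.Helper81.Mult Cfsg.Agent.Lib.Helper81.Cliff Cfsg.Agent.Lib.Helper81.CliffCorr
  Cfsg.Agent.Lib.Helper81.McKE
  Cfsg.Agent.Lib.Helper81.McKF Cfsg.Agent.Lib.Helper81.McKG Cfsg.Agent.Lib.Helper81.McKH
  Cfsg.Agent.Lib.Helper81.McKI
  Cfsg.Agent.Lib.Helper81.McKJ Cfsg.Agent.Lib.Helper81.McKK Cfsg.Agent.Lib.Helper81.McKL
  Cfsg.Agent.Lib.Helper81.McKM Cfsg.Agent.Lib.Helper81.McKN Cfsg.Agent.Lib.Helper81.McKO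
  Cfsg.Agent.Lib.Helper81.McKP Cfsg.Agent.Lib.Helper81.McKQ Cfsg.Agent.Lib.Helper81.McKR
  Cfsg.Agent.Lib.Helper81.McKS
open scoped ComplexConjugate

universe u

section basics

variable {G : Type u} [Group G]

/-- The normalizer of `P` inside `X`. -/
def normIn (X P : Subgroup G) : Subgroup G := X ⊓ Subgroup.normalizer (P : Set G)

theorem mem_normIn (X P : Subgroup G) (g : G) :
    g ∈ normIn X P ↔ g ∈ X ∧ ∀ y, y ∈ P ↔ g * y * g⁻¹ ∈ P := by
  unfold normIn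
  rw [Subgroup.mem_inf, Subgroup.mem_normalizer_iff]

theorem normIn_le (X P : Subgroup G) : normIn X P ≤ X := inf_le_left

theorem le_normIn (X P : Subgroup G) (h : P ≤ X) : P ≤ normIn X P :=
  le_inf h Subgroup.le_normalizer

variable [Finite G]

theorem relIndex_pos (A B : Subgroup G) : 0 < A.relIndex B :=
  Nat.pos_of_ne_zero Subgroup.index_ne_zero_of_finite

theorem relIndex_lt (L T X : Subgroup G) (hLT : L ≤ T) (hTX : T ≤ X) (h : ¬ X ≤ T) :
    L.relIndex T < L.relIndex X := by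
  rw [← Subgroup.relIndex_mul_relIndex L T X hLT hTX]
  have h1 : T.relIndex X ≠ 1 := fun h1 => h (Subgroup.relIndex_eq_one.1 h1)
  have h0 := relIndex_pos T X
  have h2 := relIndex_pos L T
  have h3 : 2 ≤ T.relIndex X := by omega
  nlinarith

theorem relIndex_lt' (L K X : Subgroup G) (hLK : L ≤ K) (hKX : K ≤ X) (h : ¬ K ≤ L) :
    K.relIndex X < L.relIndex X := by
  rw [← Subgroup.relIndex_mul_relIndex L K X hLK hKX]
  have h1 : L.relIndex K ≠ 1 := fun h1 => h (Subgroup.relIndex_eq_one.1 h1)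
  have h0 := relIndex_pos L K
  have h2 := relIndex_pos K X
  have h3 : 2 ≤ L.relIndex K := by omega
  nlinarith

/-- The join of two subgroups normalised by `X` is normalised by `X`. -/
theorem sup_conj_closed (X A B : Subgroup G) (hA : ∀ g ∈ X, ∀ a ∈ A, g * a * g⁻¹ ∈ A)
    (hB : ∀ g ∈ X, ∀ b ∈ B, g * b * g⁻¹ ∈ B) : ∀ g ∈ X, ∀ m ∈ A ⊔ B, g * m * g⁻¹ ∈ A ⊔ B :=
  fun g hg m hm => (norm_sup_iff A B g (norm_iff X A hA g hg) (norm_iff X B hB g hg) m).2 hm

end basics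

section choose

variable {G : Type u} [Group G] [Finite G] (p : ℕ) [Fact p.Prime]

theorem exists_K_aux {n : ℕ} (H : Fin (n + 1) → Subgroup G) (h0 : H 0 = ⊥) (hmono : Monotone H)
    (hnormal : ∀ i, (H i).Normal)
    (hfac : ∀ i : Fin n, (∃ m : ℕ, (H i.castSucc).relIndex (H i.succ) = p ^ m) ∨
      ((H i.castSucc).relIndex (H i.succ)).Coprime p)
    (X L : Subgroup G) (hLX : L ≤ X) (hnL : ∀ g ∈ X, ∀ l ∈ L, g * l * g⁻¹ ∈ L) :
    ∀ (i : ℕ) (hi : i < n + 1), ¬ (H ⟨i, hi⟩ ⊓ X ≤ L) →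
      ∃ K : Subgroup G, L ≤ K ∧ K ≤ X ∧ ¬ K ≤ L ∧ (∀ g ∈ X, ∀ k ∈ K, g * k * g⁻¹ ∈ K) ∧
        ((∃ a : ℕ, L.relIndex K = p ^ a) ∨ ¬ p ∣ L.relIndex K) := by
  have hp : p.Prime := Fact.out
  intro i
  induction i with
  | zero =>
    intro hi h
    exfalso
    apply h
    have e : (⟨0, hi⟩ : Fin (n + 1)) = 0 := rfl
    rw [e, h0]
    exact inf_le_left.trans bot_le
  | succ j ih =>
    intro hi h
    by_cases hj : H ⟨j, by omega⟩ ⊓ X ≤ L
    · have hAB : H ⟨j, by omega⟩ ≤ H ⟨j + 1, hi⟩ := hmono (by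
        show j ≤ j + 1
        omega)
      have hJX : H ⟨j + 1, hi⟩ ⊓ X ≤ X := inf_le_right
      have hnJ : ∀ g ∈ X, ∀ b ∈ H ⟨j + 1, hi⟩ ⊓ X, g * b * g⁻¹ ∈ H ⟨j + 1, hi⟩ ⊓ X := by
        intro g hg b hb
        exact ⟨(hnormal _).conj_mem b hb.1 g, X.mul_mem (X.mul_mem hg hb.2) (X.inv_mem hg)⟩
      refine ⟨L ⊔ (H ⟨j + 1, hi⟩ ⊓ X), le_sup_left, sup_le hLX hJX,
        fun hc => h (le_sup_right.trans hc), sup_conj_closed X L _ hnL hnJ, ?_⟩
      -- the index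
      have hdvd : L.relIndex (L ⊔ (H ⟨j + 1, hi⟩ ⊓ X)) ∣
          (H ⟨j, by omega⟩).relIndex (H ⟨j + 1, hi⟩) := by
        haveI : (L.subgroupOf X).Normal := normal_sub hnL
        have s1 : L.relIndex (L ⊔ (H ⟨j + 1, hi⟩ ⊓ X)) = L.relIndex (H ⟨j + 1, hi⟩ ⊓ X) := by
          rw [← Subgroup.relIndex_subgroupOf (sup_le hLX hJX),
            Subgroup.subgroupOf_sup hLX hJX, Subgroup.relIndex_sup_left,
            Subgroup.relIndex_subgroupOf hJX]
        have s2 : L.relIndex (H ⟨j + 1, hi⟩ ⊓ X) ∣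
            (H ⟨j, by omega⟩ ⊓ X).relIndex (H ⟨j + 1, hi⟩ ⊓ X) := by
          rw [← Subgroup.inf_relIndex_right L]
          exact Subgroup.relIndex_dvd_of_le_left _ (le_inf hj (inf_le_inf_right X hAB))
        have s3 : (H ⟨j, by omega⟩ ⊓ X).relIndex (H ⟨j + 1, hi⟩ ⊓ X) =
            (H ⟨j, by omega⟩).relIndex (H ⟨j + 1, hi⟩ ⊓ X) := by
          have e : H ⟨j, by omega⟩ ⊓ X = H ⟨j, by omega⟩ ⊓ (H ⟨j + 1, hi⟩ ⊓ X) := by
            rw [← inf_assoc, inf_eq_left.2 hAB]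
          rw [e, Subgroup.inf_relIndex_right]
        have s4 : (H ⟨j, by omega⟩).relIndex (H ⟨j + 1, hi⟩ ⊓ X) ∣
            (H ⟨j, by omega⟩).relIndex (H ⟨j + 1, hi⟩) := by
          haveI := hnormal ⟨j, by omega⟩
          haveI : ((H ⟨j, by omega⟩).subgroupOf (H ⟨j + 1, hi⟩)).Normal :=
            Subgroup.Normal.subgroupOf inferInstance _
          rw [← Subgroup.relIndex_subgroupOf (inf_le_left : H ⟨j + 1, hi⟩ ⊓ X ≤ H ⟨j + 1, hi⟩)]
          exact Subgroup.relIndex_dvd_index_of_normal _ _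
        rw [s1]
        exact s2.trans (s3 ▸ s4)
      rcases hfac ⟨j, by omega⟩ with ⟨m, hm⟩ | hcop
      · left
        have hm' : (H ⟨j, by omega⟩).relIndex (H ⟨j + 1, hi⟩) = p ^ m := hm
        rw [hm'] at hdvd
        obtain ⟨a, -, ha⟩ := (Nat.dvd_prime_pow hp).1 hdvd
        exact ⟨a, ha⟩
      · right
        have hcop' : ((H ⟨j, by omega⟩).relIndex (H ⟨j + 1, hi⟩)).Coprime p := hcop
        intro hd
        have h1 : p ∣ (H ⟨j, by omega⟩).relIndex (H ⟨j + 1, hi⟩) := hd.trans hdvd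
        have h2 := Nat.Coprime.eq_one_of_dvd hcop'.symm h1
        exact hp.one_lt.ne' h2
    · exact ih _ hj

theorem exists_K (hG : IsPSolvable p G) (X L : Subgroup G) (hLX : L ≤ X)
    (hnL : ∀ g ∈ X, ∀ l ∈ L, g * l * g⁻¹ ∈ L) (hne : ¬ X ≤ L) :
    ∃ K : Subgroup G, L ≤ K ∧ K ≤ X ∧ ¬ K ≤ L ∧ (∀ g ∈ X, ∀ k ∈ K, g * k * g⁻¹ ∈ K) ∧
      ((∃ a : ℕ, L.relIndex K = p ^ a) ∨ ¬ p ∣ L.relIndex K) := by
  obtain ⟨n, H, h0, hlast, hmono, hnormal, hfac⟩ := hG
  apply exists_K_aux p H h0 hmono hnormal hfac X L hLX hnL n (by omega)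
  have e : (⟨n, by omega⟩ : Fin (n + 1)) = Fin.last n := rfl
  rw [e, hlast, top_inf_eq]
  exact hne

end choose

section main

variable {G : Type u} [Group G] [Finite G] (p : ℕ) [Fact p.Prime]

/-- The relative count, in the form for subgroups of an ambient `p`-solvable group. -/
theorem main_ind (hG : IsPSolvable p G) : ∀ (n : ℕ) (X L S : Subgroup G) (hLX : L ≤ X)
    (hLN : L ≤ normIn X (L ⊔ S)), L.relIndex X = n → S ≤ X →
    (∀ g ∈ X, ∀ l ∈ L, g * l * g⁻¹ ∈ L) → IsPGroup p S → ¬ p ∣ S.relIndex X →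
    ∀ ν : IrrCharacter ↥L, (∀ g ∈ L ⊔ S, IsConjCharOf L g ν.1 ν.1) →
      cntP p hLX ν = cntP p hLN ν := by
  intro n
  induction n using Nat.strong_induction_on with
  | _ n ih =>
  intro X L S hLX hLN hn hSX hnL hS hSyl ν hν
  have hp : p.Prime := Fact.out
  have hPX : L ⊔ S ≤ X := sup_le hLX hSX
  have hNX := normIn_le X (L ⊔ S)
  have hSN : S ≤ normIn X (L ⊔ S) := le_sup_right.trans (le_normIn X (L ⊔ S) hPX)
  have hSylN : ¬ p ∣ S.relIndex (normIn X (L ⊔ S)) := by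
    intro hd
    apply hSyl
    rw [← Subgroup.relIndex_mul_relIndex S _ X hSN hNX]
    exact Dvd.dvd.mul_right hd _
  by_cases hinv : ∀ g ∈ X, IsConjCharOf L g ν.1 ν.1
  · by_cases hXL : X ≤ L
    · exact cntP_congr p (le_antisymm (hXL.trans hLN) hNX) _ _ ν
    · obtain ⟨K, hLK, hKX, hKL, hnK, hidx⟩ := exists_K p hG X L hLX hnL hXL
      have hKSX : K ⊔ S ≤ X := sup_le hKX hSX
      have hN₁X := normIn_le X (K ⊔ S)
      have hKN₁ : K ≤ normIn X (K ⊔ S) := le_sup_left.trans (le_normIn X (K ⊔ S) hKSX)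
      have hSN₁ : S ≤ normIn X (K ⊔ S) := le_sup_right.trans (le_normIn X (K ⊔ S) hKSX)
      have hSylN₁ : ¬ p ∣ S.relIndex (normIn X (K ⊔ S)) := by
        intro hd
        apply hSyl
        rw [← Subgroup.relIndex_mul_relIndex S _ X hSN₁ hN₁X]
        exact Dvd.dvd.mul_right hd _
      have hlt : K.relIndex X < n := by
        rw [← hn]
        exact relIndex_lt' L K X hLK hKX hKL
      have hN₁ := mem_normIn X (K ⊔ S)
      have hN₁' : ∀ g, g ∈ normIn X (K ⊔ S) ↔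
          g ∈ normIn X (K ⊔ S) ∧ ∀ y, y ∈ K ⊔ S ↔ g * y * g⁻¹ ∈ K ⊔ S :=
        fun g => ⟨fun h => ⟨h, ((hN₁ g).1 h).2⟩, fun h => h.1⟩
      have d1 := dl_cor p S (normIn X (K ⊔ S)) hLK hKX hSX hnK hS hSyl hN₁ ν hnL hinv
      have d2 := dl_cor p S (normIn X (K ⊔ S)) hLK hKN₁ hSN₁ (fun g hg => hnK g (hN₁X hg)) hS
        hSylN₁ hN₁' ν (fun g hg => hnL g (hN₁X hg)) (fun g hg => hinv g (hN₁X hg))
      have hX1 : cntP p hLX ν = cntP p (hLK.trans hKN₁) ν := by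
        have e : cntP p (hLK.trans hKX) ν * Nat.card ↥(normIn X (K ⊔ S)) =
            cntP p (hLK.trans hKN₁) ν * Nat.card ↥(normIn X (K ⊔ S)) := by
          refine d1.symm.trans (Eq.trans ?_ d2)
          apply finsum_congr
          intro η
          by_cases hc : (∀ g ∈ K ⊔ S, IsConjCharOf K g η.1 η.1) ∧ Ov hLK η ν
          · rw [if_pos hc, if_pos hc,
              ih (K.relIndex X) hlt X K S hKX hKN₁ rfl hSX hnK hS hSyl η hc.1]
          · rw [if_neg hc, if_neg hc]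
        exact Nat.eq_of_mul_eq_mul_right Nat.card_pos e
      have hNN₁ : normIn X (L ⊔ S) ≤ normIn X (K ⊔ S) := by
        intro g hg
        obtain ⟨hgX, hgP⟩ := (mem_normIn X (L ⊔ S) g).1 hg
        refine (mem_normIn X (K ⊔ S) g).2 ⟨hgX, fun y => ?_⟩
        have e : K ⊔ S = K ⊔ (L ⊔ S) := by
          rw [← sup_assoc, sup_eq_left.2 hLK]
        rw [e]
        exact (norm_sup_iff K (L ⊔ S) g (norm_iff X K hnK g hgX) (fun v => (hgP v).symm) y).symm
      rcases hidx with ⟨a, ha⟩ | hp'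
      · have hPQ : L ⊔ S ≤ K ⊔ S := sup_le_sup_right hLK S
        have h1 : ¬ p ∣ (L ⊔ S).relIndex (K ⊔ S) := by
          intro hd
          apply hSyl
          rw [← Subgroup.relIndex_mul_relIndex S (L ⊔ S) X le_sup_right hPX,
            ← Subgroup.relIndex_mul_relIndex (L ⊔ S) (K ⊔ S) X hPQ hKSX]
          exact Dvd.dvd.mul_left (Dvd.dvd.mul_right hd _) _
        have hnKS' : ∀ s ∈ S, ∀ k ∈ K, s * k * s⁻¹ ∈ K := fun s hs => hnK s (hSX hs)
        obtain ⟨b, hb⟩ := relIndex_ppow p K S (K ⊔ S) le_sup_left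
          (fun m hm => sup_factor K S hnKS' m hm) hnKS' hS
        have h2 : (L ⊔ S).relIndex (K ⊔ S) ∣ p ^ (a + b) := by
          have h3 := Subgroup.relIndex_mul_relIndex L K (K ⊔ S) hLK le_sup_left
          have h4 := Subgroup.relIndex_mul_relIndex L (L ⊔ S) (K ⊔ S) le_sup_left hPQ
          rw [ha, hb, ← pow_add] at h3
          rw [h3, ← h4]
          exact Dvd.intro_left _ rfl
        have h5 : (L ⊔ S).relIndex (K ⊔ S) = 1 := Nat.Coprime.eq_one_of_dvd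
          (Nat.Coprime.pow_right (a + b) ((Nat.Prime.coprime_iff_not_dvd hp).2 h1).symm) h2
        have h6 : K ⊔ S = L ⊔ S := le_antisymm (Subgroup.relIndex_eq_one.1 h5) hPQ
        rw [hX1]
        exact cntP_congr p (by rw [h6]) _ _ ν
      · by_cases hfull : X ≤ normIn X (K ⊔ S)
        · have hnKS : ∀ g ∈ X, ∀ m ∈ K ⊔ S, g * m * g⁻¹ ∈ K ⊔ S :=
            fun g hg m hm => (((hN₁ g).1 (hfull hg)).2 m).1 hm
          exact core_amb p X L K S (normIn X (L ⊔ S)) hLK hKX hSX hnL hnK hp' hS hSyl hnKS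
            (mem_normIn X (L ⊔ S)) ν hinv hLN
        · have hlt2 : L.relIndex (normIn X (K ⊔ S)) < n := by
            rw [← hn]
            exact relIndex_lt L _ X (hLK.trans hKN₁) hN₁X hfull
          have hLN' : L ≤ normIn (normIn X (K ⊔ S)) (L ⊔ S) :=
            le_sup_left.trans (le_normIn _ _ (sup_le (hLK.trans hKN₁) hSN₁))
          have e1 := ih _ hlt2 (normIn X (K ⊔ S)) L S (hLK.trans hKN₁) hLN' rfl hSN₁
            (fun g hg => hnL g (hN₁X hg)) hS hSylN₁ ν hν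
          have e2 : normIn (normIn X (K ⊔ S)) (L ⊔ S) = normIn X (L ⊔ S) := by
            ext g
            rw [mem_normIn, mem_normIn]
            constructor
            · rintro ⟨h1, h2⟩
              exact ⟨hN₁X h1, h2⟩
            · rintro ⟨h1, h2⟩
              exact ⟨hNN₁ ((mem_normIn X (L ⊔ S) g).2 ⟨h1, h2⟩), h2⟩
          rw [hX1, e1]
          exact cntP_congr p e2 _ _ ν
  · have hLT : L ≤ stabSub X L hnL ν := le_stabSub X L hnL hLX ν
    have hTX : stabSub X L hnL ν ≤ X := stabSub_le X L hnL ν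
    have hmemT := mem_stabSub X L hnL ν
    have hST : S ≤ stabSub X L hnL ν :=
      fun s hs => (hmemT s).2 ⟨hSX hs, hν s (Subgroup.mem_sup_right hs)⟩
    have hTne : ¬ X ≤ stabSub X L hnL ν := fun h => hinv (fun g hg => ((hmemT g).1 (h hg)).2)
    have hpT : ¬ p ∣ (stabSub X L hnL ν).relIndex X := by
      intro hd
      apply hSyl
      rw [← Subgroup.relIndex_mul_relIndex S _ X hST hTX]
      exact Dvd.dvd.mul_left hd _
    have e1 : cntP p hLX ν = cntP p hLT ν :=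
      cc_count_p hLT hTX hnL ν hmemT p hpT
    have hLT' : L ≤ normIn X (L ⊔ S) ⊓ stabSub X L hnL ν := le_inf hLN hLT
    have hST' : S ≤ normIn X (L ⊔ S) ⊓ stabSub X L hnL ν := le_inf hSN hST
    have hT' : ∀ g, g ∈ normIn X (L ⊔ S) ⊓ stabSub X L hnL ν ↔
        g ∈ normIn X (L ⊔ S) ∧ IsConjCharOf L g ν.1 ν.1 := by
      intro g
      constructor
      · rintro ⟨h1, h2⟩
        exact ⟨h1, ((hmemT g).1 h2).2⟩
      · rintro ⟨h1, h2⟩
        exact ⟨h1, (hmemT g).2 ⟨hNX h1, h2⟩⟩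
    have hpT' : ¬ p ∣ (normIn X (L ⊔ S) ⊓ stabSub X L hnL ν).relIndex (normIn X (L ⊔ S)) := by
      intro hd
      apply hSylN
      rw [← Subgroup.relIndex_mul_relIndex S _ (normIn X (L ⊔ S)) hST' inf_le_left]
      exact Dvd.dvd.mul_left hd _
    have e2 : cntP p hLN ν = cntP p hLT' ν :=
      cc_count_p hLT' (inf_le_left : normIn X (L ⊔ S) ⊓ stabSub X L hnL ν ≤ normIn X (L ⊔ S))
        (fun g hg => hnL g (hNX hg)) ν hT' p hpT'
    have hlt : L.relIndex (stabSub X L hnL ν) < n := by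
      rw [← hn]
      exact relIndex_lt L _ X hLT hTX hTne
    have hLN' : L ≤ normIn (stabSub X L hnL ν) (L ⊔ S) :=
      le_sup_left.trans (le_normIn _ _ (sup_le hLT hST))
    have hSylT : ¬ p ∣ S.relIndex (stabSub X L hnL ν) := by
      intro hd
      apply hSyl
      rw [← Subgroup.relIndex_mul_relIndex S _ X hST hTX]
      exact Dvd.dvd.mul_right hd _
    have e3 := ih _ hlt (stabSub X L hnL ν) L S hLT hLN' rfl hST
      (fun g hg => hnL g (hTX hg)) hS hSylT ν hν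
    have e4 : normIn (stabSub X L hnL ν) (L ⊔ S) =
        normIn X (L ⊔ S) ⊓ stabSub X L hnL ν := by
      ext g
      rw [mem_normIn, Subgroup.mem_inf, mem_normIn]
      constructor
      · rintro ⟨h1, h2⟩
        exact ⟨⟨hTX h1, h2⟩, h1⟩
      · rintro ⟨⟨_, h2⟩, h1⟩
        exact ⟨h1, h2⟩
    rw [e1, e2, e3]
    exact cntP_congr p e4 _ _ ν

end main

end Cfsg.Agent.Lib.Helper81.McKT
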