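import Mathlib
import Cfsg.Prelude.Def_Characters
import Cfsg.Prelude.Def_BlockLocal
import Cfsg.Prelude.Def_Local
import Cfsg.Agent.Lib.Helper81.McKT
import Cfsg.Agent.Lib.Helper80.ItoConv

set_option autoImplicit false
set_option linter.style.haveILetI false
set_option linter.unusedSectionVars false
set_option maxHeartbeats 1000000

/-!
# Derived series inside an ambient group, and extension of an invariant linear character

* `dser H k`: the `k`-th derived subgroup of `H`, as a subgroup of the ambient group.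
* `exists_min`: a nontrivial `p`-solvable group has a nontrivial normal subgroup that is either of
  order prime to `p` or an abelian `p`-group.
* `exists_ext`: an invariant homomorphism to `ℂˣ` on a normal subgroup `M` of order prime to
  the index of `H ≥ M`, which extends to `H`, extends to the whole group (transfer argument).
* `exists_nontriv`: a nontrivial finite group has a nontrivial irreducible character.
-/

namespace Cfsg.Agent.Lib.Helper81.DLenA

open Cfsg
open Cfsg.Agent.Lib.Helper81.Irr Cfsg.Agent.Lib.Helper81.Basic Cfsg.Agent.Lib.Helper81.Expand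
  Cfsg.Agent.Lib.Helper81.Mult Cfsg.Agent.Lib.Helper81.Cliff Cfsg.Agent.Lib.Helper81.CliffCorr
  Cfsg.Agent.Lib.Helper81.McKD Cfsg.Agent.Lib.Helper81.McKJ

universe u

section dser

variable {G : Type u} [Group G]

/-- The derived series of a subgroup, computed inside the ambient group. -/
def dser (H : Subgroup G) : ℕ → Subgroup G
  | 0 => H
  | k + 1 => ⁅dser H k, dser H k⁆

theorem dser_zero (H : Subgroup G) : dser H 0 = H := rfl

theorem dser_succ (H : Subgroup G) (k : ℕ) : dser H (k + 1) = ⁅dser H k, dser H k⁆ := rfl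

theorem dser_mono {H K : Subgroup G} (h : H ≤ K) (k : ℕ) : dser H k ≤ dser K k := by
  induction k with
  | zero => exact h
  | succ k ih => exact Subgroup.commutator_mono ih ih

theorem dser_succ_le (H : Subgroup G) (k : ℕ) : dser H (k + 1) ≤ dser H k := by
  rw [dser_succ, Subgroup.commutator_le]
  intro a ha b hb
  rw [commutatorElement_def]
  exact Subgroup.mul_mem _ (Subgroup.mul_mem _ (Subgroup.mul_mem _ ha hb) (Subgroup.inv_mem _ ha))
    (Subgroup.inv_mem _ hb)

theorem dser_anti (H : Subgroup G) {k l : ℕ} (h : k ≤ l) : dser H l ≤ dser H k := by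
  induction l, h using Nat.le_induction with
  | base => exact le_rfl
  | succ l _ ih => exact (dser_succ_le H l).trans ih

theorem dser_le (H : Subgroup G) (k : ℕ) : dser H k ≤ H :=
  dser_anti H (Nat.zero_le k)

theorem dser_map {G' : Type*} [Group G'] (f : G →* G') (H : Subgroup G) (k : ℕ) :
    (dser H k).map f = dser (H.map f) k := by
  induction k with
  | zero => rfl
  | succ k ih => rw [dser_succ, dser_succ, Subgroup.map_commutator, ih]

theorem dser_subtype (H : Subgroup G) (k : ℕ) :
    (derivedSeries ↥H k).map H.subtype = dser H k := by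
  induction k with
  | zero => rw [derivedSeries_zero, dser_zero, ← MonoidHom.range_eq_map, Subgroup.range_subtype]
  | succ k ih => rw [derivedSeries_succ, Subgroup.map_commutator, ih, dser_succ]

theorem derivedSeries_eq_bot_of_dser (H : Subgroup G) (k : ℕ) (h : dser H k = ⊥) :
    derivedSeries ↥H k = ⊥ := by
  rw [← dser_subtype] at h
  exact (Subgroup.map_eq_bot_iff_of_injective _ H.subtype_injective).1 h

theorem dser_succ_eq_bot (H N : Subgroup G) (k : ℕ) (hk : dser H k ≤ N)
    (hN : ∀ a ∈ N, ∀ b ∈ N, a * b = b * a) : dser H (k + 1) = ⊥ := by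
  rw [dser_succ, eq_bot_iff, Subgroup.commutator_le]
  intro a ha b hb
  rw [Subgroup.mem_bot, commutatorElement_def, hN a (hk ha) b (hk hb)]
  group

end dser

section min

/-- A nontrivial `p`-solvable group has a nontrivial normal subgroup which is either of order
prime to `p` or an abelian `p`-group. -/
theorem exists_min (p : ℕ) [Fact p.Prime] (G : Type u) [Group G] [Finite G] [Nontrivial G]
    (hs : Cfsg.IsPSolvable p G) :
    ∃ N : Subgroup G, N.Normal ∧ N ≠ ⊥ ∧
      ((Nat.card N).Coprime p ∨ (IsPGroup p N ∧ ∀ a ∈ N, ∀ b ∈ N, a * b = b * a)) := by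
  obtain ⟨M, hMn, hM1, hMp, -⟩ := Cfsg.Agent.Lib.Helper80.ItoConv.good_pSolvable p G hs
  rcases hMp with hMp | hMp
  · haveI : Nontrivial ↥M := (Subgroup.nontrivial_iff_ne_bot M).2 hM1
    haveI := hMn
    have hN : ((Subgroup.center ↥M).map M.subtype).Normal := inferInstance
    refine ⟨(Subgroup.center ↥M).map M.subtype, hN, ?_, Or.inr ⟨?_, ?_⟩⟩
    · intro h
      rw [Subgroup.map_eq_bot_iff_of_injective _ M.subtype_injective] at h
      have h2 := IsPGroup.center_nontrivial hMp
      exact (Subgroup.nontrivial_iff_ne_bot _).1 h2 h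
    · exact (hMp.to_subgroup _).map _
    · rintro a ⟨x, hx, rfl⟩ b ⟨y, hy, rfl⟩
      have h3 := (Subgroup.mem_center_iff.1 hx) y
      show (x : G) * (y : G) = (y : G) * (x : G)
      exact (congrArg Subtype.val h3).symm
  · exact ⟨M, hMn, hM1, Or.inl hMp⟩

end min

section ext

/-- Transfer of a homomorphism which is invariant on a normal subgroup. -/
theorem transfer_invariant {Γ : Type u} [Group Γ] [Finite Γ] (M H : Subgroup Γ) (hMH : M ≤ H)
    (ϕ : ↥H →* ℂˣ)
    (hinv : ∀ (x : Γ) (a b : ↥H), (a : Γ) ∈ M → (b : Γ) = x⁻¹ * (a : Γ) * x → ϕ b = ϕ a)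
    (m : Γ) (hm : m ∈ M) :
    MonoidHom.transfer ϕ m = ϕ ⟨m, hMH hm⟩ ^ H.index := by
  classical
  letI : Fintype (Quotient (MulAction.orbitRel (Subgroup.zpowers m) (Γ ⧸ H))) :=
    Fintype.ofFinite _
  rw [MonoidHom.transfer_eq_prod_quotient_orbitRel_zpowers_quot]
  have hterm : ∀ q : Quotient (MulAction.orbitRel (Subgroup.zpowers m) (Γ ⧸ H)),
      ϕ ⟨q.out.out⁻¹ * m ^ Function.minimalPeriod (m • ·) q.out * q.out.out,
          QuotientGroup.out_conj_pow_minimalPeriod_mem H m q.out⟩ =
        ϕ ⟨m, hMH hm⟩ ^ Function.minimalPeriod (m • ·) q.out := by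
    intro q
    rw [← map_pow]
    apply hinv q.out.out
    · show ((⟨m, hMH hm⟩ : ↥H) ^ Function.minimalPeriod (m • ·) q.out : ↥H).1 ∈ M
      rw [Subgroup.coe_pow]
      exact M.pow_mem hm _
    · rw [Subgroup.coe_pow]
  rw [Finset.prod_congr rfl (fun q _ => hterm q), Finset.prod_pow_eq_pow_sum,
    ← Subgroup.index_eq_sum_minimalPeriod H m]

/-- Extension of an invariant linear character from a normal subgroup, given an extension to a
subgroup of index prime to the order of the normal subgroup. -/
theorem exists_ext {Γ : Type u} [Group Γ] [Finite Γ] (M H : Subgroup Γ) (hMH : M ≤ H)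
    (ϕ : ↥H →* ℂˣ)
    (hinv : ∀ (x : Γ) (a b : ↥H), (a : Γ) ∈ M → (b : Γ) = x⁻¹ * (a : Γ) * x → ϕ b = ϕ a)
    (hcop : (Nat.card M).Coprime H.index) :
    ∃ ψ : Γ →* ℂˣ, ∀ (m : Γ) (hm : m ∈ M), ψ m = ϕ ⟨m, hMH hm⟩ := by
  by_cases h1 : Nat.card M = 1
  · refine ⟨1, fun m hm => ?_⟩
    have hb : M = ⊥ := Subgroup.card_eq_one.1 h1
    have hm1 : m = 1 := by
      rw [hb] at hm
      exact Subgroup.mem_bot.1 hm
    subst hm1
    rw [map_one]
    exact (map_one ϕ).symm
  · have hlt : 1 < Nat.card M := by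
      have := Nat.card_pos (α := ↥M)
      omega
    obtain ⟨k, -, hk⟩ := Nat.exists_mul_mod_eq_one_of_coprime hcop.symm hlt
    refine ⟨(MonoidHom.transfer ϕ) ^ k, fun m hm => ?_⟩
    rw [MonoidHom.pow_apply, transfer_invariant M H hMH ϕ hinv m hm, ← pow_mul, ← map_pow]
    congr 1
    apply Subtype.ext
    rw [Subgroup.coe_pow]
    show m ^ (H.index * k) = m
    have h2 := pow_mod_natCard (⟨m, hm⟩ : ↥M) (H.index * k)
    rw [hk, pow_one] at h2
    have h3 := congrArg Subtype.val h2
    rw [Subgroup.coe_pow] at h3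
    exact h3.symm

end ext

section chars

/-- A nontrivial finite group has a nontrivial irreducible character. -/
theorem exists_nontriv (H : Type u) [Group H] [Finite H] [Nontrivial H] :
    ∃ η : IrrCharacter H, η ≠ trivChar H := by
  by_contra hcon
  push_neg at hcon
  obtain ⟨y, hy⟩ := exists_ne (1 : H)
  have h1 := second_orth_finsum y (1 : H)
  haveI : Unique (IrrCharacter H) := ⟨⟨trivChar H⟩, hcon⟩
  rw [finsum_unique] at h1
  have h2 : Nat.card {k : H // k * 1 * k⁻¹ = y} = 0 := by
    rw [Nat.card_eq_zero]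
    left
    constructor
    rintro ⟨k, hk⟩
    apply hy
    rw [← hk]
    group
  rw [h2] at h1
  rw [hcon default] at h1
  simp [trivChar] at h1

variable {G : Type u} [Group G] [Finite G]

/-- A character which is constant on a subgroup does not lie over a nontrivial character. -/
theorem not_ov_of_const {Y X : Subgroup G} (hYX : Y ≤ X) (χ : IrrCharacter ↥X)
    (η : IrrCharacter ↥Y) (hc : ∀ y : ↥Y, χ.1 (Subgroup.inclusion hYX y) = χ.1 1)
    (hη : η ≠ trivChar ↥Y) : ¬ Ov hYX χ η := by
  classical
  let _ : Fintype ↥Y := Fintype.ofFinite _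
  rw [ov_iff]
  intro h
  apply h
  have hch : IsCharacter ↥Y (fun y : ↥Y => χ.1 (Subgroup.inclusion hYX y)) :=
    Cfsg.Agent.Lib.CT.Ops.isCharacter_comp_hom (Subgroup.inclusion hYX) (irr_isCharacter χ)
  have h1 := mult_cast hch η
  have h2 : (fun y : ↥Y => χ.1 (Subgroup.inclusion hYX y)) = (χ.1 1) • (trivChar ↥Y).1 := by
    funext y
    rw [hc y]
    simp [trivChar]
  have h3 : multC (fun y : ↥Y => χ.1 (Subgroup.inclusion hYX y)) η = 0 := by
    rw [h2, multC_smul, multC_irr, if_neg (fun h => hη h.symm), mul_zero]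
  rw [h3] at h1
  exact_mod_cast h1

/-- A character of degree prime to `p` has a constituent of degree prime to `p` on any
subgroup. -/
theorem exists_ov_down_p (p : ℕ) {Y X : Subgroup G} (hYX : Y ≤ X) (χ : IrrCharacter ↥X)
    (hχ : ¬ p ∣ charDegree χ.1) :
    ∃ μ : IrrCharacter ↥Y, Ov hYX χ μ ∧ ¬ p ∣ charDegree μ.1 := by
  classical
  let _ : Fintype ↥Y := Fintype.ofFinite _
  let _ : Fintype ↥X := Fintype.ofFinite _
  have : Finite (IrrCharacter ↥Y) := finite_irr
  let _ : Fintype (IrrCharacter ↥Y) := Fintype.ofFinite _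
  have hch : IsCharacter ↥Y (fun y : ↥Y => χ.1 (Subgroup.inclusion hYX y)) :=
    Cfsg.Agent.Lib.CT.Ops.isCharacter_comp_hom (Subgroup.inclusion hYX) (irr_isCharacter χ)
  have h1 := charDegree_expand hch
  rw [charDegree_comp (Subgroup.inclusion hYX) χ.1] at h1
  by_contra hcon
  push_neg at hcon
  apply hχ
  rw [h1]
  apply Finset.dvd_sum
  intro μ _
  by_cases hm : mult (fun y : ↥Y => χ.1 (Subgroup.inclusion hYX y)) μ = 0
  · rw [hm, zero_mul]
    exact dvd_zero p
  · exact Dvd.dvd.mul_left (hcon μ ((ov_iff hYX χ μ).2 hm)) _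

end chars

end Cfsg.Agent.Lib.Helper81.DLenA
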