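import Mathlib
import Cfsg.Prelude.Def_Characters
import Cfsg.Prelude.Def_BlockLocal
import Cfsg.Prelude.Def_Local
import Cfsg.Agent.Lib.Helper81.DLenA
import Cfsg.Agent.Lib.Helper76.PSolv
import Cfsg.Agent.Lib.CT.HtPS1
import Cfsg.Agent.Lib.CT.LinChar
import Cfsg.Agent.Lib.CT.Kernel

set_option autoImplicit false
set_option linter.style.haveILetI false
set_option linter.unusedSectionVars false
set_option maxHeartbeats 1000000

/-!
# A normal `p`-subgroup outside the kernels of the characters of degree divisible by `p`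

If `N` is a nontrivial normal `p`-subgroup of the `p`-solvable group `G` such that every
irreducible character of `G` of degree divisible by `p` has `N` in its kernel, then `P / N` is
abelian for a Sylow `p`-subgroup `P` of `G`.
-/

namespace Cfsg.Agent.Lib.Helper81.DLenB

open Cfsg
open Cfsg.Agent.Lib.Helper81.Irr Cfsg.Agent.Lib.Helper81.Basic Cfsg.Agent.Lib.Helper81.Expand
  Cfsg.Agent.Lib.Helper81.Mult Cfsg.Agent.Lib.Helper81.Cliff Cfsg.Agent.Lib.Helper81.CliffCorr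
  Cfsg.Agent.Lib.Helper81.McKD Cfsg.Agent.Lib.Helper81.McKJ Cfsg.Agent.Lib.Helper81.McKK
  Cfsg.Agent.Lib.Helper81.DLenA

universe u

theorem comm_le {G : Type u} [Group G] [Finite G] (p : ℕ) [Fact p.Prime]
    (hG : Cfsg.IsPSolvable p G) (N : Subgroup G) [hNn : N.Normal] (hN1 : N ≠ ⊥)
    (hNp : IsPGroup p N) (P : Sylow p G)
    (hyp : ∀ χ : IrrCharacter G, p ∣ charDegree χ.1 → ∀ n ∈ N, χ.1 n = χ.1 1) :
    ⁅(P : Subgroup G), (P : Subgroup G)⁆ ≤ N := by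
  classical
  have hpp : p.Prime := Fact.out
  have hn : ∀ g ∈ (⊤ : Subgroup G), ∀ y ∈ N, g * y * g⁻¹ ∈ N :=
    fun g _ y hy => hNn.conj_mem y hy g
  have hNP : N ≤ (P : Subgroup G) := hNp.le_sylow_of_normal P
  have hPtop : (P : Subgroup G) ≤ ⊤ := le_top
  have hNtop : N ≤ ⊤ := le_top
  -- characters over a nontrivial character of `N` have degree prime to `p`
  have hkey : ∀ (χ : IrrCharacter ↥(⊤ : Subgroup G)) (η : IrrCharacter ↥N),
      η ≠ trivChar ↥N → Ov hNtop χ η → ¬ p ∣ charDegree χ.1 := by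
    intro χ η hη hov hd
    let χG : IrrCharacter G := ⟨fun g => χ.1 ⟨g, Subgroup.mem_top g⟩,
      isIrrCharacter_comp χ.2 (Subgroup.topEquiv (G := G)).symm.toMonoidHom
        (Subgroup.topEquiv (G := G)).symm.surjective⟩
    have hc := hyp χG hd
    exact not_ov_of_const hNtop χ η (fun y => hc y y.2) hη hov
  haveI : Nontrivial ↥N := (Subgroup.nontrivial_iff_ne_bot N).2 hN1
  obtain ⟨η₀, hη₀⟩ := exists_nontriv ↥N
  obtain ⟨χ, hχ⟩ := exists_ov_up hNtop η₀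
  have hχp := hkey χ η₀ hη₀ hχ
  obtain ⟨μ, hμov, hμp⟩ := exists_ov_down_p p hPtop χ hχp
  have hμ1 : charDegree μ.1 = 1 := by
    have h1 := Cfsg.Agent.Lib.Helper80.Integrality.charDegree_dvd_card μ
    obtain ⟨k, hk⟩ := IsPGroup.iff_card.1 P.isPGroup'
    rw [hk] at h1
    obtain ⟨j, -, hj⟩ := (Nat.dvd_prime_pow hpp).1 h1
    rw [hj] at hμp ⊢
    cases j with
    | zero => rfl
    | succ j => exact absurd (dvd_pow_self p (Nat.succ_ne_zero j)) hμp
  have hμone : μ.1 1 = 1 := by rw [deg_cast μ, hμ1, Nat.cast_one]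
  obtain ⟨ϕ, hϕ⟩ :=
    Cfsg.Agent.Lib.CT.LinChar.exists_hom_of_isCharacter μ.1 (irr_isCharacter μ) hμone
  obtain ⟨lam, hlam⟩ : ∃ lam : IrrCharacter ↥N,
      ∀ y : ↥N, lam.1 y = ((ϕ (Subgroup.inclusion hNP y) : ℂˣ) : ℂ) :=
    ⟨⟨fun y => ((ϕ (Subgroup.inclusion hNP y) : ℂˣ) : ℂ),
      Cfsg.Agent.Lib.CT.LinChar.isIrrCharacter_of_hom (ϕ.comp (Subgroup.inclusion hNP))⟩,
      fun y => rfl⟩
  have hμlam : Ov hNP μ lam := by
    let _ : Fintype ↥N := Fintype.ofFinite _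
    have hres : (fun y : ↥N => μ.1 (Subgroup.inclusion hNP y)) = lam.1 := by
      funext y
      rw [hlam]
      exact hϕ _
    rw [ov_iff, hres]
    intro h0
    have h1 := mult_cast (irr_isCharacter lam) lam
    rw [h0, multC_irr, if_pos rfl] at h1
    simp at h1
  have hχlam : Ov hNtop χ lam := ov_trans hPtop hNP χ μ lam hμov hμlam
  obtain ⟨g, -, hg⟩ := ov_orbit hNtop hn χ η₀ lam hχ hχlam
  have hlam1 : lam ≠ trivChar ↥N := by
    intro h
    apply hη₀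
    apply Subtype.ext
    funext k
    have h1 := hg k ⟨g * k * g⁻¹, hn g (Subgroup.mem_top g) k k.2⟩ rfl
    rw [h] at h1
    exact h1.symm
  -- the stabiliser of `lam`
  obtain ⟨T, hT⟩ : ∃ T : Subgroup G,
      ∀ g, g ∈ T ↔ g ∈ (⊤ : Subgroup G) ∧ IsConjCharOf N g lam.1 lam.1 :=
    ⟨stabSub ⊤ N hn lam, mem_stabSub ⊤ N hn lam⟩
  have hNT : N ≤ T := fun y hy => (hT y).2 ⟨Subgroup.mem_top y, self_conj N lam y hy⟩
  have hTtop : T ≤ ⊤ := le_top
  have hPT : (P : Subgroup G) ≤ T := by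
    intro g hg
    rw [hT]
    refine ⟨Subgroup.mem_top g, fun k k' hk => ?_⟩
    have e : Subgroup.inclusion hNP k' = (⟨g, hg⟩ : ↥(P : Subgroup G)) *
        Subgroup.inclusion hNP k * (⟨g, hg⟩ : ↥(P : Subgroup G))⁻¹ := Subtype.ext hk
    rw [hlam, hlam, e, map_mul, map_mul, map_inv, mul_comm, inv_mul_cancel_left]
  -- extension of `lam` to `T`
  have hnT : ∀ g ∈ T, ∀ y ∈ N, g * y * g⁻¹ ∈ N := fun g _ y hy => hNn.conj_mem y hy g
  haveI hMn : (N.subgroupOf T).Normal := normal_sub hnT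
  have hMH : N.subgroupOf T ≤ (P : Subgroup G).subgroupOf T := fun x hx => hNP hx
  obtain ⟨ϕ', hϕ'⟩ : ∃ ϕ' : ↥((P : Subgroup G).subgroupOf T) →* ℂˣ,
      ∀ b : ↥((P : Subgroup G).subgroupOf T), ϕ' b = ϕ ⟨((b : ↥T) : G), b.2⟩ :=
    ⟨ϕ.comp (Subgroup.subgroupOfEquivOfLe hPT).toMonoidHom, fun b => rfl⟩
  have hinv : ∀ (x : ↥T) (a b : ↥((P : Subgroup G).subgroupOf T)),
      (a : ↥T) ∈ N.subgroupOf T → (b : ↥T) = x⁻¹ * (a : ↥T) * x → ϕ' b = ϕ' a := by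
    intro x a b ha hb
    have hxi := ((hT ((x⁻¹ : ↥T) : G)).1 (x⁻¹ : ↥T).2).2
    have hbG : ((b : ↥T) : G) = ((x⁻¹ : ↥T) : G) * ((a : ↥T) : G) * ((x⁻¹ : ↥T) : G)⁻¹ := by
      rw [hb]
      simp
    have hbN : ((b : ↥T) : G) ∈ N := by
      rw [hbG]
      exact hnT _ (x⁻¹ : ↥T).2 _ ha
    have h1 := hxi ⟨((a : ↥T) : G), ha⟩ ⟨((b : ↥T) : G), hbN⟩ hbG
    rw [hlam, hlam] at h1
    rw [hϕ', hϕ']
    exact Units.ext h1
  have hcop : (Nat.card ↥(N.subgroupOf T)).Coprime ((P : Subgroup G).subgroupOf T).index := by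
    have h1 : Nat.card ↥(N.subgroupOf T) = Nat.card ↥N :=
      Nat.card_congr (Subgroup.subgroupOfEquivOfLe hNT).toEquiv
    obtain ⟨k, hk⟩ := IsPGroup.iff_card.1 hNp
    rw [h1, hk]
    apply Nat.Coprime.pow_left
    rw [Nat.Prime.coprime_iff_not_dvd hpp]
    intro hd
    have h2 : (P : Subgroup G).relIndex T * T.index = (P : Subgroup G).index :=
      Subgroup.relIndex_mul_index hPT
    apply P.not_dvd_index
    rw [← h2]
    exact Dvd.dvd.mul_right hd _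
  obtain ⟨ψ, hψ⟩ := exists_ext (N.subgroupOf T) ((P : Subgroup G).subgroupOf T) hMH ϕ' hinv hcop
  -- all irreducible characters of `T / N` have degree prime to `p`
  have hsT : Cfsg.IsPSolvable p ↥T := Cfsg.Agent.Lib.CT.HtPS1.isPSolvable_subgroup p T hG
  have hsQ : Cfsg.IsPSolvable p (↥T ⧸ N.subgroupOf T) :=
    Cfsg.Agent.Lib.Helper76.PSolv.isPSolvable_quotient p (N.subgroupOf T) hsT
  have hall : ∀ β : IrrCharacter (↥T ⧸ N.subgroupOf T), ¬ p ∣ charDegree β.1 := by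
    intro β hβ
    have hβT := Cfsg.Agent.Lib.CT.Kernel.isIrrCharacter_inflation (N.subgroupOf T) β.2
    obtain ⟨ξ, hξ⟩ : ∃ ξ : IrrCharacter ↥T,
        ∀ t : ↥T, ξ.1 t = ((ψ t : ℂˣ) : ℂ) * β.1 (t : ↥T ⧸ N.subgroupOf T) :=
      ⟨⟨_, Cfsg.Agent.Lib.CT.LinChar.isIrrCharacter_linear_mul
        (Cfsg.Agent.Lib.CT.LinChar.isCharacter_of_hom ψ) (by simp) hβT⟩, fun t => rfl⟩
    have hξlam : Ov hNT ξ lam := by
      let _ : Fintype ↥N := Fintype.ofFinite _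
      rw [ov_iff]
      have hch : IsCharacter ↥N (fun y : ↥N => ξ.1 (Subgroup.inclusion hNT y)) :=
        Cfsg.Agent.Lib.CT.Ops.isCharacter_comp_hom (Subgroup.inclusion hNT) (irr_isCharacter ξ)
      have h1 := mult_cast hch lam
      have h2 : (fun y : ↥N => ξ.1 (Subgroup.inclusion hNT y)) = (β.1 1) • lam.1 := by
        funext y
        have hy : (Subgroup.inclusion hNT y) ∈ N.subgroupOf T := y.2
        have e1 : β.1 ((Subgroup.inclusion hNT y : ↥T) : ↥T ⧸ N.subgroupOf T) = β.1 1 := by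
          rw [(QuotientGroup.eq_one_iff _).2 hy]
        have e2 : ((ψ (Subgroup.inclusion hNT y) : ℂˣ) : ℂ) = lam.1 y := by
          rw [hψ _ hy, hlam, hϕ']
          rfl
        rw [hξ, e1, e2, Pi.smul_apply, smul_eq_mul, mul_comm]
      have h3 : multC (fun y : ↥N => ξ.1 (Subgroup.inclusion hNT y)) lam = β.1 1 := by
        rw [h2, multC_smul, multC_irr, if_pos rfl, mul_one]
      rw [h3] at h1
      intro h0
      rw [h0, Nat.cast_zero, deg_cast β] at h1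
      exact (deg_pos β).ne' (by exact_mod_cast h1.symm)
    obtain ⟨χ', hχ'⟩ := exists_ov_up hTtop ξ
    have h1 := ov_trans hTtop hNT χ' ξ lam hχ' hξlam
    have h2 := hkey χ' lam hlam1 h1
    have h3 := (cc_main hNT hTtop hn lam hT χ' ξ hχ' hξlam).1
    apply h2
    rw [h3]
    apply Dvd.dvd.mul_left
    have h4 : charDegree ξ.1 = charDegree β.1 := by
      show ⌊(ξ.1 1).re⌋₊ = ⌊(β.1 1).re⌋₊
      rw [hξ, map_one, Units.val_one, one_mul]
      rfl
    rw [h4]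
    exact hβ
  obtain ⟨S, hSn, hSab⟩ := Cfsg.Agent.Lib.Helper80.ItoConv.ito_conv_pSolvable p hsQ hall
  -- conclusion
  rw [Subgroup.commutator_le]
  intro a ha b hb
  have hQ : IsPGroup p
      ↥(((P : Subgroup G).subgroupOf T).map (QuotientGroup.mk' (N.subgroupOf T))) :=
    (P.isPGroup'.comap_subtype).map _
  obtain ⟨S', hS'⟩ := hQ.exists_le_sylow
  have hSS : S' = S := by
    haveI := Sylow.unique_of_normal S hSn
    exact Subsingleton.elim _ _
  rw [hSS] at hS'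
  have ha' : ((⟨a, hPT ha⟩ : ↥T) : ↥T ⧸ N.subgroupOf T) ∈ S :=
    hS' ⟨⟨a, hPT ha⟩, ha, rfl⟩
  have hb' : ((⟨b, hPT hb⟩ : ↥T) : ↥T ⧸ N.subgroupOf T) ∈ S :=
    hS' ⟨⟨b, hPT hb⟩, hb, rfl⟩
  have hc := hSab _ ha' _ hb'
  have h5 : (((⟨a, hPT ha⟩ : ↥T) * (⟨b, hPT hb⟩ : ↥T) * (⟨a, hPT ha⟩ : ↥T)⁻¹ *
      (⟨b, hPT hb⟩ : ↥T)⁻¹ : ↥T) : ↥T ⧸ N.subgroupOf T) = 1 := by
    rw [QuotientGroup.mk_mul, QuotientGroup.mk_mul, QuotientGroup.mk_mul,
      QuotientGroup.mk_inv, QuotientGroup.mk_inv, hc]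
    group
  have h6 := (QuotientGroup.eq_one_iff _).1 h5
  rw [commutatorElement_def]
  exact h6

end Cfsg.Agent.Lib.Helper81.DLenB
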