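import Mathlib
import Cfsg.Agent.Lib.Helper41.EMStmt
import Cfsg.Agent.Lib.Helper41.TMStmt
import Cfsg.Agent.Lib.Helper12.C2Blk
import Cfsg.Agent.Lib.Helper44.NegPairs

/-!
# S5990 / C2FIX (helper81, spare seat): characteristic 2, minus form

Rank-free induction: an invariant nondegenerate minus-type `Y` of dimension `2a` contains an
invariant elliptic `n`-space for every even `n` with `2 ≤ n ≤ 2a` and (`n % 4 = 2` or `a` even).
-/

set_option autoImplicit false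

universe u

namespace Cfsg.Agent.Lib.Helper81.EMC2FIX

open Cfsg.Agent.Lib.Helper41.EMStmt
open Cfsg.Agent.Lib.Helper45.OMiStmt (M Aniso NDegM StabM)
open Cfsg.Agent.Lib.Helper41.TMTwoStmt (PlusM)
open Cfsg.Agent.Lib.Helper12.C2Blk (NL)
open Cfsg.Agent.Lib.Helper44.NegPairs (minusQ)
open QuadraticMap

section gen

variable {F : Type u} [Field F] {ι : Type} [Fintype ι] [DecidableEq ι]

theorem finrank_sup_of_inf_bot (A B : Submodule F (ι → F)) (h : A ⊓ B = ⊥) :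
    Module.finrank F ↥(A ⊔ B) = Module.finrank F ↥A + Module.finrank F ↥B := by
  have h1 := Submodule.finrank_sup_add_finrank_inf_eq A B
  rw [h, finrank_bot, add_zero] at h1
  exact h1

/-- plus ⊥ plus = plus -/
theorem plus_sum (Q : QuadraticForm F (ι → F)) (A B : Submodule F (ι → F))
    (hAB : ∀ u ∈ A, ∀ v ∈ B, polar Q u v = 0) (hinf : A ⊓ B = ⊥)
    (hA : Cfsg.Geo.IsPlusTypeOn Q A) (hB : Cfsg.Geo.IsPlusTypeOn Q B) :
    Cfsg.Geo.IsPlusTypeOn Q (A ⊔ B) := by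
  obtain ⟨UA, hUA, hTA, hfA⟩ := hA
  obtain ⟨UB, hUB, hTB, hfB⟩ := hB
  refine ⟨UA ⊔ UB, sup_le_sup hUA hUB, ?_, ?_⟩
  · intro w hw
    obtain ⟨u, hu, v, hv, rfl⟩ := Submodule.mem_sup.1 hw
    rw [QuadraticMap.map_add Q, hTA u hu, hTB v hv, hAB u (hUA hu) v (hUB hv)]
    simp
  · have hinf' : UA ⊓ UB = ⊥ := by
      apply le_bot_iff.1
      rw [← hinf]
      exact inf_le_inf hUA hUB
    rw [finrank_sup_of_inf_bot UA UB hinf', finrank_sup_of_inf_bot A B hinf]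
    omega

theorem sup_eq_of (A Y' Y : Submodule F (ι → F)) (hA : A ≤ Y) (hY' : Y' ≤ Y)
    (hinf : A ⊓ Y' = ⊥)
    (hfr : Module.finrank F ↥A + Module.finrank F ↥Y' = Module.finrank F ↥Y) :
    A ⊔ Y' = Y := by
  apply Submodule.eq_of_le_of_finrank_eq (sup_le hA hY')
  rw [finrank_sup_of_inf_bot A Y' hinf, hfr]

theorem stab_sup (X : Matrix ι ι F) (A B : Submodule F (ι → F))
    (hA : A.map (Matrix.toLin' X) ≤ A) (hB : B.map (Matrix.toLin' X) ≤ B) :
    (A ⊔ B).map (Matrix.toLin' X) ≤ A ⊔ B := by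
  rw [Submodule.map_sup]
  exact sup_le_sup hA hB

variable [CharP F 2]

theorem g_add (Q : QuadraticForm F (ι → F)) (X : Matrix ι ι F)
    (hx : ∀ v, Q (X.mulVec v) = Q v) (hxx : X * X = 1) (u v : ι → F) :
    Q (NL X (u + v)) = Q (NL X u) + Q (NL X v) := by
  rw [map_add, QuadraticMap.map_add Q, Cfsg.Agent.Lib.Helper12.C2Blk.polar_NL Q X hx hxx,
    Cfsg.Agent.Lib.Helper12.C2Blk.NL_NL X hxx]
  simp

theorem g_smul (Q : QuadraticForm F (ι → F)) (X : Matrix ι ι F) (c : F) (u : ι → F) :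
    Q (NL X (c • u)) = c * c * Q (NL X u) := by
  rw [map_smul, QuadraticMap.map_smul, smul_eq_mul]

theorem sing_step (Q : QuadraticForm F (ι → F)) (X : Matrix ι ι F)
    (hx : ∀ v, Q (X.mulVec v) = Q v) (hxx : X * X = 1) (Y : Submodule F (ι → F))
    (s v : ι → F) (hsY : s ∈ Y) (hvY : v ∈ Y) (hs : Q s = 0) (hgs : Q (NL X s) = 0)
    (hpol : polar Q v s ≠ 0) (hgv : Q (NL X v) ≠ 0) :
    ∃ u ∈ Y, Q u = 0 ∧ Q (NL X u) ≠ 0 := by
  refine ⟨v + (Q v / polar Q v s) • s, Y.add_mem hvY (Y.smul_mem _ hsY), ?_, ?_⟩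
  · have hc : (Q v / polar Q v s) * polar Q v s = Q v := div_mul_cancel₀ _ hpol
    rw [QuadraticMap.map_add Q, QuadraticMap.map_smul, hs, QuadraticMap.polar_smul_right,
      smul_eq_mul, smul_eq_mul, mul_zero, add_zero, hc]
    exact CharTwo.add_self_eq_zero _
  · rw [g_add Q X hx hxx, g_smul, hgs, mul_zero, add_zero]
    exact hgv

theorem sing_exists (Q : QuadraticForm F (ι → F)) (X : Matrix ι ι F)
    (hx : ∀ v, Q (X.mulVec v) = Q v) (hxx : X * X = 1) (Y : Submodule F (ι → F))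
    (hYnd : Cfsg.Geo.IsNondegenerateOn (polar Q) Y)
    (e : ι → F) (heY : e ∈ Y) (he0 : e ≠ 0) (heQ : Q e = 0)
    (w : ι → F) (hwY : w ∈ Y) (hgw : Q (NL X w) ≠ 0) :
    ∃ u ∈ Y, Q u = 0 ∧ Q (NL X u) ≠ 0 := by
  by_cases hge : Q (NL X e) = 0
  swap
  · exact ⟨e, heY, heQ, hge⟩
  obtain ⟨-, y, hyY, hy⟩ := hYnd e heY he0
  obtain ⟨f, hfY, hfQ, hef⟩ : ∃ f ∈ Y, Q f = 0 ∧ polar Q e f ≠ 0 := by
    have hye : polar Q y e ≠ 0 := by
      rw [QuadraticMap.polar_comm]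
      exact hy
    refine ⟨y + (Q y / polar Q y e) • e, Y.add_mem hyY (Y.smul_mem _ heY), ?_, ?_⟩
    · have hc : (Q y / polar Q y e) * polar Q y e = Q y := div_mul_cancel₀ _ hye
      rw [QuadraticMap.map_add Q, QuadraticMap.map_smul, heQ, QuadraticMap.polar_smul_right,
        smul_eq_mul, smul_eq_mul, mul_zero, add_zero, hc]
      exact CharTwo.add_self_eq_zero _
    · rw [QuadraticMap.polar_add_right, QuadraticMap.polar_smul_right, QuadraticMap.polar_self,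
        heQ]
      simpa using hy
  by_cases hgf : Q (NL X f) = 0
  swap
  · exact ⟨f, hfY, hfQ, hgf⟩
  by_cases h1 : polar Q w e = 0
  swap
  · exact sing_step Q X hx hxx Y e w heY hwY heQ hge h1 hgw
  by_cases h2 : polar Q w f = 0
  swap
  · exact sing_step Q X hx hxx Y f w hfY hwY hfQ hgf h2 hgw
  refine sing_step Q X hx hxx Y e (w + f) heY (Y.add_mem hwY hfY) heQ hge ?_ ?_
  · rw [QuadraticMap.polar_add_left, h1, zero_add, QuadraticMap.polar_comm]
    exact hef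
  · rw [g_add Q X hx hxx, hgf, add_zero]
    exact hgw

end gen

theorem cprime (hSubPerp : Cfsg.Agent.Lib.Helper41.TMStmt.SubPerp.{u})
    (hOrthSum : Cfsg.Agent.Lib.Helper41.TMStmt.OrthSum.{u})
    (hCancel : CancelM.{u}) (hSub : SubTypeE.{u})
    (F : Type u) [Field F] [Fintype F] (a₀ b₀ : F) (hab : Aniso a₀ b₀) [CharP F 2] (d : ℕ)
    (x : Matrix.GeneralLinearGroup (M d) F)
    (hx : x ∈ Cfsg.isometryGroup F (Cfsg.quadFormMinus (d - 1) F a₀ b₀))
    (hxx : (x : Matrix (M d) (M d) F) * (x : Matrix (M d) (M d) F) = 1) :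
    ∀ (a : ℕ) (Y : Submodule F (M d → F)), NDegM d F a₀ b₀ Y → ¬ PlusM d F a₀ b₀ Y →
      StabM (x : Matrix (M d) (M d) F) Y → Module.finrank F ↥Y = 2 * a →
      ∀ n : ℕ, Even n → 2 ≤ n → n ≤ 2 * a → (n % 4 = 2 ∨ Even a) →
      ∃ W : Submodule F (M d → F), W ≤ Y ∧ MemEM d F a₀ b₀ n W ∧
        StabM (x : Matrix (M d) (M d) F) W := by
  classical
  have hQx : ∀ v, minusQ (d - 1) F a₀ b₀ ((x : Matrix (M d) (M d) F).mulVec v)
      = minusQ (d - 1) F a₀ b₀ v := fun v => hx v v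
  intro a
  induction a using Nat.strong_induction_on with
  | _ a ih =>
  intro Y hYnd hYnp hYst hYfr n hne hn2 hna hcond
  by_cases hn : n = 2 * a
  · exact ⟨Y, le_rfl, ⟨by rw [hYfr, hn], hYnd, hYnp⟩, hYst⟩
  have hlt : n < 2 * a := lt_of_le_of_ne hna hn
  by_cases hN0 : ∀ u ∈ Y, NL (x : Matrix (M d) (M d) F) u = 0
  · obtain ⟨-, h2⟩ := hSub F a₀ b₀ hab d n Y hYnd hne (by rw [hYfr]; exact hlt)
    obtain ⟨W, hWY, hW⟩ := h2 hn2
    refine ⟨W, hWY, hW, ?_⟩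
    rintro _ ⟨w, hw, rfl⟩
    have h3 : NL (x : Matrix (M d) (M d) F) w = 0 := hN0 w (hWY hw)
    have h4 : Matrix.toLin' (x : Matrix (M d) (M d) F) w = w := by
      unfold NL at h3
      rw [LinearMap.sub_apply, LinearMap.id_apply, sub_eq_zero] at h3
      exact h3
    rw [h4]
    exact hw
  push Not at hN0
  obtain ⟨u₀, hu₀Y, hNu₀⟩ := hN0
  by_cases hℓ : ∀ w ∈ Y, minusQ (d - 1) F a₀ b₀ (NL (x : Matrix (M d) (M d) F) w) = 0
  · -- 4-block
    obtain ⟨A, hAY, hAfr, hAnd, hAplus, hAst⟩ :=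
      Cfsg.Agent.Lib.Helper12.C2Blk.peel_four (minusQ (d - 1) F a₀ b₀)
        (x : Matrix (M d) (M d) F) hQx hxx Y hYst hYnd hℓ u₀ hu₀Y hNu₀
    obtain ⟨Y', hY'Y, hY'nd, hinf, horth, hfr', hst'⟩ :=
      hSubPerp F a₀ b₀ hab d Y A hYnd hAnd hAY
    have hY'st : StabM (x : Matrix (M d) (M d) F) Y' := hst' x hx hYst hAst
    have hsup : A ⊔ Y' = Y := sup_eq_of A Y' Y hAY hY'Y hinf hfr'
    have hY'np : ¬ PlusM d F a₀ b₀ Y' := by
      intro hp
      apply hYnp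
      rw [← hsup]
      exact plus_sum (minusQ (d - 1) F a₀ b₀) A Y' horth hinf hAplus hp
    have hY'pos : Module.finrank F ↥Y' ≠ 0 := by
      intro h0
      apply hY'np
      refine ⟨⊥, bot_le, ?_, ?_⟩
      · intro w hw
        rw [(Submodule.mem_bot F).1 hw]
        exact QuadraticMap.map_zero (minusQ (d - 1) F a₀ b₀)
      · rw [finrank_bot, h0]
    rw [hAfr, hYfr] at hfr'
    have ha3 : 3 ≤ a := by omega
    have hY'fr : Module.finrank F ↥Y' = 2 * (a - 2) := by omega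
    by_cases hn4 : n ≤ 2 * (a - 2)
    · obtain ⟨W, hWY', hW, hWst⟩ := ih (a - 2) (by omega) Y' hY'nd hY'np hY'st hY'fr n hne hn2
        hn4 (by
          rcases hcond with h | h
          · exact Or.inl h
          · right
            obtain ⟨k, hk⟩ := h
            exact ⟨k - 1, by omega⟩)
      exact ⟨W, hWY'.trans hY'Y, hW, hWst⟩
    · obtain ⟨k, hk⟩ := hne
      have ha4 : 4 ≤ a := by
        rcases hcond with h | h
        · omega
        · obtain ⟨j, hj⟩ := h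
          omega
      obtain ⟨W', hW'Y', hW', hW'st⟩ := ih (a - 2) (by omega) Y' hY'nd hY'np hY'st hY'fr (n - 4)
        ⟨k - 2, by omega⟩ (by omega) (by omega) (by
          rcases hcond with h | h
          · left
            omega
          · right
            obtain ⟨j, hj⟩ := h
            exact ⟨j - 1, by omega⟩)
      have horth' : ∀ u ∈ A, ∀ v ∈ W',
          QuadraticMap.polar (Cfsg.quadFormMinus (d - 1) F a₀ b₀) u v = 0 :=
        fun u hu v hv => horth u hu v (hW'Y' hv)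
      obtain ⟨hWnd, -, hWfr⟩ := hOrthSum F a₀ b₀ hab d A W' hAnd hW'.2.1 horth'
      refine ⟨A ⊔ W', sup_le hAY (hW'Y'.trans hY'Y), ⟨?_, hWnd, ?_⟩, ?_⟩
      · rw [hWfr, hAfr, hW'.1]
        omega
      · intro hp
        exact hW'.2.2 (hCancel F a₀ b₀ hab d A W' hAnd hW'.2.1 horth' hp hAplus)
      · exact stab_sup _ A W' hAst hW'st
  · -- swap plane
    push Not at hℓ
    obtain ⟨w, hwY, hw⟩ := hℓ
    obtain ⟨⟨W₂, hW₂Y, hW₂fr, -, hW₂plus⟩, -⟩ :=
      hSub F a₀ b₀ hab d 2 Y hYnd ⟨1, rfl⟩ (by rw [hYfr]; omega)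
    obtain ⟨U, hUW, hUts, hUfr⟩ := hW₂plus
    have hU1 : 0 < Module.finrank F ↥U := by omega
    obtain ⟨e', he'⟩ := Module.finrank_pos_iff_exists_ne_zero.1 hU1
    have he0 : (e' : M d → F) ≠ 0 := fun h => he' (Submodule.coe_eq_zero.1 h)
    obtain ⟨u, huY, hu0, huN⟩ := sing_exists (minusQ (d - 1) F a₀ b₀)
      (x : Matrix (M d) (M d) F) hQx hxx Y hYnd (e' : M d → F) (hW₂Y (hUW e'.2)) he0
      (hUts _ e'.2) w hwY hw
    obtain ⟨H, hHY, hHfr, hHnd, hHplus, hHst⟩ :=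
      Cfsg.Agent.Lib.Helper12.C2Blk.peel_swap (minusQ (d - 1) F a₀ b₀)
        (x : Matrix (M d) (M d) F) hQx hxx Y hYst u huY hu0 huN
    obtain ⟨Y', hY'Y, hY'nd, hinf, horth, hfr', hst'⟩ :=
      hSubPerp F a₀ b₀ hab d Y H hYnd hHnd hHY
    have hY'st : StabM (x : Matrix (M d) (M d) F) Y' := hst' x hx hYst hHst
    have hsup : H ⊔ Y' = Y := sup_eq_of H Y' Y hHY hY'Y hinf hfr'
    have hY'np : ¬ PlusM d F a₀ b₀ Y' := by
      intro hp
      apply hYnp
      rw [← hsup]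
      exact plus_sum (minusQ (d - 1) F a₀ b₀) H Y' horth hinf hHplus hp
    rw [hHfr, hYfr] at hfr'
    have hY'fr : Module.finrank F ↥Y' = 2 * (a - 1) := by omega
    by_cases h4 : n % 4 = 2
    · obtain ⟨W, hWY', hW, hWst⟩ := ih (a - 1) (by omega) Y' hY'nd hY'np hY'st hY'fr n hne hn2
        (by omega) (Or.inl h4)
      exact ⟨W, hWY'.trans hY'Y, hW, hWst⟩
    · obtain ⟨k, hk⟩ := hne
      obtain ⟨W', hW'Y', hW', hW'st⟩ := ih (a - 1) (by omega) Y' hY'nd hY'np hY'st hY'fr (n - 2)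
        ⟨k - 1, by omega⟩ (by omega) (by omega) (Or.inl (by omega))
      have horth' : ∀ u ∈ H, ∀ v ∈ W',
          QuadraticMap.polar (Cfsg.quadFormMinus (d - 1) F a₀ b₀) u v = 0 :=
        fun u hu v hv => horth u hu v (hW'Y' hv)
      obtain ⟨hWnd, -, hWfr⟩ := hOrthSum F a₀ b₀ hab d H W' hHnd hW'.2.1 horth'
      refine ⟨H ⊔ W', sup_le hHY (hW'Y'.trans hY'Y), ⟨?_, hWnd, ?_⟩, ?_⟩
      · rw [hWfr, hHfr, hW'.1]
        omega
      · intro hp
        exact hW'.2.2 (hCancel F a₀ b₀ hab d H W' hHnd hW'.2.1 horth' hp hHplus)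
      · exact stab_sup _ H W' hHst hW'st

theorem main (hTop : Cfsg.Agent.Lib.Helper41.TMStmt.Top.{u})
    (hSubPerp : Cfsg.Agent.Lib.Helper41.TMStmt.SubPerp.{u})
    (hOrthSum : Cfsg.Agent.Lib.Helper41.TMStmt.OrthSum.{u})
    (hCancel : CancelM.{u}) (hSub : SubTypeE.{u}) : C2Fix.{u} := by
  intro F _ _ a₀ b₀ hab _ d m hd hm2 hme hmd hcond x hx hxx
  obtain ⟨hTnd, hTnp⟩ := hTop F a₀ b₀ hab d
  have hfr : Module.finrank F ↥(⊤ : Submodule F (M d → F)) = 2 * d := by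
    rw [finrank_top, Module.finrank_pi]
    simp only [Fintype.card_sum, Fintype.card_fin]
    omega
  obtain ⟨W, -, hW, hWst⟩ := cprime hSubPerp hOrthSum hCancel hSub F a₀ b₀ hab d x hx hxx d ⊤
    hTnd hTnp (fun _ _ => Submodule.mem_top) hfr m hme hm2 (by omega)
    (by
      rcases hcond with h | h
      · exact Or.inr h
      · exact Or.inl h)
  exact ⟨W, hW, hWst⟩

end Cfsg.Agent.Lib.Helper81.EMC2FIX
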