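import Mathlib
import Cfsg.Agent.Lib.Helper80.FTStmt

/-!
# S3999 / SYLTR (second seat): a normal Sylow `p`-subgroup is visible in the order type
-/

set_option autoImplicit false

universe u v

namespace Cfsg.Agent.Lib.Helper81.FTSYLTR

open Cfsg.Agent.Lib.Helper80.FTStmt

theorem main : SylTr.{u, v} := by
  intro F G _ _ _ _ e he p _ hP
  obtain ⟨P, hP⟩ := hP
  have hSF : {x : F | ∃ n : ℕ, orderOf x = p ^ n} = (P : Set F) := by
    ext x
    constructor
    · rintro ⟨n, hn⟩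
      have hpg : IsPGroup p (Subgroup.zpowers x) := by
        apply IsPGroup.of_card (n := n)
        rw [Nat.card_zpowers, hn]
      obtain ⟨Q, hQ⟩ := hpg.exists_le_sylow
      have hQP : Q = P := by
        have := Sylow.unique_of_normal P hP
        exact Subsingleton.elim _ _
      rw [hQP] at hQ
      exact hQ (Subgroup.mem_zpowers x)
    · intro hx
      obtain ⟨n, hn⟩ := (IsPGroup.iff_orderOf.mp P.isPGroup') ⟨x, hx⟩
      exact ⟨n, by rw [← hn, Subgroup.orderOf_mk]⟩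
  have hcard : Nat.card G = Nat.card F := (Nat.card_congr e).symm
  obtain ⟨Q⟩ : Nonempty (Sylow p G) := inferInstance
  have hQsub : (Q : Set G) ⊆ {y : G | ∃ n : ℕ, orderOf y = p ^ n} := by
    intro y hy
    obtain ⟨n, hn⟩ := (IsPGroup.iff_orderOf.mp Q.isPGroup') ⟨y, hy⟩
    exact ⟨n, by rw [← hn, Subgroup.orderOf_mk]⟩
  have hSG : {y : G | ∃ n : ℕ, orderOf y = p ^ n}
      = e '' {x : F | ∃ n : ℕ, orderOf x = p ^ n} := by
    ext y
    constructor
    · rintro ⟨n, hn⟩
      refine ⟨e.symm y, ⟨n, ?_⟩, e.apply_symm_apply y⟩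
      rw [← he, e.apply_symm_apply, hn]
    · rintro ⟨x, ⟨n, hn⟩, rfl⟩
      exact ⟨n, by rw [he, hn]⟩
  have hPc : Set.ncard (P : Set F) = Nat.card (P : Subgroup F) := by
    rw [← Nat.card_coe_set_eq]; rfl
  have hQc : Set.ncard (Q : Set G) = Nat.card (Q : Subgroup G) := by
    rw [← Nat.card_coe_set_eq]; rfl
  have hncard : Set.ncard {y : G | ∃ n : ℕ, orderOf y = p ^ n}
      = Nat.card (Q : Subgroup G) := by
    rw [hSG, Set.ncard_image_of_injective _ e.injective, hSF, hPc,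
      Q.card_eq_multiplicity, hcard, ← P.card_eq_multiplicity]
  have hQeq : (Q : Set G) = {y : G | ∃ n : ℕ, orderOf y = p ^ n} := by
    apply Set.eq_of_subset_of_ncard_le hQsub _ (Set.toFinite _)
    rw [hncard, hQc]
  refine ⟨Q, ⟨fun y hy g => ?_⟩⟩
  have hy' : y ∈ (Q : Set G) := hy
  rw [hQeq] at hy'
  obtain ⟨n, hn⟩ := hy'
  have hmem : g * y * g⁻¹ ∈ (Q : Set G) := by
    rw [hQeq]
    refine ⟨n, ?_⟩
    have h1 : orderOf (MulAut.conj g y) = orderOf y := MulEquiv.orderOf_eq (MulAut.conj g) y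
    rw [MulAut.conj_apply] at h1
    rw [h1, hn]
  exact hmem

end Cfsg.Agent.Lib.Helper81.FTSYLTR
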