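import Mathlib
import Cfsg.Agent.Lib.Helper94.OMiPStmt
import Cfsg.Agent.Lib.Helper44.QSpace
import Cfsg.Agent.Lib.Helper44.NegPairs

/-!
# S5991 piece MUNIQ: the type `β` of a nondegenerate odd-dimensional subspace is unique modulo
squares

No Witt extension needed: if `U ⊇ S, S'` (totally singular of dimension `k`, `dim U = 2k + 1`),
`w ⊥ S`, `w' ⊥ S'`, then `S^⊥ = S ⊕ ⟨w⟩`, `S'^⊥ = S' ⊕ ⟨w'⟩` and `(S + S')^⊥` has dimension
`dim (S ∩ S') + 1`, so it contains `v ∉ S ∩ S'`; `v = s + c w = s' + c' w'` with `c ≠ 0` and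
`Q v = c² β = c'² β'`.
-/

set_option autoImplicit false

namespace Cfsg.Agent.Lib.Helper81.MUNIQ

open Module QuadraticMap
open Cfsg.Agent.Lib.Helper44.QSpace Cfsg.Agent.Lib.Helper44.NegPairs
open Cfsg.Agent.Lib.Helper94.OMiPStmt

universe u

theorem uniq_core {F : Type*} [Field F] {V : Type*} [AddCommGroup V] [Module F V]
    [FiniteDimensional F V] (Q : QuadraticForm F V) (hS : Sep Q) (k : ℕ)
    (hdim : finrank F V = 2 * k + 1) (S S' : Submodule F V) (hS0 : ∀ s ∈ S, Q s = 0)
    (hS0' : ∀ s ∈ S', Q s = 0) (hk : finrank F S = k) (hk' : finrank F S' = k) (w w' : V)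
    (hw : ∀ s ∈ S, polar Q s w = 0) (hw' : ∀ s ∈ S', polar Q s w' = 0) (β β' : F)
    (hβ : Q w = β) (hβ' : Q w' = β') (hβ'0 : β' ≠ 0) : ∃ c : F, β = c * c * β' := by
  by_cases hβ0 : β = 0
  · exact ⟨0, by rw [hβ0]; ring⟩
  have hB := nondegenerate_of_sep hS
  have key : ∀ (T : Submodule F V) (u : V) (γ : F), (∀ s ∈ T, Q s = 0) → finrank F T = k →
      (∀ s ∈ T, polar Q s u = 0) → Q u = γ → γ ≠ 0 →
      ∀ v ∈ LinearMap.BilinForm.orthogonal (polarBilin Q) T, ∃ s ∈ T, ∃ c : F, v = s + c • u := by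
    intro T u γ hT0 hTk hu hQu hγ v hv
    have hle : T ⊔ Submodule.span F {u} ≤ LinearMap.BilinForm.orthogonal (polarBilin Q) T := by
      rw [sup_le_iff]
      constructor
      · intro x hx
        rw [LinearMap.BilinForm.mem_orthogonal_iff]
        intro n hn
        show polar Q n x = 0
        unfold polar
        rw [hT0 _ (T.add_mem hn hx), hT0 n hn, hT0 x hx]; ring
      · rw [Submodule.span_le]
        intro x hx
        rw [Set.mem_singleton_iff] at hx
        subst hx
        intro n hn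
        exact hu n hn
    have hfo := LinearMap.BilinForm.finrank_orthogonal hB T
    have hlt : finrank F T < finrank F (T ⊔ Submodule.span F {u} : Submodule F V) := by
      apply Submodule.finrank_lt_finrank_of_lt
      rw [lt_iff_le_and_ne]
      refine ⟨le_sup_left, fun h => ?_⟩
      have hu' : u ∈ T := by
        rw [h]; exact Submodule.mem_sup_right (Submodule.mem_span_singleton_self u)
      exact hγ (by rw [← hQu]; exact hT0 u hu')
    have heq : T ⊔ Submodule.span F {u} = LinearMap.BilinForm.orthogonal (polarBilin Q) T := by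
      apply Submodule.eq_of_le_of_finrank_le hle
      have := Submodule.finrank_mono hle
      omega
    rw [← heq, Submodule.mem_sup] at hv
    obtain ⟨s, hs, y, hy, rfl⟩ := hv
    obtain ⟨c, rfl⟩ := Submodule.mem_span_singleton.mp hy
    exact ⟨s, hs, c, rfl⟩
  have hfo := LinearMap.BilinForm.finrank_orthogonal hB (S ⊔ S')
  have hsi := Submodule.finrank_sup_add_finrank_inf_eq S S'
  obtain ⟨v, hv, hvn⟩ : ∃ v ∈ LinearMap.BilinForm.orthogonal (polarBilin Q) (S ⊔ S'), v ∉ S ⊓ S' := by
    by_contra hcon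
    push Not at hcon
    have hle : LinearMap.BilinForm.orthogonal (polarBilin Q) (S ⊔ S') ≤ S ⊓ S' := hcon
    have h0 := Submodule.finrank_mono hle
    have h1 := Submodule.finrank_le (S ⊔ S')
    omega
  obtain ⟨s, hs, c, hvc⟩ := key S w β hS0 hk hw hβ hβ0 v
    (LinearMap.BilinForm.orthogonal_le le_sup_left hv)
  obtain ⟨s', hs', c', hvc'⟩ := key S' w' β' hS0' hk' hw' hβ' hβ'0 v
    (LinearMap.BilinForm.orthogonal_le le_sup_right hv)
  have hQ1 : Q v = c * c * β := by
    rw [hvc, q_add, q_smul, polar_smul_r, hS0 s hs, hw s hs, hβ]; ring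
  have hQ2 : Q v = c' * c' * β' := by
    rw [hvc', q_add, q_smul, polar_smul_r, hS0' s' hs', hw' s' hs', hβ']; ring
  have hc : c ≠ 0 := by
    rintro rfl
    rw [zero_mul, zero_mul] at hQ1
    rw [hQ1] at hQ2
    have hc' : c' = 0 := by
      rcases mul_eq_zero.mp hQ2.symm with h | h
      · exact mul_self_eq_zero.mp h
      · exact absurd h hβ'0
    apply hvn
    rw [Submodule.mem_inf]
    constructor
    · rw [hvc, zero_smul, add_zero]; exact hs
    · rw [hvc', hc', zero_smul, add_zero]; exact hs'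
  refine ⟨c' / c, ?_⟩
  have h : c * c * β = c' * c' * β' := by rw [← hQ1, hQ2]
  field_simp
  linear_combination h

theorem main : MUniq.{u} := by
  intro F _ _ hodd d hd a b hab U hU β β' hβ' hT hT'
  classical
  obtain ⟨S, hSU, hS0, hSdim, w, hwU, hwS, hQw⟩ := hT
  obtain ⟨S', hSU', hS0', hSdim', w', hwU', hwS', hQw'⟩ := hT'
  obtain ⟨Q', hQ', hpol'⟩ : ∃ Q' : QuadraticForm F ↥U,
      (∀ u : U, Q' u = Cfsg.quadFormMinus (d - 1) F a b (u : Mi d → F)) ∧
      (∀ u v : U, polar Q' u v
        = polar (Cfsg.quadFormMinus (d - 1) F a b) (u : Mi d → F) (v : Mi d → F)) :=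
    ⟨(minusQ (d - 1) F a b).comp U.subtype, fun u => rfl, fun u v => rfl⟩
  have hSep : Sep Q' := by
    intro x hx
    by_contra hx0
    have hxne : (x : Mi d → F) ≠ 0 := fun h => hx0 (Subtype.ext h)
    obtain ⟨-, y, hy, hne⟩ := hU (x : Mi d → F) x.2 hxne
    apply hne
    rw [← hpol' x ⟨y, hy⟩]
    exact hx ⟨y, hy⟩
  have hdim : finrank F U = 2 * finrank F S + 1 := hSdim.symm
  have hkS' : finrank F S' = finrank F S := by omega
  have hc1 : finrank F (S.comap U.subtype) = finrank F S := by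
    rw [← Submodule.finrank_map_subtype_eq U (S.comap U.subtype), Submodule.map_comap_subtype,
      inf_eq_right.mpr hSU]
  have hc2 : finrank F (S'.comap U.subtype) = finrank F S := by
    rw [← Submodule.finrank_map_subtype_eq U (S'.comap U.subtype), Submodule.map_comap_subtype,
      inf_eq_right.mpr hSU', hkS']
  exact uniq_core Q' hSep (finrank F S) hdim (S.comap U.subtype) (S'.comap U.subtype)
    (fun s hs => by rw [hQ']; exact hS0 _ hs) (fun s hs => by rw [hQ']; exact hS0' _ hs) hc1 hc2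
    ⟨w, hwU⟩ ⟨w', hwU'⟩ (fun s hs => by rw [hpol']; exact hwS _ hs)
    (fun s hs => by rw [hpol']; exact hwS' _ hs) β β' (by rw [hQ']; exact hQw)
    (by rw [hQ']; exact hQw') hβ'

end Cfsg.Agent.Lib.Helper81.MUNIQ
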