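import Mathlib
import Cfsg.Agent.Lib.Helper68.MixStmt
import Cfsg.Agent.S1229

/-!
# S4017 piece A1T: sharp 3-transitivity on `G ⧸ N` in Case A with `C = Q`
-/

set_option autoImplicit false

namespace Cfsg.Agent.Lib.Helper81.MixA1T

open Cfsg.Agent.Lib.Helper68.MixStmt Subgroup

universe u

theorem main (hEXP : EXP.{u}) (hNTOP : NTOP.{u}) (hINVN : INVN.{u}) (hINVCONJ : INVCONJ.{u})
    (hNCENT : NCENT.{u}) : A1T.{u} := by
  intro G _ _ p a Q y c hA hCp
  classical
  have : Fact (Nat.Prime 2) := ⟨Nat.prime_two⟩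
  have hexp := hEXP G p a Q y c
  have hntop := hNTOP G p a Q y c
  have hinvn := hINVN G p a Q y c
  have hinvconj := hINVCONJ G p a Q y c
  have hncent := hNCENT G p a Q y c
  have hQN : Q ≤ normalizer (Q : Set G) := Subgroup.le_normalizer
  have h4 : 4 ≤ 2 ^ a := by
    calc 4 = 2 ^ 2 := by norm_num
      _ ≤ 2 ^ a := Nat.pow_le_pow_right (by norm_num) c.ha
  have h2N : 2 ∣ Nat.card (normalizer (Q : Set G)) := by
    have h1 : Nat.card Q ∣ Nat.card (normalizer (Q : Set G)) := Subgroup.card_dvd_of_le hQN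
    rw [c.hQ] at h1
    exact dvd_trans (dvd_pow_self 2 (by have := c.ha; omega)) h1
  have hpqN : PQNum p 2 (Nat.card (normalizer (Q : Set G))) := c.hE _ hntop h2N
  -- C ≤ Q
  have hCQ : ∀ x ∈ centralizer (Q : Set G), x ∈ Q := by
    intro x hx
    have hxN : x ∈ normalizer (Q : Set G) := Subgroup.centralizer_le_normalizer (Q : Set G) hx
    have hox : orderOf x ∣ Nat.card (normalizer (Q : Set G)) := by
      have := orderOf_dvd_natCard (⟨x, hxN⟩ : normalizer (Q : Set G))
      rwa [Subgroup.orderOf_mk] at this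
    have hpos : orderOf x ≠ 0 := (orderOf_pos x).ne'
    have hpow : orderOf x = 2 ^ (orderOf x).primeFactorsList.length := by
      apply Nat.eq_prime_pow_of_unique_prime_dvd hpos
      intro r hr hrd
      rcases hpqN r hr (dvd_trans hrd hox) with h | h
      · exfalso
        subst h
        have h1 : orderOf (x ^ (orderOf x / r)) = r := orderOf_pow_orderOf_div hpos hrd
        have h2 : x ^ (orderOf x / r) = 1 :=
          hCp _ (Subgroup.pow_mem _ hx _) ⟨1, by rw [h1, pow_one]⟩
        rw [h2, orderOf_one] at h1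
        exact hr.one_lt.ne h1
      · exact h
    exact hinvn x hxN ⟨_, hpow⟩
  let T : Sylow 2 G := Sylow.ofCard Q (by rw [c.hQ, c.hfac])
  have hnc : ¬ IsCyclic (T : Subgroup G) := by
    intro hcyc
    change IsCyclic Q at hcyc
    obtain ⟨g, hg⟩ := hcyc.exists_generator
    have h1 : orderOf g = Nat.card Q := orderOf_eq_card_of_forall_mem_zpowers hg
    have h2 : g ^ 2 = 1 := by
      apply Subtype.ext
      have := hexp g.1 g.2
      simpa [pow_two] using this
    have h3 : orderOf g ∣ 2 := orderOf_dvd_of_pow_eq_one h2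
    have h4' := Nat.le_of_dvd (by norm_num) h3
    rw [h1, c.hQ] at h4'
    omega
  have hnn : ¬ (T : Subgroup G).Normal := by
    intro hn
    change Q.Normal at hn
    exact hntop (Subgroup.normalizer_eq_top_iff.mpr hn)
  have hC : ∀ t : G, orderOf t = 2 →
      IsMulCommutative (Subgroup.centralizer ({t} : Set G)) ∧
        ∀ c' ∈ Subgroup.centralizer ({t} : Set G), c' ^ 2 = 1 := by
    intro t ht
    have ht1 : t ≠ 1 := by
      intro h; rw [h, orderOf_one] at ht; omega
    obtain ⟨g, hg⟩ := hinvconj t ht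
    have hg1 : g * t * g⁻¹ ≠ 1 := by
      intro h
      apply ht1
      have : t = g⁻¹ * (g * t * g⁻¹) * g := by group
      rw [this, h]; group
    have hsq : ∀ c' ∈ Subgroup.centralizer ({t} : Set G), c' ^ 2 = 1 := by
      intro c' hc'
      have hcomm : t * c' = c' * t := by
        rw [Subgroup.mem_centralizer_iff] at hc'
        exact hc' t (Set.mem_singleton t)
      have h1 : g * c' * g⁻¹ ∈ centralizer ({g * t * g⁻¹} : Set G) := by
        rw [Subgroup.mem_centralizer_iff]
        intro z hz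
        rw [Set.mem_singleton_iff] at hz
        subst hz
        calc g * t * g⁻¹ * (g * c' * g⁻¹) = g * (t * c') * g⁻¹ := by group
          _ = g * (c' * t) * g⁻¹ := by rw [hcomm]
          _ = g * c' * g⁻¹ * (g * t * g⁻¹) := by group
      have h2 : g * c' * g⁻¹ ∈ normalizer (Q : Set G) := hA _ hg hg1 h1
      have h3 : g * c' * g⁻¹ ∈ centralizer (Q : Set G) := by
        apply hncent _ h2 _ hg hg1
        rw [Subgroup.mem_centralizer_iff] at h1
        exact (h1 _ (Set.mem_singleton _)).symm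
      have h4 := hexp _ (hCQ _ h3)
      have : c' * c' = g⁻¹ * ((g * c' * g⁻¹) * (g * c' * g⁻¹)) * g := by group
      rw [pow_two, this, h4]; group
    refine ⟨⟨⟨fun x z => ?_⟩⟩, hsq⟩
    apply Subtype.ext
    have hx := hsq x.1 x.2
    have hz := hsq z.1 z.2
    have hxz := hsq (x.1 * z.1) (Subgroup.mul_mem _ x.2 z.2)
    show x.1 * z.1 = z.1 * x.1
    have hxi : x.1⁻¹ = x.1 := by
      rw [inv_eq_iff_mul_eq_one, ← pow_two]; exact hx
    have hzi : z.1⁻¹ = z.1 := by
      rw [inv_eq_iff_mul_eq_one, ← pow_two]; exact hz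
    have : x.1 * z.1 = (x.1 * z.1)⁻¹ := by
      rw [eq_comm, inv_eq_iff_mul_eq_one, ← pow_two]; exact hxz
    rw [this, mul_inv_rev, hxi, hzi]
  obtain ⟨h3t, hsharp, hreg⟩ := Cfsg.Agent.S1229.result T hnc hnn hC
  refine ⟨⟨h3t, hsharp⟩, ?_⟩
  -- the cardinality
  obtain ⟨g, hg⟩ : ∃ g : G, g ∉ normalizer (Q : Set G) := by
    by_contra h
    push Not at h
    exact hntop (eq_top_iff.mpr fun x _ => h x)
  have hx0 : (QuotientGroup.mk g : G ⧸ normalizer (Q : Set G)) ≠ QuotientGroup.mk 1 := by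
    intro h
    apply hg
    rw [QuotientGroup.eq] at h
    simpa using h
  have hfix : ∀ t ∈ Q, t • (QuotientGroup.mk 1 : G ⧸ normalizer (Q : Set G)) =
      QuotientGroup.mk 1 := by
    intro t ht
    rw [MulAction.Quotient.smul_mk, QuotientGroup.eq]
    simpa using hQN ht
  have hne : ∀ t ∈ Q, t • (QuotientGroup.mk g : G ⧸ normalizer (Q : Set G)) ≠
      QuotientGroup.mk 1 := by
    intro t ht h
    apply hx0
    have := congrArg (fun z => t⁻¹ • z) h
    simp only [inv_smul_smul] at this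
    rw [this]; exact hfix _ (Q.inv_mem ht)
  have hbij : Function.Bijective (fun t : Q =>
      (⟨t.1 • (QuotientGroup.mk g : G ⧸ normalizer (Q : Set G)), hne t.1 t.2⟩ :
        {x : G ⧸ normalizer (Q : Set G) // x ≠ QuotientGroup.mk 1})) := by
    constructor
    · intro t₁ t₂ h
      have h' : t₁.1 • (QuotientGroup.mk g : G ⧸ normalizer (Q : Set G)) =
          t₂.1 • (QuotientGroup.mk g : G ⧸ normalizer (Q : Set G)) := congrArg Subtype.val h
      obtain ⟨t, -, huniq⟩ := hreg _ _ hx0 (hne t₂.1 t₂.2)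
      have e1 := huniq t₁.1 ⟨t₁.2, h'⟩
      have e2 := huniq t₂.1 ⟨t₂.2, rfl⟩
      exact Subtype.ext (e1.trans e2.symm)
    · rintro ⟨z, hz⟩
      obtain ⟨t, ⟨htT, htz⟩, -⟩ := hreg _ _ hx0 hz
      exact ⟨⟨t, htT⟩, Subtype.ext htz⟩
  have hcard1 : Nat.card Q =
      Nat.card {x : G ⧸ normalizer (Q : Set G) // x ≠ QuotientGroup.mk 1} :=
    Nat.card_eq_of_bijective _ hbij
  have hcard2 : Nat.card (G ⧸ normalizer (Q : Set G)) =
      Nat.card {x : G ⧸ normalizer (Q : Set G) // x ≠ QuotientGroup.mk 1} + 1 := by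
    rw [← Nat.card_congr (Equiv.optionSubtypeNe (QuotientGroup.mk 1 : G ⧸ normalizer (Q : Set G))),
      Finite.card_option]
  rw [hcard2, ← hcard1, c.hQ]

end Cfsg.Agent.Lib.Helper81.MixA1T
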