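import Mathlib
import Cfsg.Agent.Lib.Helper68.MixStmt
import Cfsg.Agent.S4018

/-!
# S4017 piece BFIN: the final contradiction of Case B (`a = 2`, `p = 3`) via S4018
-/

set_option autoImplicit false

namespace Cfsg.Agent.Lib.Helper81.MixBFIN

open Cfsg.Agent.Lib.Helper68.MixStmt Subgroup

universe u

variable {G : Type u} [Group G]

theorem mem_inv_smul_sylow {p : ℕ} (V : Sylow p G) (g x : G) :
    x ∈ ((g⁻¹ • V : Sylow p G) : Subgroup G) ↔ g * x * g⁻¹ ∈ (V : Subgroup G) := by
  rw [Sylow.coe_subgroup_smul, Subgroup.mem_pointwise_smul_iff_inv_smul_mem, ← map_inv, inv_inv,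
    MulAut.smul_def, MulAut.conj_apply]

theorem mem_normalizer_of_conj_subset [Finite G] {W : Subgroup G} {g : G}
    (hsub : ∀ v ∈ W, g * v * g⁻¹ ∈ W) : g ∈ normalizer (W : Set G) := by
  rw [mem_normalizer_iff]
  intro n
  refine ⟨fun hn => hsub n hn, fun hn => ?_⟩
  let f : W → W := fun v => ⟨g * v.1 * g⁻¹, hsub v.1 v.2⟩
  have hinj : Function.Injective f := by
    intro a b hab
    have h := congrArg Subtype.val hab
    simp only [f] at h
    exact Subtype.ext (by simpa using h)
  have hsurj : Function.Surjective f := Finite.injective_iff_surjective.mp hinj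
  obtain ⟨v, hv⟩ := hsurj ⟨g * n * g⁻¹, hn⟩
  have h := congrArg Subtype.val hv
  simp only [f] at h
  have hvn : v.1 = n := by simpa using h
  have hv2 : v.1 ∈ W := v.2
  rw [hvn] at hv2
  exact hv2

theorem main : BFIN.{u} := by
  intro G _ _ p Q y c t₀ ht₀Q ht₀1 V hVD hStar hcent hinv
  classical
  have hp3 : p = 3 := by
    have := c.hpa
    norm_num at this
    omega
  subst hp3
  have : Fact (Nat.Prime 3) := ⟨Nat.prime_three⟩
  obtain ⟨hQV, hNV, hV3, v₁, hv₁V, hv₁1, hv₁t⟩ := hVD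
  set W : Subgroup G := (V : Subgroup G) with hW
  have hWcard : Nat.card W = 3 ^ (Nat.card G).factorization 3 := V.card_eq_multiplicity
  have hWpos : 0 < Nat.card W := Nat.card_pos
  have hWord : ∀ v ∈ W, orderOf v ∣ 3 ^ (Nat.card G).factorization 3 := by
    intro v hv
    have := orderOf_dvd_natCard (⟨v, hv⟩ : W)
    rwa [Subgroup.orderOf_mk, hWcard] at this
  have hO : ∀ v ∈ W, v ^ 4 = 1 → v = 1 := by
    intro v hv h4
    have h1 : orderOf v ∣ 4 := orderOf_dvd_of_pow_eq_one h4
    have h2 := hWord v hv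
    have h3 : orderOf v ∣ Nat.gcd 4 (3 ^ (Nat.card G).factorization 3) := Nat.dvd_gcd h1 h2
    have h4' : Nat.gcd 4 (3 ^ (Nat.card G).factorization 3) = 1 :=
      Nat.Coprime.pow_right _ (by norm_num)
    rw [h4'] at h3
    exact orderOf_eq_one_iff.mp (Nat.dvd_one.mp h3)
  have hO2 : ∀ v ∈ W, v * v = 1 → v = 1 := by
    intro v hv h
    apply hO v hv
    have : v ^ 4 = (v * v) * (v * v) := by
      rw [show (4 : ℕ) = 2 + 2 from rfl, pow_add, pow_two]
    rw [this, h, one_mul]
  have hWP : ∀ v ∈ W, IsPElt 3 v := by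
    intro v hv
    obtain ⟨k, -, hk⟩ := (Nat.dvd_prime_pow Nat.prime_three).mp (hWord v hv)
    exact ⟨k, hk⟩
  have hWcomm : ∀ v ∈ W, ∀ w ∈ W, v * w = w * v := by
    intro v hv w hw
    have := (c.hab V).is_comm.comm ⟨v, hv⟩ ⟨w, hw⟩
    exact congrArg Subtype.val this
  have ht₀4 : t₀ ^ 4 = 1 := by
    have h1 := pow_card_eq_one' (G := Q) (x := ⟨t₀, ht₀Q⟩)
    rw [c.hQ] at h1
    have h := congrArg Subtype.val h1
    simpa using h
  set C : Subgroup G := centralizer (W : Set G) with hCdef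
  have hWC : W ≤ C := by
    intro v hv
    rw [hCdef, Subgroup.mem_centralizer_iff]
    intro w hw
    exact hWcomm w hw v hv
  have hCN : C ≤ normalizer (W : Set G) := Subgroup.centralizer_le_normalizer (W : Set G)
  have ht₀C : t₀ ∈ C := by
    rw [hCdef, Subgroup.mem_centralizer_iff]
    intro w hw
    exact (hcent w hw).symm
  have ht₀W : t₀ ∉ W := fun h => ht₀1 (hO t₀ h ht₀4)
  obtain ⟨s, hsQ, hs1, hst⟩ : ∃ s ∈ Q, s ≠ 1 ∧ s ≠ t₀ := by
    by_contra hcon
    push Not at hcon
    have hsub : (Q : Set G) ⊆ {1, t₀} := by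
      intro s hs
      by_cases h1 : s = 1
      · left; exact h1
      · right; exact hcon s hs h1
    have h1 : (Q : Set G).ncard ≤ ({1, t₀} : Set G).ncard :=
      Set.ncard_le_ncard hsub (Set.toFinite _)
    have h2 : ({1, t₀} : Set G).ncard ≤ 2 := by
      have := Set.ncard_insert_le (1 : G) ({t₀} : Set G)
      rw [Set.ncard_singleton] at this
      exact this
    have h3 : Nat.card Q = (Q : Set G).ncard := Nat.card_coe_set_eq (Q : Set G)
    rw [c.hQ] at h3
    omega
  have hsN : s ∈ normalizer (W : Set G) := hQV hsQ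
  have hsC : s ∉ C := by
    intro h
    rw [hCdef, Subgroup.mem_centralizer_iff] at h
    have h1 := h v₁ hv₁V
    have h2 := hinv s hsQ hs1 hst v₁ hv₁V
    apply hv₁1
    apply hO2 v₁ hv₁V
    have h3 : s * v₁ * s⁻¹ = v₁ := by rw [← h1]; group
    rw [h3] at h2
    calc v₁ * v₁ = v₁ * v₁⁻¹ := by rw [← h2]
      _ = 1 := mul_inv_cancel v₁
  have hNcard : Nat.card (normalizer (W : Set G)) = 4 * Nat.card W := by
    have : Nat.card (normalizer (W : Set G)) = 2 ^ 2 * Nat.card W := hNV
    rw [this]; norm_num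
  have hCcard : Nat.card C = 2 * Nat.card W := by
    obtain ⟨k, hk⟩ := Subgroup.card_dvd_of_le hWC
    have hdvd : Nat.card C ∣ Nat.card (normalizer (W : Set G)) := Subgroup.card_dvd_of_le hCN
    rw [hNcard, hk, mul_comm 4] at hdvd
    have hk4 : k ∣ 4 := Nat.dvd_of_mul_dvd_mul_left hWpos hdvd
    have hkle : k ≤ 4 := Nat.le_of_dvd (by norm_num) hk4
    interval_cases k
    · simp at hk4
    · exfalso
      have : W = C := Subgroup.eq_of_le_of_card_ge hWC (by rw [hk, mul_one])
      exact ht₀W (this ▸ ht₀C)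
    · rw [hk, mul_comm]
    · norm_num at hk4
    · exfalso
      have : C = normalizer (W : Set G) :=
        Subgroup.eq_of_le_of_card_ge hCN (by rw [hNcard, hk, mul_comm])
      exact hsC (this ▸ hsN)
  have hidx : (W.subgroupOf C).index = 2 := by
    have h1 := Subgroup.card_mul_index (W.subgroupOf C)
    have h2 : Nat.card (W.subgroupOf C) = Nat.card W :=
      Nat.card_congr (Subgroup.subgroupOfEquivOfLe hWC).toEquiv
    rw [h2, hCcard, mul_comm 2] at h1
    exact Nat.eq_of_mul_eq_mul_left hWpos h1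
  have hF1 : ∀ x ∈ C, x * x ∈ W := by
    intro x hx
    have := (Subgroup.mul_mem_iff_of_index_two hidx (a := ⟨x, hx⟩) (b := ⟨x, hx⟩)).mpr Iff.rfl
    exact Subgroup.mem_subgroupOf.mp this
  have hF2 : ∀ x ∈ C, x ∉ W → x * t₀ ∈ W := by
    intro x hx hxW
    have := (Subgroup.mul_mem_iff_of_index_two hidx (a := ⟨x, hx⟩) (b := ⟨t₀, ht₀C⟩)).mpr
      ⟨fun h => absurd (Subgroup.mem_subgroupOf.mp h) hxW,
       fun h => absurd (Subgroup.mem_subgroupOf.mp h) ht₀W⟩
    exact Subgroup.mem_subgroupOf.mp this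
  have ht₀2 : t₀ * t₀ = 1 := by
    apply hO _ (hF1 t₀ ht₀C)
    have : (t₀ * t₀) ^ 4 = (t₀ ^ 4) * (t₀ ^ 4) := by
      rw [← pow_two, ← pow_mul, ← pow_add]
    rw [this, ht₀4, one_mul]
  have ht₀ord : orderOf t₀ = 2 := orderOf_eq_prime (by rw [pow_two]; exact ht₀2) ht₀1
  have hF3 : ∀ x ∈ C, x * x = 1 → x ≠ 1 → x = t₀ := by
    intro x hx hxx hx1
    have hxW : x ∉ W := fun h => hx1 (hO2 x h hxx)
    have hv := hF2 x hx hxW
    have hcomm : t₀ * (x * t₀) = (x * t₀) * t₀ := hcent _ hv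
    have hcomm' : t₀ * x = x * t₀ := by
      calc t₀ * x = t₀ * (x * t₀) * t₀⁻¹ := by group
        _ = (x * t₀) * t₀ * t₀⁻¹ := by rw [hcomm]
        _ = x * t₀ := by group
    have hvv : (x * t₀) * (x * t₀) = 1 := by
      calc (x * t₀) * (x * t₀) = x * (t₀ * x) * t₀ := by group
        _ = x * (x * t₀) * t₀ := by rw [hcomm']
        _ = (x * x) * (t₀ * t₀) := by group
        _ = 1 := by rw [hxx, ht₀2, one_mul]
    have h1 := hO2 _ hv hvv
    have h2 : x = t₀⁻¹ := eq_inv_of_mul_eq_one_left h1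
    rw [h2]
    exact inv_eq_of_mul_eq_one_left ht₀2
  have hNVC : ∀ g ∈ normalizer (W : Set G), g ∈ normalizer (C : Set G) := by
    intro g hg
    rw [mem_normalizer_iff] at hg ⊢
    intro n
    constructor
    · intro hn
      have hn' : ∀ h ∈ (W : Set G), h * n = n * h := Subgroup.mem_centralizer_iff.mp hn
      show g * n * g⁻¹ ∈ centralizer (W : Set G)
      rw [Subgroup.mem_centralizer_iff]
      intro h hh
      have h1 : g⁻¹ * h * g ∈ (W : Set G) := by
        refine (hg (g⁻¹ * h * g)).mpr ?_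
        have : g * (g⁻¹ * h * g) * g⁻¹ = h := by group
        rw [this]; exact hh
      have h2 := hn' _ h1
      calc h * (g * n * g⁻¹) = g * ((g⁻¹ * h * g) * n) * g⁻¹ := by group
        _ = g * (n * (g⁻¹ * h * g)) * g⁻¹ := by rw [h2]
        _ = g * n * g⁻¹ * h := by group
    · intro hn
      have hn' : ∀ h ∈ (W : Set G), h * (g * n * g⁻¹) = (g * n * g⁻¹) * h :=
        Subgroup.mem_centralizer_iff.mp hn
      show n ∈ centralizer (W : Set G)
      rw [Subgroup.mem_centralizer_iff]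
      intro h hh
      have h1 : g * h * g⁻¹ ∈ (W : Set G) := (hg h).mp hh
      have h2 := hn' _ h1
      calc h * n = g⁻¹ * ((g * h * g⁻¹) * (g * n * g⁻¹)) * g := by group
        _ = g⁻¹ * ((g * n * g⁻¹) * (g * h * g⁻¹)) * g := by rw [h2]
        _ = n * h := by group
  have hTI : Cfsg.IsTISubset (centralizer (V : Set G) : Set G) := by
    intro g hg x hx hgx
    by_contra hx1
    apply hg
    suffices hgW : g ∈ normalizer (W : Set G) from hNVC g hgW
    have hxC : x ∈ C := hx
    have hgxC : g * x * g⁻¹ ∈ C := hgx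
    apply mem_normalizer_of_conj_subset
    by_cases hxx : x * x = 1
    · have hxt : x = t₀ := hF3 x hxC hxx hx1
      have hgx1 : g * x * g⁻¹ ≠ 1 := by
        intro h
        apply hx1
        have : x = g⁻¹ * (g * x * g⁻¹) * g := by group
        rw [this, h]; group
      have hgxx : (g * x * g⁻¹) * (g * x * g⁻¹) = 1 := by
        have : (g * x * g⁻¹) * (g * x * g⁻¹) = g * (x * x) * g⁻¹ := by group
        rw [this, hxx]; group
      have hgt : g * x * g⁻¹ = t₀ := hF3 _ hgxC hgxx hgx1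
      rw [hxt] at hgt
      intro v hv
      apply hV3
      · have h1 : v * t₀ = t₀ * v := (hcent v hv).symm
        calc g * v * g⁻¹ * t₀ = g * v * g⁻¹ * (g * t₀ * g⁻¹) := by rw [hgt]
          _ = g * (v * t₀) * g⁻¹ := by group
          _ = g * (t₀ * v) * g⁻¹ := by rw [h1]
          _ = (g * t₀ * g⁻¹) * (g * v * g⁻¹) := by group
          _ = t₀ * (g * v * g⁻¹) := by rw [hgt]
      · obtain ⟨k, hk⟩ := hWP v hv
        refine ⟨k, ?_⟩
        rw [← hk]
        exact (MulAut.conj g).orderOf_eq v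
    · have he : x * x ∈ W := hF1 x hxC
      have hge : g * (x * x) * g⁻¹ ∈ W := by
        have h1 := hF1 _ hgxC
        have h2 : g * (x * x) * g⁻¹ = (g * x * g⁻¹) * (g * x * g⁻¹) := by group
        rw [h2]; exact h1
      have hcomm : (x * x) * t₀ = t₀ * (x * x) := (hcent _ he).symm
      have hEq : V = g⁻¹ • V :=
        hStar V (g⁻¹ • V) (x * x) t₀ he ((mem_inv_smul_sylow V g _).mpr hge) hxx ht₀ord hcomm
      intro v hv
      have h1 : v ∈ ((g⁻¹ • V : Sylow 3 G) : Subgroup G) := by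
        rw [← hEq]; exact hv
      exact (mem_inv_smul_sylow V g v).mp h1
  have heven : ∀ H : Subgroup G, H ≠ ⊤ → 2 ∣ Nat.card H → Nat.card H ∣ 4 * Nat.card V := by
    intro H hH h2
    have hpq := c.hE H hH h2
    have hG0 : Nat.card G ≠ 0 := Nat.card_pos.ne'
    have hHG : Nat.card H ∣ Nat.card G := Subgroup.card_subgroup_dvd_card H
    rw [Nat.dvd_iff_prime_pow_dvd_dvd]
    intro r k hr hrk
    rcases Nat.eq_zero_or_pos k with hk0 | hkpos
    · subst hk0; simp
    · have hrH : r ∣ Nat.card H := dvd_trans (dvd_pow_self r hkpos.ne') hrk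
      have hkG : r ^ k ∣ Nat.card G := dvd_trans hrk hHG
      rcases hpq r hr hrH with h | h
      · subst h
        have hle : k ≤ (Nat.card G).factorization 3 :=
          (Nat.prime_three.pow_dvd_iff_le_factorization hG0).mp hkG
        have h3 : 3 ^ k ∣ Nat.card W := by rw [hWcard]; exact pow_dvd_pow 3 hle
        exact dvd_mul_of_dvd_right h3 4
      · subst h
        have hle : k ≤ (Nat.card G).factorization 2 :=
          (Nat.prime_two.pow_dvd_iff_le_factorization hG0).mp hkG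
        rw [c.hfac] at hle
        have h4 : (2 : ℕ) ^ k ∣ 4 := by
          have h5 : (2 : ℕ) ^ k ∣ 2 ^ 2 := pow_dvd_pow 2 hle
          have h6 : (4 : ℕ) = 2 ^ 2 := by norm_num
          rw [h6]; exact h5
        exact dvd_mul_of_dvd_left h4 _
  exact Cfsg.Agent.S4018.result V (c.hab V) hNcard hCcard hTI heven

end Cfsg.Agent.Lib.Helper81.MixBFIN
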