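import Mathlib
import Cfsg.Agent.Lib.Helper68.MixStmt

/-!
# S4017 piece BV (the Sylow `p`-subgroup `V` attached to `t₀` in case B)
-/

set_option autoImplicit false
set_option linter.style.haveILetI false

namespace Cfsg.Agent.Lib.Helper81.MixBV

open Subgroup
open Cfsg.Agent.Lib.Helper68.MixStmt

universe u

variable {G : Type u} [Group G]

theorem le_normalizer_of_conj {X V : Subgroup G}
    (h : ∀ g ∈ X, ∀ v ∈ V, g * v * g⁻¹ ∈ V) : X ≤ normalizer (V : Set G) := by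
  intro g hg
  rw [mem_normalizer_iff]
  intro n
  constructor
  · exact h g hg n
  · intro hn
    have h2 := h g⁻¹ (X.inv_mem hg) _ hn
    have h3 : g⁻¹ * (g * n * g⁻¹) * g⁻¹⁻¹ = n := by group
    rwa [h3] at h2

/-- A `p`-subgroup of `X` lies in the normal `p`-subgroup of index `2^a`. -/
theorem pgroup_le [Finite G] {p a : ℕ} (hp : p.Prime) (hp2 : p ≠ 2) {X V A : Subgroup G}
    (hVX : V ≤ X) (hV : IsPGroup p V) (hn : ∀ g ∈ X, ∀ v ∈ V, g * v * g⁻¹ ∈ V)
    (hcard : Nat.card X = 2 ^ a * Nat.card V) (hAX : A ≤ X) (hA : IsPGroup p A) : A ≤ V := by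
  haveI : Fact p.Prime := ⟨hp⟩
  have hAn : A ≤ normalizer (V : Set G) := hAX.trans (le_normalizer_of_conj hn)
  have hsup : IsPGroup p (A ⊔ V : Subgroup G) := IsPGroup.to_sup_of_normal_right' hA hV hAn
  obtain ⟨m, hm⟩ := IsPGroup.iff_card.mp hsup
  have hle : A ⊔ V ≤ X := sup_le hAX hVX
  have hd1 : Nat.card (A ⊔ V : Subgroup G) ∣ Nat.card X := Subgroup.card_dvd_of_le hle
  have hd2 : Nat.card V ∣ Nat.card (A ⊔ V : Subgroup G) := Subgroup.card_dvd_of_le le_sup_right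
  obtain ⟨j, hj⟩ := hd2
  have hVpos : 0 < Nat.card V := Nat.card_pos
  have hj1 : j ∣ 2 ^ a := by
    rw [hj, hcard, mul_comm (2 ^ a)] at hd1
    exact (Nat.mul_dvd_mul_iff_left hVpos).mp hd1
  have hj2 : j ∣ p ^ m := by
    rw [← hm, hj]
    exact Dvd.intro_left _ rfl
  have hcop : Nat.Coprime (2 ^ a) (p ^ m) :=
    Nat.Coprime.pow _ _ ((Nat.coprime_primes Nat.prime_two hp).mpr (Ne.symm hp2))
  have hj' : j = 1 := by
    have h1 := Nat.dvd_gcd hj1 hj2
    rw [hcop] at h1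
    exact Nat.dvd_one.mp h1
  rw [hj', mul_one] at hj
  have heq : V = A ⊔ V := Subgroup.eq_of_le_of_card_ge le_sup_right (le_of_eq hj)
  exact le_sup_left.trans (le_of_eq heq.symm)

theorem main (hEXP : EXP.{u}) (hCT : CT.{u}) (hLEMM : LEMM.{u}) : BV.{u} := by
  intro G _ _ p a Q y c t₀ ht₀ ht₀1 hnot
  haveI : Fact p.Prime := ⟨c.hp⟩
  have hp2 : p ≠ 2 := by
    rintro rfl
    have h4 : 2 ^ 2 ∣ 2 ^ a := pow_dvd_pow 2 c.ha
    have := c.hpa
    omega
  have hQcomm : ∀ s ∈ Q, ∀ t ∈ Q, s * t = t * s := by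
    intro s hs t ht
    have h1 := hEXP G p a Q y c s hs
    have h2 := hEXP G p a Q y c t ht
    have h3 := hEXP G p a Q y c (s * t) (Q.mul_mem hs ht)
    have hs' : s⁻¹ = s := inv_eq_of_mul_eq_one_left h1
    have ht' : t⁻¹ = t := inv_eq_of_mul_eq_one_left h2
    have h3' : (s * t)⁻¹ = s * t := inv_eq_of_mul_eq_one_left h3
    calc s * t = (s * t)⁻¹ := h3'.symm
      _ = t⁻¹ * s⁻¹ := mul_inv_rev s t
      _ = t * s := by rw [ht', hs']
  obtain ⟨hCtne, K, hKle, hKp, hKn, hKcard⟩ := hCT G p a Q y c t₀ ht₀ ht₀1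
  have hQCt : Q ≤ centralizer ({t₀} : Set G) := by
    intro s hs
    rw [mem_centralizer_iff]
    intro h hh
    rw [Set.mem_singleton_iff] at hh
    rw [hh]
    exact hQcomm t₀ ht₀ s hs
  have hKne : K ≠ ⊥ := by
    rintro rfl
    apply hnot
    have hcard : Nat.card (centralizer ({t₀} : Set G)) = Nat.card Q := by
      rw [hKcard, c.hQ, Subgroup.card_bot, mul_one]
    have h1 : Q = centralizer ({t₀} : Set G) :=
      Subgroup.eq_of_le_of_card_ge hQCt (le_of_eq hcard)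
    rw [← h1]
    exact le_normalizer
  have hCtX : centralizer ({t₀} : Set G) ≤ normalizer (K : Set G) := le_normalizer_of_conj hKn
  have hXne : normalizer (K : Set G) ≠ ⊤ := by
    intro h
    exact hKne (c.hOp K (normalizer_eq_top_iff.mp h) hKp)
  have hXN : ¬ normalizer (K : Set G) ≤ normalizer (Q : Set G) := fun h => hnot (hCtX.trans h)
  rcases hLEMM G p a Q y c _ hXne (hQCt.trans hCtX) with h | ⟨V₁, hV₁le, hV₁p, hV₁n, hV₁card⟩
  · exact absurd h hXN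
  have hKV₁ : K ≤ V₁ := pgroup_le c.hp hp2 hV₁le hV₁p hV₁n hV₁card le_normalizer hKp
  have hV₁ne : V₁ ≠ ⊥ := by
    intro h
    rw [h] at hKV₁
    exact hKne (le_bot_iff.mp hKV₁)
  have hXX₁ : normalizer (K : Set G) ≤ normalizer (V₁ : Set G) := le_normalizer_of_conj hV₁n
  have hX₁ne : normalizer (V₁ : Set G) ≠ ⊤ :=
    fun h => hV₁ne (c.hOp V₁ (normalizer_eq_top_iff.mp h) hV₁p)
  have hX₁N : ¬ normalizer (V₁ : Set G) ≤ normalizer (Q : Set G) :=
    fun h => hXN (hXX₁.trans h)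
  have hQX₁ : Q ≤ normalizer (V₁ : Set G) := (hQCt.trans hCtX).trans hXX₁
  rcases hLEMM G p a Q y c _ hX₁ne hQX₁ with h | ⟨V₂, hV₂le, hV₂p, hV₂n, hV₂card⟩
  · exact absurd h hX₁N
  obtain ⟨P, hV₁P⟩ := hV₁p.exists_le_sylow
  have hPcomm : ∀ x ∈ (P : Subgroup G), ∀ z ∈ (P : Subgroup G), x * z = z * x := by
    intro x hx z hz
    have h1 := (c.hab P).is_comm.comm ⟨x, hx⟩ ⟨z, hz⟩
    exact congrArg Subtype.val h1
  have hPX₁ : (P : Subgroup G) ≤ normalizer (V₁ : Set G) := by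
    apply le_normalizer_of_conj
    intro g hg v hv
    have h1 : g * v * g⁻¹ = v := by
      rw [hPcomm g hg v (hV₁P hv)]
      group
    rw [h1]
    exact hv
  have hPV₂ : (P : Subgroup G) ≤ V₂ :=
    pgroup_le c.hp hp2 hV₂le hV₂p hV₂n hV₂card hPX₁ P.isPGroup'
  have hV₂eq : V₂ = (P : Subgroup G) := P.is_maximal' hV₂p hPV₂
  have hX₁NP : normalizer (V₁ : Set G) ≤ normalizer ((P : Subgroup G) : Set G) := by
    rw [← hV₂eq]
    exact le_normalizer_of_conj hV₂n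
  have hQNP : Q ≤ normalizer ((P : Subgroup G) : Set G) := hQX₁.trans hX₁NP
  have hPne : (P : Subgroup G) ≠ ⊥ := by
    intro h
    rw [h] at hV₁P
    exact hV₁ne (le_bot_iff.mp hV₁P)
  have hX₂ne : normalizer ((P : Subgroup G) : Set G) ≠ ⊤ :=
    fun h => hPne (c.hOp _ (normalizer_eq_top_iff.mp h) P.isPGroup')
  have hX₂N : ¬ normalizer ((P : Subgroup G) : Set G) ≤ normalizer (Q : Set G) :=
    fun h => hX₁N (hX₁NP.trans h)
  rcases hLEMM G p a Q y c _ hX₂ne hQNP with h | ⟨V₃, hV₃le, hV₃p, hV₃n, hV₃card⟩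
  · exact absurd h hX₂N
  have hPV₃ : (P : Subgroup G) ≤ V₃ :=
    pgroup_le c.hp hp2 hV₃le hV₃p hV₃n hV₃card le_normalizer P.isPGroup'
  have hV₃eq : V₃ = (P : Subgroup G) := P.is_maximal' hV₃p hPV₃
  refine ⟨P, hQNP, ?_, ?_, ?_⟩
  · rw [hV₃card, hV₃eq]
  · intro x hx hxp
    have hxCt : x ∈ centralizer ({t₀} : Set G) := by
      rw [mem_centralizer_iff]
      intro h hh
      rw [Set.mem_singleton_iff] at hh
      rw [hh]
      exact hx.symm
    obtain ⟨k, hk⟩ := hxp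
    have hzp : IsPGroup p (zpowers x) := by
      apply IsPGroup.of_card (n := k)
      rw [Nat.card_zpowers, hk]
    have hzle : zpowers x ≤ centralizer ({t₀} : Set G) := (zpowers_le).mpr hxCt
    have h1 := pgroup_le c.hp hp2 hKle hKp hKn hKcard hzle hzp
    exact hV₁P (hKV₁ (h1 (mem_zpowers x)))
  · obtain ⟨⟨v, hv⟩, hv1⟩ := (Subgroup.ne_bot_iff_exists_ne_one).mp hKne
    refine ⟨v, hV₁P (hKV₁ hv), fun h => hv1 (Subtype.ext h), ?_⟩
    have h1 := hKle hv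
    rw [mem_centralizer_iff] at h1
    exact (h1 t₀ (Set.mem_singleton t₀)).symm

end Cfsg.Agent.Lib.Helper81.MixBV
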