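import Mathlib
import Cfsg.Agent.Lib.Helper44.OMat
import Cfsg.Agent.Lib.Helper44.ReflProd
import Cfsg.Agent.Lib.Helper44.FinSq
import Cfsg.Agent.Lib.Helper44.Gram

/-!
# Spinor norm of an isometry squaring to `-1`

An isometry `T` with `T² = -1` of a nondegenerate quadratic space of dimension `2d`
(`2 ≠ 0`) is a product of `2d` reflections whose `Q`-values multiply to `2 ^ d * c²`;
hence (finite fields) it lies in `Ω` iff `2 ^ d` is a square.
-/

set_option autoImplicit false

namespace Cfsg.Agent.Lib.Helper81.NegSqSpin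

open Module QuadraticMap Matrix
open Cfsg.Agent.Lib.Helper44.QSpace Cfsg.Agent.Lib.Helper44.OGroup
open Cfsg.Agent.Lib.Helper44.ReflProd Cfsg.Agent.Lib.Helper44.OMat

universe u

section gen

variable {F : Type*} [Field F] {V : Type*} [AddCommGroup V] [Module F V]

/-- `refl(v) ∘ refl(v - t)` is the rotation `v ↦ t ↦ -v` of the plane `⟨v, t⟩`
(`Q t = Q v ≠ 0`, `B(v, t) = 0`) and fixes its orthogonal complement. -/
theorem reflE_rot {Q : QuadraticForm F V} (h2 : (2 : F) ≠ 0) {v t : V} (hv : Q v ≠ 0)
    (ht : Q t = Q v) (hB : polar Q v t = 0) (z : V) :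
    reflE Q v (reflE Q (v - t) z)
      = z - ((2 * Q v)⁻¹ * (polar Q z v + polar Q z t)) • v
          + ((2 * Q v)⁻¹ * (polar Q z v - polar Q z t)) • t := by
  have hB' : polar Q t v = 0 := by rw [polar_comm]; exact hB
  have h1 : Q (v - t) = 2 * Q v := by
    have : v - t = v + (-1 : F) • t := by rw [neg_one_smul, sub_eq_add_neg]
    rw [this, q_add, q_smul, polar_smul_r, ht, hB]; ring
  have hc2 : 2 * Q v ≠ 0 := mul_ne_zero h2 hv
  rw [reflE_apply, reflE_apply, h1]
  simp only [polar_sub_left, polar_sub_right, polar_smul_l, polar_self', hB']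
  have s : (Q v)⁻¹ * (polar Q z v - (2 * Q v)⁻¹ * (polar Q z v - polar Q z t) * (2 * Q v - 0))
      = (2 * Q v)⁻¹ * (2 * polar Q z t) := by
    field_simp
    ring
  rw [s]
  module

variable [FiniteDimensional F V]

theorem exists_rot_list {Q : QuadraticForm F V} (h2 : (2 : F) ≠ 0) (T : V →ₗ[F] V)
    (hT : ∀ v, Q (T v) = Q v) (hTT : ∀ v, T (T v) = -v) :
    ∀ (n : ℕ) (W : Submodule F V), finrank F W = n → (∀ w ∈ W, T w ∈ W) →
      (∀ w ∈ W, (∀ w' ∈ W, polar Q w w' = 0) → w = 0) →
      ∃ (rs : List V) (k : ℕ) (c : F), (∀ r ∈ rs, Q r ≠ 0) ∧ c ≠ 0 ∧ rs.length = 2 * k ∧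
        n = 2 * k ∧ (rs.map (fun v => Q v)).prod = 2 ^ k * (c * c) ∧
        (∀ z ∈ W, (rs.map (reflE Q)).prod z = T z) ∧
        (∀ z, (∀ w ∈ W, polar Q z w = 0) → (rs.map (reflE Q)).prod z = z) := by
  have hpol : ∀ v w, polar Q (T v) (T w) = polar Q v w := by
    intro v w
    unfold polar
    rw [← map_add, hT, hT, hT]
  have hskew : ∀ v w, polar Q (T v) w = -polar Q v (T w) := by
    intro v w
    have h := hpol v (T w)
    rw [hTT, polar_neg_right] at h
    rw [← h, neg_neg]
  have hvTv : ∀ v, polar Q v (T v) = 0 := by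
    intro v
    have h := hskew v v
    rw [polar_comm] at h
    have h3 : (2 : F) * polar Q v (T v) = 0 := by linear_combination h
    exact (mul_eq_zero.mp h3).resolve_left h2
  intro n
  induction n using Nat.strong_induction_on with
  | _ n ih =>
    intro W hn hTW hnd
    by_cases hW : W = ⊥
    · subst hW
      rw [finrank_bot] at hn
      refine ⟨[], 0, 1, by simp, one_ne_zero, by simp, by omega, by simp, ?_, by simp⟩
      intro z hz
      rw [Submodule.mem_bot] at hz
      subst hz
      simp
    · obtain ⟨v, hvW, hv⟩ : ∃ v ∈ W, Q v ≠ 0 := by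
        by_contra hcon
        push Not at hcon
        apply hW
        rw [eq_bot_iff]
        intro w hw
        rw [Submodule.mem_bot]
        apply hnd w hw
        intro w' hw'
        unfold polar
        rw [hcon _ (W.add_mem hw hw'), hcon w hw, hcon w' hw']; ring
      have hc2 : 2 * Q v ≠ 0 := mul_ne_zero h2 hv
      have hTvW : T v ∈ W := hTW v hvW
      have hvv : polar Q v v = 2 * Q v := polar_self' Q v
      have hTvTv : polar Q (T v) (T v) = 2 * Q v := by rw [hpol, hvv]
      have hvTv0 := hvTv v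
      have hTvv0 : polar Q (T v) v = 0 := by rw [polar_comm]; exact hvTv0
      obtain ⟨f, hf⟩ : ∃ f : W →ₗ[F] F × F,
          ∀ w : W, f w = (polar Q (w : V) v, polar Q (w : V) (T v)) :=
        ⟨(((polarBilin Q).flip v).prod ((polarBilin Q).flip (T v))) ∘ₗ W.subtype, fun w => rfl⟩
      obtain ⟨W', memW', hfinW'⟩ : ∃ W' : Submodule F V,
          (∀ z, z ∈ W' ↔ z ∈ W ∧ polar Q z v = 0 ∧ polar Q z (T v) = 0) ∧
          finrank F W' = finrank F (LinearMap.ker f) := by
        refine ⟨(LinearMap.ker f).map W.subtype, fun z => ?_, Submodule.finrank_map_subtype_eq _ _⟩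
        rw [Submodule.mem_map]
        constructor
        · rintro ⟨w, hw, rfl⟩
          rw [LinearMap.mem_ker, hf, Prod.mk_eq_zero] at hw
          exact ⟨w.2, hw.1, hw.2⟩
        · rintro ⟨hz, h1, h2'⟩
          refine ⟨⟨z, hz⟩, ?_, rfl⟩
          rw [LinearMap.mem_ker, hf, Prod.mk_eq_zero]
          exact ⟨h1, h2'⟩
      have hdecomp : ∀ u ∈ W, ∃ (α β : F) (u' : V), u' ∈ W' ∧ u = α • v + β • T v + u' := by
        intro u hu
        refine ⟨(2 * Q v)⁻¹ * polar Q u v, (2 * Q v)⁻¹ * polar Q u (T v),
          u - ((2 * Q v)⁻¹ * polar Q u v) • v - ((2 * Q v)⁻¹ * polar Q u (T v)) • T v, ?_,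
          by abel⟩
        rw [memW']
        refine ⟨W.sub_mem (W.sub_mem hu (W.smul_mem _ hvW)) (W.smul_mem _ hTvW), ?_, ?_⟩
        · rw [polar_sub_left, polar_sub_left, polar_smul_l, polar_smul_l, hvv, hTvv0]
          field_simp
          ring
        · rw [polar_sub_left, polar_sub_left, polar_smul_l, polar_smul_l, hvTv0, hTvTv]
          field_simp
          ring
      have hfsurj : Function.Surjective f := by
        rintro ⟨s, t⟩
        refine ⟨⟨((2 * Q v)⁻¹ * s) • v + ((2 * Q v)⁻¹ * t) • T v,
          W.add_mem (W.smul_mem _ hvW) (W.smul_mem _ hTvW)⟩, ?_⟩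
        rw [hf]
        simp only [polar_add_left, polar_smul_l, hvv, hTvv0, hvTv0, hTvTv, mul_zero, add_zero,
          zero_add]
        have e : ∀ s : F, (2 * Q v)⁻¹ * s * (2 * Q v) = s := fun s => by field_simp
        rw [e, e]
      have hfin : finrank F W' + 2 = n := by
        have h1 := LinearMap.finrank_range_add_finrank_ker f
        rw [LinearMap.range_eq_top.mpr hfsurj, finrank_top, Module.finrank_prod,
          Module.finrank_self, hn] at h1
        omega
      have hTW' : ∀ w ∈ W', T w ∈ W' := by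
        intro w hw
        rw [memW'] at hw ⊢
        refine ⟨hTW w hw.1, ?_, ?_⟩
        · rw [hskew, hw.2.2, neg_zero]
        · rw [hpol]; exact hw.2.1
      have hnd' : ∀ w ∈ W', (∀ w' ∈ W', polar Q w w' = 0) → w = 0 := by
        intro w hw hperp
        have hw' := (memW' w).mp hw
        apply hnd w hw'.1
        intro u hu
        obtain ⟨α, β, u', hu', rfl⟩ := hdecomp u hu
        rw [polar_add_right, polar_add_right, polar_smul_r, polar_smul_r, hw'.2.1, hw'.2.2,
          hperp u' hu']
        ring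
      obtain ⟨rs, k, c, hrs, hc, hlen, hk, hprod, hact, hfix⟩ :=
        ih (finrank F W') (by omega) W' rfl hTW' hnd'
      have hvperp : ∀ w ∈ W', polar Q v w = 0 := fun w hw => by
        rw [polar_comm]; exact ((memW' w).mp hw).2.1
      have hTvperp : ∀ w ∈ W', polar Q (T v) w = 0 := fun w hw => by
        rw [polar_comm]; exact ((memW' w).mp hw).2.2
      have hQd : Q (v - T v) = 2 * Q v := by
        have : v - T v = v + (-1 : F) • T v := by rw [neg_one_smul, sub_eq_add_neg]
        rw [this, q_add, q_smul, polar_smul_r, hT, hvTv0]; ring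
      refine ⟨v :: (v - T v) :: rs, k + 1, c * Q v, ?_, mul_ne_zero hc hv, ?_, by omega, ?_,
        ?_, ?_⟩
      · intro r hr
        rcases List.mem_cons.mp hr with rfl | hr
        · exact hv
        · rcases List.mem_cons.mp hr with rfl | hr
          · rw [hQd]; exact hc2
          · exact hrs r hr
      · simp only [List.length_cons, hlen]; ring
      · rw [List.map_cons, List.map_cons, List.prod_cons, List.prod_cons, hprod, hQd]; ring
      · intro z hz
        obtain ⟨α, β, z', hz', rfl⟩ := hdecomp z hz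
        have hz'' := (memW' z').mp hz'
        have e1 : polar Q (T z') v = 0 := by rw [hskew, hz''.2.2, neg_zero]
        have e2 : polar Q (T z') (T v) = 0 := by rw [hpol]; exact hz''.2.1
        have inner : (rs.map (reflE Q)).prod (α • v + β • T v + z')
            = α • v + β • T v + T z' := by
          rw [map_add, map_add, map_smul, map_smul, hfix v hvperp, hfix (T v) hTvperp,
            hact z' hz']
        have a₂ : polar Q (α • v + β • T v + T z') v = α * (2 * Q v) := by
          rw [polar_add_left, polar_add_left, polar_smul_l, polar_smul_l, hvv, hTvv0, e1]; ring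
        have b₂ : polar Q (α • v + β • T v + T z') (T v) = β * (2 * Q v) := by
          rw [polar_add_left, polar_add_left, polar_smul_l, polar_smul_l, hvTv0, hTvTv, e2]; ring
        have s1 : (2 * Q v)⁻¹ * (α * (2 * Q v) + β * (2 * Q v)) = α + β := by field_simp
        have s2 : (2 * Q v)⁻¹ * (α * (2 * Q v) - β * (2 * Q v)) = α - β := by field_simp
        rw [List.map_cons, List.map_cons, List.prod_cons, List.prod_cons, LinearEquiv.mul_apply,
          LinearEquiv.mul_apply, inner, reflE_rot h2 hv (hT v) hvTv0, a₂, b₂, s1, s2]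
        simp only [map_add, map_smul, hTT]
        module
      · intro z hz
        have hzv : polar Q z v = 0 := hz v hvW
        have hzTv : polar Q z (T v) = 0 := hz (T v) hTvW
        rw [List.map_cons, List.map_cons, List.prod_cons, List.prod_cons, LinearEquiv.mul_apply,
          LinearEquiv.mul_apply, hfix z (fun w hw => hz w ((memW' w).mp hw).1),
          reflE_rot h2 hv (hT v) hvTv0, hzv, hzTv]
        simp

end gen

/-- **Spinor norm of a square root of `-1`**: an isometry `g` (matrix form) of a nondegenerate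
quadratic form in `2d` variables over a finite field of odd characteristic with `g * g = -1`
lies in `Ω` iff `2 ^ d` is a square. -/
theorem mem_omega_iff_of_sq_neg_one {ι : Type} [Fintype ι] [DecidableEq ι] {F : Type*} [Field F]
    [Fintype F] (h2 : (2 : F) ≠ 0) (Q : QuadraticForm F (ι → F)) (hS : Sep Q) (d : ℕ)
    (hd : Fintype.card ι = 2 * d) (hd1 : 1 ≤ d) (g : ↥(Cfsg.isometryGroup F ⇑Q))
    (hsq : ((g : GL ι F) : Matrix ι ι F) * ((g : GL ι F) : Matrix ι ι F) = -1) :
    g ∈ Cfsg.Omega F ⇑Q ↔ IsSquare ((2 : F) ^ d) := by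
  have hiso : ∀ v, Q (((g : GL ι F) : Matrix ι ι F) *ᵥ v) = Q v := fun v => g.2 v v
  obtain ⟨rs, k, c, hrs, hc, hlen, hk, hprod, hact, -⟩ :=
    exists_rot_list h2 (Matrix.toLin' ((g : GL ι F) : Matrix ι ι F))
      (fun v => by rw [Matrix.toLin'_apply]; exact hiso v)
      (fun v => by
        rw [Matrix.toLin'_apply, Matrix.toLin'_apply, Matrix.mulVec_mulVec, hsq,
          Matrix.neg_mulVec, Matrix.one_mulVec])
      (finrank F (⊤ : Submodule F (ι → F))) ⊤ rfl (fun w _ => Submodule.mem_top)
      (fun w _ h => hS w (fun y => h y Submodule.mem_top))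
  rw [finrank_top, Module.finrank_fintype_fun_eq_card, hd] at hk
  have hkd : k = d := by omega
  subst hkd
  have hg : ∀ y, ((g : GL ι F) : Matrix ι ι F) *ᵥ y = (rs.map (reflE Q)).prod y := fun y => by
    rw [hact y Submodule.mem_top, Matrix.toLin'_apply]
  rw [mem_omega_iff_of_mulVec h2 Q hS (by omega) g rs hrs hg, hlen, hprod]
  constructor
  · rintro ⟨-, h⟩
    rw [mul_comm, ← pow_two] at h
    exact (Cfsg.Agent.Lib.Helper44.Gram.isSquare_sq_mul_iff hc).mp h
  · intro h
    refine ⟨⟨k, two_mul k⟩, ?_⟩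
    rw [mul_comm, ← pow_two]
    exact (Cfsg.Agent.Lib.Helper44.Gram.isSquare_sq_mul_iff hc).mpr h

end Cfsg.Agent.Lib.Helper81.NegSqSpin
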