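import Mathlib
import Cfsg.Prelude.Def_GeometricClasses
import Cfsg.Agent.Lib.Helper81.NegSqSpin
import Cfsg.Agent.Lib.Helper44.NegPairs

/-!
# Elements of `Ω` squaring to `-1`: existence

* `exists_omega_of_sq_neg_one`: a linear isometry `T` with `T ∘ T = -1` of a nondegenerate form
  in `2d` variables over a finite field of odd characteristic, `2 ^ d` a square: `T` is the
  matrix of an element of `Ω`.
* `exists_negsq_minus`: `q ≡ 7 (mod 8)`, `m` even: `Ω⁻_{2m+2}(q)` (form `quadFormMinus m F a b`)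
  contains an element `x` with `x * x = -1`.
-/

set_option autoImplicit false

namespace Cfsg.Agent.Lib.Helper81.NegSqMinusEx

open Module QuadraticMap Matrix
open Cfsg.Agent.Lib.Helper44.QSpace Cfsg.Agent.Lib.Helper44.OGroup
open Cfsg.Agent.Lib.Helper44.ReflProd Cfsg.Agent.Lib.Helper44.OMat
open Cfsg.Agent.Lib.Helper44.NegPairs Cfsg.Agent.Lib.Helper44.FinSq
open Cfsg.Agent.Lib.Helper81.NegSqSpin

universe u

theorem exists_omega_of_sq_neg_one {ι : Type} [Fintype ι] [DecidableEq ι] {F : Type*} [Field F]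
    [Fintype F] (h2 : (2 : F) ≠ 0) (Q : QuadraticForm F (ι → F)) (hS : Sep Q) (d : ℕ)
    (hd : Fintype.card ι = 2 * d) (hd1 : 1 ≤ d) (T : (ι → F) →ₗ[F] (ι → F))
    (hT : ∀ v, Q (T v) = Q v) (hTT : ∀ v, T (T v) = -v) (h2d : IsSquare ((2 : F) ^ d)) :
    ∃ x : GL ι F, x ∈ Cfsg.Geo.omegaGL ⇑Q ∧
      (x : Matrix ι ι F) * (x : Matrix ι ι F) = -1 := by
  obtain ⟨rs, k, c, hrs, hc, hlen, hk, hprod, hact, -⟩ :=
    exists_rot_list h2 T hT hTT (finrank F (⊤ : Submodule F (ι → F))) ⊤ rfl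
      (fun w _ => Submodule.mem_top) (fun w _ h => hS w (fun y => h y Submodule.mem_top))
  rw [finrank_top, Module.finrank_fintype_fun_eq_card, hd] at hk
  have hkd : k = d := by omega
  subst hkd
  have hD : ∀ y, (LinearMap.toMatrix' T) *ᵥ y = (rs.map (reflE Q)).prod y := fun y => by
    rw [hact y Submodule.mem_top, ← Matrix.toLin'_apply, Matrix.toLin'_toMatrix']
  obtain ⟨g, hg, hgD⟩ := (exists_mem_omega_iff h2 Q hS (by omega) (LinearMap.toMatrix' T) rs
    hrs hD).mpr ⟨⟨k, by rw [hlen, two_mul]⟩, by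
      rw [hprod, mul_comm, ← pow_two]
      exact (Cfsg.Agent.Lib.Helper44.Gram.isSquare_sq_mul_iff hc).mpr h2d⟩
  refine ⟨(g : GL ι F), Subgroup.mem_map.mpr ⟨g, hg, rfl⟩, ?_⟩
  have hcomp : T ∘ₗ T = -LinearMap.id := LinearMap.ext fun v => by
    rw [LinearMap.comp_apply, hTT, LinearMap.neg_apply, LinearMap.id_apply]
  rw [hgD, ← LinearMap.toMatrix'_comp, hcomp, map_neg, LinearMap.toMatrix'_id]

/-- `q ≡ 7 (mod 8)`, `m` even: `Ω⁻_{2m+2}(q)` contains an element squaring to `-1`. -/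
theorem exists_negsq_minus {F : Type*} [Field F] [Fintype F] (hq : Fintype.card F % 8 = 7)
    (m : ℕ) (hm : Even m) (a b : F)
    (hab : ∀ z₁ z₂ : F, z₁ ^ 2 + a * z₁ * z₂ + b * z₂ ^ 2 = 0 → z₁ = 0 ∧ z₂ = 0) :
    ∃ x : GL ((Fin m ⊕ Fin m) ⊕ Fin 2) F, x ∈ Cfsg.Geo.omegaGL (Cfsg.quadFormMinus m F a b) ∧
      (x : Matrix ((Fin m ⊕ Fin m) ⊕ Fin 2) ((Fin m ⊕ Fin m) ⊕ Fin 2) F) *
        (x : Matrix ((Fin m ⊕ Fin m) ⊕ Fin 2) ((Fin m ⊕ Fin m) ⊕ Fin 2) F) = -1 := by
  classical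
  have hqodd : Odd (Fintype.card F) := by
    rw [Nat.odd_iff]; omega
  have h2 : (2 : F) ≠ 0 := two_ne_zero_of_odd_card hqodd
  have hsq2 : IsSquare (2 : F) := by
    rw [FiniteField.isSquare_two_iff]; omega
  have hnsq : ¬ IsSquare (-1 : F) := by
    rw [FiniteField.isSquare_neg_one_iff]; omega
  have h4 : (4 : F) ≠ 0 := by
    have : (4 : F) = 2 * 2 := by norm_num
    rw [this]; exact mul_ne_zero h2 h2
  -- the discriminant is a square
  have hnd : ¬ IsSquare (-(b - a ^ 2 / 4)) := by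
    rintro ⟨r, hr⟩
    have h := (hab (r - a / 2) 1 (by
      field_simp at hr ⊢
      linear_combination (-1 : F) * hr)).2
    exact one_ne_zero h
  obtain ⟨s, hs⟩ : IsSquare (b - a ^ 2 / 4) := by
    have h := isSquare_mul_of_not_of_not hnsq hnd
    rwa [neg_one_mul, neg_neg] at h
  have hs0 : s ≠ 0 := by
    rintro rfl
    apply hnd
    rw [hs, mul_zero, neg_zero]
    exact IsSquare.zero
  have hb : b = s * s + a ^ 2 / 4 := by linear_combination hs
  subst hb
  obtain ⟨k, rfl⟩ : ∃ k, m = k * 2 := by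
    obtain ⟨k, hk⟩ := hm
    exact ⟨k, by omega⟩
  -- the pairing of the hyperbolic pairs
  obtain ⟨π, ε, hπ, hε1, hε2⟩ : ∃ (π : Fin (k * 2) → Fin (k * 2)) (ε : Fin (k * 2) → F),
      (∀ i, π (π i) = i) ∧ (∀ i, ε i * ε i = 1) ∧ (∀ i, ε (π i) = -ε i) := by
    refine ⟨fun i => finProdFinEquiv ((finProdFinEquiv.symm i).1, (finProdFinEquiv.symm i).2.rev),
      fun i => if (finProdFinEquiv.symm i).2 = 0 then 1 else -1, ?_, ?_, ?_⟩
    · intro i
      obtain ⟨⟨p1, p2⟩, rfl⟩ := finProdFinEquiv.surjective i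
      simp only [Equiv.symm_apply_apply, Fin.rev_rev]
    · intro i
      beta_reduce
      split_ifs <;> ring
    · intro i
      obtain ⟨⟨p1, p2⟩, rfl⟩ := finProdFinEquiv.surjective i
      simp only [Equiv.symm_apply_apply]
      fin_cases p2 <;> simp
  obtain ⟨T, hT1, hT2, hT3, hT4⟩ : ∃ T : (((Fin (k * 2) ⊕ Fin (k * 2)) ⊕ Fin 2) → F) →ₗ[F]
      (((Fin (k * 2) ⊕ Fin (k * 2)) ⊕ Fin 2) → F),
      (∀ v i, T v (Sum.inl (Sum.inl i)) = ε i * v (Sum.inl (Sum.inl (π i)))) ∧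
      (∀ v i, T v (Sum.inl (Sum.inr i)) = ε i * v (Sum.inl (Sum.inr (π i)))) ∧
      (∀ v, T v (Sum.inr 0) = -(s * v (Sum.inr 1))
        - a * (2 * s)⁻¹ * (v (Sum.inr 0) + a / 2 * v (Sum.inr 1))) ∧
      (∀ v, T v (Sum.inr 1) = s⁻¹ * (v (Sum.inr 0) + a / 2 * v (Sum.inr 1))) := by
    have hadd : ∀ v w : ((Fin (k * 2) ⊕ Fin (k * 2)) ⊕ Fin 2) → F,
        (Sum.elim (Sum.elim (fun i => ε i * (v + w) (Sum.inl (Sum.inl (π i))))
          (fun i => ε i * (v + w) (Sum.inl (Sum.inr (π i)))))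
          (fun j : Fin 2 => if j = 0 then -(s * (v + w) (Sum.inr 1))
            - a * (2 * s)⁻¹ * ((v + w) (Sum.inr 0) + a / 2 * (v + w) (Sum.inr 1))
            else s⁻¹ * ((v + w) (Sum.inr 0) + a / 2 * (v + w) (Sum.inr 1))) :
          ((Fin (k * 2) ⊕ Fin (k * 2)) ⊕ Fin 2) → F)
        = Sum.elim (Sum.elim (fun i => ε i * v (Sum.inl (Sum.inl (π i))))
          (fun i => ε i * v (Sum.inl (Sum.inr (π i)))))
          (fun j : Fin 2 => if j = 0 then -(s * v (Sum.inr 1))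
            - a * (2 * s)⁻¹ * (v (Sum.inr 0) + a / 2 * v (Sum.inr 1))
            else s⁻¹ * (v (Sum.inr 0) + a / 2 * v (Sum.inr 1)))
          + Sum.elim (Sum.elim (fun i => ε i * w (Sum.inl (Sum.inl (π i))))
          (fun i => ε i * w (Sum.inl (Sum.inr (π i)))))
          (fun j : Fin 2 => if j = 0 then -(s * w (Sum.inr 1))
            - a * (2 * s)⁻¹ * (w (Sum.inr 0) + a / 2 * w (Sum.inr 1))
            else s⁻¹ * (w (Sum.inr 0) + a / 2 * w (Sum.inr 1))) := by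
      intro v w
      ext ((i | i) | j)
      · simp; ring
      · simp; ring
      · fin_cases j
        · simp; ring
        · simp; ring
    have hsmul : ∀ (c : F) (v : ((Fin (k * 2) ⊕ Fin (k * 2)) ⊕ Fin 2) → F),
        (Sum.elim (Sum.elim (fun i => ε i * (c • v) (Sum.inl (Sum.inl (π i))))
          (fun i => ε i * (c • v) (Sum.inl (Sum.inr (π i)))))
          (fun j : Fin 2 => if j = 0 then -(s * (c • v) (Sum.inr 1))
            - a * (2 * s)⁻¹ * ((c • v) (Sum.inr 0) + a / 2 * (c • v) (Sum.inr 1))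
            else s⁻¹ * ((c • v) (Sum.inr 0) + a / 2 * (c • v) (Sum.inr 1))) :
          ((Fin (k * 2) ⊕ Fin (k * 2)) ⊕ Fin 2) → F)
        = c • Sum.elim (Sum.elim (fun i => ε i * v (Sum.inl (Sum.inl (π i))))
          (fun i => ε i * v (Sum.inl (Sum.inr (π i)))))
          (fun j : Fin 2 => if j = 0 then -(s * v (Sum.inr 1))
            - a * (2 * s)⁻¹ * (v (Sum.inr 0) + a / 2 * v (Sum.inr 1))
            else s⁻¹ * (v (Sum.inr 0) + a / 2 * v (Sum.inr 1))) := by
      intro c v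
      ext ((i | i) | j)
      · simp; ring
      · simp; ring
      · fin_cases j
        · simp; ring
        · simp; ring
    exact ⟨⟨⟨fun v => Sum.elim (Sum.elim (fun i => ε i * v (Sum.inl (Sum.inl (π i))))
          (fun i => ε i * v (Sum.inl (Sum.inr (π i)))))
          (fun j : Fin 2 => if j = 0 then -(s * v (Sum.inr 1))
            - a * (2 * s)⁻¹ * (v (Sum.inr 0) + a / 2 * v (Sum.inr 1))
            else s⁻¹ * (v (Sum.inr 0) + a / 2 * v (Sum.inr 1))), hadd⟩, hsmul⟩,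
      fun v i => rfl, fun v i => rfl, fun v => rfl, fun v => rfl⟩
  have hS := sep_minusQ h2 (k * 2) a (s * s + a ^ 2 / 4) hab
  have hiso : ∀ v, minusQ (k * 2) F a (s * s + a ^ 2 / 4) (T v)
      = minusQ (k * 2) F a (s * s + a ^ 2 / 4) v := by
    intro v
    show Cfsg.quadFormMinus (k * 2) F a (s * s + a ^ 2 / 4) (T v)
      = Cfsg.quadFormMinus (k * 2) F a (s * s + a ^ 2 / 4) v
    unfold Cfsg.quadFormMinus
    have e1 : ∑ i : Fin (k * 2), T v (Sum.inl (Sum.inl i)) * T v (Sum.inl (Sum.inr i))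
        = ∑ i : Fin (k * 2), v (Sum.inl (Sum.inl i)) * v (Sum.inl (Sum.inr i)) := by
      rw [← Equiv.sum_comp (Function.Involutive.toPerm π hπ)
        (fun i => v (Sum.inl (Sum.inl i)) * v (Sum.inl (Sum.inr i)))]
      apply Finset.sum_congr rfl
      intro i _
      rw [hT1, hT2]
      show _ = v (Sum.inl (Sum.inl (π i))) * v (Sum.inl (Sum.inr (π i)))
      linear_combination (v (Sum.inl (Sum.inl (π i))) * v (Sum.inl (Sum.inr (π i)))) * hε1 i
    rw [e1, hT3, hT4]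
    field_simp
    ring
  have hTT : ∀ v, T (T v) = -v := by
    intro v
    ext ((i | i) | j)
    · rw [hT1, hT1, hπ, hε2, Pi.neg_apply]
      linear_combination (-(v (Sum.inl (Sum.inl i)))) * hε1 i
    · rw [hT2, hT2, hπ, hε2, Pi.neg_apply]
      linear_combination (-(v (Sum.inl (Sum.inr i)))) * hε1 i
    · fin_cases j
      · show T (T v) (Sum.inr 0) = (-v) (Sum.inr 0)
        rw [hT3, hT3, hT4, Pi.neg_apply]
        field_simp
        ring
      · show T (T v) (Sum.inr 1) = (-v) (Sum.inr 1)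
        rw [hT4, hT3, hT4, Pi.neg_apply]
        field_simp
        ring
  exact exists_omega_of_sq_neg_one h2 (minusQ (k * 2) F a (s * s + a ^ 2 / 4)) hS (k * 2 + 1)
    (by simp only [Fintype.card_sum, Fintype.card_fin]; ring) (by omega) T hiso hTT
    (hsq2.pow _)

end Cfsg.Agent.Lib.Helper81.NegSqMinusEx
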