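import Mathlib
import Cfsg.Agent.Lib.Helper94.OPStmt
import Cfsg.Agent.Lib.Helper44.OMat
import Cfsg.Agent.Lib.Helper44.ReflProd
import Cfsg.Agent.Lib.Helper44.NegPairs
import Cfsg.Agent.Lib.Helper44.FinSq
import Cfsg.Agent.Lib.Helper44.Gram
import Cfsg.Agent.Lib.Helper44.Inv7

/-!
# S5989 piece NEGSQNON5: `d` odd, `q ≡ 5 (mod 8)`: no element of `Ω⁺_{2d}(q)` squares to `-1`
-/

set_option autoImplicit false

namespace Cfsg.Agent.Lib.Helper81.OPNEGSQNON5

open Module QuadraticMap Matrix
open Cfsg.Agent.Lib.Helper44.QSpace Cfsg.Agent.Lib.Helper44.OGroup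
open Cfsg.Agent.Lib.Helper44.ReflProd Cfsg.Agent.Lib.Helper44.OMat
open Cfsg.Agent.Lib.Helper44.NegPairs Cfsg.Agent.Lib.Helper44.FinSq
open Cfsg.Agent.Lib.Helper94.OPStmt

universe u

section gen

variable {F : Type*} [Field F] {V : Type*} [AddCommGroup V] [Module F V]

/-- `refl(e - f) ∘ refl(e - i f)` acts as `diag(i, -i)` on the hyperbolic plane `⟨e, f⟩`
(`i² = -1`) and fixes its orthogonal complement. -/
theorem reflE_ipair {Q : QuadraticForm F V} {e f : V} (he : Q e = 0) (hf : Q f = 0)
    (hef : polar Q e f = 1) (i : F) (hi : i * i = -1) (x : V) :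
    reflE Q (e - f) (reflE Q (e - i • f) x)
      = x + (((i - 1) * polar Q x f) • e + (-((i + 1) * polar Q x e)) • f) := by
  have hfe : polar Q f e = 1 := by rw [polar_comm]; exact hef
  have h1 : Q (e - f) = -1 := by
    have : e - f = e + (-1 : F) • f := by rw [neg_one_smul, sub_eq_add_neg]
    rw [this, q_add, q_smul, polar_smul_r, he, hf, hef]; ring
  have h2 : Q (e - i • f) = -i := by
    have : e - i • f = e + (-i) • f := by rw [neg_smul, sub_eq_add_neg]
    rw [this, q_add, q_smul, polar_smul_r, he, hf, hef]; ring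
  have hinv : (-i)⁻¹ = i := inv_eq_of_mul_eq_one_left (by rw [mul_neg, hi, neg_neg])
  have hh1 : (i * i) • e = (-1 : F) • e := by rw [hi]
  have hh2 : (i * i) • f = (-1 : F) • f := by rw [hi]
  rw [reflE_apply, reflE_apply, h1, h2, hinv, inv_neg_one]
  simp only [polar_sub_left, polar_sub_right, polar_smul_l, polar_smul_r, polar_self', he, hf,
    hef, hfe]
  linear_combination (norm := module)
    (polar Q x e - i * polar Q x f) • hh1 + (polar Q x f) • hh2

variable {κ : Type*} [DecidableEq κ]

/-- the list of reflection vectors `e_j - f_j, e_j - i f_j` -/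
def ipairList (i : F) (e f : κ → V) (js : List κ) : List V :=
  js.flatMap (fun j => [e j - f j, e j - i • f j])

omit [DecidableEq κ] in
theorem ipairList_cons (i : F) (e f : κ → V) (j : κ) (js : List κ) :
    ipairList i e f (j :: js) = (e j - f j) :: (e j - i • f j) :: ipairList i e f js := by
  simp [ipairList]

theorem ipair_prod {Q : QuadraticForm F V} (i : F) (hi : i * i = -1) (e f : κ → V)
    (he : ∀ j, Q (e j) = 0) (hf : ∀ j, Q (f j) = 0)
    (hef : ∀ j l, polar Q (e j) (f l) = if j = l then 1 else 0)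
    (hee : ∀ j l, polar Q (e j) (e l) = 0) (hff : ∀ j l, polar Q (f j) (f l) = 0)
    (js : List κ) (hnd : js.Nodup) (x : V) :
    ((ipairList i e f js).map (reflE Q)).prod x
      = x + (js.map (fun j => ((i - 1) * polar Q x (f j)) • e j +
          (-((i + 1) * polar Q x (e j))) • f j)).sum := by
  induction js with
  | nil => simp [ipairList]
  | cons j js ih =>
    rw [List.nodup_cons] at hnd
    rw [ipairList_cons, List.map_cons, List.map_cons, List.prod_cons, List.prod_cons,
      LinearEquiv.mul_apply, LinearEquiv.mul_apply, ih hnd.2,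
      reflE_ipair (he j) (hf j) (by rw [hef, if_pos rfl]) i hi]
    obtain ⟨h1, h2⟩ := polar_sum_pairs e f hef hee hff (fun l => (i - 1) * polar Q x (f l))
      (fun l => -((i + 1) * polar Q x (e l))) js j hnd.1
    rw [polar_add_left, polar_add_left, h1, h2, add_zero, add_zero, List.map_cons, List.sum_cons]
    abel

omit [DecidableEq κ] in
theorem ipairList_props {Q : QuadraticForm F V} (i : F) (hi : i * i = -1) (e f : κ → V)
    (he : ∀ j, Q (e j) = 0) (hf : ∀ j, Q (f j) = 0) (hef : ∀ j, polar Q (e j) (f j) = 1)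
    (js : List κ) :
    (∀ v ∈ ipairList i e f js, Q v ≠ 0) ∧ (ipairList i e f js).length = 2 * js.length ∧
      ((ipairList i e f js).map (fun v => Q v)).prod = i ^ js.length := by
  have hi0 : i ≠ 0 := by
    rintro rfl
    rw [mul_zero] at hi
    exact one_ne_zero (neg_eq_zero.mp hi.symm)
  induction js with
  | nil => simp [ipairList]
  | cons j js ih =>
    obtain ⟨ih1, ih2, ih3⟩ := ih
    have h1 : Q (e j - f j) = -1 := by
      have : e j - f j = e j + (-1 : F) • f j := by rw [neg_one_smul, sub_eq_add_neg]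
      rw [this, q_add, q_smul, polar_smul_r, he, hf, hef]; ring
    have h2 : Q (e j - i • f j) = -i := by
      have : e j - i • f j = e j + (-i) • f j := by rw [neg_smul, sub_eq_add_neg]
      rw [this, q_add, q_smul, polar_smul_r, he, hf, hef]; ring
    rw [ipairList_cons]
    refine ⟨?_, ?_, ?_⟩
    · intro v hv
      rcases List.mem_cons.mp hv with rfl | hv
      · rw [h1]; exact neg_ne_zero.mpr one_ne_zero
      · rcases List.mem_cons.mp hv with rfl | hv
        · rw [h2]; exact neg_ne_zero.mpr hi0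
        · exact ih1 v hv
    · simp only [List.length_cons, ih2]; ring
    · rw [List.map_cons, List.map_cons, List.prod_cons, List.prod_cons, ih3, h1, h2,
        List.length_cons, pow_succ]
      ring

end gen

section adapted

variable {F : Type*} [Field F] {V : Type u} [AddCommGroup V] [Module F V] [FiniteDimensional F V]

/-- An isometry `T` with `T² = -1` on a nondegenerate space of dimension `2d` (odd characteristic,
`i² = -1`): a hyperbolic system `e, f` adapted to the two eigenspaces of `T`. -/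
theorem exists_adapted {Q : QuadraticForm F V} (hS : Sep Q) (h2 : (2 : F) ≠ 0) (d : ℕ)
    (hd : finrank F V = 2 * d) (T : V →ₗ[F] V) (hT : ∀ v, Q (T v) = Q v)
    (hTT : ∀ v, T (T v) = -v) (i : F) (hi : i * i = -1) :
    ∃ e f : Fin d → V, (∀ j, Q (e j) = 0) ∧ (∀ j, Q (f j) = 0) ∧
      (∀ j l, polar Q (e j) (f l) = if j = l then 1 else 0) ∧
      (∀ j l, polar Q (e j) (e l) = 0) ∧ (∀ j l, polar Q (f j) (f l) = 0) ∧
      ∀ y, T y = y + ∑ j, (((i - 1) * polar Q y (f j)) • e j +
          (-((i + 1) * polar Q y (e j))) • f j) := by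
  classical
  obtain ⟨Ep, memp⟩ : ∃ Ep : Submodule F V, ∀ v, v ∈ Ep ↔ T v = i • v := by
    refine ⟨LinearMap.ker (T - i • LinearMap.id), fun v => ?_⟩
    rw [LinearMap.mem_ker, LinearMap.sub_apply, LinearMap.smul_apply, LinearMap.id_apply,
      sub_eq_zero]
  obtain ⟨Em, memm⟩ : ∃ Em : Submodule F V, ∀ v, v ∈ Em ↔ T v = -(i • v) := by
    refine ⟨LinearMap.ker (T + i • LinearMap.id), fun v => ?_⟩
    rw [LinearMap.mem_ker, LinearMap.add_apply, LinearMap.smul_apply, LinearMap.id_apply,
      add_eq_zero_iff_eq_neg]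
  have hQp : ∀ v ∈ Ep, Q v = 0 := by
    intro v hv
    have h1 := hT v
    rw [(memp v).mp hv, q_smul] at h1
    have h3 : (2 : F) * Q v = 0 := by linear_combination (-1 : F) * h1 + Q v * hi
    exact (mul_eq_zero.mp h3).resolve_left h2
  have hQm : ∀ v ∈ Em, Q v = 0 := by
    intro v hv
    have h1 := hT v
    rw [(memm v).mp hv, ← neg_smul, q_smul] at h1
    have h3 : (2 : F) * Q v = 0 := by linear_combination (-1 : F) * h1 + Q v * hi
    exact (mul_eq_zero.mp h3).resolve_left h2
  have hBp : ∀ v ∈ Ep, ∀ w ∈ Ep, polar Q v w = 0 := by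
    intro v hv w hw
    unfold polar
    rw [hQp _ (Ep.add_mem hv hw), hQp v hv, hQp w hw]; ring
  have hBm : ∀ v ∈ Em, ∀ w ∈ Em, polar Q v w = 0 := by
    intro v hv w hw
    unfold polar
    rw [hQm _ (Em.add_mem hv hw), hQm v hv, hQm w hw]; ring
  have hpm : ∀ v, (2 : F)⁻¹ • (v - i • T v) ∈ Ep := by
    intro v
    apply Ep.smul_mem
    rw [memp, map_sub, map_smul, hTT, smul_sub, smul_smul, hi]
    module
  have hmm : ∀ v, (2 : F)⁻¹ • (v + i • T v) ∈ Em := by
    intro v
    apply Em.smul_mem
    rw [memm, map_add, map_smul, hTT, smul_add, smul_smul, hi]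
    module
  have hdec : ∀ v, v = (2 : F)⁻¹ • (v - i • T v) + (2 : F)⁻¹ • (v + i • T v) := by
    intro v
    have h : v - i • T v + (v + i • T v) = (2 : F) • v := by module
    rw [← smul_add, h, smul_smul, inv_mul_cancel₀ h2, one_smul]
  have hsplit : ∀ y, ∃ yp ∈ Ep, ∃ ym ∈ Em, y = yp + ym :=
    fun y => ⟨_, hpm y, _, hmm y, hdec y⟩
  have hsup : Ep ⊔ Em = ⊤ := by
    rw [eq_top_iff]
    intro v _
    obtain ⟨yp, hyp, ym, hym, rfl⟩ := hsplit v
    exact Submodule.add_mem_sup hyp hym
  have hle1 := Cfsg.Agent.Lib.Helper44.Inv7.two_finrank_le_of_sing hS hQp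
  have hle2 := Cfsg.Agent.Lib.Helper44.Inv7.two_finrank_le_of_sing hS hQm
  have hge : finrank F V ≤ finrank F Ep + finrank F Em := by
    have h := Submodule.finrank_add_le_finrank_add_finrank Ep Em
    rw [hsup, finrank_top] at h
    exact h
  have hdp : finrank F Ep = d := by omega
  have hdm : finrank F Em = d := by omega
  obtain ⟨bE⟩ : Nonempty (Basis (Fin d) F Ep) := ⟨Module.finBasisOfFinrankEq F Ep hdp⟩
  obtain ⟨Φ, hΦ⟩ : ∃ Φ : Em →ₗ[F] (Fin d → F),
      ∀ (w : Em) j, Φ w j = polar Q (bE j : V) (w : V) :=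
    ⟨LinearMap.pi (fun j => (polarBilin Q (bE j : V)).comp Em.subtype), fun w j => rfl⟩
  have hΦinj : Function.Injective Φ := by
    rw [← LinearMap.ker_eq_bot, LinearMap.ker_eq_bot']
    intro w hw
    have h0 : ∀ j, polar Q (bE j : V) (w : V) = 0 := fun j => by rw [← hΦ, hw]; rfl
    have h1 : ∀ u : Ep, polar Q (u : V) (w : V) = 0 := by
      have h : ((polarBilin Q).flip (w : V)).comp Ep.subtype = 0 := by
        apply bE.ext
        intro j
        simp only [LinearMap.comp_apply, Submodule.subtype_apply, LinearMap.flip_apply,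
          polarBilin_apply_apply, LinearMap.zero_apply]
        exact h0 j
      intro u
      have h' := LinearMap.congr_fun h u
      simpa only [LinearMap.comp_apply, Submodule.subtype_apply, LinearMap.flip_apply,
          polarBilin_apply_apply, LinearMap.zero_apply] using h'
    have hw0 : (w : V) = 0 := by
      apply hS
      intro y
      obtain ⟨yp, hyp, ym, hym, rfl⟩ := hsplit y
      rw [polar_add_right, hBm _ w.2 _ hym, add_zero, polar_comm]
      exact h1 ⟨yp, hyp⟩
    exact Subtype.ext hw0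
  have hΦsurj : Function.Surjective Φ :=
    (LinearMap.injective_iff_surjective_of_finrank_eq_finrank
      (by rw [hdm, Module.finrank_fin_fun])).mp hΦinj
  obtain ⟨bM, hbM⟩ : ∃ bM : Basis (Fin d) F Em,
      ∀ j l, polar Q (bE j : V) (bM l : V) = if j = l then 1 else 0 := by
    refine ⟨Basis.ofEquivFun (LinearEquiv.ofBijective Φ ⟨hΦinj, hΦsurj⟩), fun j l => ?_⟩
    have h : Φ ((LinearEquiv.ofBijective Φ ⟨hΦinj, hΦsurj⟩).symm (Pi.single l 1))
        = Pi.single l 1 := (LinearEquiv.ofBijective Φ ⟨hΦinj, hΦsurj⟩).apply_symm_apply _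
    rw [← hΦ, Basis.coe_ofEquivFun, h, Pi.single_apply]
  have hexpP : ∀ u ∈ Ep, u = ∑ j, polar Q u (bM j : V) • (bE j : V) := by
    have h : (∑ j, ((polarBilin Q).flip (bM j : V)).smulRight (bE j : V)).comp Ep.subtype
        = Ep.subtype := by
      apply bE.ext
      intro l
      simp only [LinearMap.comp_apply, Submodule.subtype_apply, LinearMap.sum_apply,
        LinearMap.smulRight_apply, LinearMap.flip_apply, polarBilin_apply_apply, hbM, ite_smul,
        one_smul, zero_smul, Finset.sum_ite_eq, Finset.mem_univ, if_true]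
    intro u hu
    have h' := LinearMap.congr_fun h ⟨u, hu⟩
    simp only [LinearMap.comp_apply, Submodule.subtype_apply, LinearMap.sum_apply,
      LinearMap.smulRight_apply, LinearMap.flip_apply, polarBilin_apply_apply] at h'
    exact h'.symm
  have hexpM : ∀ u ∈ Em, u = ∑ j, polar Q u (bE j : V) • (bM j : V) := by
    have h : (∑ j, ((polarBilin Q).flip (bE j : V)).smulRight (bM j : V)).comp Em.subtype
        = Em.subtype := by
      apply bM.ext
      intro l
      simp only [LinearMap.comp_apply, Submodule.subtype_apply, LinearMap.sum_apply,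
        LinearMap.smulRight_apply, LinearMap.flip_apply, polarBilin_apply_apply,
        polar_comm Q (bM l : V), hbM, ite_smul,
        one_smul, zero_smul, Finset.sum_ite_eq', Finset.mem_univ, if_true]
    intro u hu
    have h' := LinearMap.congr_fun h ⟨u, hu⟩
    simp only [LinearMap.comp_apply, Submodule.subtype_apply, LinearMap.sum_apply,
      LinearMap.smulRight_apply, LinearMap.flip_apply, polarBilin_apply_apply] at h'
    exact h'.symm
  refine ⟨fun j => (bE j : V), fun j => (bM j : V), fun j => hQp _ (bE j).2,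
    fun j => hQm _ (bM j).2, hbM, fun j l => hBp _ (bE j).2 _ (bE l).2,
    fun j l => hBm _ (bM j).2 _ (bM l).2, ?_⟩
  intro y
  show T y = y + ∑ j, (((i - 1) * polar Q y (bM j : V)) • (bE j : V) +
          (-((i + 1) * polar Q y (bE j : V))) • (bM j : V))
  obtain ⟨yp, hyp, ym, hym, rfl⟩ := hsplit y
  have h1 : ∀ j, polar Q (yp + ym) (bM j : V) = polar Q yp (bM j : V) := by
    intro j
    rw [polar_add_left, hBm ym hym _ (bM j).2, add_zero]
  have h2' : ∀ j, polar Q (yp + ym) (bE j : V) = polar Q ym (bE j : V) := by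
    intro j
    rw [polar_add_left, hBp yp hyp _ (bE j).2, zero_add]
  have h3 : ∑ j, (((i - 1) * polar Q (yp + ym) (bM j : V)) • (bE j : V) +
      (-((i + 1) * polar Q (yp + ym) (bE j : V))) • (bM j : V))
      = (i - 1) • yp + (-(i + 1)) • ym := by
    have e1 := hexpP yp hyp
    have e2 := hexpM ym hym
    rw [Finset.sum_add_distrib]
    conv_rhs => rw [e1, e2]
    rw [Finset.smul_sum, Finset.smul_sum]
    congr 1
    · apply Finset.sum_congr rfl
      intro j _
      rw [h1, smul_smul]
    · apply Finset.sum_congr rfl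
      intro j _
      rw [h2', smul_smul, neg_mul]
  rw [h3, map_add, (memp yp).mp hyp, (memm ym).mp hym]
  module

end adapted

theorem main : NegSqNon5.{u} := by
  intro F _ _ hq d hd hodd x hx hsq
  classical
  have hqodd : Odd (Fintype.card F) := by
    rw [Nat.odd_iff]; omega
  have h2 : (2 : F) ≠ 0 := two_ne_zero_of_odd_card hqodd
  have hchar : ringChar F ≠ 2 := ringChar_ne_two_of_two_ne_zero h2
  obtain ⟨i, hi⟩ : IsSquare (-1 : F) := by
    rw [FiniteField.isSquare_neg_one_iff]; omega
  have hi' : i * i = -1 := hi.symm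
  have hi0 : i ≠ 0 := by
    rintro rfl
    rw [mul_zero] at hi'
    exact one_ne_zero (neg_eq_zero.mp hi'.symm)
  have hns : ¬ IsSquare (i ^ d) := by
    rw [FiniteField.isSquare_iff hchar (pow_ne_zero d hi0)]
    obtain ⟨m, rfl⟩ := hodd
    obtain ⟨k, hk⟩ : ∃ k, Fintype.card F / 2 = 2 * (2 * k + 1) :=
      ⟨Fintype.card F / 8, by omega⟩
    have e : (2 * m + 1) * (2 * (2 * k + 1)) = 2 * ((2 * m + 1) * (2 * k + 1)) := by ring
    have ho : Odd ((2 * m + 1) * (2 * k + 1)) :=
      (odd_two_mul_add_one m).mul (odd_two_mul_add_one k)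
    rw [← pow_mul, hk, e, pow_mul, pow_two, hi', ho.neg_one_pow]
    intro h
    apply h2
    linear_combination (-1 : F) * h
  have hS := sep_plusQ (F := F) d
  have hn : 2 ≤ Fintype.card (P d) := by
    rw [Fintype.card_sum, Fintype.card_fin]; omega
  unfold Cfsg.Geo.omegaGL at hx
  obtain ⟨g, hgΩ, hgx⟩ := Subgroup.mem_map.mp hx
  have hgx' : ((g : GL (P d) F) : Matrix (P d) (P d) F) = (x : Matrix (P d) (P d) F) := by
    rw [← hgx]; rfl
  have hiso : ∀ v, plusQ d F ((x : Matrix (P d) (P d) F) *ᵥ v) = plusQ d F v := by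
    intro v
    have h := g.2 v v
    rw [← hgx']
    exact h
  obtain ⟨e, f, he, hf, hef, hee, hff, hTy⟩ := exists_adapted hS h2 d
    (by rw [Module.finrank_fintype_fun_eq_card, Fintype.card_sum, Fintype.card_fin]; ring)
    (Matrix.toLin' (x : Matrix (P d) (P d) F))
    (fun v => by rw [Matrix.toLin'_apply]; exact hiso v)
    (fun v => by
      rw [Matrix.toLin'_apply, Matrix.toLin'_apply, Matrix.mulVec_mulVec, hsq, Matrix.neg_mulVec,
        Matrix.one_mulVec]) i hi'
  obtain ⟨p1, p2, p3⟩ := ipairList_props i hi' e f he hf (fun j => by rw [hef, if_pos rfl])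
    (List.finRange d)
  have hg : ∀ y, ((g : GL (P d) F) : Matrix (P d) (P d) F) *ᵥ y
      = ((ipairList i e f (List.finRange d)).map (reflE (plusQ d F))).prod y := by
    intro y
    rw [ipair_prod i hi' e f he hf hef hee hff (List.finRange d) (List.nodup_finRange d) y, hgx',
      ← Matrix.toLin'_apply, hTy y, Fin.sum_univ_def]
  have hfin := (mem_omega_iff_of_mulVec h2 (plusQ d F) hS hn g _ p1 hg).mp hgΩ
  rw [p3, List.length_finRange] at hfin
  exact hns hfin.2

end Cfsg.Agent.Lib.Helper81.OPNEGSQNON5
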