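import Cfsg.Agent.Lib.Helper81.RMBridge
import Cfsg.Agent.Lib.Helper81.GlaubReal

/-!
# S4581 piece CLIF: the Clifford correspondence for real odd-degree characters over a real
linear character
-/

set_option autoImplicit false
set_option linter.style.haveILetI false
set_option linter.unusedSectionVars false

namespace Cfsg.Agent.Lib.Helper81.RMCLIF

open Cfsg
open Cfsg.Agent.Lib.Helper81.RMStmt Cfsg.Agent.Lib.Helper81.RMBridge
  Cfsg.Agent.Lib.Helper81.McKJ Cfsg.Agent.Lib.Helper81.GlaubReal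

universe u

variable {G : Type u} [Group G] [Finite G]

/-- lying over is compatible with complex conjugation -/
theorem ov_irrConj {Y X : Subgroup G} (hYX : Y ≤ X) (χ : IrrCharacter ↥X) (η : IrrCharacter ↥Y)
    (h : Ov hYX χ η) : Ov hYX (irrConj χ) (irrConj η) := by
  unfold Ov at h ⊢
  have h1 : (fun y : ↥Y => (irrConj χ).1 (Subgroup.inclusion hYX y) *
      (starRingEnd ℂ) ((irrConj η).1 y)) =
      (fun y : ↥Y => χ.1 (Subgroup.inclusion hYX y) * (starRingEnd ℂ) (η.1 y)) ∘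
        (Equiv.inv ↥Y) := by
    funext y
    show χ.1 (Subgroup.inclusion hYX y)⁻¹ * (starRingEnd ℂ) (η.1 y⁻¹) = _
    simp [Function.comp]
  have h2 : finsum ((fun y : ↥Y => χ.1 (Subgroup.inclusion hYX y) * (starRingEnd ℂ) (η.1 y)) ∘
      (Equiv.inv ↥Y)) = ∑ᶠ y : ↥Y, χ.1 (Subgroup.inclusion hYX y) * (starRingEnd ℂ) (η.1 y) :=
    finsum_comp_equiv (Equiv.inv ↥Y)
      (f := fun y : ↥Y => χ.1 (Subgroup.inclusion hYX y) * (starRingEnd ℂ) (η.1 y))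
  rw [h1, h2]
  exact h

theorem irrConj_tauIrr {K : Type u} [Group K] (τ : K →* ℤˣ) : irrConj (tauIrr τ) = tauIrr τ := by
  apply Subtype.ext
  funext k
  show (tauIrr τ).1 k⁻¹ = (tauIrr τ).1 k
  rw [tauIrr_apply, tauIrr_apply, map_inv, Int.units_inv_eq_self]

theorem main : CLIF.{u} := by
  intro G _ _ U hUn τ H H' hUH' hH'H hstab hodd
  have hn : ∀ g ∈ H, ∀ y ∈ U, g * y * g⁻¹ ∈ U := fun g _ y hy => hUn.conj_mem y hy g
  have hT : ∀ g, g ∈ H' ↔ g ∈ H ∧ IsConjCharOf U g (tauIrr τ).1 (tauIrr τ).1 := by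
    intro g
    rw [← conjRel_iff_isConjCharOf]
    constructor
    · intro hg
      exact ⟨hH'H hg, (hstab g (hH'H hg)).1 hg⟩
    · rintro ⟨hg, h⟩
      exact (hstab g hg).2 h
  have hη : irrConj (tauIrr τ) = tauIrr τ := irrConj_tauIrr τ
  have key := Cfsg.Agent.Lib.Helper81.McKI.card_rel
    (fun χ : IrrCharacter ↥H => (∀ h : ↥H, ((χ : ↥H → ℂ) h).im = 0) ∧
      Odd (charDegree (χ : ↥H → ℂ)) ∧ Over U H (hUH'.trans hH'H) τ (χ : ↥H → ℂ))
    (fun ψ : IrrCharacter ↥H' => (∀ h : ↥H', ((ψ : ↥H' → ℂ) h).im = 0) ∧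
      Odd (charDegree (ψ : ↥H' → ℂ)) ∧ Over U H' hUH' τ (ψ : ↥H' → ℂ))
    (fun χ ψ => Ov hH'H χ ψ) ?_ ?_ ?_ ?_
  · exact key
  · rintro χ ⟨hreal, hdeg, hov⟩
    rw [over_iff_ov] at hov
    rw [real_iff_irrConj] at hreal
    obtain ⟨ψ, h1, h2⟩ := cc_down hUH' hH'H hn (tauIrr τ) hT χ hov
    obtain ⟨hd, huniq⟩ := cc_main hUH' hH'H hn (tauIrr τ) hT χ ψ h1 h2
    refine ⟨ψ, ⟨?_, ?_, ?_⟩, h1⟩
    · rw [real_iff_irrConj]
      apply huniq
      · have := ov_irrConj hH'H χ ψ h1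
        rwa [hreal] at this
      · have := ov_irrConj hUH' ψ (tauIrr τ) h2
        rwa [hη] at this
    · rw [hd] at hdeg
      exact (Nat.odd_mul.1 hdeg).2
    · rw [over_iff_ov]
      exact h2
  · rintro ψ ⟨hreal, hdeg, hov⟩
    rw [over_iff_ov] at hov
    rw [real_iff_irrConj] at hreal
    obtain ⟨χ, hχ⟩ := exists_ov_up hH'H ψ
    obtain ⟨hd, -⟩ := cc_main hUH' hH'H hn (tauIrr τ) hT χ ψ hχ hov
    refine ⟨χ, ⟨?_, ?_, ?_⟩, hχ⟩
    · rw [real_iff_irrConj]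
      have := ov_irrConj hH'H χ ψ hχ
      rw [hreal] at this
      exact cc_unique hUH' hH'H hn (tauIrr τ) hT ψ hov _ _ this hχ
    · rw [hd]
      exact Nat.odd_mul.2 ⟨hodd, hdeg⟩
    · rw [over_iff_ov]
      exact ov_trans hH'H hUH' χ ψ (tauIrr τ) hχ hov
  · rintro χ ψ ψ' _ ⟨_, _, hψ⟩ ⟨_, _, hψ'⟩ h h'
    rw [over_iff_ov] at hψ hψ'
    exact ((cc_main hUH' hH'H hn (tauIrr τ) hT χ ψ' h' hψ').2 ψ h hψ)
  · rintro χ χ' ψ _ _ ⟨_, _, hψ⟩ h h'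
    rw [over_iff_ov] at hψ
    exact cc_unique hUH' hH'H hn (tauIrr τ) hT ψ hψ χ χ' h h'

end Cfsg.Agent.Lib.Helper81.RMCLIF
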