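import Cfsg.Agent.Lib.Helper81.RMBridge
import Cfsg.Agent.Lib.Helper99.RMMINN
import Cfsg.Agent.S4807

/-!
# S4581 piece MCK2: the McKay count for `p = 2` in solvable groups, from S4807
-/

set_option autoImplicit false
set_option linter.style.haveILetI false
set_option linter.unusedSectionVars false

namespace Cfsg.Agent.Lib.Helper81.RMMCK2

open Cfsg
open Cfsg.Agent.Lib.Helper81.RMStmt Cfsg.Agent.Lib.Helper81.RMBridge

universe u

/-- If `N ⊴ G` has order a power of `p` or prime to `p` and `G ⧸ N` is `p`-solvable then so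
is `G` (after `Helper87.PSolvExt.isPSolvable_of_quotient`). -/
theorem isPSolvable_of_quotient' {G : Type u} [Group G] (p : ℕ) (N : Subgroup G) [hN : N.Normal]
    (hc : (∃ m : ℕ, Nat.card N = p ^ m) ∨ (Nat.card N).Coprime p)
    (h : Cfsg.IsPSolvable p (G ⧸ N)) : Cfsg.IsPSolvable p G := by
  obtain ⟨n, H, h0, hlast, hmono, hnormal, hstep⟩ := h
  refine ⟨n + 1, fun i => Fin.cases ⊥ (fun j => (H j).comap (QuotientGroup.mk' N)) i,
    ?_, ?_, ?_, ?_, ?_⟩
  · rfl
  · have h1 : Fin.last (n + 1) = (Fin.last n).succ := rfl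
    rw [h1]
    simp only [Fin.cases_succ]
    rw [hlast]
    exact Subgroup.comap_top _
  · intro i j hij
    induction i using Fin.cases with
    | zero => exact bot_le
    | succ a =>
      induction j using Fin.cases with
      | zero =>
        exfalso
        exact absurd (le_antisymm hij (Fin.zero_le _)) (Fin.succ_ne_zero a)
      | succ b =>
        simp only [Fin.cases_succ]
        exact Subgroup.comap_mono (hmono (Fin.succ_le_succ_iff.mp hij))
  · intro i
    induction i using Fin.cases with
    | zero => exact Subgroup.normal_bot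
    | succ a =>
      simp only [Fin.cases_succ]
      exact (hnormal a).comap _
  · intro i
    induction i using Fin.cases with
    | zero =>
      show (∃ m : ℕ, (⊥ : Subgroup G).relIndex ((H 0).comap (QuotientGroup.mk' N)) = p ^ m) ∨
        ((⊥ : Subgroup G).relIndex ((H 0).comap (QuotientGroup.mk' N))).Coprime p
      rw [h0, MonoidHom.comap_bot, QuotientGroup.ker_mk', Subgroup.relIndex_bot_left]
      exact hc
    | succ a =>
      have h2 : ((H a.castSucc).comap (QuotientGroup.mk' N)).relIndex
          ((H a.succ).comap (QuotientGroup.mk' N)) = (H a.castSucc).relIndex (H a.succ) := by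
        rw [Subgroup.relIndex_comap,
          Subgroup.map_comap_eq_self_of_surjective (QuotientGroup.mk'_surjective N)]
      have h3 : (Fin.cases (motive := fun _ => Subgroup G) ⊥
          (fun j => (H j).comap (QuotientGroup.mk' N)) a.succ.castSucc) =
          (H a.castSucc).comap (QuotientGroup.mk' N) := by
        rw [← Fin.succ_castSucc]
        rfl
      have h4 : (Fin.cases (motive := fun _ => Subgroup G) ⊥
          (fun j => (H j).comap (QuotientGroup.mk' N)) a.succ.succ) =
          (H a.succ).comap (QuotientGroup.mk' N) := rfl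
      show (∃ m : ℕ, (Fin.cases (motive := fun _ => Subgroup G) ⊥
          (fun j => (H j).comap (QuotientGroup.mk' N)) a.succ.castSucc).relIndex
          (Fin.cases (motive := fun _ => Subgroup G) ⊥
          (fun j => (H j).comap (QuotientGroup.mk' N)) a.succ.succ) = p ^ m) ∨
          ((Fin.cases (motive := fun _ => Subgroup G) ⊥
          (fun j => (H j).comap (QuotientGroup.mk' N)) a.succ.castSucc).relIndex
          (Fin.cases (motive := fun _ => Subgroup G) ⊥
          (fun j => (H j).comap (QuotientGroup.mk' N)) a.succ.succ)).Coprime p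
      rw [h3, h4, h2]
      exact hstep a

/-- a finite solvable group is `2`-solvable -/
theorem isPSolvable_two : ∀ (n : ℕ) (G : Type u) [Group G] [Finite G] [Group.IsSolvable G],
    Nat.card G = n → Cfsg.IsPSolvable 2 G := by
  intro n
  induction n using Nat.strong_induction_on with
  | _ n IH =>
    intro G _ _ _ hn
    rcases subsingleton_or_nontrivial G with hs | hnt
    · refine ⟨0, fun _ => ⊥, rfl, Subsingleton.elim _ _, monotone_const,
        fun _ => Subgroup.normal_bot, fun i => i.elim0⟩
    · obtain ⟨U, hUn, hU, hcase⟩ := Cfsg.Agent.Lib.Helper99.RMMINN.main G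
      haveI := hUn
      have hlt : Nat.card (G ⧸ U) < n := by
        have h1 := Subgroup.card_eq_card_quotient_mul_card_subgroup U
        have h3 : 1 < Nat.card ↥U := by
          rw [Subgroup.one_lt_card_iff_ne_bot]
          exact hU
        have h5 : 0 < Nat.card (G ⧸ U) := Nat.card_pos
        rw [← hn]
        nlinarith
      have hq := IH (Nat.card (G ⧸ U)) hlt (G ⧸ U) rfl
      apply isPSolvable_of_quotient' 2 U _ hq
      rcases hcase with hodd | hexp
      · right
        exact Nat.coprime_two_right.2 hodd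
      · left
        have hUpg : IsPGroup 2 ↥U := by
          intro g
          refine ⟨1, ?_⟩
          apply Subtype.ext
          have := hexp g g.2
          simpa [pow_two] using this
        exact IsPGroup.iff_card.1 hUpg

theorem sum_bot {G : Type u} [Group G] (f : ↥(⊥ : Subgroup G) → ℂ) :
    ∑ᶠ l : ↥(⊥ : Subgroup G), f l = f 1 := by
  rw [finsum_unique]
  rfl

theorem main : MCK2.{u} := by
  intro G _ _ _ P
  have hG := isPSolvable_two (Nat.card G) G rfl
  have hLN : (⊥ : Subgroup G) ≤ Subgroup.normalizer (((P : Subgroup G)) : Set G) := bot_le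
  have key := Cfsg.Agent.S4807.result 2 hG (⊥ : Subgroup G) P (P : Subgroup G) (bot_sup_eq _).symm
    hLN (tauIrr (1 : ↥(⊥ : Subgroup G) →* ℤˣ)) (by
      intro x _ k k' _
      rw [tauIrr_one, tauIrr_one])
  have e1 : Nat.card {χ : IrrCharacter G // Odd (charDegree (χ : G → ℂ))} =
      Nat.card {χ : Cfsg.IrrCharacter G // ¬ 2 ∣ Cfsg.charDegree (χ : G → ℂ) ∧
        (∑ᶠ l : ↥(⊥ : Subgroup G), (χ : G → ℂ) (l : G) *
          (starRingEnd ℂ) (((tauIrr (1 : ↥(⊥ : Subgroup G) →* ℤˣ)) : ↥(⊥ : Subgroup G) → ℂ) l))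
            ≠ 0} := by
    apply Nat.card_congr
    refine Equiv.subtypeEquivRight (fun χ => ?_)
    rw [sum_bot, tauIrr_one, map_one, mul_one]
    constructor
    · intro h
      refine ⟨by rw [← even_iff_two_dvd, Nat.not_even_iff_odd]; exact h, ?_⟩
      show χ.1 1 ≠ 0
      rw [Cfsg.Agent.Lib.Helper81.CliffCorr.deg_cast χ]
      exact Nat.cast_ne_zero.2 (Cfsg.Agent.Lib.Helper81.CliffCorr.deg_pos χ).ne'
    · rintro ⟨h, -⟩
      rw [← even_iff_two_dvd, Nat.not_even_iff_odd] at h
      exact h
  have e2 : Nat.card {ψ : IrrCharacter ↥(Subgroup.normalizer ((P : Subgroup G) : Set G)) //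
        Odd (charDegree (ψ : ↥(Subgroup.normalizer ((P : Subgroup G) : Set G)) → ℂ))} =
      Nat.card {ψ : Cfsg.IrrCharacter ↥(Subgroup.normalizer ((P : Subgroup G) : Set G)) //
        ¬ 2 ∣ Cfsg.charDegree (ψ : ↥(Subgroup.normalizer ((P : Subgroup G) : Set G)) → ℂ) ∧
        (∑ᶠ l : ↥(⊥ : Subgroup G),
          (ψ : ↥(Subgroup.normalizer ((P : Subgroup G) : Set G)) → ℂ) (Subgroup.inclusion hLN l) *
          (starRingEnd ℂ) (((tauIrr (1 : ↥(⊥ : Subgroup G) →* ℤˣ)) : ↥(⊥ : Subgroup G) → ℂ) l))
            ≠ 0} := by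
    apply Nat.card_congr
    refine Equiv.subtypeEquivRight (fun ψ => ?_)
    rw [sum_bot, tauIrr_one, map_one, map_one, mul_one]
    constructor
    · intro h
      refine ⟨by rw [← even_iff_two_dvd, Nat.not_even_iff_odd]; exact h, ?_⟩
      show ψ.1 1 ≠ 0
      rw [Cfsg.Agent.Lib.Helper81.CliffCorr.deg_cast ψ]
      exact Nat.cast_ne_zero.2 (Cfsg.Agent.Lib.Helper81.CliffCorr.deg_pos ψ).ne'
    · rintro ⟨h, -⟩
      rw [← even_iff_two_dvd, Nat.not_even_iff_odd] at h
      exact h
  rw [e1, e2]
  exact key

end Cfsg.Agent.Lib.Helper81.RMMCK2
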