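import Cfsg.Agent.Lib.Helper81.RMStmt
import Cfsg.Agent.Lib.Helper81.RealF

/-!
# Assembly for S4581 (real McKay for `p = 2` in solvable groups)

Given the pieces of `RMStmt`, the count of real odd-degree characters of a finite solvable group
equals that of the normalizer of a Sylow `2`-subgroup (`count`), and the criterion `part2`.
-/

set_option autoImplicit false
set_option linter.style.haveILetI false
set_option linter.unusedSectionVars false

namespace Cfsg.Agent.Lib.Helper81.RMMain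

open Cfsg
open Cfsg.Agent.Lib.Helper81.RMStmt

universe u

/-- all the pieces -/
structure Pieces : Prop where
  iso : ISO.{u}
  oddker : ODDKER.{u}
  nquot : NQUOT.{u}
  trivh : TRIVH.{u}
  clif : CLIF.{u}
  orb : ORB.{u}
  wcount : WCOUNT.{u}
  van : VAN.{u}
  ext : EXT.{u}
  twist : TWIST.{u}
  minn : MINN.{u}
  mck2 : MCK2.{u}
  nsyla : NSYLA.{u}
  nsylb : NSYLB.{u}

section helpers

variable {G : Type u} [Group G] [Finite G]

theorem finite_irr' (K : Type u) [Group K] [Finite K] : Finite (IrrCharacter K) :=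
  Cfsg.Agent.Lib.Helper81.Expand.finite_irr

theorem card_quot_lt (U T : Subgroup G) (hU : U ≠ ⊥) (hUT : U ≤ T) :
    Nat.card (↥T ⧸ U.subgroupOf T) < Nat.card G := by
  have h1 := Subgroup.card_eq_card_quotient_mul_card_subgroup (U.subgroupOf T)
  have h2 : Nat.card ↥(U.subgroupOf T) = Nat.card ↥U :=
    Nat.card_congr (Subgroup.subgroupOfEquivOfLe hUT).toEquiv
  have h3 : 1 < Nat.card ↥U := by
    rw [Subgroup.one_lt_card_iff_ne_bot]
    exact hU
  have h4 : Nat.card ↥T ≤ Nat.card G := Subgroup.card_le_card_group T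
  have h5 : 0 < Nat.card (↥T ⧸ U.subgroupOf T) := Nat.card_pos
  rw [h2] at h1
  nlinarith

theorem odd_index_of_le (P : Sylow 2 G) (T : Subgroup G) (hPT : (P : Subgroup G) ≤ T) :
    Odd T.index := by
  have h1 : ¬ 2 ∣ (P : Subgroup G).index := P.not_dvd_index
  have h2 : T.index ∣ (P : Subgroup G).index := Subgroup.index_dvd_of_le hPT
  rw [← Nat.not_even_iff_odd, even_iff_two_dvd]
  exact fun h => h1 (h.trans h2)

theorem odd_relIndex_of_le (P : Sylow 2 G) (M N : Subgroup G) (hPM : (P : Subgroup G) ≤ M)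
    (hMN : M ≤ N) : Odd (M.relIndex N) := by
  have h1 : ¬ 2 ∣ (P : Subgroup G).index := P.not_dvd_index
  have h2 : M.relIndex N ∣ (P : Subgroup G).relIndex N := Subgroup.relIndex_dvd_of_le_left N hPM
  have h3 : (P : Subgroup G).relIndex N ∣ (P : Subgroup G).index :=
    Dvd.intro _ (Subgroup.relIndex_mul_index (hPM.trans hMN))
  rw [← Nat.not_even_iff_odd, even_iff_two_dvd]
  exact fun h => h1 ((h.trans h2).trans h3)

theorem card_fibre (U H : Subgroup G) (hUH : U ≤ H) (τ : ↥U →* ℤˣ) :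
    Nat.card {x : RO ↥H // Over U H hUH τ (x.1 : ↥H → ℂ)} = Nat.card (ROver U H hUH τ) := by
  apply Nat.card_congr
  exact (Equiv.subtypeSubtypeEquivSubtypeInter
    (fun χ : IrrCharacter ↥H => (∀ h : ↥H, ((χ : ↥H → ℂ) h).im = 0) ∧
      Odd (charDegree (χ : ↥H → ℂ)))
    (fun χ : IrrCharacter ↥H => Over U H hUH τ (χ : ↥H → ℂ))).trans
    (Equiv.subtypeEquivRight (fun χ => and_assoc))

theorem card_iff {A : Type u} [Finite A] (p q : A → Prop) :
    (∀ a, q a → p a) ↔ Nat.card {a // p a ∧ q a} = Nat.card {a // q a} := by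
  constructor
  · intro h
    exact Nat.card_congr (Equiv.subtypeEquivRight (fun a => ⟨fun h' => h'.2, fun h' => ⟨h a h', h'⟩⟩))
  · intro h a ha
    let f : {a // p a ∧ q a} → {a // q a} := fun x => ⟨x.1, x.2.2⟩
    have hf : Function.Injective f := by
      intro x y hxy
      have h' : (f x).1 = (f y).1 := congrArg Subtype.val hxy
      exact Subtype.ext h'
    have hb := hf.bijective_of_nat_card_le h.ge
    obtain ⟨x, hx⟩ := hb.2 ⟨a, ha⟩
    have h1 : x.1 = a := congrArg Subtype.val hx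
    rw [← h1]
    exact x.2.1

end helpers

/-- the fibre equality over a `P`-invariant `τ` (exponent-two case), given the induction
hypothesis -/
theorem fibre_eq (hp : Pieces.{u}) (G : Type u) [Group G] [Finite G] [Group.IsSolvable G]
    (ih : ∀ (G' : Type u) [Group G'] [Finite G'] [Group.IsSolvable G'],
      Nat.card G' < Nat.card G → ∀ P' : Sylow 2 G',
      Nat.card (RO G') =
        Nat.card (RO ↥(Subgroup.normalizer ((P' : Subgroup G') : Set G'))))
    (U : Subgroup G) [U.Normal] (hU : U ≠ ⊥) (P : Sylow 2 G) (hUP : U ≤ (P : Subgroup G))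
    (τ : ↥U →* ℤˣ) (hτ : ∀ x ∈ (P : Subgroup G), ConjRel U x τ τ) :
    Nat.card (ROver U ⊤ le_top τ) =
      Nat.card (ROver U (Subgroup.normalizer ((P : Subgroup G) : Set G))
        (hUP.trans Subgroup.le_normalizer) τ) := by
  set N : Subgroup G := Subgroup.normalizer ((P : Subgroup G) : Set G) with hN
  have hPN : (P : Subgroup G) ≤ N := Subgroup.le_normalizer
  have hUN : U ≤ N := hUP.trans hPN
  set T : Subgroup G := stabHom U τ with hT
  have hPT : (P : Subgroup G) ≤ T := fun x hx => hτ x hx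
  have hUT : U ≤ T := le_stabHom U τ
  have hUNT : U ≤ N ⊓ T := le_inf hUN hUT
  have c1 : Nat.card (ROver U ⊤ le_top τ) = Nat.card (ROver U T hUT τ) := by
    refine hp.clif G U τ ⊤ T hUT le_top (fun h _ => Iff.rfl) ?_
    rw [Subgroup.relIndex_top_right]
    exact odd_index_of_le P T hPT
  have c2 : Nat.card (ROver U N hUN τ) = Nat.card (ROver U (N ⊓ T) hUNT τ) :=
    hp.clif G U τ N (N ⊓ T) hUNT inf_le_left
      (fun h hh => ⟨fun h' => h'.2, fun h' => ⟨hh, h'⟩⟩)
      (odd_relIndex_of_le P (N ⊓ T) N (le_inf hPN hPT) inf_le_left)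
  rw [c1, c2]
  by_cases hex : ∃ ν : ↥(P : Subgroup G) →* ℤˣ, ∀ u : ↥U, ν (Subgroup.inclusion hUP u) = τ u
  · obtain ⟨lam, hlam⟩ := hp.ext G U P T hUT hPT hUP τ (fun h hh => hh) hex
    have t1 : Nat.card (ROver U T hUT τ) = Nat.card (ROver U T hUT 1) :=
      hp.twist G U T hUT τ lam hlam
    have t2 : Nat.card (ROver U (N ⊓ T) hUNT τ) = Nat.card (ROver U (N ⊓ T) hUNT 1) :=
      hp.twist G U (N ⊓ T) hUNT τ (lam.comp (Subgroup.inclusion inf_le_right))
        (fun u => hlam u)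
    have v1 := hp.trivh G U T hUT
    have v2 := hp.trivh G U (N ⊓ T) hUNT
    obtain ⟨Q, ⟨e⟩⟩ := hp.nquot G U P T (N ⊓ T) hUT hPT (fun g => Iff.rfl)
    have i1 := ih (↥T ⧸ U.subgroupOf T) (card_quot_lt U T hU hUT) Q
    have i2 := hp.iso _ _ e
    rw [t1, t2, v1, v2, i1, i2]
  · haveI e1 : IsEmpty (ROver U T hUT τ) := hp.van G U P T hUT hPT hUP τ (fun h hh => hh) hex
    haveI e2 : IsEmpty (ROver U (N ⊓ T) hUNT τ) :=
      hp.van G U P (N ⊓ T) hUNT (le_inf hPN hPT) hUP τ (fun h hh => hh.2) hex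
    rw [Nat.card_of_isEmpty, Nat.card_of_isEmpty]

/-- the count of real odd-degree characters: `G` versus the normalizer of a Sylow `2`-subgroup -/
theorem count (hp : Pieces.{u}) : ∀ (n : ℕ) (G : Type u) [Group G] [Finite G]
    [Group.IsSolvable G], Nat.card G = n → ∀ P : Sylow 2 G,
    Nat.card (RO G) = Nat.card (RO ↥(Subgroup.normalizer ((P : Subgroup G) : Set G))) := by
  intro n
  induction n using Nat.strong_induction_on with
  | _ n IH =>
    intro G _ _ _ hn P
    have ih : ∀ (G' : Type u) [Group G'] [Finite G'] [Group.IsSolvable G'],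
        Nat.card G' < Nat.card G → ∀ P' : Sylow 2 G',
        Nat.card (RO G') =
          Nat.card (RO ↥(Subgroup.normalizer ((P' : Subgroup G') : Set G'))) :=
      fun G' _ _ _ hlt P' => IH (Nat.card G') (hn ▸ hlt) G' rfl P'
    set N : Subgroup G := Subgroup.normalizer ((P : Subgroup G) : Set G) with hN
    have hPN : (P : Subgroup G) ≤ N := Subgroup.le_normalizer
    rcases subsingleton_or_nontrivial G with hs | hnt
    · haveI : Unique G := uniqueOfSubsingleton 1
      haveI : Unique ↥N := uniqueOfSubsingleton 1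
      exact hp.iso G ↥N MulEquiv.ofUnique
    · obtain ⟨U, hUn, hU, hcase⟩ := hp.minn G
      haveI := hUn
      have e1 : Nat.card (RO G) = Nat.card (RO ↥(⊤ : Subgroup G)) :=
        hp.iso G ↥(⊤ : Subgroup G) Subgroup.topEquiv.symm
      rcases hcase with hodd | hexp
      · have e2 := hp.oddker G U ⊤ hodd
        have e3 := hp.oddker G U N hodd
        obtain ⟨Q, ⟨e⟩⟩ := hp.nquot G U P ⊤ N le_top le_top
          (fun g => ⟨fun h => ⟨h, Subgroup.mem_top g⟩, fun h => h.1⟩)
        have i1 := ih (↥(⊤ : Subgroup G) ⧸ U.subgroupOf ⊤) (card_quot_lt U ⊤ hU le_top) Q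
        have i2 := hp.iso _ _ e
        rw [e1, e2, e3, i1, i2]
      · have hUpg : IsPGroup 2 ↥U := by
          intro g
          refine ⟨1, ?_⟩
          apply Subtype.ext
          have := hexp g g.2
          simpa [pow_two] using this
        have hUP : U ≤ (P : Subgroup G) :=
          Cfsg.Agent.Lib.Helper81.RealF.le_of_normal_pgroup 2 U hUpg (P : Subgroup G) P.not_dvd_index
        have hUN : U ≤ N := hUP.trans hPN
        rw [e1]
        haveI := finite_irr' ↥(⊤ : Subgroup G)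
        haveI := finite_irr' ↥N
        have horbT := hp.orb G U hexp P ⊤ le_top le_top
        have horbN := hp.orb G U hexp P N hUN hPN
        refine hp.wcount (RO ↥(⊤ : Subgroup G)) (RO ↥N)
          {τ : ↥U →* ℤˣ // ∀ x ∈ (P : Subgroup G), ConjRel U x τ τ}
          (fun τ τ' => ∃ n ∈ N, ConjRel U n τ.1 τ'.1)
          (fun χ τ => Over U ⊤ le_top τ.1 (χ.1 : ↥(⊤ : Subgroup G) → ℂ))
          (fun ψ τ => Over U N hUN τ.1 (ψ.1 : ↥N → ℂ)) ?_ ?_ ?_ ?_ ?_ ?_
        · refine ⟨fun τ => ⟨1, N.one_mem, conjRel_one U τ.1⟩, ?_, ?_⟩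
          · rintro τ τ' ⟨n, hn, h⟩
            exact ⟨n⁻¹, N.inv_mem hn, conjRel_inv U h⟩
          · rintro τ τ' τ'' ⟨n, hn, h⟩ ⟨m, hm, h'⟩
            exact ⟨m * n, N.mul_mem hm hn, conjRel_mul U h h'⟩
        · intro χ
          obtain ⟨τ, h1, h2⟩ := (horbT χ.1 χ.2.2).1
          exact ⟨⟨τ, h1⟩, h2⟩
        · intro χ τ τ' hχτ
          constructor
          · intro hχτ'
            obtain ⟨n, -, hnN, hc⟩ := (horbT χ.1 χ.2.2).2.1 τ.1 τ'.1 τ.2 τ'.2 hχτ hχτ'
            exact ⟨n, hnN, hc⟩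
          · rintro ⟨n, hnN, hc⟩
            exact (horbT χ.1 χ.2.2).2.2 τ.1 τ'.1 n (Subgroup.mem_top n) hc hχτ
        · intro ψ
          obtain ⟨τ, h1, h2⟩ := (horbN ψ.1 ψ.2.2).1
          exact ⟨⟨τ, h1⟩, h2⟩
        · intro ψ τ τ' hψτ
          constructor
          · intro hψτ'
            obtain ⟨n, -, hnN, hc⟩ := (horbN ψ.1 ψ.2.2).2.1 τ.1 τ'.1 τ.2 τ'.2 hψτ hψτ'
            exact ⟨n, hnN, hc⟩
          · rintro ⟨n, hnN, hc⟩
            exact (horbN ψ.1 ψ.2.2).2.2 τ.1 τ'.1 n hnN hc hψτ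
        · intro τ
          rw [card_fibre U ⊤ le_top τ.1, card_fibre U N hUN τ.1]
          exact fibre_eq hp G ih U hU P hUP τ.1 τ.2

/-- the criterion -/
theorem part2 (hp : Pieces.{u}) (G : Type u) [Group G] [Finite G] [Group.IsSolvable G]
    (P : Sylow 2 G) :
    (∀ χ : IrrCharacter G, Odd (charDegree (χ : G → ℂ)) → ∀ g : G, ((χ : G → ℂ) g).im = 0) ↔
      (commutator ↥(P : Subgroup G) = frattini ↥(P : Subgroup G) ∧
        Subgroup.normalizer ((P : Subgroup G) : Set G) = (P : Subgroup G)) := by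
  haveI := finite_irr' G
  haveI := finite_irr' ↥(Subgroup.normalizer ((P : Subgroup G) : Set G))
  have h1 := card_iff (A := IrrCharacter G) (fun χ => ∀ g : G, ((χ : G → ℂ) g).im = 0)
    (fun χ => Odd (charDegree (χ : G → ℂ)))
  have h2 := card_iff (A := IrrCharacter ↥(Subgroup.normalizer ((P : Subgroup G) : Set G)))
    (fun ψ => ∀ g, ((ψ : ↥(Subgroup.normalizer ((P : Subgroup G) : Set G)) → ℂ) g).im = 0)
    (fun ψ => Odd (charDegree (ψ : ↥(Subgroup.normalizer ((P : Subgroup G) : Set G)) → ℂ)))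
  have h3 := count hp (Nat.card G) G rfl P
  have h4 := hp.mck2 G P
  have h5 : (∀ χ : IrrCharacter G, Odd (charDegree (χ : G → ℂ)) →
        ∀ g : G, ((χ : G → ℂ) g).im = 0) ↔
      (∀ ψ : IrrCharacter ↥(Subgroup.normalizer ((P : Subgroup G) : Set G)),
        Odd (charDegree (ψ : ↥(Subgroup.normalizer ((P : Subgroup G) : Set G)) → ℂ)) →
        ∀ g, ((ψ : ↥(Subgroup.normalizer ((P : Subgroup G) : Set G)) → ℂ) g).im = 0) := by
    rw [h1, h2]
    unfold RO at h3
    rw [h3, h4]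
  rw [h5]
  exact ⟨fun h => hp.nsyla G P h, fun h => hp.nsylb G P h.1 h.2⟩

end Cfsg.Agent.Lib.Helper81.RMMain
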