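import Cfsg.Agent.Lib.Helper81.RMBridge
import Cfsg.Agent.Lib.Helper81.McKK
import Cfsg.Agent.Lib.Helper81.RealF
import Cfsg.Agent.H41.AbRestr

/-!
# S4581 piece ORB: the `P`-invariant linear constituents of an odd-degree character
-/

set_option autoImplicit false
set_option linter.style.haveILetI false
set_option linter.unusedSectionVars false

namespace Cfsg.Agent.Lib.Helper81.RMORB

open Cfsg
open Cfsg.Agent.Lib.Helper81.RMStmt Cfsg.Agent.Lib.Helper81.RMBridge
  Cfsg.Agent.Lib.Helper81.McKJ Cfsg.Agent.Lib.Helper81.McKK Cfsg.Agent.Lib.Helper81.Cliff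

universe u

/-- a linear character with values of square one comes from a homomorphism to `ℤˣ` -/
theorem exists_tau_of_sq {K : Type u} [Group K] (f : K →* ℂˣ) (hsq : ∀ k, f k * f k = 1) :
    ∃ τ : K →* ℤˣ, ∀ k, ((f k : ℂˣ) : ℂ) = (((τ k : ℤˣ) : ℤ) : ℂ) := by
  classical
  have hcase : ∀ k, f k = 1 ∨ f k = -1 := by
    intro k
    have h1 : ((f k : ℂˣ) : ℂ) * ((f k : ℂˣ) : ℂ) = 1 := by
      rw [← Units.val_mul, hsq k, Units.val_one]
    rcases mul_self_eq_one_iff.1 h1 with h | h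
    · left
      exact Units.ext h
    · right
      exact Units.ext (by rw [h]; simp)
  have hneg : (-1 : ℂˣ) ≠ 1 := by
    intro h
    have h2 := congrArg (fun x : ℂˣ => (x : ℂ)) h
    simp only [Units.val_neg, Units.val_one] at h2
    norm_num at h2
  refine ⟨MonoidHom.mk' (fun k => if f k = 1 then 1 else -1) ?_, ?_⟩
  · intro a b
    rw [map_mul]
    rcases hcase a with ha | ha <;> rcases hcase b with hb | hb <;> simp [ha, hb, hneg]
  · intro k
    rw [MonoidHom.mk'_apply]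
    rcases hcase k with hk | hk <;> simp [hk, hneg]

/-- in a group of exponent two every irreducible character is of the form `tauIrr τ` -/
theorem exists_tauIrr {K : Type u} [Group K] [Finite K] (hexp : ∀ k : K, k * k = 1)
    (η : IrrCharacter K) : ∃ τ : K →* ℤˣ, η = tauIrr τ := by
  have hab : ∀ a b : K, a * b = b * a := by
    intro a b
    have h1 := hexp (a * b)
    have h2 := hexp a
    have h3 := hexp b
    calc a * b = a * (a * b * (a * b)) * b := by rw [h1, mul_one]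
      _ = (a * a) * (b * a) * (b * b) := by group
      _ = b * a := by rw [h2, h3, one_mul, mul_one]
  have h1 : η.1 1 = 1 := Cfsg.Agent.H41.irr_linear_of_comm hab η.2
  obtain ⟨f, hf⟩ := Cfsg.Agent.Lib.CT.LinChar.exists_hom_of_isCharacter η.1 (irr_isCharacter η) h1
  obtain ⟨τ, hτ⟩ := exists_tau_of_sq f (fun k => by rw [← map_mul, hexp k, map_one])
  refine ⟨τ, ?_⟩
  apply Subtype.ext
  funext k
  rw [hf k, hτ k, tauIrr_apply]

theorem main : ORB.{u} := by
  intro G _ _ U hUn hexp P H hUH hPH χ hχ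
  have hUpg : IsPGroup 2 ↥U := by
    intro g
    refine ⟨1, ?_⟩
    apply Subtype.ext
    have := hexp g g.2
    simpa [pow_two] using this
  have hUP : U ≤ (P : Subgroup G) :=
    Cfsg.Agent.Lib.Helper81.RealF.le_of_normal_pgroup 2 U hUpg (P : Subgroup G) P.not_dvd_index
  have hsup : U ⊔ (P : Subgroup G) = (P : Subgroup G) := sup_eq_right.2 hUP
  have hnK : ∀ g ∈ H, ∀ k ∈ U, g * k * g⁻¹ ∈ U := fun g _ k hk => hUn.conj_mem k hk g
  have hS : IsPGroup 2 ↥(P : Subgroup G) := P.isPGroup'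
  have hSyl : ¬ 2 ∣ (P : Subgroup G).relIndex H := by
    intro h
    exact P.not_dvd_index (h.trans (Dvd.intro _ (Subgroup.relIndex_mul_index hPH)))
  have hexp' : ∀ k : ↥U, k * k = 1 := fun k => Subtype.ext (hexp k k.2)
  have hχ' : ¬ 2 ∣ charDegree χ.1 := by
    rw [← even_iff_two_dvd, Nat.not_even_iff_odd]
    exact hχ
  refine ⟨?_, ?_, ?_⟩
  · obtain ⟨η, h1, h2⟩ := dl_exists 2 (P : Subgroup G) hUH hPH hnK hS hSyl χ hχ'
    obtain ⟨τ, rfl⟩ := exists_tauIrr hexp' η
    refine ⟨τ, ?_, (over_iff_ov U H hUH τ χ).2 h1⟩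
    intro x hx
    rw [conjRel_iff_isConjCharOf]
    exact h2 x (Subgroup.mem_sup_right hx)
  · intro τ τ' hτ hτ' h h'
    rw [over_iff_ov] at h h'
    have hN₁ : ∀ g, g ∈ H ⊓ Subgroup.normalizer ((P : Subgroup G) : Set G) ↔
        g ∈ H ∧ ∀ y, y ∈ U ⊔ (P : Subgroup G) ↔ g * y * g⁻¹ ∈ U ⊔ (P : Subgroup G) := by
      intro g
      rw [hsup, Subgroup.mem_inf, Subgroup.mem_normalizer_iff]
    have hP : ∀ g ∈ U ⊔ (P : Subgroup G), IsConjCharOf U g (tauIrr τ).1 (tauIrr τ).1 := by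
      intro g hg
      rw [hsup] at hg
      exact (conjRel_iff_isConjCharOf U g τ τ).1 (hτ g hg)
    have hP' : ∀ g ∈ U ⊔ (P : Subgroup G), IsConjCharOf U g (tauIrr τ').1 (tauIrr τ').1 := by
      intro g hg
      rw [hsup] at hg
      exact (conjRel_iff_isConjCharOf U g τ' τ').1 (hτ' g hg)
    obtain ⟨w, hw, hc⟩ := dl_orbit 2 (P : Subgroup G)
      (H ⊓ Subgroup.normalizer ((P : Subgroup G) : Set G)) hUH hPH hnK hS hSyl hN₁ χ
      (tauIrr τ) (tauIrr τ') h h' hP hP'
    exact ⟨w, hw.1, hw.2, (conjRel_iff_isConjCharOf U w τ τ').2 hc⟩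
  · intro τ τ' n hn hc h
    rw [over_iff_ov] at h ⊢
    exact ov_conj hUH hnK χ (tauIrr τ) (tauIrr τ') n hn
      ((conjRel_iff_isConjCharOf U n τ τ').1 hc) h

end Cfsg.Agent.Lib.Helper81.RMORB
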