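import Cfsg.Agent.Lib.Helper81.RMBridge
import Cfsg.Agent.Lib.Helper81.RMORB
import Cfsg.Agent.Lib.Helper81.OddIndex
import Cfsg.Agent.Lib.Helper81.Glaub
import Cfsg.Agent.Lib.Helper63.PFrattini
import Cfsg.Agent.Lib.Helper80.Integrality
import Cfsg.Agent.Lib.CT.Orth

/-!
# S4581 piece NSYLA: if all odd-degree characters of `N_G(P)` are real then `N_G(P) = P` and
`P' = Φ(P)`
-/

set_option autoImplicit false
set_option linter.style.haveILetI false
set_option linter.unusedSectionVars false

namespace Cfsg.Agent.Lib.Helper81.RMNSYLA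

open Cfsg
open Cfsg.Agent.Lib.Helper81.RMStmt Cfsg.Agent.Lib.Helper81.RMBridge
  Cfsg.Agent.Lib.Helper81.OddIndex Cfsg.Agent.Lib.Helper81.Cliff Cfsg.Agent.Lib.Helper81.Irr
open scoped ComplexConjugate

universe u

/-- a character with value one at the identity has degree one -/
theorem deg_one_of {K : Type u} [Group K] (χ : IrrCharacter K) (h : χ.1 1 = 1) :
    charDegree χ.1 = 1 := by
  have h1 := Cfsg.Agent.Lib.Helper81.CliffCorr.deg_cast χ
  rw [h] at h1
  exact_mod_cast h1.symm

/-- a real-valued character is invariant under inversion -/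
theorem inv_of_real {K : Type u} [Group K] [Finite K] (χ : IrrCharacter K)
    (h : ∀ k, (χ.1 k).im = 0) (k : K) : χ.1 k⁻¹ = χ.1 k := by
  rw [Cfsg.Agent.Lib.CT.Wedderburn.char_apply_inv (irr_isCharacter χ) k]
  exact Complex.conj_eq_iff_im.2 (h k)

/-- a finite group all of whose irreducible characters are trivial is trivial -/
theorem trivial_of_irr {Q : Type u} [Group Q] [Finite Q]
    (h : ∀ μ μ' : IrrCharacter Q, μ = μ') (q : Q) : q = 1 := by
  haveI : Subsingleton (IrrCharacter Q) := ⟨h⟩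
  have h1 : Nat.card (IrrCharacter Q) ≤ 1 := Finite.card_le_one_iff_subsingleton.2 inferInstance
  rw [Cfsg.Agent.Lib.CT.Orth.card_irrCharacter] at h1
  haveI : Subsingleton (ConjClasses Q) := Finite.card_le_one_iff_subsingleton.1 h1
  have h2 : ConjClasses.mk q = ConjClasses.mk 1 := Subsingleton.elim _ _
  exact isConj_one_left.1 (ConjClasses.mk_eq_mk_iff_isConj.1 h2)

theorem normalizer_eq {G : Type u} [Group G] [Finite G] (P : Sylow 2 G)
    (h : ∀ ψ : IrrCharacter ↥(Subgroup.normalizer ((P : Subgroup G) : Set G)),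
      Odd (charDegree (ψ : ↥(Subgroup.normalizer ((P : Subgroup G) : Set G)) → ℂ)) →
      ∀ g, ((ψ : ↥(Subgroup.normalizer ((P : Subgroup G) : Set G)) → ℂ) g).im = 0) :
    Subgroup.normalizer ((P : Subgroup G) : Set G) = (P : Subgroup G) := by
  classical
  set N : Subgroup G := Subgroup.normalizer ((P : Subgroup G) : Set G) with hN
  have hPN : (P : Subgroup G) ≤ N := Subgroup.le_normalizer
  haveI hVn : ((P : Subgroup G).subgroupOf N).Normal := Subgroup.normal_in_normalizer
  haveI : Fintype (↥N ⧸ (P : Subgroup G).subgroupOf N) := Fintype.ofFinite _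
  have hoddQ : Odd (Nat.card (↥N ⧸ (P : Subgroup G).subgroupOf N)) := by
    rw [← Subgroup.index_eq_card]
    have h1 : ¬ 2 ∣ (P : Subgroup G).index := P.not_dvd_index
    have h3 : (P : Subgroup G).relIndex N ∣ (P : Subgroup G).index :=
      Dvd.intro _ (Subgroup.relIndex_mul_index hPN)
    rw [← Nat.not_even_iff_odd, even_iff_two_dvd]
    exact fun h' => h1 (h'.trans h3)
  have htriv : ∀ μ : IrrCharacter (↥N ⧸ (P : Subgroup G).subgroupOf N),
      μ = trivChar (↥N ⧸ (P : Subgroup G).subgroupOf N) := by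
    intro μ
    have hdeg : charDegree (infl ((P : Subgroup G).subgroupOf N) μ).1 = charDegree μ.1 := by
      have h1 : ((charDegree (infl ((P : Subgroup G).subgroupOf N) μ).1 : ℕ) : ℂ) =
          ((charDegree μ.1 : ℕ) : ℂ) := by
        rw [← Cfsg.Agent.Lib.Helper81.CliffCorr.deg_cast,
          ← Cfsg.Agent.Lib.Helper81.CliffCorr.deg_cast μ, infl_apply, map_one]
      exact_mod_cast h1
    have hodd : Odd (charDegree (infl ((P : Subgroup G).subgroupOf N) μ).1) := by
      rw [hdeg]
      exact hoddQ.of_dvd_nat (Cfsg.Agent.Lib.Helper80.Integrality.charDegree_dvd_card μ)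
    have hreal := h (infl ((P : Subgroup G).subgroupOf N) μ) hodd
    have hrealμ : ∀ q, (μ.1 q).im = 0 := by
      intro q
      obtain ⟨g, rfl⟩ := QuotientGroup.mk'_surjective ((P : Subgroup G).subgroupOf N) q
      exact hreal g
    exact real_irr_eq_triv hoddQ μ (inv_of_real μ hrealμ)
  have hall := trivial_of_irr (fun μ μ' => (htriv μ).trans (htriv μ').symm)
  apply le_antisymm _ hPN
  intro n hn
  have h1 := hall (QuotientGroup.mk' ((P : Subgroup G).subgroupOf N) ⟨n, hn⟩)
  have h2 : (⟨n, hn⟩ : ↥N) ∈ (P : Subgroup G).subgroupOf N :=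
    (QuotientGroup.eq_one_iff _).1 h1
  exact h2

theorem frattini_le {G : Type u} [Group G] [Finite G] (P : Sylow 2 G)
    (hNP : Subgroup.normalizer ((P : Subgroup G) : Set G) = (P : Subgroup G))
    (h : ∀ ψ : IrrCharacter ↥(Subgroup.normalizer ((P : Subgroup G) : Set G)),
      Odd (charDegree (ψ : ↥(Subgroup.normalizer ((P : Subgroup G) : Set G)) → ℂ)) →
      ∀ g, ((ψ : ↥(Subgroup.normalizer ((P : Subgroup G) : Set G)) → ℂ) g).im = 0) :
    frattini ↥(P : Subgroup G) ≤ commutator ↥(P : Subgroup G) := by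
  classical
  intro g hg
  by_contra hgc
  have ha : Abelianization.of g ≠ 1 := by
    intro h1
    apply hgc
    rw [← Abelianization.ker_of]
    exact h1
  obtain ⟨φ, hφ⟩ := CommGroup.exists_apply_ne_one_of_hasEnoughRootsOfUnity
    (Abelianization ↥(P : Subgroup G)) ℂ ha
  set lam : ↥(P : Subgroup G) →* ℂˣ := φ.comp Abelianization.of with hlam
  have hlg : lam g ≠ 1 := hφ
  let ψ₀ : IrrCharacter ↥(P : Subgroup G) :=
    ⟨fun u => ((lam u : ℂˣ) : ℂ), Cfsg.Agent.Lib.CT.LinChar.isIrrCharacter_of_hom lam⟩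
  have hψ₀ : ∀ u, ψ₀.1 u = ((lam u : ℂˣ) : ℂ) := fun u => rfl
  let e : ↥(Subgroup.normalizer ((P : Subgroup G) : Set G)) ≃* ↥(P : Subgroup G) :=
    MulEquiv.subgroupCongr hNP
  have hodd : Odd (charDegree (Cfsg.Agent.Lib.Helper81.Glaub.irrComp e ψ₀).1) := by
    rw [deg_one_of]
    · exact odd_one
    · rw [Cfsg.Agent.Lib.Helper81.Glaub.irrComp_apply, map_one, hψ₀, map_one, Units.val_one]
  have hreal := h (Cfsg.Agent.Lib.Helper81.Glaub.irrComp e ψ₀) hodd
  have hreal₀ : ∀ u, (ψ₀.1 u).im = 0 := by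
    intro u
    have h1 := hreal (e.symm u)
    rw [Cfsg.Agent.Lib.Helper81.Glaub.irrComp_apply, MulEquiv.apply_symm_apply] at h1
    exact h1
  have hsq : ∀ u, lam u * lam u = 1 := by
    intro u
    have h1 := inv_of_real ψ₀ hreal₀ u
    rw [hψ₀, hψ₀] at h1
    have h2 : lam u⁻¹ = lam u := Units.ext h1
    rw [map_inv] at h2
    calc lam u * lam u = (lam u)⁻¹ * lam u := by rw [h2]
      _ = 1 := inv_mul_cancel _
  obtain ⟨τ, hτ⟩ := Cfsg.Agent.Lib.Helper81.RMORB.exists_tau_of_sq lam hsq
  have hτg : τ g ≠ 1 := by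
    intro h1
    apply hlg
    apply Units.ext
    rw [hτ g, h1]
    simp
  have hcase : ∀ u, τ u = 1 ∨ τ u = -1 := fun u => Int.units_eq_one_or (τ u)
  have hco : IsCoatom τ.ker := by
    refine ⟨?_, ?_⟩
    · intro htop
      apply hτg
      have : g ∈ τ.ker := by rw [htop]; exact Subgroup.mem_top g
      exact this
    · intro L hL
      obtain ⟨x, hxL, hxK⟩ := SetLike.exists_of_lt hL
      have hx : τ x = -1 := by
        rcases hcase x with h1 | h1
        · exact absurd h1 hxK
        · exact h1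
      rw [eq_top_iff]
      intro y _
      rcases hcase y with h1 | h1
      · exact hL.le h1
      · have h2 : y * x⁻¹ ∈ τ.ker := by
          rw [MonoidHom.mem_ker, map_mul, map_inv, h1, hx]
          simp
        have h3 : y = y * x⁻¹ * x := by group
        rw [h3]
        exact L.mul_mem (hL.le h2) hxL
  exact hτg (frattini_le_coatom hco hg)

theorem main : NSYLA.{u} := by
  intro G _ _ P h
  have hNP := normalizer_eq P h
  refine ⟨le_antisymm ?_ (frattini_le P hNP h), hNP⟩
  exact Cfsg.Agent.Lib.Helper63.PFrattini.commutator_le_frattini P.isPGroup'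

end Cfsg.Agent.Lib.Helper81.RMNSYLA
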