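import Cfsg.Agent.Lib.Helper81.RMBridge
import Cfsg.Agent.Lib.Helper16.Quot
import Cfsg.Agent.Lib.CT.Kernel

/-!
# S4581 piece TRIVH: real odd-degree characters over the trivial character of `U`
-/

set_option autoImplicit false
set_option linter.style.haveILetI false
set_option linter.unusedSectionVars false

namespace Cfsg.Agent.Lib.Helper81.RMTRIVH

open Cfsg
open Cfsg.Agent.Lib.Helper81.RMStmt Cfsg.Agent.Lib.Helper81.RMBridge
open scoped ComplexConjugate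

universe u

/-- the sum defining `Over … 1`, as a sum over `U.subgroupOf H` -/
theorem over_one_sum {G : Type u} [Group G] [Finite G] (U H : Subgroup G) (hUH : U ≤ H)
    [Fintype ↥(U.subgroupOf H)] (χ : ↥H → ℂ) :
    ∑ᶠ u : ↥U, χ (Subgroup.inclusion hUH u) * ((((1 : ↥U →* ℤˣ) u : ℤˣ) : ℤ) : ℂ) =
      ∑ n : ↥(U.subgroupOf H), χ n := by
  rw [← finsum_eq_sum_of_fintype,
    ← finsum_comp_equiv (Subgroup.subgroupOfEquivOfLe hUH).toEquiv]
  apply finsum_congr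
  intro n
  have h1 : Subgroup.inclusion hUH ((Subgroup.subgroupOfEquivOfLe hUH).toEquiv n) = (n : ↥H) :=
    Subtype.ext rfl
  rw [h1]
  simp

theorem main : TRIVH.{u} := by
  intro G _ _ U hUn H hUH
  classical
  haveI : Fintype ↥(U.subgroupOf H) := Fintype.ofFinite _
  have hVn : (U.subgroupOf H).Normal := inferInstance
  have hcard : (Nat.card ↥(U.subgroupOf H) : ℂ) ≠ 0 := Nat.cast_ne_zero.2 Nat.card_pos.ne'
  have hdeg : ∀ (χ : IrrCharacter ↥H) (μ : IrrCharacter (↥H ⧸ U.subgroupOf H)),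
      (∀ g : ↥H, χ.1 g = μ.1 (g : ↥H ⧸ U.subgroupOf H)) →
      charDegree χ.1 = charDegree μ.1 := by
    intro χ μ h
    have h1 : ((charDegree χ.1 : ℕ) : ℂ) = ((charDegree μ.1 : ℕ) : ℂ) := by
      rw [← Cfsg.Agent.Lib.Helper81.CliffCorr.deg_cast χ,
        ← Cfsg.Agent.Lib.Helper81.CliffCorr.deg_cast μ, h 1]
      rfl
    exact_mod_cast h1
  have key := Cfsg.Agent.Lib.Helper81.McKI.card_rel
    (fun χ : IrrCharacter ↥H => (∀ h : ↥H, ((χ : ↥H → ℂ) h).im = 0) ∧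
      Odd (charDegree (χ : ↥H → ℂ)) ∧ Over U H hUH 1 (χ : ↥H → ℂ))
    (fun μ : IrrCharacter (↥H ⧸ U.subgroupOf H) =>
      (∀ g : ↥H ⧸ U.subgroupOf H, ((μ : ↥H ⧸ U.subgroupOf H → ℂ) g).im = 0) ∧
      Odd (charDegree (μ : ↥H ⧸ U.subgroupOf H → ℂ)))
    (fun χ μ => ∀ g : ↥H, χ.1 g = μ.1 (g : ↥H ⧸ U.subgroupOf H)) ?_ ?_ ?_ ?_
  · exact key
  · rintro χ ⟨hreal, hodd, hov⟩
    unfold Over at hov
    rw [over_one_sum U H hUH χ.1] at hov
    have hci : classInner (fun n : ↥(U.subgroupOf H) => χ.1 n)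
        (fun _ : ↥(U.subgroupOf H) => (1 : ℂ)) ≠ 0 := by
      unfold classInner
      simp only [map_one, mul_one]
      exact mul_ne_zero (inv_ne_zero hcard) hov
    have hker := Cfsg.Agent.Lib.Helper16.Quot.apply_eq_of_over_trivial (U.subgroupOf H) hVn
      χ.1 χ.2 hci
    have hR : ∀ g : ↥H, χ.1 g =
        ((Cfsg.Agent.Lib.CT.Kernel.irrQuotientEquiv (U.subgroupOf H)).symm ⟨χ, hker⟩).1
          (g : ↥H ⧸ U.subgroupOf H) := fun g =>
      (Cfsg.Agent.Lib.CT.Kernel.irrQuotientEquiv_symm_apply (U.subgroupOf H) ⟨χ, hker⟩ g).symm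
    refine ⟨(Cfsg.Agent.Lib.CT.Kernel.irrQuotientEquiv (U.subgroupOf H)).symm ⟨χ, hker⟩,
      ⟨?_, ?_⟩, hR⟩
    · intro g
      obtain ⟨g, rfl⟩ := QuotientGroup.mk_surjective g
      rw [← hR g]
      exact hreal g
    · rw [← hdeg χ _ hR]
      exact hodd
  · rintro μ ⟨hreal, hodd⟩
    have hR : ∀ g : ↥H,
        ((Cfsg.Agent.Lib.CT.Kernel.irrQuotientEquiv (U.subgroupOf H) μ).1).1 g =
          μ.1 (g : ↥H ⧸ U.subgroupOf H) := fun g =>
      Cfsg.Agent.Lib.CT.Kernel.irrQuotientEquiv_apply (U.subgroupOf H) μ g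
    refine ⟨(Cfsg.Agent.Lib.CT.Kernel.irrQuotientEquiv (U.subgroupOf H) μ).1,
      ⟨?_, ?_, ?_⟩, hR⟩
    · intro g
      rw [hR g]
      exact hreal _
    · rw [hdeg _ μ hR]
      exact hodd
    · unfold Over
      rw [over_one_sum U H hUH]
      have h1 : ∀ n : ↥(U.subgroupOf H),
          ((Cfsg.Agent.Lib.CT.Kernel.irrQuotientEquiv (U.subgroupOf H) μ).1).1 (n : ↥H) =
            μ.1 1 := by
        intro n
        rw [hR]
        have h2 : (((n : ↥H) : ↥H ⧸ U.subgroupOf H)) = 1 := (QuotientGroup.eq_one_iff _).2 n.2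
        rw [h2]
      rw [Finset.sum_congr rfl (fun n _ => h1 n), Finset.sum_const, Finset.card_univ,
        nsmul_eq_mul, ← Nat.card_eq_fintype_card]
      refine mul_ne_zero hcard ?_
      rw [Cfsg.Agent.Lib.Helper81.CliffCorr.deg_cast μ]
      exact Nat.cast_ne_zero.2 (Cfsg.Agent.Lib.Helper81.CliffCorr.deg_pos μ).ne'
  · rintro χ μ μ' _ _ _ h h'
    apply Subtype.ext
    funext g
    obtain ⟨g, rfl⟩ := QuotientGroup.mk_surjective g
    rw [← h g, ← h' g]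
  · rintro χ χ' μ _ _ _ h h'
    apply Subtype.ext
    funext g
    rw [h g, h' g]

end Cfsg.Agent.Lib.Helper81.RMTRIVH
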