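import Mathlib
import Cfsg.Prelude.Def_Characters
import Cfsg.Prelude.Def_BlockLocal
import Cfsg.Prelude.Def_Local
import Cfsg.Agent.Lib.Helper81.DLenA
import Cfsg.Agent.Lib.Helper3.ClassCount
import Cfsg.Agent.Lib.CT.Wedderburn
import Cfsg.Agent.Lib.CT.LinChar
import Cfsg.Agent.Lib.CT.Kernel

set_option autoImplicit false
set_option linter.style.haveILetI false
set_option linter.unusedSectionVars false
set_option maxHeartbeats 1000000

/-!
# Real characters and real classes

* `real_iff_inv`: an irreducible character is real-valued iff it is fixed by `invChar`.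
* `card_real`: the number of real irreducible characters is the number of real classes.
* `ker_of_comm`: an irreducible character of degree prime to `p` has in its kernel every normal
  subgroup contained in the derived subgroup of a Sylow `p`-subgroup.
* `exists_real_in_coset`: if `M` is normal of odd order, every real element of `G ⧸ M` is the
  image of a real element of `G`.
* `two_elt_centralizes`: see the statement.
-/

namespace Cfsg.Agent.Lib.Helper81.RealA

open Cfsg
open Cfsg.Agent.Lib.Helper81.Irr Cfsg.Agent.Lib.Helper81.Basic Cfsg.Agent.Lib.Helper81.Expand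
  Cfsg.Agent.Lib.Helper81.Mult Cfsg.Agent.Lib.Helper81.Cliff Cfsg.Agent.Lib.Helper81.CliffCorr
  Cfsg.Agent.Lib.Helper81.DLenA

universe u

section basic

variable {G : Type u} [Group G] [Finite G]

theorem real_iff_inv (χ : IrrCharacter G) : (∀ g : G, (χ.1 g).im = 0) ↔ invChar χ = χ := by
  constructor
  · intro h
    apply Subtype.ext
    funext g
    rw [invChar_apply, Cfsg.Agent.Lib.CT.Wedderburn.char_apply_inv (irr_isCharacter χ) g]
    exact Complex.conj_eq_iff_im.2 (h g)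
  · intro h g
    have h1 : χ.1 g⁻¹ = χ.1 g := by
      rw [← invChar_apply, h]
    rw [Cfsg.Agent.Lib.CT.Wedderburn.char_apply_inv (irr_isCharacter χ) g] at h1
    exact Complex.conj_eq_iff_im.1 h1

/-- A conjugacy class is real if its elements are conjugate to their inverses. -/
def RealCl (C : ConjClasses G) : Prop := ∃ g : G, ConjClasses.mk g = C ∧ IsConj g g⁻¹

theorem isConj_inv_inv {a b : G} (h : IsConj a b) : IsConj a⁻¹ b⁻¹ := by
  obtain ⟨c, hc⟩ := isConj_iff.1 h
  exact isConj_iff.2 ⟨c, by rw [← hc]; group⟩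

theorem realCl_mk (g : G) : RealCl (ConjClasses.mk g) ↔ IsConj g g⁻¹ := by
  constructor
  · rintro ⟨g', hg', hc⟩
    have h1 : IsConj g' g := ConjClasses.mk_eq_mk_iff_isConj.1 hg'
    exact h1.symm.trans (hc.trans (isConj_inv_inv h1))
  · intro h
    exact ⟨g, rfl, h⟩

end basic

/-- The number of real irreducible characters equals the number of real classes. -/
theorem card_real (G : Type u) [Group G] [Finite G] :
    Nat.card {χ : IrrCharacter G // invChar χ = χ} = Nat.card {C : ConjClasses G // RealCl C} :=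
  Cfsg.Agent.Lib.Helper3.ClassCount.card_irr_fixed_eq_card_classes invChar (fun g => g⁻¹)
    (fun _ _ => rfl) RealCl realCl_mk

section ker

variable {G : Type u} [Group G] [Finite G]

/-- An irreducible character of degree prime to `p` has in its kernel every normal subgroup
contained in the derived subgroup of a Sylow `p`-subgroup. -/
theorem ker_of_comm (p : ℕ) [Fact p.Prime] (P : Sylow p G) (M : Subgroup G) [M.Normal]
    (hMP : M ≤ ⁅(P : Subgroup G), (P : Subgroup G)⁆) (χ : IrrCharacter G)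
    (hχ : ¬ p ∣ charDegree χ.1) : ∀ m ∈ M, χ.1 m = χ.1 1 := by
  classical
  have hpp : p.Prime := Fact.out
  let _ : Fintype G := Fintype.ofFinite _
  let _ : Fintype ↥(P : Subgroup G) := Fintype.ofFinite _
  let _ : Fintype ↥M := Fintype.ofFinite _
  have : Finite (IrrCharacter ↥(P : Subgroup G)) := finite_irr
  let _ : Fintype (IrrCharacter ↥(P : Subgroup G)) := Fintype.ofFinite _
  have : Finite (IrrCharacter ↥M) := finite_irr
  let _ : Fintype (IrrCharacter ↥M) := Fintype.ofFinite _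
  have : Finite (IrrCharacter G) := finite_irr
  let _ : Fintype (IrrCharacter G) := Fintype.ofFinite _
  have hMleP : M ≤ (P : Subgroup G) := hMP.trans (dser_succ_le (P : Subgroup G) 0)
  have hresP : IsCharacter ↥(P : Subgroup G) (res (P : Subgroup G) χ.1) :=
    isCharacter_res _ (irr_isCharacter χ)
  obtain ⟨μ, hμm, hμp⟩ : ∃ μ : IrrCharacter ↥(P : Subgroup G),
      mult (res (P : Subgroup G) χ.1) μ ≠ 0 ∧ ¬ p ∣ charDegree μ.1 := by
    have h1 := charDegree_expand hresP
    have h0 : charDegree (res (P : Subgroup G) χ.1) = charDegree χ.1 := rfl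
    rw [h0] at h1
    by_contra hcon
    push_neg at hcon
    apply hχ
    rw [h1]
    apply Finset.dvd_sum
    intro μ _
    by_cases hm : mult (res (P : Subgroup G) χ.1) μ = 0
    · rw [hm, zero_mul]
      exact dvd_zero p
    · exact Dvd.dvd.mul_left (hcon μ hm) _
  have hμ1 : charDegree μ.1 = 1 := by
    have h1 := Cfsg.Agent.Lib.Helper80.Integrality.charDegree_dvd_card μ
    obtain ⟨k, hk⟩ := IsPGroup.iff_card.1 P.isPGroup'
    rw [hk] at h1
    obtain ⟨j, -, hj⟩ := (Nat.dvd_prime_pow hpp).1 h1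
    rw [hj] at hμp ⊢
    cases j with
    | zero => rfl
    | succ j => exact absurd (dvd_pow_self p (Nat.succ_ne_zero j)) hμp
  have hμone : μ.1 1 = 1 := by rw [deg_cast μ, hμ1, Nat.cast_one]
  obtain ⟨ϕ, hϕ⟩ :=
    Cfsg.Agent.Lib.CT.LinChar.exists_hom_of_isCharacter μ.1 (irr_isCharacter μ) hμone
  have hμM : ∀ m : ↥M, μ.1 (Subgroup.inclusion hMleP m) = 1 := by
    intro m
    have hm : (m : G) ∈ dser (P : Subgroup G) 1 := hMP m.2
    rw [← dser_subtype] at hm
    obtain ⟨c, hc, hcm⟩ := hm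
    have hcc : c = Subgroup.inclusion hMleP m := Subtype.ext hcm
    rw [← hcc, hϕ]
    have hker : derivedSeries ↥(P : Subgroup G) 1 ≤ ϕ.ker := by
      rw [derivedSeries_one]
      exact Abelianization.commutator_subset_ker ϕ
    have h1 : ϕ c = 1 := hker hc
    rw [h1]
    rfl
  have htriv : mult (res M χ.1) (trivChar ↥M) ≠ 0 := by
    have h1 := mult_res_trans hMleP hresP (trivChar ↥M)
    have h2 : resTo hMleP (res (P : Subgroup G) χ.1) = res M χ.1 := rfl
    rw [h2] at h1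
    rw [h1]
    intro h0
    have h3 := (Finset.sum_eq_zero_iff.1 h0) μ (Finset.mem_univ _)
    rcases Nat.mul_eq_zero.1 h3 with h4 | h4
    · exact hμm h4
    · have h5 : resTo hMleP μ.1 = (trivChar ↥M).1 := by
        funext m
        rw [resTo_apply]
        exact hμM m
      rw [h5] at h4
      have h6 := mult_cast (irr_isCharacter (trivChar ↥M)) (trivChar ↥M)
      rw [h4, multC_irr, if_pos rfl] at h6
      simp at h6
  have hresM : IsCharacter ↥M (res M χ.1) := isCharacter_res M (irr_isCharacter χ)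
  have hall : ∀ θ : IrrCharacter ↥M, mult (res M χ.1) θ ≠ 0 → θ = trivChar ↥M := by
    intro θ hθ
    have h1 : multC (res M χ.1) (trivChar ↥M) ≠ 0 := by
      rw [← mult_cast hresM]
      exact Nat.cast_ne_zero.2 htriv
    have h2 : multC (res M χ.1) θ ≠ 0 := by
      rw [← mult_cast hresM]
      exact Nat.cast_ne_zero.2 hθ
    obtain ⟨g, hg⟩ := clifford_conj M χ (trivChar ↥M) θ h1 h2
    rw [← hg]
    apply Subtype.ext
    funext k
    rw [conjI_apply]
    rfl
  intro m hm
  have e1 := char_expand hresM ⟨m, hm⟩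
  have e2 := char_expand hresM (1 : ↥M)
  have e3 : res M χ.1 ⟨m, hm⟩ = χ.1 m := rfl
  have e4 : res M χ.1 (1 : ↥M) = χ.1 1 := rfl
  rw [← e3, ← e4, e1, e2]
  apply Finset.sum_congr rfl
  intro θ _
  by_cases hθ : mult (res M χ.1) θ = 0
  · rw [hθ]
    simp
  · rw [hall θ hθ]
    rfl

end ker

section coset

variable {G : Type u} [Group G] [Finite G]

/-- Odd powers of an inverting element invert. -/
theorem inv_pow_odd {g x : G} (h : g * x * g⁻¹ = x⁻¹) (j : ℕ) :
    g ^ (2 * j + 1) * x * (g ^ (2 * j + 1))⁻¹ = x⁻¹ := by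
  have hc : Commute (g * g) x := by
    show g * g * x = x * (g * g)
    have h2 : g * x = x⁻¹ * g := by
      rw [← h]
      group
    have h4 : g * x⁻¹ * g⁻¹ = x := by
      calc g * x⁻¹ * g⁻¹ = (g * x * g⁻¹)⁻¹ := by group
        _ = (x⁻¹)⁻¹ := by rw [h]
        _ = x := inv_inv x
    have h3 : g * x⁻¹ = x * g := by
      calc g * x⁻¹ = g * x⁻¹ * g⁻¹ * g := by group
        _ = x * g := by rw [h4]
    rw [mul_assoc, h2, ← mul_assoc, h3, mul_assoc]
  have hc' : Commute ((g * g) ^ j) x := hc.pow_left j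
  have e : g ^ (2 * j + 1) = (g * g) ^ j * g := by
    rw [pow_succ, pow_mul, pow_two]
  rw [e, mul_inv_rev]
  have h5 : (g * g) ^ j * g * x * (g⁻¹ * ((g * g) ^ j)⁻¹) =
      (g * g) ^ j * (g * x * g⁻¹) * ((g * g) ^ j)⁻¹ := by group
  rw [h5, h]
  have h6 : (g * g) ^ j * x⁻¹ = x⁻¹ * (g * g) ^ j := (hc'.inv_right).eq
  rw [h6, mul_assoc, mul_inv_cancel, mul_one]

/-- If `M` is a normal subgroup of odd order, a real element of `G ⧸ M` lifts to a real element
of `G`. -/
theorem exists_real_in_coset (M : Subgroup G) [M.Normal] (hodd : Odd (Nat.card ↥M)) (x : G)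
    (hx : IsConj (x : G ⧸ M) (x : G ⧸ M)⁻¹) :
    ∃ y : G, (y : G ⧸ M) = (x : G ⧸ M) ∧ IsConj y y⁻¹ := by
  classical
  obtain ⟨gb, hgb⟩ := isConj_iff.1 hx
  obtain ⟨g, rfl⟩ := QuotientGroup.mk_surjective gb
  obtain ⟨a, m', hm', hord⟩ := Nat.exists_eq_two_pow_mul_odd (orderOf_pos g).ne'
  obtain ⟨j, rfl⟩ := hm'
  -- the 2-element `s` inverts the coset
  obtain ⟨s, hs2, hs⟩ : ∃ s : G, s ^ (2 ^ a) = 1 ∧
      (s : G ⧸ M) * (x : G ⧸ M) * (s : G ⧸ M)⁻¹ = (x : G ⧸ M)⁻¹ := by
    refine ⟨g ^ (2 * j + 1), ?_, ?_⟩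
    · rw [← pow_mul, mul_comm, ← hord, pow_orderOf_eq_one]
    · rw [QuotientGroup.mk_pow]
      exact inv_pow_odd hgb j
  let Ω : Type u := {y : G // (y : G ⧸ M) = (x : G ⧸ M)}
  have hmem : ∀ y : Ω, ((s⁻¹ * (y.1)⁻¹ * s : G) : G ⧸ M) = (x : G ⧸ M) := by
    intro y
    rw [QuotientGroup.mk_mul, QuotientGroup.mk_mul, QuotientGroup.mk_inv, QuotientGroup.mk_inv,
      y.2, ← hs]
    group
  let f : Function.End Ω := fun y => ⟨s⁻¹ * (y.1)⁻¹ * s, hmem y⟩
  have hf2 : ∀ (i : ℕ) (y : Ω), (((f * f) ^ i) y).1 = (s ^ (2 * i))⁻¹ * y.1 * s ^ (2 * i) := by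
    intro i
    induction i with
    | zero =>
      intro y
      rw [pow_zero, mul_zero, pow_zero]
      show y.1 = 1⁻¹ * y.1 * 1
      group
    | succ i ih =>
      intro y
      rw [pow_succ]
      show (((f * f) ^ i) ((f * f) y)).1 = _
      rw [ih]
      show (s ^ (2 * i))⁻¹ * (s⁻¹ * (s⁻¹ * (y.1)⁻¹ * s)⁻¹ * s) * s ^ (2 * i) = _
      have e3 : s ^ (2 * (i + 1)) = s ^ (2 * i) * s * s := by
        rw [mul_add, mul_one, pow_add, pow_two, mul_assoc]
      rw [e3]
      group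
  have hf : f ^ 2 ^ (a + 1) = 1 := by
    funext y
    apply Subtype.ext
    have e : f ^ 2 ^ (a + 1) = (f * f) ^ 2 ^ a := by
      rw [pow_succ, mul_comm, pow_mul, pow_two]
    rw [e, hf2]
    have e2 : s ^ (2 * 2 ^ a) = 1 := by
      rw [mul_comm, pow_mul, hs2, one_pow]
    rw [e2]
    show (1 : G)⁻¹ * y.1 * 1 = y.1
    group
  let _ : Fintype Ω := Fintype.ofFinite _
  haveI : Fact (Nat.Prime 2) := ⟨Nat.prime_two⟩
  have hmod := Equiv.Perm.card_fixedPoints_modEq (p := 2) (n := a + 1) hf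
  have hcard : Fintype.card Ω = Nat.card ↥M := by
    rw [← Nat.card_eq_fintype_card]
    apply Nat.card_congr
    refine ⟨fun y => ⟨x⁻¹ * y.1, ?_⟩, fun m => ⟨x * m.1, ?_⟩, ?_, ?_⟩
    · exact (QuotientGroup.eq.1 y.2.symm)
    · rw [QuotientGroup.mk_mul, (QuotientGroup.eq_one_iff _).2 m.2, mul_one]
    · intro y
      apply Subtype.ext
      show x * (x⁻¹ * y.1) = y.1
      group
    · intro m
      apply Subtype.ext
      show x⁻¹ * (x * m.1) = m.1
      group
  rw [hcard] at hmod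
  have hfix : Fintype.card (Function.fixedPoints f) ≠ 0 := by
    intro h0
    rw [h0] at hmod
    have h1 : Nat.card ↥M % 2 = 1 := Nat.odd_iff.1 hodd
    have h2 : Nat.card ↥M % 2 = 0 % 2 := hmod
    omega
  obtain ⟨⟨y, hy⟩⟩ := Fintype.card_pos_iff.1 (Nat.pos_of_ne_zero hfix)
  refine ⟨y.1, y.2, isConj_iff.2 ⟨s, ?_⟩⟩
  have h1 : s⁻¹ * (y.1)⁻¹ * s = y.1 := congrArg Subtype.val hy
  calc s * y.1 * s⁻¹ = s * (s⁻¹ * (y.1)⁻¹ * s) * s⁻¹ := by rw [h1]
    _ = (y.1)⁻¹ := by group

end coset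

section main

variable {G : Type u} [Group G] [Finite G]

/-- If all real irreducible characters have degree prime to the odd prime `p` and `M` is a normal
subgroup contained in the derived subgroup of a Sylow `p`-subgroup, then every `2`-element
centralizes `M`. -/
theorem two_elt_centralizes (p : ℕ) [Fact p.Prime] (hp : p ≠ 2)
    (hreal : ∀ χ : IrrCharacter G, (∀ g : G, (χ.1 g).im = 0) → ¬ p ∣ charDegree χ.1)
    (P : Sylow p G) (M : Subgroup G) [hMn : M.Normal]
    (hMP : M ≤ ⁅(P : Subgroup G), (P : Subgroup G)⁆)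
    (s : G) (k : ℕ) (hk : orderOf s = 2 ^ k) : s ∈ Subgroup.centralizer (M : Set G) := by
  classical
  have hpp : p.Prime := Fact.out
  by_contra hs
  -- an element acting as an involution on `M`
  have hex : ∃ j : ℕ, s ^ (2 ^ j) ∈ Subgroup.centralizer (M : Set G) :=
    ⟨k, by rw [← hk, pow_orderOf_eq_one]; exact Subgroup.one_mem _⟩
  have hj0 : Nat.find hex ≠ 0 := by
    intro h0
    have h1 := Nat.find_spec hex
    rw [h0, pow_zero, pow_one] at h1
    exact hs h1
  obtain ⟨j, hj⟩ := Nat.exists_eq_succ_of_ne_zero hj0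
  have ht1 : s ^ (2 ^ j) ∉ Subgroup.centralizer (M : Set G) :=
    Nat.find_min hex (by rw [hj]; exact Nat.lt_succ_self j)
  have ht2 : s ^ (2 ^ j) * s ^ (2 ^ j) ∈ Subgroup.centralizer (M : Set G) := by
    have h1 := Nat.find_spec hex
    rw [hj, pow_succ, pow_mul, pow_two] at h1
    exact h1
  obtain ⟨t, ht⟩ : ∃ t : G, t = s ^ (2 ^ j) := ⟨_, rfl⟩
  rw [← ht] at ht1 ht2
  rw [Subgroup.mem_centralizer_iff] at ht1
  push_neg at ht1
  obtain ⟨u, hu, hut⟩ := ht1
  have htt : u * (t * t) = t * t * u := Subgroup.mem_centralizer_iff.1 ht2 u hu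
  -- the real element `m`
  obtain ⟨m, hm⟩ : ∃ m : G, m = u⁻¹ * (t * u * t⁻¹) := ⟨_, rfl⟩
  have hmM : m ∈ M := by
    rw [hm]
    exact M.mul_mem (M.inv_mem hu) (hMn.conj_mem u hu t)
  have hm1 : m ≠ 1 := by
    intro h1
    rw [hm] at h1
    apply hut
    have h2 : t * u * t⁻¹ = u := by
      calc t * u * t⁻¹ = u * (u⁻¹ * (t * u * t⁻¹)) := by group
        _ = u := by rw [h1, mul_one]
    calc u * t = t * u * t⁻¹ * t := by rw [h2]
      _ = t * u := by group
  have hinv : t * m * t⁻¹ = m⁻¹ := by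
    rw [hm]
    have h3 : t * u * t⁻¹ * t⁻¹ = t⁻¹ * u := by
      calc t * u * t⁻¹ * t⁻¹ = t⁻¹ * (t * t * u) * t⁻¹ * t⁻¹ := by group
        _ = t⁻¹ * (u * (t * t)) * t⁻¹ * t⁻¹ := by rw [htt]
        _ = t⁻¹ * u := by group
    calc t * (u⁻¹ * (t * u * t⁻¹)) * t⁻¹ = t * u⁻¹ * (t * u * t⁻¹ * t⁻¹) := by group
      _ = t * u⁻¹ * (t⁻¹ * u) := by rw [h3]
      _ = (u⁻¹ * (t * u * t⁻¹))⁻¹ := by group
  have hmreal : IsConj m m⁻¹ := isConj_iff.2 ⟨t, hinv⟩
  -- every real irreducible character has `M` in its kernel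
  have hker : ∀ χ : IrrCharacter G, invChar χ = χ → ∀ n ∈ M, χ.1 n = χ.1 1 :=
    fun χ h => ker_of_comm p P M hMP χ (hreal χ ((real_iff_inv χ).2 h))
  -- the real characters of `G ⧸ M` and of `G` correspond
  have hFwd : ∀ ψ : {ψ : IrrCharacter (G ⧸ M) // invChar ψ = ψ},
      invChar (Cfsg.Agent.Lib.CT.Kernel.irrQuotientEquiv M ψ.1).1 =
        (Cfsg.Agent.Lib.CT.Kernel.irrQuotientEquiv M ψ.1).1 := by
    intro ψ
    apply Subtype.ext
    funext g
    have h1 : (invChar ψ.1).1 (g : G ⧸ M) = ψ.1.1 (g : G ⧸ M) := by rw [ψ.2]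
    exact h1
  let F : {ψ : IrrCharacter (G ⧸ M) // invChar ψ = ψ} → {χ : IrrCharacter G // invChar χ = χ} :=
    fun ψ => ⟨(Cfsg.Agent.Lib.CT.Kernel.irrQuotientEquiv M ψ.1).1, hFwd ψ⟩
  have hFinj : Function.Injective F := by
    intro a b hab
    apply Subtype.ext
    apply (Cfsg.Agent.Lib.CT.Kernel.irrQuotientEquiv M).injective
    apply Subtype.ext
    have h2 : (F a).1 = (F b).1 := congrArg Subtype.val hab
    exact h2
  have hFsurj : Function.Surjective F := by
    rintro ⟨χ, h⟩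
    have hinvq : invChar ((Cfsg.Agent.Lib.CT.Kernel.irrQuotientEquiv M).symm ⟨χ, hker χ h⟩) =
        (Cfsg.Agent.Lib.CT.Kernel.irrQuotientEquiv M).symm ⟨χ, hker χ h⟩ := by
      apply Subtype.ext
      funext z
      obtain ⟨g, rfl⟩ := QuotientGroup.mk_surjective z
      rw [invChar_apply, ← QuotientGroup.mk_inv]
      rw [Cfsg.Agent.Lib.CT.Kernel.irrQuotientEquiv_symm_apply,
        Cfsg.Agent.Lib.CT.Kernel.irrQuotientEquiv_symm_apply]
      show χ.1 g⁻¹ = χ.1 g
      rw [← invChar_apply, h]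
    refine ⟨⟨(Cfsg.Agent.Lib.CT.Kernel.irrQuotientEquiv M).symm ⟨χ, hker χ h⟩, hinvq⟩, ?_⟩
    apply Subtype.ext
    show ((Cfsg.Agent.Lib.CT.Kernel.irrQuotientEquiv M)
      ((Cfsg.Agent.Lib.CT.Kernel.irrQuotientEquiv M).symm ⟨χ, hker χ h⟩)).1 = χ
    rw [Equiv.apply_symm_apply]
  have hc3 : Nat.card {ψ : IrrCharacter (G ⧸ M) // invChar ψ = ψ} =
      Nat.card {χ : IrrCharacter G // invChar χ = χ} :=
    Nat.card_congr (Equiv.ofBijective F ⟨hFinj, hFsurj⟩)
  have hc : Nat.card {C : ConjClasses G // RealCl C} =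
      Nat.card {C : ConjClasses (G ⧸ M) // RealCl C} := by
    rw [← card_real G, ← card_real (G ⧸ M), hc3]
  -- the map on real classes
  have hmap : ∀ C : {C : ConjClasses G // RealCl C},
      RealCl (ConjClasses.map (QuotientGroup.mk' M) C.1) := by
    rintro ⟨C, g, rfl, hg⟩
    refine ⟨QuotientGroup.mk' M g, rfl, ?_⟩
    have h1 := MonoidHom.map_isConj (QuotientGroup.mk' M) hg
    rw [map_inv] at h1
    exact h1
  let Φ : {C : ConjClasses G // RealCl C} → {C : ConjClasses (G ⧸ M) // RealCl C} :=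
    fun C => ⟨ConjClasses.map (QuotientGroup.mk' M) C.1, hmap C⟩
  have hModd : Odd (Nat.card ↥M) := by
    have hMleP : M ≤ (P : Subgroup G) := hMP.trans (dser_succ_le (P : Subgroup G) 0)
    have h1 : Nat.card ↥M ∣ Nat.card ↥(P : Subgroup G) := Subgroup.card_dvd_of_le hMleP
    obtain ⟨n, hn⟩ := IsPGroup.iff_card.1 P.isPGroup'
    rw [hn] at h1
    have hpodd : Odd p := hpp.odd_of_ne_two hp
    exact Odd.of_dvd_nat (hpodd.pow) h1
  have hΦsurj : Function.Surjective Φ := by
    rintro ⟨C, xb, rfl, hxb⟩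
    obtain ⟨x, rfl⟩ := QuotientGroup.mk_surjective xb
    obtain ⟨y, hy1, hy2⟩ := exists_real_in_coset M hModd x hxb
    refine ⟨⟨ConjClasses.mk y, y, rfl, hy2⟩, ?_⟩
    apply Subtype.ext
    show ConjClasses.mk (QuotientGroup.mk' M y) = ConjClasses.mk (x : G ⧸ M)
    exact congrArg ConjClasses.mk hy1
  have hΦbij : Function.Bijective Φ := hΦsurj.bijective_of_nat_card_le hc.le
  have h1real : RealCl (ConjClasses.mk (1 : G)) := ⟨1, rfl, by rw [inv_one]⟩
  have heq : Φ ⟨ConjClasses.mk m, m, rfl, hmreal⟩ = Φ ⟨ConjClasses.mk 1, h1real⟩ := by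
    apply Subtype.ext
    show ConjClasses.mk (QuotientGroup.mk' M m) = ConjClasses.mk (QuotientGroup.mk' M 1)
    have e1 : QuotientGroup.mk' M m = 1 := (QuotientGroup.eq_one_iff m).2 hmM
    rw [e1, map_one]
  have h2 := congrArg Subtype.val (hΦbij.1 heq)
  have h3 : IsConj m 1 := ConjClasses.mk_eq_mk_iff_isConj.1 h2
  exact hm1 (isConj_one_left.1 h3)

end main

end Cfsg.Agent.Lib.Helper81.RealA
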