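import Mathlib
import Cfsg.Prelude.Def_Characters
import Cfsg.Agent.Lib.Helper81.RealF

set_option autoImplicit false
set_option linter.style.haveILetI false
set_option linter.unusedSectionVars false
set_option maxHeartbeats 1000000

/-!
# Real characters and the Sylow normalizer

Let `K` be a normal subgroup of odd index of `G` with a normal Sylow `p`-subgroup `Q`, normal in
`G`, and suppose the real irreducible characters of `G` have degree prime to `p`.  Then there is
a bijection between the real irreducible characters of `G` and the real irreducible characters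
of degree prime to `p` of the normalizer of a Sylow `p`-subgroup `P`, with degrees congruent up
to sign modulo `p` (`corr`).

The bijection is built from the correspondence between the `P`-invariant characters of `K` and
those of `K ∩ N(P)` (`glaubRel_KN`), and the description of the real characters over a real
character of a normal subgroup of odd index.
-/

namespace Cfsg.Agent.Lib.Helper81.RealG

open Cfsg
open Cfsg.Agent.Lib.Helper81.Irr Cfsg.Agent.Lib.Helper81.Basic Cfsg.Agent.Lib.Helper81.Expand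
  Cfsg.Agent.Lib.Helper81.Mult Cfsg.Agent.Lib.Helper81.Cliff Cfsg.Agent.Lib.Helper81.CliffCorr
  Cfsg.Agent.Lib.Helper81.GlaubCore Cfsg.Agent.Lib.Helper81.Glaub
  Cfsg.Agent.Lib.Helper81.GlaubClass Cfsg.Agent.Lib.Helper81.GlaubReal
  Cfsg.Agent.Lib.Helper81.RealE Cfsg.Agent.Lib.Helper81.RealF
  Cfsg.Agent.Lib.Helper81.NSylE Cfsg.Agent.Lib.Helper81.NSylF

universe u

section defs

variable {G : Type u} [Group G] (K : Subgroup G) [hKn : K.Normal] (P : Subgroup G)

/-- Invariance under `P` of a character of `K`. -/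
def InvK (θ : IrrCharacter ↥K) : Prop := ∀ y ∈ P, conjI K y θ = θ

/-- Invariance under `P` of a character of the intersection of `K` with the normalizer of `P`. -/
def InvC (η : IrrCharacter ↥(K.subgroupOf (Subgroup.normalizer (P : Set G)))) : Prop :=
  ∀ y ∈ P.subgroupOf (Subgroup.normalizer (P : Set G)),
    conjI (K.subgroupOf (Subgroup.normalizer (P : Set G))) y η = η

theorem invK_irrConj (θ : IrrCharacter ↥K) (h : InvK K P θ) : InvK K P (irrConj θ) := by
  intro y hy
  rw [← irrConj_conjI, h y hy]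

theorem invC_irrConj (η : IrrCharacter ↥(K.subgroupOf (Subgroup.normalizer (P : Set G))))
    (h : InvC K P η) : InvC K P (irrConj η) := by
  intro y hy
  rw [← irrConj_conjI, h y hy]

theorem invK_conj (n : G) (hn : n ∈ Subgroup.normalizer (P : Set G)) (θ : IrrCharacter ↥K)
    (h : InvK K P θ) : InvK K P (conjI K n θ) :=
  inv_conj K P n hn θ h

theorem invC_conj (n : ↥(Subgroup.normalizer (P : Set G)))
    (η : IrrCharacter ↥(K.subgroupOf (Subgroup.normalizer (P : Set G)))) (h : InvC K P η) :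
    InvC K P (conjI (K.subgroupOf (Subgroup.normalizer (P : Set G))) n η) := by
  apply inv_conj (K.subgroupOf (Subgroup.normalizer (P : Set G)))
    (P.subgroupOf (Subgroup.normalizer (P : Set G))) n ?_ η h
  rw [Subgroup.mem_normalizer_iff]
  intro x
  rw [Subgroup.mem_subgroupOf, Subgroup.mem_subgroupOf]
  exact Subgroup.mem_normalizer_iff.1 n.2 (x : G)

end defs

section glaub

variable {G : Type u} [Group G] [Finite G] (p : ℕ) [Fact p.Prime] (K : Subgroup G)
  [hKn : K.Normal] (P : Subgroup G)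
  [Fintype ↥(K.subgroupOf (Subgroup.normalizer (P : Set G)))]
  (hg : GlaubRel p (iota K P) (InvK K P) (InvC K P))

theorem corr_conj (n : ↥(Subgroup.normalizer (P : Set G))) (θ : IrrCharacter ↥K)
    (η : IrrCharacter ↥(K.subgroupOf (Subgroup.normalizer (P : Set G))))
    (h : ¬ p ∣ mult (fun c => θ.1 (iota K P c)) η) :
    ¬ p ∣ mult (fun c => (conjI K (n : G) θ).1 (iota K P c))
      (conjI (K.subgroupOf (Subgroup.normalizer (P : Set G))) n η) := by
  rw [mult_conj K P n θ η]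
  exact h

include hg

theorem corr_unique (θ : IrrCharacter ↥K) (hθ : InvK K P θ)
    (η η' : IrrCharacter ↥(K.subgroupOf (Subgroup.normalizer (P : Set G))))
    (hη : InvC K P η) (hη' : InvC K P η')
    (h : ¬ p ∣ mult (fun c => θ.1 (iota K P c)) η)
    (h' : ¬ p ∣ mult (fun c => θ.1 (iota K P c)) η') : η = η' := by
  obtain ⟨β, -, -, hoth⟩ := hg.1 θ hθ
  have h1 : η = β := by
    by_contra hne
    exact h (hoth η hη hne)
  have h2 : η' = β := by
    by_contra hne
    exact h' (hoth η' hη' hne)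
  rw [h1, h2]

theorem corr_inj (θ θ' : IrrCharacter ↥K) (hθ : InvK K P θ) (hθ' : InvK K P θ')
    (η : IrrCharacter ↥(K.subgroupOf (Subgroup.normalizer (P : Set G)))) (hη : InvC K P η)
    (h : ¬ p ∣ mult (fun c => θ.1 (iota K P c)) η)
    (h' : ¬ p ∣ mult (fun c => θ'.1 (iota K P c)) η) : θ = θ' :=
  hg.2.1 θ θ' hθ hθ' η hη h h'

theorem corr_real (θ : IrrCharacter ↥K) (hθ : InvK K P θ)
    (η : IrrCharacter ↥(K.subgroupOf (Subgroup.normalizer (P : Set G)))) (hη : InvC K P η)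
    (h : ¬ p ∣ mult (fun c => θ.1 (iota K P c)) η) :
    (∀ k, (θ.1 k).im = 0) ↔ (∀ c, (η.1 c).im = 0) := by
  have hm := mult_irrConj (iota K P) θ η
  rw [real_iff_irrConj, real_iff_irrConj]
  constructor
  · intro hr
    rw [hr] at hm
    exact corr_unique p K P hg θ hθ (irrConj η) η (invC_irrConj K P η hη) hη
      (by rw [hm]; exact h) h
  · intro hr
    rw [hr] at hm
    exact corr_inj p K P hg (irrConj θ) θ (invK_irrConj K P θ hθ) hθ η hη
      (by rw [hm]; exact h) h

theorem corr_stab (θ : IrrCharacter ↥K) (hθ : InvK K P θ)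
    (η : IrrCharacter ↥(K.subgroupOf (Subgroup.normalizer (P : Set G)))) (hη : InvC K P η)
    (h : ¬ p ∣ mult (fun c => θ.1 (iota K P c)) η) (n : ↥(Subgroup.normalizer (P : Set G))) :
    conjI (K.subgroupOf (Subgroup.normalizer (P : Set G))) n η = η ↔
      conjI K (n : G) θ = θ := by
  have hc := corr_conj p K P n θ η h
  constructor
  · intro h1
    rw [h1] at hc
    exact corr_inj p K P hg (conjI K (n : G) θ) θ (invK_conj K P n n.2 θ hθ) hθ η hη hc h
  · intro h1
    rw [h1] at hc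
    exact corr_unique p K P hg θ hθ _ η (invC_conj K P n η hη) hη hc h

theorem corr_stab_index (θ : IrrCharacter ↥K) (hθ : InvK K P θ)
    (η : IrrCharacter ↥(K.subgroupOf (Subgroup.normalizer (P : Set G)))) (hη : InvC K P η)
    (h : ¬ p ∣ mult (fun c => θ.1 (iota K P c)) η) :
    (stab (K.subgroupOf (Subgroup.normalizer (P : Set G))) η).index =
      (stab K θ).relIndex (Subgroup.normalizer (P : Set G)) := by
  have h1 : stab (K.subgroupOf (Subgroup.normalizer (P : Set G))) η =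
      (stab K θ).subgroupOf (Subgroup.normalizer (P : Set G)) := by
    ext n
    rw [mem_stab, Subgroup.mem_subgroupOf, mem_stab]
    exact corr_stab p K P hg θ hθ η hη h n
  rw [h1]
  rfl

end glaub

section main

variable {G : Type u} [Group G] [Finite G] (p : ℕ) [Fact p.Prime]
  (hreal : ∀ χ : IrrCharacter G, (∀ g : G, (χ.1 g).im = 0) → ¬ p ∣ charDegree χ.1)
  (K : Subgroup G) [hKn : K.Normal] (hodd : Odd K.index) (P : Sylow p G)
  [Fintype ↥K] [Fintype ↥(K.subgroupOf (Subgroup.normalizer ((P : Subgroup G) : Set G)))]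
  (hg : GlaubRel p (iota K (P : Subgroup G)) (InvK K (P : Subgroup G)) (InvC K (P : Subgroup G)))
  (hdeg : ∀ θ : IrrCharacter ↥K, InvK K (P : Subgroup G) θ →
    ∀ η : IrrCharacter ↥(K.subgroupOf (Subgroup.normalizer ((P : Subgroup G) : Set G))),
      InvC K (P : Subgroup G) η → ¬ p ∣ mult (fun c => θ.1 (iota K (P : Subgroup G) c)) η →
      ((charDegree η.1 : ℤ) ≡ (charDegree θ.1 : ℤ) [ZMOD p]) ∨
        ((charDegree η.1 : ℤ) ≡ -(charDegree θ.1 : ℤ) [ZMOD p]))

/-- The relation between the characters of `G` and of the Sylow normalizer. -/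
def Rel (χ : IrrCharacter G)
    (ξ : IrrCharacter ↥(Subgroup.normalizer ((P : Subgroup G) : Set G))) : Prop :=
  ∃ (θ : IrrCharacter ↥K)
    (η : IrrCharacter ↥(K.subgroupOf (Subgroup.normalizer ((P : Subgroup G) : Set G)))),
    (∀ k, (θ.1 k).im = 0) ∧ InvK K (P : Subgroup G) θ ∧ multC (res K χ.1) θ ≠ 0 ∧
    (∀ c, (η.1 c).im = 0) ∧ InvC K (P : Subgroup G) η ∧
    multC (res (K.subgroupOf (Subgroup.normalizer ((P : Subgroup G) : Set G))) ξ.1) η ≠ 0 ∧
    ¬ p ∣ mult (fun c => θ.1 (iota K (P : Subgroup G) c)) η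

include hodd in
theorem odd_index' :
    Odd (K.subgroupOf (Subgroup.normalizer ((P : Subgroup G) : Set G))).index :=
  Odd.of_dvd_nat hodd (Subgroup.relIndex_dvd_index_of_normal K _)

include hodd hg hdeg in
/-- The degree congruence for related characters. -/
theorem rel_deg (χ : IrrCharacter G) (hχ : ∀ g, (χ.1 g).im = 0)
    (ξ : IrrCharacter ↥(Subgroup.normalizer ((P : Subgroup G) : Set G)))
    (hξ : ∀ n, (ξ.1 n).im = 0) (θ : IrrCharacter ↥K)
    (η : IrrCharacter ↥(K.subgroupOf (Subgroup.normalizer ((P : Subgroup G) : Set G))))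
    (hθr : ∀ k, (θ.1 k).im = 0) (hθ : InvK K (P : Subgroup G) θ)
    (hχθ : multC (res K χ.1) θ ≠ 0) (hηr : ∀ c, (η.1 c).im = 0)
    (hη : InvC K (P : Subgroup G) η)
    (hξη : multC (res (K.subgroupOf (Subgroup.normalizer ((P : Subgroup G) : Set G))) ξ.1) η ≠ 0)
    (h : ¬ p ∣ mult (fun c => θ.1 (iota K (P : Subgroup G) c)) η) :
    (charDegree ξ.1 : ZMod p) = (charDegree χ.1 : ZMod p) ∨
      (charDegree ξ.1 : ZMod p) = -(charDegree χ.1 : ZMod p) := by
  have hodd' := odd_index' p K hodd P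
  have h1 := real_over_degree K hodd θ hθr χ hχ hχθ
  have h2 := real_over_degree (K.subgroupOf (Subgroup.normalizer ((P : Subgroup G) : Set G)))
    hodd' η hηr ξ hξ hξη
  rw [corr_stab_index p K (P : Subgroup G) hg θ hθ η hη h] at h2
  have hPI : (P : Subgroup G) ≤ stab K θ := fun y hy => hθ y hy
  have h3 := index_modEq p P (stab K θ) hPI
  have h4 : (((stab K θ).relIndex (Subgroup.normalizer ((P : Subgroup G) : Set G)) : ℕ) :
      ZMod p) = ((stab K θ).index : ℕ) := ((ZMod.natCast_eq_natCast_iff _ _ _).2 h3).symm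
  rw [h1, h2, Nat.cast_mul, Nat.cast_mul, h4]
  rcases hdeg θ hθ η hη h with h5 | h5
  · left
    have h6 : ((charDegree η.1 : ℕ) : ZMod p) = (charDegree θ.1 : ℕ) := by
      have h7 := (ZMod.intCast_eq_intCast_iff _ _ _).2 h5
      simpa using h7
    rw [h6]
  · right
    have h6 : ((charDegree η.1 : ℕ) : ZMod p) = -((charDegree θ.1 : ℕ) : ZMod p) := by
      have h7 := (ZMod.intCast_eq_intCast_iff _ _ _).2 h5
      simpa using h7
    rw [h6, mul_neg]

include hreal hodd hg hdeg in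
/-- Every real character of `G` is related to a real character of degree prime to `p`. -/
theorem rel_total (χ : IrrCharacter G) (hχ : ∀ g, (χ.1 g).im = 0) :
    ∃ ξ : IrrCharacter ↥(Subgroup.normalizer ((P : Subgroup G) : Set G)),
      (∀ n, (ξ.1 n).im = 0) ∧ ¬ p ∣ charDegree ξ.1 ∧ Rel p K P χ ξ ∧
      ((charDegree ξ.1 : ZMod p) = (charDegree χ.1 : ZMod p) ∨
        (charDegree ξ.1 : ZMod p) = -(charDegree χ.1 : ZMod p)) := by
  have hp : p.Prime := Fact.out
  have hodd' := odd_index' p K hodd P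
  obtain ⟨θ₀, hθ₀r, hθ₀⟩ := exists_real_under K hodd χ hχ
  obtain ⟨g, hgθ⟩ := exists_conj_inv p hreal K hodd (P : Subgroup G) P.isPGroup' θ₀ hθ₀r
  obtain ⟨θ, hθdef⟩ : ∃ θ, θ = conjI K g θ₀ := ⟨_, rfl⟩
  rw [← hθdef] at hgθ
  have hθr : ∀ k, (θ.1 k).im = 0 := by
    rw [hθdef]
    exact conjI_real K g θ₀ hθ₀r
  have hχθ : multC (res K χ.1) θ ≠ 0 := by
    rw [hθdef, multC_res_conjI K χ.1 (irr_conj χ) g θ₀]
    exact hθ₀
  obtain ⟨η, hη, hpm, -⟩ := hg.1 θ hgθ
  have hnd : ¬ p ∣ mult (fun c => θ.1 (iota K (P : Subgroup G) c)) η :=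
    not_dvd_of_modEq hp _ hpm
  have hηr : ∀ c, (η.1 c).im = 0 :=
    (corr_real p K (P : Subgroup G) hg θ hgθ η hη hnd).1 hθr
  obtain ⟨ξ, hξr, hξη, -⟩ :=
    exists_real_over (K.subgroupOf (Subgroup.normalizer ((P : Subgroup G) : Set G))) hodd' η hηr
  have hd := rel_deg p K hodd P hg hdeg χ hχ ξ hξr θ η hθr hgθ hχθ hηr hη hξη hnd
  refine ⟨ξ, hξr, ?_, ⟨θ, η, hθr, hgθ, hχθ, hηr, hη, hξη, hnd⟩, hd⟩
  intro hdvd
  have h0 : ((charDegree ξ.1 : ℕ) : ZMod p) = 0 := (ZMod.natCast_eq_zero_iff _ _).2 hdvd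
  have h1 : ((charDegree χ.1 : ℕ) : ZMod p) = 0 := by
    rcases hd with h | h
    · rw [← h]
      exact h0
    · rw [h0] at h
      exact neg_eq_zero.1 h.symm
  exact hreal χ hχ ((ZMod.natCast_eq_zero_iff _ _).1 h1)

include hodd hg in
/-- A character of `G` is related to at most one real character of the normalizer. -/
theorem rel_fun (χ : IrrCharacter G)
    (ξ ξ' : IrrCharacter ↥(Subgroup.normalizer ((P : Subgroup G) : Set G)))
    (hξ : ∀ n, (ξ.1 n).im = 0) (hξ' : ∀ n, (ξ'.1 n).im = 0)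
    (h : Rel p K P χ ξ) (h' : Rel p K P χ ξ') : ξ = ξ' := by
  classical
  have hodd' := odd_index' p K hodd P
  obtain ⟨θ, η, hθr, hθ, hχθ, hηr, hη, hξη, hnd⟩ := h
  obtain ⟨θ', η', hθr', hθ', hχθ', hηr', hη', hξη', hnd'⟩ := h'
  let _ : Fintype G := Fintype.ofFinite _
  have : Finite (IrrCharacter G) := finite_irr
  let _ : Fintype (IrrCharacter G) := Fintype.ofFinite _
  obtain ⟨g, hgθ⟩ := clifford_conj K χ θ θ' hχθ hχθ'
  have hPI : (P : Subgroup G) ≤ stab K θ := fun y hy => hθ y hy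
  have hgI : ∀ y ∈ (P : Subgroup G), g⁻¹ * y * g ∈ stab K θ := by
    intro y hy
    rw [mem_stab, conjI_mul, conjI_mul, hgθ, hθ' y hy, ← hgθ, conjI_inv_cancel]
  obtain ⟨n, hn, i, hi, rfl⟩ := exists_normalizer_mul p P (stab K θ) hPI g hgI
  have hnθ : conjI K n θ = θ' := by
    rw [← hgθ, conjI_mul, (mem_stab K θ i).1 hi]
  have hc := corr_conj p K (P : Subgroup G) ⟨n, hn⟩ θ η hnd
  have hc' : ¬ p ∣ mult (fun c => θ'.1 (iota K (P : Subgroup G) c))
      (conjI (K.subgroupOf (Subgroup.normalizer ((P : Subgroup G) : Set G))) ⟨n, hn⟩ η) := by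
    rw [← hnθ]
    exact hc
  have h1 : conjI (K.subgroupOf (Subgroup.normalizer ((P : Subgroup G) : Set G))) ⟨n, hn⟩ η =
      η' :=
    corr_unique p K (P : Subgroup G) hg θ' hθ' _ η'
      (invC_conj K (P : Subgroup G) ⟨n, hn⟩ η hη) hη' hc' hnd'
  have h2 : multC (res (K.subgroupOf (Subgroup.normalizer ((P : Subgroup G) : Set G))) ξ.1) η' ≠
      0 := by
    rw [← h1, multC_res_conjI (K.subgroupOf (Subgroup.normalizer ((P : Subgroup G) : Set G)))
      ξ.1 (irr_conj ξ) ⟨n, hn⟩ η]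
    exact hξη
  exact real_unique (K.subgroupOf (Subgroup.normalizer ((P : Subgroup G) : Set G))) hodd' η' ξ ξ'
    hξ hξ' h2 hξη'

include hodd hg in
/-- A real character of the normalizer is related to at most one real character of `G`. -/
theorem rel_inj (χ χ' : IrrCharacter G) (hχ : ∀ g, (χ.1 g).im = 0)
    (hχ' : ∀ g, (χ'.1 g).im = 0)
    (ξ : IrrCharacter ↥(Subgroup.normalizer ((P : Subgroup G) : Set G)))
    (h : Rel p K P χ ξ) (h' : Rel p K P χ' ξ) : χ = χ' := by
  classical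
  obtain ⟨θ, η, hθr, hθ, hχθ, hηr, hη, hξη, hnd⟩ := h
  obtain ⟨θ', η', hθr', hθ', hχθ', hηr', hη', hξη', hnd'⟩ := h'
  let _ : Fintype ↥(Subgroup.normalizer ((P : Subgroup G) : Set G)) := Fintype.ofFinite _
  have : Finite (IrrCharacter ↥(Subgroup.normalizer ((P : Subgroup G) : Set G))) := finite_irr
  let _ : Fintype (IrrCharacter ↥(Subgroup.normalizer ((P : Subgroup G) : Set G))) :=
    Fintype.ofFinite _
  obtain ⟨n, hnη⟩ := clifford_conj
    (K.subgroupOf (Subgroup.normalizer ((P : Subgroup G) : Set G))) ξ η η' hξη hξη'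
  have hc := corr_conj p K (P : Subgroup G) n θ η hnd
  rw [hnη] at hc
  have h1 : conjI K (n : G) θ = θ' :=
    corr_inj p K (P : Subgroup G) hg _ θ' (invK_conj K (P : Subgroup G) n n.2 θ hθ) hθ' η' hη'
      hc hnd'
  have h2 : multC (res K χ.1) θ' ≠ 0 := by
    rw [← h1, multC_res_conjI K χ.1 (irr_conj χ) (n : G) θ]
    exact hχθ
  exact real_unique K hodd θ' χ χ' hχ hχ' h2 hχθ'

include hodd hg in
/-- Every real character of degree prime to `p` of the normalizer is related to a real character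
of `G`. -/
theorem rel_surj (ξ : IrrCharacter ↥(Subgroup.normalizer ((P : Subgroup G) : Set G)))
    (hξ : ∀ n, (ξ.1 n).im = 0) (hξp : ¬ p ∣ charDegree ξ.1) :
    ∃ χ : IrrCharacter G, (∀ g, (χ.1 g).im = 0) ∧ Rel p K P χ ξ := by
  have hodd' := odd_index' p K hodd P
  obtain ⟨η, hηr, hξη⟩ := exists_real_under
    (K.subgroupOf (Subgroup.normalizer ((P : Subgroup G) : Set G))) hodd' ξ hξ
  have h1 := real_over_degree (K.subgroupOf (Subgroup.normalizer ((P : Subgroup G) : Set G)))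
    hodd' η hηr ξ hξ hξη
  have hJ : ¬ p ∣ (stab (K.subgroupOf (Subgroup.normalizer ((P : Subgroup G) : Set G))) η).index :=
    fun h => hξp (by rw [h1]; exact Dvd.dvd.mul_right h _)
  have hPp : IsPGroup p
      ((P : Subgroup G).subgroupOf (Subgroup.normalizer ((P : Subgroup G) : Set G))) :=
    P.isPGroup'.comap_subtype
  have hle := le_of_normal_pgroup p
    ((P : Subgroup G).subgroupOf (Subgroup.normalizer ((P : Subgroup G) : Set G))) hPp
    (stab (K.subgroupOf (Subgroup.normalizer ((P : Subgroup G) : Set G))) η) hJ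
  have hη : InvC K (P : Subgroup G) η := fun y hy => hle hy
  obtain ⟨θ, hθ, hnd⟩ := hg.2.2 η hη
  have hθr := (corr_real p K (P : Subgroup G) hg θ hθ η hη hnd).2 hηr
  obtain ⟨χ, hχr, hχθ, -⟩ := exists_real_over K hodd θ hθr
  exact ⟨χ, hχr, θ, η, hθr, hθ, hχθ, hηr, hη, hξη, hnd⟩

include hreal hodd hg hdeg in
/-- The bijection, given the correspondence of invariant characters. -/
theorem corr_aux :
    ∃ f : {χ : IrrCharacter G // ∀ g : G, (χ.1 g).im = 0} →
        {ξ : IrrCharacter ↥(Subgroup.normalizer ((P : Subgroup G) : Set G)) //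
          (∀ n, (ξ.1 n).im = 0) ∧ ¬ p ∣ charDegree ξ.1},
      Function.Bijective f ∧ ∀ χ,
        ((charDegree (f χ).1.1 : ZMod p) = (charDegree χ.1.1 : ZMod p) ∨
          (charDegree (f χ).1.1 : ZMod p) = -(charDegree χ.1.1 : ZMod p)) := by
  have hex : ∀ χ : {χ : IrrCharacter G // ∀ g : G, (χ.1 g).im = 0},
      ∃ ξ : {ξ : IrrCharacter ↥(Subgroup.normalizer ((P : Subgroup G) : Set G)) //
          (∀ n, (ξ.1 n).im = 0) ∧ ¬ p ∣ charDegree ξ.1},
        Rel p K P χ.1 ξ.1 ∧
          ((charDegree ξ.1.1 : ZMod p) = (charDegree χ.1.1 : ZMod p) ∨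
            (charDegree ξ.1.1 : ZMod p) = -(charDegree χ.1.1 : ZMod p)) := by
    intro χ
    obtain ⟨ξ, hξr, hξp, hrel, hd⟩ := rel_total p hreal K hodd P hg hdeg χ.1 χ.2
    exact ⟨⟨ξ, hξr, hξp⟩, hrel, hd⟩
  choose f hfrel hfdeg using hex
  refine ⟨f, ⟨?_, ?_⟩, hfdeg⟩
  · intro χ χ' h
    apply Subtype.ext
    have h1 := hfrel χ
    have h2 := hfrel χ'
    rw [h] at h1
    exact rel_inj p K hodd P hg χ.1 χ'.1 χ.2 χ'.2 (f χ').1 h1 h2
  · intro ξ
    obtain ⟨χ, hχr, hrel⟩ := rel_surj p K hodd P hg ξ.1 ξ.2.1 ξ.2.2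
    refine ⟨⟨χ, hχr⟩, ?_⟩
    apply Subtype.ext
    exact rel_fun p K hodd P hg χ (f ⟨χ, hχr⟩).1 ξ.1 (f ⟨χ, hχr⟩).2.1 ξ.2.1 (hfrel ⟨χ, hχr⟩) hrel

end main

end Cfsg.Agent.Lib.Helper81.RealG
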