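import Mathlib
import Cfsg.Prelude.Def_Characters
import Cfsg.Agent.Lib.Helper81.RealG

set_option autoImplicit false
set_option linter.style.haveILetI false
set_option linter.unusedSectionVars false
set_option maxHeartbeats 1000000

/-!
# Real characters and the Sylow normalizer: the correspondence of invariant characters

`glaubRel_KN` is the correspondence between the `P`-invariant characters of `K` and those of the
intersection of `K` with the normalizer of `P`, for a normal subgroup `K` with a normal Sylow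
`p`-subgroup `Q`, normal in `G`; `corr` is the resulting bijection for real characters.
-/

namespace Cfsg.Agent.Lib.Helper81.RealH

open Cfsg
open Cfsg.Agent.Lib.Helper81.Irr Cfsg.Agent.Lib.Helper81.Basic Cfsg.Agent.Lib.Helper81.Expand
  Cfsg.Agent.Lib.Helper81.Mult Cfsg.Agent.Lib.Helper81.Cliff Cfsg.Agent.Lib.Helper81.CliffCorr
  Cfsg.Agent.Lib.Helper81.GlaubCore Cfsg.Agent.Lib.Helper81.Glaub
  Cfsg.Agent.Lib.Helper81.GlaubClass Cfsg.Agent.Lib.Helper81.GlaubReal
  Cfsg.Agent.Lib.Helper81.RealE Cfsg.Agent.Lib.Helper81.RealF Cfsg.Agent.Lib.Helper81.RealG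
  Cfsg.Agent.Lib.Helper81.NSylE Cfsg.Agent.Lib.Helper81.NSylF

universe u

section build

variable {G : Type u} [Group G] [Finite G] (p : ℕ) [Fact p.Prime]
  (K : Subgroup G) [hKn : K.Normal] (Q : Subgroup G) [hQn : Q.Normal] (P : Sylow p G)

/-- The `p`-elements of `K` lie in its normal Sylow `p`-subgroup. -/
theorem inf_le_Q (hQi : ¬ p ∣ Q.relIndex K) (y : G) (hyP : y ∈ (P : Subgroup G)) (hyK : y ∈ K) :
    y ∈ Q := by
  classical
  have hp : p.Prime := Fact.out
  haveI hQ'n : (Q.subgroupOf K).Normal := hQn.subgroupOf K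
  obtain ⟨k, hk⟩ := (IsPGroup.iff_orderOf.1 P.isPGroup') ⟨y, hyP⟩
  have hk' : orderOf y = p ^ k := by
    rw [← hk]
    exact (Subgroup.orderOf_mk y hyP).symm
  have h1 : orderOf ((QuotientGroup.mk' (Q.subgroupOf K)) ⟨y, hyK⟩) ∣
      orderOf (⟨y, hyK⟩ : ↥K) := orderOf_map_dvd _ _
  have h2 : orderOf (⟨y, hyK⟩ : ↥K) = p ^ k := by
    rw [Subgroup.orderOf_mk, hk']
  have h5 : orderOf ((QuotientGroup.mk' (Q.subgroupOf K)) ⟨y, hyK⟩) ∣
      (Q.subgroupOf K).index := orderOf_dvd_natCard _
  have hcop : Nat.Coprime (p ^ k) (Q.subgroupOf K).index :=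
    Nat.Coprime.pow_left k ((Nat.Prime.coprime_iff_not_dvd hp).2 hQi)
  have h6 : orderOf ((QuotientGroup.mk' (Q.subgroupOf K)) ⟨y, hyK⟩) = 1 :=
    Nat.Coprime.eq_one_of_dvd (Nat.Coprime.coprime_dvd_left (h2 ▸ h1) hcop) h5
  rw [orderOf_eq_one_iff] at h6
  have h7 := (QuotientGroup.eq_one_iff _).1 h6
  exact Subgroup.mem_subgroupOf.1 h7

/-- The intersection of `K` with the Sylow normalizer consists of the elements whose commutators
with `P` lie in `Q`. -/
theorem iota_range' (hQP : Q ≤ (P : Subgroup G)) (hQi : ¬ p ∣ Q.relIndex K) (k : ↥K) :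
    k ∈ (iota K (P : Subgroup G)).range ↔
      ∀ a ∈ autImage K (P : Subgroup G), a k * k⁻¹ ∈ Q.subgroupOf K := by
  constructor
  · rintro ⟨c, rfl⟩ a ⟨y, hy, rfl⟩
    rw [Subgroup.mem_subgroupOf]
    have hcN : ((c : ↥(Subgroup.normalizer ((P : Subgroup G) : Set G))) : G) ∈
        Subgroup.normalizer ((P : Subgroup G) : Set G) := c.1.2
    have hcK : ((c : ↥(Subgroup.normalizer ((P : Subgroup G) : Set G))) : G) ∈ K :=
      Subgroup.mem_subgroupOf.1 c.2
    have h1 : ((MulAut.conjNormal y (iota K (P : Subgroup G) c) *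
        (iota K (P : Subgroup G) c)⁻¹ : ↥K) : G) =
        y * ((c : ↥(Subgroup.normalizer ((P : Subgroup G) : Set G))) : G) * y⁻¹ *
          ((c : ↥(Subgroup.normalizer ((P : Subgroup G) : Set G))) : G)⁻¹ := by
      rw [Subgroup.coe_mul, MulAut.conjNormal_apply, Subgroup.coe_inv, iota_coe]
    rw [h1]
    apply inf_le_Q p K Q P hQi
    · have h2 : ((c : ↥(Subgroup.normalizer ((P : Subgroup G) : Set G))) : G) * y⁻¹ *
          ((c : ↥(Subgroup.normalizer ((P : Subgroup G) : Set G))) : G)⁻¹ ∈ (P : Subgroup G) :=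
        (Subgroup.mem_normalizer_iff.1 hcN y⁻¹).1 (Subgroup.inv_mem _ hy)
      have h3 : y * ((c : ↥(Subgroup.normalizer ((P : Subgroup G) : Set G))) : G) * y⁻¹ *
          ((c : ↥(Subgroup.normalizer ((P : Subgroup G) : Set G))) : G)⁻¹ =
          y * (((c : ↥(Subgroup.normalizer ((P : Subgroup G) : Set G))) : G) * y⁻¹ *
            ((c : ↥(Subgroup.normalizer ((P : Subgroup G) : Set G))) : G)⁻¹) := by group
      rw [h3]
      exact Subgroup.mul_mem _ hy h2
    · exact K.mul_mem (hKn.conj_mem _ hcK y) (K.inv_mem hcK)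
  · intro h
    have hcomm : ∀ y ∈ (P : Subgroup G), y * (k : G) * y⁻¹ * (k : G)⁻¹ ∈ Q := by
      intro y hy
      have h1 := h (MulAut.conjNormal y) ⟨y, hy, rfl⟩
      rw [Subgroup.mem_subgroupOf] at h1
      have h2 : ((MulAut.conjNormal y k * k⁻¹ : ↥K) : G) = y * (k : G) * y⁻¹ * (k : G)⁻¹ := by
        rw [Subgroup.coe_mul, MulAut.conjNormal_apply, Subgroup.coe_inv]
      rw [h2] at h1
      exact h1
    have hkN : (k : G) ∈ Subgroup.normalizer ((P : Subgroup G) : Set G) := by
      rw [Subgroup.mem_normalizer_iff]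
      intro x
      constructor
      · intro hx
        have h1 := hQP (hcomm x⁻¹ (Subgroup.inv_mem _ hx))
        have h2 : (k : G) * x * (k : G)⁻¹ = x * (x⁻¹ * (k : G) * x⁻¹⁻¹ * (k : G)⁻¹) := by group
        rw [h2]
        exact Subgroup.mul_mem _ hx h1
      · intro hx
        have h1 := hcomm ((k : G) * x * (k : G)⁻¹)⁻¹ (Subgroup.inv_mem _ hx)
        have h2 := hQn.conj_mem _ h1 (k : G)⁻¹
        have h3 := hQP h2
        have h4 : (k : G)⁻¹ * (((k : G) * x * (k : G)⁻¹)⁻¹ * (k : G) *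
            ((k : G) * x * (k : G)⁻¹)⁻¹⁻¹ * (k : G)⁻¹) * (k : G)⁻¹⁻¹ =
            x⁻¹ * ((k : G) * x * (k : G)⁻¹) := by group
        rw [h4] at h3
        have h5 : x⁻¹ = (x⁻¹ * ((k : G) * x * (k : G)⁻¹)) * ((k : G) * x * (k : G)⁻¹)⁻¹ := by
          group
        have h6 : x⁻¹ ∈ (P : Subgroup G) := by
          rw [h5]
          exact Subgroup.mul_mem _ h3 (Subgroup.inv_mem _ hx)
        exact (Subgroup.inv_mem_iff _).1 h6
    exact ⟨⟨⟨(k : G), hkN⟩, Subgroup.mem_subgroupOf.2 k.2⟩, Subtype.ext rfl⟩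

/-- The correspondence between the `P`-invariant characters of `K` and those of the intersection
of `K` with the normalizer of `P`, with the degree congruence. -/
theorem glaubRel_KN [Fintype ↥K]
    [Fintype ↥(K.subgroupOf (Subgroup.normalizer ((P : Subgroup G) : Set G)))]
    (hQp : IsPGroup p Q) (hQi : ¬ p ∣ Q.relIndex K) :
    GlaubRel p (iota K (P : Subgroup G)) (InvK K (P : Subgroup G)) (InvC K (P : Subgroup G)) ∧
    (∀ θ : IrrCharacter ↥K, InvK K (P : Subgroup G) θ →
      ∀ η : IrrCharacter ↥(K.subgroupOf (Subgroup.normalizer ((P : Subgroup G) : Set G))),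
        InvC K (P : Subgroup G) η → ¬ p ∣ mult (fun c => θ.1 (iota K (P : Subgroup G) c)) η →
        ((charDegree η.1 : ℤ) ≡ (charDegree θ.1 : ℤ) [ZMOD p]) ∨
          ((charDegree η.1 : ℤ) ≡ -(charDegree θ.1 : ℤ) [ZMOD p])) := by
  classical
  have hp : p.Prime := Fact.out
  have hQP : Q ≤ (P : Subgroup G) := hQp.le_sylow_of_normal P
  have hPp : IsPGroup p (P : Subgroup G) := P.isPGroup'
  haveI hQ'n : (Q.subgroupOf K).Normal := hQn.subgroupOf K
  have hA : IsPGroup p (autImage K (P : Subgroup G)) := autImage_pgroup K _ p hPp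
  have hQ'p : IsPGroup p ↥(Q.subgroupOf K) := hQp.comap_subtype
  have hQ'i : ¬ p ∣ (Q.subgroupOf K).index := hQi
  have hQ'A : ∀ a ∈ autImage K (P : Subgroup G), ∀ q ∈ Q.subgroupOf K, a q ∈ Q.subgroupOf K := by
    rintro a ⟨y, hy, rfl⟩ q hq
    rw [Subgroup.mem_subgroupOf] at hq ⊢
    rw [MulAut.conjNormal_apply]
    exact hQn.conj_mem _ hq y
  have hC : ∀ k : ↥K, k ∈ (iota K (P : Subgroup G)).range ↔
      ∀ a ∈ autImage K (P : Subgroup G), a k * k⁻¹ ∈ Q.subgroupOf K :=
    iota_range' p K Q P hQP hQi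
  have hcore := nsyl_core p (Q.subgroupOf K) (autImage K (P : Subgroup G)) hA hQ'p hQ'i hQ'A
    (iota K (P : Subgroup G)).range hC
  let e : ↥(K.subgroupOf (Subgroup.normalizer ((P : Subgroup G) : Set G))) ≃*
      ↥(iota K (P : Subgroup G)).range :=
    MonoidHom.ofInjective (iota_injective K (P : Subgroup G))
  have he : ∀ c, ((e c : ↥(iota K (P : Subgroup G)).range) : ↥K) = iota K (P : Subgroup G) c :=
    fun c => rfl
  have htr := glaubRel_transfer p e hcore
  have hι : (iota K (P : Subgroup G)).range.subtype.comp e.toMonoidHom =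
      iota K (P : Subgroup G) := MonoidHom.ext fun c => rfl
  have hInvK : ∀ θ : IrrCharacter ↥K,
      (∀ s ∈ autImage K (P : Subgroup G), ∀ k, θ.1 (s k) = θ.1 k) ↔
        InvK K (P : Subgroup G) θ := fun θ => inv_iff K (P : Subgroup G) θ
  have hInvC : ∀ ξ : IrrCharacter ↥(K.subgroupOf (Subgroup.normalizer ((P : Subgroup G) : Set G))),
      (∀ a ∈ autImage K (P : Subgroup G), ∀ c c' : ↥(iota K (P : Subgroup G)).range,
        (c' : ↥K) = a c → (irrComp e.symm ξ).1 c' = (irrComp e.symm ξ).1 c) ↔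
        InvC K (P : Subgroup G) ξ := by
    intro ξ
    have h2 : ∀ c : ↥(K.subgroupOf (Subgroup.normalizer ((P : Subgroup G) : Set G))),
        (irrComp e.symm ξ).1 (e c) = ξ.1 c := by
      intro c
      show ξ.1 (e.symm (e c)) = ξ.1 c
      rw [MulEquiv.symm_apply_apply]
    constructor
    · intro h y hy
      have hy' : (y : G) ∈ (P : Subgroup G) := Subgroup.mem_subgroupOf.1 hy
      apply Subtype.ext
      funext c₀
      rw [conjI_apply]
      have h1 := h (MulAut.conjNormal (y : G)⁻¹) ⟨(y : G)⁻¹, Subgroup.inv_mem _ hy', rfl⟩ (e c₀)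
        (e (MulAut.conjNormal y⁻¹ c₀)) (by
          apply Subtype.ext
          rw [he, he, MulAut.conjNormal_apply, iota_coe, iota_coe, MulAut.conjNormal_apply]
          rfl)
      rw [h2, h2] at h1
      exact h1
    · rintro h a ⟨y, hy, rfl⟩ c c' hcc
      have hyN : y ∈ Subgroup.normalizer ((P : Subgroup G) : Set G) := Subgroup.le_normalizer hy
      have h1 := congrFun (congrArg Subtype.val
        (h (⟨y, hyN⟩ : ↥(Subgroup.normalizer ((P : Subgroup G) : Set G)))⁻¹
          (Subgroup.inv_mem _ (Subgroup.mem_subgroupOf.2 hy)))) (e.symm c)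
      rw [conjI_apply, inv_inv] at h1
      have h4 : (c : ↥K) = iota K (P : Subgroup G) (e.symm c) := by
        rw [← he, MulEquiv.apply_symm_apply]
      have h3 : e.symm c' = MulAut.conjNormal
          (⟨y, hyN⟩ : ↥(Subgroup.normalizer ((P : Subgroup G) : Set G))) (e.symm c) := by
        apply e.injective
        rw [MulEquiv.apply_symm_apply]
        apply Subtype.ext
        rw [hcc, he, h4]
        apply Subtype.ext
        rw [MulAut.conjNormal_apply, iota_coe, iota_coe, MulAut.conjNormal_apply]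
        rfl
      show ξ.1 (e.symm c') = ξ.1 (e.symm c)
      rw [h3]
      exact h1
  have hg := glaubRel_congr p hι hInvK hInvC htr
  refine ⟨hg, ?_⟩
  intro θ hθ η hη hnd
  have hθ' := (hInvK θ).2 hθ
  have hη' := (hInvC η).2 hη
  obtain ⟨β, hβ, hpm, hoth⟩ := hcore.1 θ hθ'
  have hmt : mult (fun c => θ.1 (iota K (P : Subgroup G) c)) η =
      mult (fun c => θ.1 ((iota K (P : Subgroup G)).range.subtype c)) (irrComp e.symm η) :=
    mult_transfer e (fun c => θ.1 ((iota K (P : Subgroup G)).range.subtype c)) η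
  have hβη : irrComp e.symm η = β := by
    by_contra hne
    apply hnd
    rw [hmt]
    exact hoth _ hη' hne
  have hdeg := nsyl_deg p (Q.subgroupOf K) (autImage K (P : Subgroup G)) hA hQ'A
    (iota K (P : Subgroup G)).range hC θ hθ' β hβ hpm hoth
  have hd : charDegree β.1 = charDegree η.1 := by
    rw [← hβη]
    show charDegree (fun c => η.1 (e.symm c)) = charDegree η.1
    unfold Cfsg.charDegree
    simp only [map_one]
  rw [hd] at hdeg
  exact hdeg

/-- The bijection between the real characters of `G` and the real characters of degree prime to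
`p` of a Sylow normalizer, when a normal subgroup `K` of odd index has a normal Sylow
`p`-subgroup `Q`, normal in `G`. -/
theorem corr (hreal : ∀ χ : IrrCharacter G, (∀ g : G, (χ.1 g).im = 0) → ¬ p ∣ charDegree χ.1)
    (hodd : Odd K.index) (hQp : IsPGroup p Q) (hQi : ¬ p ∣ Q.relIndex K) :
    ∃ f : {χ : IrrCharacter G // ∀ g : G, (χ.1 g).im = 0} →
        {ξ : IrrCharacter ↥(Subgroup.normalizer ((P : Subgroup G) : Set G)) //
          (∀ n, (ξ.1 n).im = 0) ∧ ¬ p ∣ charDegree ξ.1},
      Function.Bijective f ∧ ∀ χ,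
        ((charDegree (f χ).1.1 : ZMod p) = (charDegree χ.1.1 : ZMod p) ∨
          (charDegree (f χ).1.1 : ZMod p) = -(charDegree χ.1.1 : ZMod p)) := by
  classical
  let _ : Fintype ↥K := Fintype.ofFinite _
  let _ : Fintype ↥(K.subgroupOf (Subgroup.normalizer ((P : Subgroup G) : Set G))) :=
    Fintype.ofFinite _
  obtain ⟨hg, hdeg⟩ := glaubRel_KN p K Q P hQp hQi
  exact corr_aux p hreal K hodd P hg hdeg

end build

end Cfsg.Agent.Lib.Helper81.RealH
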