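import Mathlib
import Cfsg.Agent.Lib.Helper18.ReeMultStmt

/-!
# S2113 piece ZCENT: lifts of `x 0 0 v` commute with the lifts of all `x t u v'`
-/

set_option autoImplicit false

namespace Cfsg.Agent.Lib.Helper81.ReeMultZCENT

open Cfsg.Agent.Lib.Helper18.ReeMultStmt

universe u v w

theorem main : ZCENT.{u, v, w} := by
  intro Γ _ G _ K _ _ m φ x e σ E hZZ hZU hZT v t u v'
  have P := E.par
  have hs := E.surj
  have hc := E.cen
  have h1 : x t u v' = x t 0 0 * x 0 u 0 * x 0 0 v' := by
    rw [P.x_mul, P.x_mul]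
    simp only [map_zero]
    congr 1 <;> ring
  rw [h1, cm_mul_right_one σ hs hc (hZZ v v'), cm_mul_right_one σ hs hc (hZU v u)]
  exact hZT v t

end Cfsg.Agent.Lib.Helper81.ReeMultZCENT
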